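import Mathlib.RingTheory.AdicCompletion.Completeness
import Mathlib.RingTheory.AdicCompletion.Algebra
import Mathlib.RingTheory.Localization.Ideal
import Mathlib.RingTheory.Localization.Away.Basic
import Mathlib.RingTheory.Ideal.Quotient.PowTransition

set_option autoImplicit false
universe u

namespace Groth.Agent.H20


/-- The kernel of `Â → R ⧸ I^m` is generated by `I^m` when `I` is finitely generated. -/
lemma ker_evalₐ_eq_map {R : Type u} [CommRing R] (I : Ideal R) (hI : I.FG) (m : ℕ) :
    RingHom.ker (AdicCompletion.evalₐ I m : AdicCompletion I R →+* R ⧸ I ^ m) =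
      (I ^ m).map (algebraMap R (AdicCompletion I R)) := by
  ext x
  trans x ∈ LinearMap.ker (AdicCompletion.eval I R m)
  · have eq : I ^ m • (⊤ : Ideal R) = I ^ m := by simp
    have hinj : Function.Injective (Ideal.Quotient.factor (le_of_eq eq)) := by
      simpa [RingHom.injective_iff_ker_eq_bot, Ideal.Quotient.factor_ker]
        using Ideal.map_mk_eq_bot_of_le (le_of_eq eq.symm)
    rw [RingHom.mem_ker, LinearMap.mem_ker]
    have h1 := AdicCompletion.factor_eval_eq_evalₐ I x (le_of_eq eq)
    constructor
    · intro h
      apply hinj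
      rw [_root_.map_zero]
      exact h1.trans h
    · intro h
      have h2 : AdicCompletion.evalₐ I m x = 0 := by
        rw [← h1, h, _root_.map_zero]
      exact h2
  · rw [← AdicCompletion.pow_smul_top_eq_ker_eval hI, Ideal.smul_top_eq_map]
    rfl

end Groth.Agent.H20
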