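import Mathlib.RingTheory.AdicCompletion.Algebra
import Mathlib.RingTheory.Ideal.Quotient.Nilpotent

set_option autoImplicit false
universe u

namespace Groth.Agent.H20

section

variable {R : Type u} [CommRing R] (I : Ideal R)

lemma factorPow_evalₐ {m n : ℕ} (hmn : m ≤ n) (x : AdicCompletion I R) :
    Ideal.Quotient.factorPow I hmn (AdicCompletion.evalₐ I n x) = AdicCompletion.evalₐ I m x := by
  obtain ⟨a, rfl⟩ := AdicCompletion.mk_surjective I R x
  rw [AdicCompletion.evalₐ_mk, AdicCompletion.evalₐ_mk, Ideal.Quotient.factorPow,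
    Ideal.Quotient.factor_mk, Ideal.Quotient.eq]
  have h := a.2 hmn
  rw [SModEq.sub_mem] at h
  simp only [smul_eq_mul, Ideal.mul_top] at h
  rw [← neg_sub]
  exact (I ^ m).neg_mem h

/-- If every level of `x` is a unit, then `x` is a unit in the completion. -/
lemma isUnit_of_forall_isUnit_evalₐ (x : AdicCompletion I R)
    (hu : ∀ n, IsUnit (AdicCompletion.evalₐ I n x)) : IsUnit x := by
  choose b hb using fun n => Ideal.Quotient.mk_surjective (↑(hu n).unit⁻¹ : R ⧸ I ^ n)
  have hinv : ∀ n, AdicCompletion.evalₐ I n x * Ideal.Quotient.mk (I ^ n) (b n) = 1 := by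
    intro n
    rw [hb n]
    exact (hu n).mul_val_inv
  have hcauchy : ∀ {m n : ℕ}, m ≤ n → b m ≡ b n [SMOD (I ^ m • ⊤ : Submodule R R)] := by
    intro m n hmn
    rw [SModEq.sub_mem]
    simp only [smul_eq_mul, Ideal.mul_top]
    rw [← Ideal.Quotient.eq]
    -- both are inverses of `evalₐ I m x`
    have h1 : AdicCompletion.evalₐ I m x * Ideal.Quotient.mk (I ^ m) (b m) = 1 := hinv m
    have h2 : AdicCompletion.evalₐ I m x * Ideal.Quotient.mk (I ^ m) (b n) = 1 := by
      have := congrArg (Ideal.Quotient.factorPow I hmn) (hinv n)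
      rw [map_mul, factorPow_evalₐ, map_one, Ideal.Quotient.factorPow,
        Ideal.Quotient.factor_mk] at this
      exact this
    calc Ideal.Quotient.mk (I ^ m) (b m)
        = Ideal.Quotient.mk (I ^ m) (b m) *
            (AdicCompletion.evalₐ I m x * Ideal.Quotient.mk (I ^ m) (b n)) := by
          rw [h2, mul_one]
      _ = (AdicCompletion.evalₐ I m x * Ideal.Quotient.mk (I ^ m) (b m)) *
            Ideal.Quotient.mk (I ^ m) (b n) := by ring
      _ = Ideal.Quotient.mk (I ^ m) (b n) := by rw [h1, one_mul]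
  let y : AdicCompletion I R := AdicCompletion.mk I R ⟨b, hcauchy⟩
  refine IsUnit.of_mul_eq_one y ?_
  apply AdicCompletion.ext_evalₐ
  intro n
  rw [map_mul, map_one]
  have hy : AdicCompletion.evalₐ I n y = Ideal.Quotient.mk (I ^ n) (b n) :=
    AdicCompletion.evalₐ_mk I n ⟨b, hcauchy⟩
  rw [hy]
  exact hinv n

/-- An element of the adic completion is a unit as soon as its image in `R ⧸ I` is. -/
lemma isUnit_of_isUnit_evalₐ_one (x : AdicCompletion I R)
    (hu : IsUnit (AdicCompletion.evalₐ I 1 x)) : IsUnit x := by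
  apply isUnit_of_forall_isUnit_evalₐ
  intro n
  rcases Nat.eq_zero_or_pos n with rfl | hn
  · have : Subsingleton (R ⧸ I ^ 0) := by
      rw [pow_zero, Ideal.one_eq_top]
      exact Ideal.Quotient.subsingleton_iff.mpr rfl
    exact isUnit_of_subsingleton _
  · obtain ⟨a, rfl⟩ := AdicCompletion.mk_surjective I R x
    rw [AdicCompletion.evalₐ_mk] at hu ⊢
    rw [Ideal.Quotient.isUnit_mk_pow_iff_isUnit_mk I hn.ne']
    rw [Ideal.Quotient.isUnit_mk_pow_iff_isUnit_mk I one_ne_zero] at hu
    have h := a.2 (show 1 ≤ n from hn)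
    rw [SModEq.sub_mem] at h
    simp only [smul_eq_mul, Ideal.mul_top, pow_one] at h
    have : Ideal.Quotient.mk I (a.1 1) = Ideal.Quotient.mk I (a.1 n) := Ideal.Quotient.eq.mpr h
    rw [← this]
    exact hu

end

end Groth.Agent.H20
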