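import Groth.Agent.H20.ComplMap
import Groth.Agent.H20.AdicUnit

set_option autoImplicit false
universe u

namespace Groth.Agent.H20

section

variable {S T : Type u} [CommRing S] [CommRing T] (I : Ideal S) (K : Ideal T) (g : S →+* T)

/-- The map of completions is bijective as soon as all the maps `S ⧸ I^n → T ⧸ K^n` are. -/
lemma complMap_bijective (h : I.map g ≤ K)
    (hb : ∀ n, Function.Bijective
      (Ideal.quotientMap (K ^ n) g (FSch.pow_le_comap_pow_of_map_le I K g h n))) :
    Function.Bijective (FSch.complMap I K g h) := by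
  constructor
  · rw [injective_iff_map_eq_zero]
    intro x hx
    apply AdicCompletion.ext_evalₐ
    intro n
    have := congrArg (AdicCompletion.evalₐ K n) hx
    rw [evalₐ_complMap, map_zero] at this
    rw [map_zero]
    exact (hb n).1 (this.trans (map_zero _).symm)
  · let e : ∀ n, (S ⧸ I ^ n) ≃+* (T ⧸ K ^ n) := fun n => RingEquiv.ofBijective _ (hb n)
    have he : ∀ n x, e n x =
      Ideal.quotientMap (K ^ n) g (FSch.pow_le_comap_pow_of_map_le I K g h n) x := fun _ _ => rfl
    have hcompat : ∀ {m n : ℕ} (hle : m ≤ n),
        (Ideal.Quotient.factorPow I hle).comp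
          (((e n).symm : (T ⧸ K ^ n) →+* (S ⧸ I ^ n)).comp
            (AdicCompletion.evalₐ K n).toRingHom) =
        ((e m).symm : (T ⧸ K ^ m) →+* (S ⧸ I ^ m)).comp
            (AdicCompletion.evalₐ K m).toRingHom := by
      intro m n hle
      apply RingHom.ext
      intro y
      simp only [RingHom.coe_comp, RingHom.coe_coe, Function.comp_apply,
        AlgHom.toRingHom_eq_coe]
      apply (e m).injective
      rw [RingEquiv.apply_symm_apply]
      obtain ⟨s, hs⟩ := Ideal.Quotient.mk_surjective ((e n).symm (AdicCompletion.evalₐ K n y))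
      rw [← hs, Ideal.Quotient.factorPow, Ideal.Quotient.factor_mk, he, Ideal.quotientMap_mk]
      have h2 : Ideal.Quotient.mk (K ^ n) (g s) = AdicCompletion.evalₐ K n y := by
        have := congrArg (e n) hs
        rw [RingEquiv.apply_symm_apply, he, Ideal.quotientMap_mk] at this
        exact this
      rw [← factorPow_evalₐ K hle y, ← h2, Ideal.Quotient.factorPow, Ideal.Quotient.factor_mk]
    intro y
    refine ⟨AdicCompletion.liftRingHom I _ hcompat y, ?_⟩
    apply AdicCompletion.ext_evalₐ
    intro n
    rw [evalₐ_complMap]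
    have h1 : AdicCompletion.evalₐ I n (AdicCompletion.liftRingHom I _ hcompat y) =
        (e n).symm (AdicCompletion.evalₐ K n y) :=
      RingHom.congr_fun (AdicCompletion.evalₐ_comp_liftRingHom I _ hcompat n) y
    rw [h1, ← he, RingEquiv.apply_symm_apply]

end

end Groth.Agent.H20
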