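import Mathlib.RingTheory.MvPolynomial.Homogeneous
import Mathlib.RingTheory.Polynomial.Basic
import Mathlib.RingTheory.AdicCompletion.Basic
import Mathlib.RingTheory.GradedAlgebra.Basic

set_option autoImplicit false

open MvPolynomial

namespace Groth.Agent.H20.ComplNoeth

variable {S : Type*} [CommRing S] {n : ℕ}

section Basic

/-- The homogeneous component commutes with change of coefficients. -/
lemma homogeneousComponent_map {R T : Type*} [CommSemiring R] [CommSemiring T] (f : R →+* T)
    (j : ℕ) (p : MvPolynomial (Fin n) R) :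
    homogeneousComponent j (MvPolynomial.map f p) =
      MvPolynomial.map f (homogeneousComponent j p) := by
  ext d
  rw [coeff_homogeneousComponent, coeff_map, coeff_map, coeff_homogeneousComponent]
  split_ifs <;> simp

/-- Homogeneous polynomials lift to homogeneous polynomials along a surjection. -/
lemma exists_isHomogeneous_map_eq {R T : Type*} [CommSemiring R] [CommSemiring T] (f : R →+* T)
    (hf : Function.Surjective f) (j : ℕ) (q : MvPolynomial (Fin n) T) (hq : q.IsHomogeneous j) :
    ∃ H : MvPolynomial (Fin n) R, H.IsHomogeneous j ∧ MvPolynomial.map f H = q := by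
  obtain ⟨H', rfl⟩ := MvPolynomial.map_surjective f hf q
  refine ⟨homogeneousComponent j H', homogeneousComponent_isHomogeneous j H', ?_⟩
  rw [← homogeneousComponent_map, homogeneousComponent_eq_self hq]

attribute [local instance] MvPolynomial.gradedAlgebra in
/-- The homogeneous components of a multiple of a homogeneous polynomial. -/
lemma homogeneousComponent_mul_of_isHomogeneous {R : Type*} [CommRing R]
    (h F : MvPolynomial (Fin n) R) (d m : ℕ) (hF : F.IsHomogeneous d) :
    homogeneousComponent m (h * F) =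
      if d ≤ m then homogeneousComponent (m - d) h * F else 0 := by
  have key := DirectSum.coe_decompose_mul_of_right_mem (𝒜 := homogeneousSubmodule (Fin n) R)
    (a := h) (b := F) (i := d) m ((mem_homogeneousSubmodule d F).mpr hF)
  have e1 : ∀ (φ : MvPolynomial (Fin n) R) (i : ℕ),
      ((DirectSum.decompose (homogeneousSubmodule (Fin n) R) φ) i : MvPolynomial (Fin n) R) =
        homogeneousComponent i φ := fun φ i => decomposition.decompose'_apply φ i
  rw [e1, e1] at key
  exact key

end Basic

section Eval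

variable (b : Fin n → S)

/-- A homogeneous polynomial of degree `m` whose coefficients lie in `K = (b)` takes a value in
`K^(m+1)` at `b`. -/
lemma eval_mem_pow_succ_of_map_eq_zero (G : MvPolynomial (Fin n) S) (m : ℕ)
    (hG : G.IsHomogeneous m)
    (h0 : MvPolynomial.map (Ideal.Quotient.mk (Ideal.span (Set.range b))) G = 0) :
    MvPolynomial.eval b G ∈ Ideal.span (Set.range b) ^ (m + 1) := by
  have hcoeff : ∀ d, coeff d G ∈ Ideal.span (Set.range b) := by
    intro d
    have := congrArg (coeff d) h0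
    rw [coeff_map, coeff_zero] at this
    exact Ideal.Quotient.eq_zero_iff_mem.mp this
  rw [← MvPolynomial.support_sum_monomial_coeff G, map_sum]
  refine Ideal.sum_mem _ fun d hd => ?_
  have hdeg : d.degree = m := by
    by_contra hne
    exact (mem_support_iff.mp hd) (hG.coeff_eq_zero hne)
  have h1 : MvPolynomial.eval b (monomial d (1 : S)) ∈ Ideal.span (Set.range b) ^ m :=
    (Ideal.mem_span_pow_iff_exists_isHomogeneous b _).mpr
      ⟨monomial d 1, isHomogeneous_monomial 1 hdeg, rfl⟩
  have h2 : monomial d (coeff d G) = C (coeff d G) * monomial d (1 : S) := by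
    rw [C_mul_monomial, mul_one]
  rw [h2, map_mul, eval_C, pow_succ']
  exact Ideal.mul_mem_mul (hcoeff d) h1

/-- One step of the successive approximation. -/
lemma approx_step (𝔞 : Ideal S) {ι : Type*} [Fintype ι] (d : ι → ℕ)
    (F : ι → MvPolynomial (Fin n) S) (hF : ∀ t, (F t).IsHomogeneous (d t))
    (hspan : ∀ (m : ℕ) (G : MvPolynomial (Fin n) S), G.IsHomogeneous m →
      MvPolynomial.eval b G ∈ 𝔞 →
      MvPolynomial.map (Ideal.Quotient.mk (Ideal.span (Set.range b))) G ∈
        Ideal.span (Set.range fun t =>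
          MvPolynomial.map (Ideal.Quotient.mk (Ideal.span (Set.range b))) (F t)))
    (m : ℕ) (x : S) (hx : x ∈ 𝔞) (hxm : x ∈ Ideal.span (Set.range b) ^ m) :
    ∃ c : ι → S, (∀ t, c t ∈ Ideal.span (Set.range b) ^ (m - d t)) ∧
      x - ∑ t, c t * MvPolynomial.eval b (F t) ∈ Ideal.span (Set.range b) ^ (m + 1) := by
  classical
  set mk := Ideal.Quotient.mk (Ideal.span (Set.range b)) with hmk
  obtain ⟨G, hG, rfl⟩ := (Ideal.mem_span_pow_iff_exists_isHomogeneous b x).mp hxm
  obtain ⟨h, hh⟩ := (Ideal.mem_span_range_iff_exists_fun).mp (hspan m G hG hx)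
  -- take the component of degree `m`
  have hcomp : MvPolynomial.map mk G =
      ∑ t, if d t ≤ m then homogeneousComponent (m - d t) (h t) * MvPolynomial.map mk (F t)
        else 0 := by
    have h1 : homogeneousComponent m (MvPolynomial.map mk G) = MvPolynomial.map mk G :=
      homogeneousComponent_eq_self (hG.map mk)
    rw [← h1, ← hh, map_sum]
    refine Finset.sum_congr rfl fun t _ => ?_
    exact homogeneousComponent_mul_of_isHomogeneous (h t) _ (d t) m ((hF t).map mk)
  -- lift the coefficients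
  have hlift : ∀ t, ∃ H : MvPolynomial (Fin n) S, H.IsHomogeneous (m - d t) ∧
      MvPolynomial.map mk H = homogeneousComponent (m - d t) (h t) := fun t =>
    exists_isHomogeneous_map_eq mk Ideal.Quotient.mk_surjective (m - d t) _
      (homogeneousComponent_isHomogeneous _ _)
  choose H hH hHmap using hlift
  refine ⟨fun t => if d t ≤ m then MvPolynomial.eval b (H t) else 0, fun t => ?_, ?_⟩
  · dsimp only
    split_ifs with hdt
    · exact (Ideal.mem_span_pow_iff_exists_isHomogeneous b _).mpr ⟨H t, hH t, rfl⟩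
    · exact Ideal.zero_mem _
  · have hG' : (G - ∑ t, if d t ≤ m then H t * F t else 0).IsHomogeneous m := by
      refine hG.sub (IsHomogeneous.sum _ _ _ fun t _ => ?_)
      split_ifs with hdt
      · have := (hH t).mul (hF t)
        rwa [Nat.sub_add_cancel hdt] at this
      · exact isHomogeneous_zero _ _ _
    have hG'0 : MvPolynomial.map mk (G - ∑ t, if d t ≤ m then H t * F t else 0) = 0 := by
      rw [map_sub, map_sum, hcomp, sub_eq_zero]
      refine Finset.sum_congr rfl fun t _ => ?_
      split_ifs with hdt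
      · rw [map_mul, hHmap]
      · rw [map_zero]
    have key := eval_mem_pow_succ_of_map_eq_zero b _ m hG' hG'0
    have e : MvPolynomial.eval b (G - ∑ t, if d t ≤ m then H t * F t else 0) =
        MvPolynomial.eval b G - ∑ t, (if d t ≤ m then MvPolynomial.eval b (H t) else 0) *
          MvPolynomial.eval b (F t) := by
      rw [map_sub, map_sum]
      congr 1
      refine Finset.sum_congr rfl fun t _ => ?_
      split_ifs with hdt
      · rw [map_mul]
      · rw [map_zero, zero_mul]
    rw [e] at key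
    exact key

end Eval

section Limit

/-- Successive approximation in a complete ring: if every element of `𝔞 ∩ K^m` can be corrected
into `𝔞 ∩ K^(m+1)` by a combination of the `g t` with coefficients in `K^(m - d t)`, then the
`g t` generate `𝔞`. -/
lemma mem_span_of_forall_approx (K : Ideal S) [IsHausdorff K S] [IsPrecomplete K S]
    (𝔞 : Ideal S) {ι : Type*} [Fintype ι] (d : ι → ℕ) (g : ι → S) (hg : ∀ t, g t ∈ 𝔞)
    (happrox : ∀ (m : ℕ) (x : S), x ∈ 𝔞 → x ∈ K ^ m →
      ∃ c : ι → S, (∀ t, c t ∈ K ^ (m - d t)) ∧ x - ∑ t, c t * g t ∈ K ^ (m + 1))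
    (x : S) (hx : x ∈ 𝔞) : x ∈ Ideal.span (Set.range g) := by
  classical
  have hch : ∀ (m : ℕ) (y : S), ∃ c : ι → S, (y ∈ 𝔞 → y ∈ K ^ m →
      (∀ t, c t ∈ K ^ (m - d t)) ∧ y - ∑ t, c t * g t ∈ K ^ (m + 1)) := by
    intro m y
    by_cases h : y ∈ 𝔞 ∧ y ∈ K ^ m
    · obtain ⟨c, hc⟩ := happrox m y h.1 h.2
      exact ⟨c, fun _ _ => hc⟩
    · exact ⟨0, fun h1 h2 => absurd ⟨h1, h2⟩ h⟩
  choose nxt hnxt using hch
  obtain ⟨xs, xs_zero, xs_succ⟩ : ∃ xs : ℕ → S, xs 0 = x ∧
      ∀ m, xs (m + 1) = xs m - ∑ t, nxt m (xs m) t * g t :=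
    ⟨fun m => Nat.rec x (fun m y => y - ∑ t, nxt m y t * g t) m, rfl, fun _ => rfl⟩
  have hinv : ∀ m, xs m ∈ 𝔞 ∧ xs m ∈ K ^ m := by
    intro m
    induction m with
    | zero => exact ⟨xs_zero ▸ hx, by simp⟩
    | succ m ih =>
      refine ⟨?_, ?_⟩
      · rw [xs_succ]
        exact 𝔞.sub_mem ih.1 (𝔞.sum_mem fun t _ => 𝔞.mul_mem_left _ (hg t))
      · rw [xs_succ]
        exact (hnxt m (xs m) ih.1 ih.2).2
  obtain ⟨c, hcdef⟩ : ∃ c : ℕ → ι → S, ∀ m t, c m t = nxt m (xs m) t := ⟨_, fun _ _ => rfl⟩
  have xs_succ' : ∀ m, xs (m + 1) = xs m - ∑ t, c m t * g t := by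
    intro m
    rw [xs_succ]
    simp only [hcdef]
  have hc : ∀ m t, c m t ∈ K ^ (m - d t) := fun m t => by
    rw [hcdef]
    exact (hnxt m (xs m) (hinv m).1 (hinv m).2).1 t
  obtain ⟨s, s_def⟩ : ∃ s : ι → ℕ → S, ∀ t M, s t M = ∑ m ∈ Finset.range M, c m t :=
    ⟨_, fun _ _ => rfl⟩
  have s_zero : ∀ t, s t 0 = 0 := fun t => by rw [s_def, Finset.range_zero, Finset.sum_empty]
  have s_succ : ∀ t M, s t (M + 1) = s t M + c M t := fun t M => by
    rw [s_def, s_def, Finset.sum_range_succ]
  have hxs : ∀ M, xs M = x - ∑ t, s t M * g t := by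
    intro M
    induction M with
    | zero => simp [s_zero, xs_zero]
    | succ M ih =>
      rw [xs_succ', ih]
      simp only [s_succ, add_mul, Finset.sum_add_distrib]
      ring
  let D : ℕ := Finset.univ.sup d
  have hdD : ∀ t, d t ≤ D := fun t => Finset.le_sup (Finset.mem_univ t)
  have hcauchy : ∀ t {M M' : ℕ}, M ≤ M' →
      s t (M + D) ≡ s t (M' + D) [SMOD (K ^ M • ⊤ : Submodule S S)] := by
    intro t M M' hMM'
    rw [SModEq.sub_mem, smul_eq_mul, Ideal.mul_top]
    have h1 : s t (M' + D) = s t (M + D) + ∑ m ∈ Finset.Ico (M + D) (M' + D), c m t := by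
      rw [s_def, s_def]
      exact (Finset.sum_range_add_sum_Ico _ (by omega)).symm
    rw [h1, sub_add_cancel_left]
    refine (K ^ M).neg_mem (Ideal.sum_mem _ fun m hm => ?_)
    have hm' := (Finset.mem_Ico.mp hm).1
    exact Ideal.pow_le_pow_right (by have := hdD t; omega) (hc m t)
  choose L hL using fun t =>
    IsPrecomplete.prec ‹IsPrecomplete K S› (f := fun M => s t (M + D)) (hcauchy t)
  have hfinal : x - ∑ t, L t * g t = 0 := by
    refine IsHausdorff.haus ‹IsHausdorff K S› _ fun M => ?_
    rw [SModEq.sub_mem, sub_zero, smul_eq_mul, Ideal.mul_top]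
    have e : x - ∑ t, L t * g t = xs (M + D) + ∑ t, (s t (M + D) - L t) * g t := by
      rw [hxs]
      simp only [sub_mul, Finset.sum_sub_distrib]
      ring
    rw [e]
    refine (K ^ M).add_mem (Ideal.pow_le_pow_right (Nat.le_add_right M D) (hinv _).2)
      (Ideal.sum_mem _ fun t _ => ?_)
    have := hL t M
    rw [SModEq.sub_mem, smul_eq_mul, Ideal.mul_top] at this
    exact Ideal.mul_mem_right _ _ this
  rw [sub_eq_zero] at hfinal
  rw [hfinal]
  exact Ideal.sum_mem _ fun t _ => Ideal.mul_mem_left _ _ (Ideal.subset_span ⟨t, rfl⟩)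

end Limit

section Main

/-- A ring which is complete and separated for the topology of a finitely generated ideal `K`
with `S ⧸ K` Noetherian is Noetherian. -/
theorem isNoetherianRing_of_isAdicComplete (K : Ideal S) (hK : K.FG) [IsHausdorff K S]
    [IsPrecomplete K S] [IsNoetherianRing (S ⧸ K)] : IsNoetherianRing S := by
  classical
  obtain ⟨n, b, rfl⟩ := Submodule.fg_iff_exists_fin_generating_family.mp hK
  rw [isNoetherianRing_iff_ideal_fg]
  intro 𝔞
  set mk := Ideal.Quotient.mk (Ideal.span (Set.range b)) with hmk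
  let genSet : Set (MvPolynomial (Fin n) (S ⧸ Ideal.span (Set.range b))) :=
    {q | ∃ (m : ℕ) (G : MvPolynomial (Fin n) S), G.IsHomogeneous m ∧
      MvPolynomial.eval b G ∈ 𝔞 ∧ MvPolynomial.map mk G = q}
  have hfg : (Ideal.span genSet).FG := IsNoetherian.noetherian _
  obtain ⟨s', hs'sub, hs'span⟩ := (Submodule.fg_span_iff_fg_span_finset_subset genSet).mp hfg
  have hdata : ∀ t : ↥s', ∃ (m : ℕ) (G : MvPolynomial (Fin n) S), G.IsHomogeneous m ∧
      MvPolynomial.eval b G ∈ 𝔞 ∧ MvPolynomial.map mk G = t.1 := fun t => hs'sub t.2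
  choose d F hF hFmem hFmap using hdata
  have hrange : (Set.range fun t : ↥s' => MvPolynomial.map mk (F t)) = (↑s' : Set _) := by
    ext q
    constructor
    · rintro ⟨t, rfl⟩
      change MvPolynomial.map mk (F t) ∈ (↑s' : Set _)
      rw [hFmap]
      exact t.2
    · intro hq
      exact ⟨⟨q, hq⟩, hFmap _⟩
  have hspan : ∀ (m : ℕ) (G : MvPolynomial (Fin n) S), G.IsHomogeneous m →
      MvPolynomial.eval b G ∈ 𝔞 →
      MvPolynomial.map mk G ∈ Ideal.span (Set.range fun t : ↥s' =>
        MvPolynomial.map mk (F t)) := by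
    intro m G hG hGmem
    rw [hrange]
    have : MvPolynomial.map mk G ∈ Ideal.span genSet := Ideal.subset_span ⟨m, G, hG, hGmem, rfl⟩
    have h2 : MvPolynomial.map mk G ∈
        Submodule.span (MvPolynomial (Fin n) (S ⧸ Ideal.span (Set.range b))) (↑s' : Set _) := by
      rw [← hs'span]
      exact this
    exact h2
  have hle : 𝔞 ≤ Ideal.span (Set.range fun t : ↥s' => MvPolynomial.eval b (F t)) := by
    intro x hx
    exact mem_span_of_forall_approx (Ideal.span (Set.range b)) 𝔞 d _ hFmem
      (fun m y hy hym => approx_step b 𝔞 d F hF hspan m y hy hym) x hx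
  have heq : 𝔞 = Ideal.span (Set.range fun t : ↥s' => MvPolynomial.eval b (F t)) :=
    le_antisymm hle (Ideal.span_le.mpr (by rintro _ ⟨t, rfl⟩; exact hFmem t))
  rw [heq]
  exact Submodule.fg_span (Set.finite_range _)

end Main

end Groth.Agent.H20.ComplNoeth
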