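import Mathlib.RingTheory.AdicCompletion.LocalRing
import Mathlib.RingTheory.AdicCompletion.Completeness
import Mathlib.RingTheory.Ideal.Quotient.Noetherian
import Groth.Agent.H20.ComplNoeth

set_option autoImplicit false

namespace Groth.Agent.H20

/-- The adic completion of a ring along a finitely generated ideal with Noetherian quotient is
Noetherian. -/
theorem isNoetherianRing_adicCompletion_of_fg {R : Type*} [CommRing R] (I : Ideal R)
    (hI : I.FG) [IsNoetherianRing (R ⧸ I)] : IsNoetherianRing (AdicCompletion I R) := by
  have hc := AdicCompletion.isAdicComplete_self I hI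
  have hK : (I.map (algebraMap R (AdicCompletion I R))).FG := hI.map _
  have hq : IsNoetherianRing
      (AdicCompletion I R ⧸ I.map (algebraMap R (AdicCompletion I R))) := by
    rw [← AdicCompletion.ker_evalOneₐ_eq_map I hI]
    exact isNoetherianRing_of_ringEquiv (R ⧸ I)
      (RingHom.quotientKerEquivOfSurjective
        (f := (AdicCompletion.evalOneₐ I).toRingHom) (AdicCompletion.evalOneₐ_surjective I)).symm
  exact ComplNoeth.isNoetherianRing_of_isAdicComplete _ hK

/-- The adic completion of a Noetherian ring is Noetherian. -/
instance isNoetherianRing_adicCompletion {R : Type*} [CommRing R] [IsNoetherianRing R]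
    (I : Ideal R) : IsNoetherianRing (AdicCompletion I R) :=
  isNoetherianRing_adicCompletion_of_fg I (IsNoetherian.noetherian I)

end Groth.Agent.H20
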