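import Mathlib
import Groth.Agent.S0389
import Groth.Agent.H73.GenExact

/-!
# Spreading out from the generic fibre: algebra (domain case)

For a finite type algebra `B` over a domain `A`, properties of the generic fibre `K ⊗[A] B`
(`K` the fraction field) spread out to the fibres `k ⊗[A] B` over all fields `k` in which a suitable
nonzero `a : A` stays nonzero.  Everything rests on generic freeness (`Groth.Agent.S0389.result`).
-/

set_option autoImplicit false
set_option linter.style.haveILetI false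
set_option linter.unusedSectionVars false
universe u

open TensorProduct

namespace Groth.Agent.H20.GenFibre

/-- Multiplication by `g` reflects nilpotency.  Equivalently `D(g)` is dense in the spectrum. -/
def NilRegular {C : Type*} [CommRing C] (g : C) : Prop :=
  ∀ x : C, IsNilpotent (g * x) → IsNilpotent x

lemma NilRegular.of_ringEquiv {C D : Type*} [CommRing C] [CommRing D] (e : C ≃+* D) {g : C}
    (h : NilRegular g) : NilRegular (e g) := by
  intro x hx
  have h1 : IsNilpotent (g * e.symm x) := by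
    have := hx.map e.symm
    simpa using this
  have := (h _ h1).map e
  simpa using this

/-- If `g` maps to a nonzerodivisor under a surjection with nil kernel, then `g` is nil-regular. -/
lemma NilRegular.of_surjective {C D : Type*} [CommRing C] [CommRing D] (φ : C →+* D)
    (hker : ∀ x, φ x = 0 → IsNilpotent x) {g : C}
    (hg : ∀ d : D, φ g * d = 0 → d = 0) : NilRegular g := by
  intro x hx
  obtain ⟨n, hn⟩ := hx
  have h1 : φ g ^ n * φ x ^ n = 0 := by
    rw [← mul_pow, ← map_mul, ← map_pow, hn, map_zero]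
  have h2 : ∀ m : ℕ, φ g ^ m * φ x ^ n = 0 → φ x ^ n = 0 := by
    intro m
    induction m with
    | zero => intro h; simpa using h
    | succ m ih =>
      intro h
      apply ih
      apply hg
      rw [← mul_assoc, ← pow_succ']
      exact h
  have h3 : φ (x ^ n) = 0 := by rw [map_pow]; exact h2 n h1
  obtain ⟨m, hm⟩ := hker _ h3
  exact ⟨n * m, by rw [pow_mul]; exact hm⟩

section PrimeAvoidance

/-- In a ring with finitely many minimal primes, the closure of a minimal point has nonempty
interior. -/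
lemma mem_interior_zeroLocus_of_mem_minimalPrimes {C : Type*} [CommRing C]
    (hfin : (minimalPrimes C).Finite) (P : Ideal C) (hP : P ∈ minimalPrimes C) :
    (⟨P, hP.1.1⟩ : PrimeSpectrum C) ∈ interior (PrimeSpectrum.zeroLocus (P : Set C)) := by
  let O : Set (PrimeSpectrum C) :=
    (⋃ P' ∈ (minimalPrimes C) \ {P}, PrimeSpectrum.zeroLocus (P' : Set C))ᶜ
  have hO : IsOpen O := by
    rw [isOpen_compl_iff]
    exact (hfin.subset Set.diff_subset).isClosed_biUnion
      (fun P' _ => PrimeSpectrum.isClosed_zeroLocus _)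
  have hPO : (⟨P, hP.1.1⟩ : PrimeSpectrum C) ∈ O := by
    simp only [O, Set.mem_compl_iff, Set.mem_iUnion, not_exists]
    rintro P' ⟨hP', hne⟩ hmem
    apply hne
    have hle : P' ≤ P := hmem
    exact le_antisymm hle (hP.2 hP'.1 hle)
  have hsub : O ⊆ PrimeSpectrum.zeroLocus (P : Set C) := by
    intro q hq
    obtain ⟨P', hP', hle⟩ := Ideal.exists_minimalPrimes_le (I := ⊥) (J := q.asIdeal) bot_le
    by_cases hPP : P' = P
    · subst hPP; exact hle
    · exfalso
      apply hq
      simp only [Set.mem_iUnion]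
      exact ⟨P', ⟨hP', hPP⟩, hle⟩
  exact interior_maximal hsub hO hPO

/-- **Prime avoidance for density**: if the zero locus of the extension of an ideal `I` along
`φ : B → C` has empty interior and `C` has finitely many minimal primes, then some `g ∈ I` has
nil-regular image. -/
theorem exists_mem_nilRegular_map {B C : Type*} [CommRing B] [CommRing C] (φ : B →+* C)
    (hfin : (minimalPrimes C).Finite) (I : Ideal B)
    (h : interior (PrimeSpectrum.zeroLocus ((I.map φ : Ideal C) : Set C)) = ∅) :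
    ∃ g ∈ I, NilRegular (φ g) := by
  classical
  have hnot : ¬ ∃ P ∈ hfin.toFinset, I ≤ Ideal.comap φ P := by
    rintro ⟨P, hP, hle⟩
    rw [Set.Finite.mem_toFinset] at hP
    have h1 : I.map φ ≤ P := Ideal.map_le_iff_le_comap.mpr hle
    have h2 := mem_interior_zeroLocus_of_mem_minimalPrimes hfin P hP
    have h3 : interior (PrimeSpectrum.zeroLocus (P : Set C)) ⊆
        interior (PrimeSpectrum.zeroLocus ((I.map φ : Ideal C) : Set C)) :=
      interior_mono (PrimeSpectrum.zeroLocus_anti_mono h1)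
    have := h3 h2
    rw [h] at this
    exact this
  rw [← Ideal.subset_union_prime (s := hfin.toFinset) (f := fun P => Ideal.comap φ P) ⊥ ⊥
    (fun P hP _ _ => by
      rw [Set.Finite.mem_toFinset] at hP
      haveI := hP.1.1
      exact Ideal.comap_isPrime φ P)] at hnot
  rw [Set.not_subset] at hnot
  obtain ⟨g, hgI, hg⟩ := hnot
  refine ⟨g, hgI, fun x hx => ?_⟩
  have hmem : x ∈ sInf (minimalPrimes C) := by
    rw [Ideal.mem_sInf]
    intro P hP
    haveI := hP.1.1
    have h1 : φ g * x ∈ P := by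
      obtain ⟨n, hn⟩ := hx
      exact Ideal.IsPrime.mem_of_pow_mem inferInstance n (by rw [hn]; exact P.zero_mem)
    rcases Ideal.IsPrime.mem_or_mem inferInstance h1 with h2 | h2
    · exfalso
      apply hg
      simp only [Set.mem_iUnion]
      exact ⟨P, by simpa using hP, h2⟩
    · exact h2
  have : sInf (minimalPrimes C) = nilradical C := by
    rw [minimalPrimes, Ideal.sInf_minimalPrimes]
    rfl
  rw [this] at hmem
  exact hmem

end PrimeAvoidance

section Domain

variable {A B : Type u} [CommRing A] [IsDomain A] [CommRing B] [Algebra A B]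
  [Algebra.FiniteType A B]

/-- **Nonvanishing spreads out**: a non-torsion element of a finite type algebra over a domain
stays nonzero in the fibres over a nonempty open. -/
theorem exists_one_tmul_ne_zero (x : B) (hx : ∀ s : A, s ≠ 0 → s • x ≠ 0) :
    ∃ a : A, a ≠ 0 ∧ ∀ (k : Type u) [Field k] [Algebra A k], algebraMap A k a ≠ 0 →
      (1 : k) ⊗ₜ[A] x ≠ 0 := by
  obtain ⟨f, hf, -, hfree, -, -⟩ := Groth.Agent.S0389.result (R := A) (S := B) (M := B)
  haveI := hfree
  let Rf := Localization.Away f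
  let b := Module.Free.chooseBasis Rf (Rf ⊗[A] B)
  have hz : (1 : Rf) ⊗ₜ[A] x ≠ 0 := by
    intro h0
    obtain ⟨⟨_, n, rfl⟩, hn⟩ := (IsLocalizedModule.eq_zero_iff (Submonoid.powers f)
      (TensorProduct.mk A Rf B 1)).mp h0
    exact hx (f ^ n) (pow_ne_zero n hf) hn
  obtain ⟨i, hi⟩ : ∃ i, b.repr ((1 : Rf) ⊗ₜ[A] x) i ≠ 0 := by
    by_contra hcon
    push Not at hcon
    apply hz
    apply b.repr.injective
    ext i
    simpa using hcon i
  obtain ⟨⟨c', ⟨_, m, rfl⟩⟩, hc'⟩ := IsLocalization.surj (Submonoid.powers f)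
    (b.repr ((1 : Rf) ⊗ₜ[A] x) i)
  have hc'' : b.repr ((1 : Rf) ⊗ₜ[A] x) i * algebraMap A Rf (f ^ m) = algebraMap A Rf c' := hc'
  have hle : Submonoid.powers f ≤ nonZeroDivisors A :=
    powers_le_nonZeroDivisors_of_noZeroDivisors hf
  have hinj : Function.Injective (algebraMap A Rf) := IsLocalization.injective _ hle
  haveI : IsDomain Rf := IsLocalization.isDomain_localization hle
  have hc'0 : c' ≠ 0 := by
    rintro rfl
    rw [map_zero] at hc''
    rcases mul_eq_zero.mp hc'' with h | h
    · exact hi h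
    · exact pow_ne_zero m hf (hinj (by rw [h, map_zero]))
  refine ⟨f * c', mul_ne_zero hf hc'0, fun k _ _ hk => ?_⟩
  rw [map_mul] at hk
  have hfk : algebraMap A k f ≠ 0 := left_ne_zero_of_mul hk
  have hck : algebraMap A k c' ≠ 0 := right_ne_zero_of_mul hk
  letI : Algebra Rf k := (IsLocalization.Away.lift f (isUnit_iff_ne_zero.mpr hfk)).toAlgebra
  haveI : IsScalarTower A Rf k :=
    IsScalarTower.of_algebraMap_eq (fun x => (IsLocalization.Away.lift_eq f _ x).symm)
  let l : B →ₗ[A] k := (IsScalarTower.toAlgHom A Rf k).toLinearMap ∘ₗ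
    ((b.coord i).restrictScalars A) ∘ₗ (TensorProduct.mk A Rf B 1)
  intro h0
  have h1 : LinearMap.liftBaseChange k l ((1 : k) ⊗ₜ[A] x) = 0 := by rw [h0, map_zero]
  rw [LinearMap.liftBaseChange_tmul, one_smul] at h1
  have h2 : algebraMap Rf k (b.repr ((1 : Rf) ⊗ₜ[A] x) i) = 0 := h1
  have h3 := congrArg (algebraMap Rf k) hc''
  rw [map_mul, h2, zero_mul, ← IsScalarTower.algebraMap_apply] at h3
  exact hck h3.symm

omit [Algebra.FiniteType A B] in
/-- An element of `B` that vanishes in the generic fibre is torsion. -/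
lemma exists_smul_eq_zero_of_one_tmul_eq_zero (K : Type*) [Field K] [Algebra A K]
    [IsFractionRing A K] {M : Type*} [AddCommGroup M] [Module A M] {m : M}
    (h : (1 : K) ⊗ₜ[A] m = 0) : ∃ r : A, r ≠ 0 ∧ r • m = 0 := by
  haveI : IsLocalizedModule (nonZeroDivisors A) (TensorProduct.mk A K M 1) :=
    (isLocalizedModule_iff_isBaseChange (nonZeroDivisors A) K _).mpr
      (TensorProduct.isBaseChange A M K)
  obtain ⟨⟨r, hr⟩, hrm⟩ := (IsLocalizedModule.eq_zero_iff (nonZeroDivisors A)
    (TensorProduct.mk A K M 1)).mp h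
  exact ⟨r, nonZeroDivisors.ne_zero hr, hrm⟩

omit [Algebra.FiniteType A B] in
/-- Every element of the generic fibre is, up to a nonzero scalar, of the form `1 ⊗ m`. -/
lemma exists_smul_eq_one_tmul (K : Type*) [Field K] [Algebra A K]
    [IsFractionRing A K] {M : Type*} [AddCommGroup M] [Module A M] (t : K ⊗[A] M) :
    ∃ (s : A) (m : M), s ≠ 0 ∧ s • t = (1 : K) ⊗ₜ[A] m := by
  haveI : IsLocalizedModule (nonZeroDivisors A) (TensorProduct.mk A K M 1) :=
    (isLocalizedModule_iff_isBaseChange (nonZeroDivisors A) K _).mpr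
      (TensorProduct.isBaseChange A M K)
  obtain ⟨⟨m, s⟩, hs⟩ := IsLocalizedModule.surj (nonZeroDivisors A)
    (TensorProduct.mk A K M 1) t
  exact ⟨s, m, nonZeroDivisors.ne_zero s.2, hs⟩

omit [Algebra.FiniteType A B] in
lemma smul_ne_zero_of_ne_zero (K : Type*) [Field K] [Algebra A K]
    [IsFractionRing A K] {M : Type*} [AddCommGroup M] [Module A M] {s : A} (hs : s ≠ 0)
    {t : K ⊗[A] M} (ht : t ≠ 0) : s • t ≠ 0 := by
  have hsK : algebraMap A K s ≠ 0 :=
    (map_ne_zero_iff _ (IsFractionRing.injective A K)).mpr hs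
  intro h0
  apply ht
  have : (algebraMap A K s) • t = 0 := by rw [algebraMap_smul]; exact h0
  rcases smul_eq_zero.mp this with h | h
  · exact absurd h hsK
  · exact h

/-- **Non-reducedness spreads out** (domain case). -/
theorem exists_not_isReduced (K : Type u) [Field K] [Algebra A K] [IsFractionRing A K]
    (h : ¬ IsReduced (K ⊗[A] B)) :
    ∃ a : A, a ≠ 0 ∧ ∀ (k : Type u) [Field k] [Algebra A k], algebraMap A k a ≠ 0 →
      ¬ IsReduced (k ⊗[A] B) := by
  rw [isReduced_iff] at h
  push Not at h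
  obtain ⟨t, ht, ht0⟩ := h
  obtain ⟨s, b, hs, hsb⟩ := exists_smul_eq_one_tmul K t
  have hb0 : (1 : K) ⊗ₜ[A] b ≠ 0 := hsb ▸ smul_ne_zero_of_ne_zero K hs ht0
  have hbnil : IsNilpotent ((1 : K) ⊗ₜ[A] b) := by
    rw [← hsb, Algebra.smul_def]
    exact Commute.isNilpotent_mul_left (Commute.all _ _) ht
  obtain ⟨n, hn⟩ := hbnil
  rw [Algebra.TensorProduct.tmul_pow, one_pow] at hn
  obtain ⟨r, hr, hrb⟩ := exists_smul_eq_zero_of_one_tmul_eq_zero K hn
  have hb' : (r • b) ^ n = 0 := by
    cases n with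
    | zero =>
      exfalso
      rw [pow_zero] at hrb
      apply hb0
      have : r • ((1 : K) ⊗ₜ[A] b) = 0 := by
        have hrb0 : r • b = 0 := by rw [← one_mul b, ← smul_mul_assoc, hrb, zero_mul]
        rw [← TensorProduct.tmul_smul, hrb0, TensorProduct.tmul_zero]
      by_contra hne
      exact smul_ne_zero_of_ne_zero K hr hne this
    | succ n =>
      rw [smul_pow, pow_succ r n, mul_smul, hrb, smul_zero]
  have hx : ∀ s' : A, s' ≠ 0 → s' • (r • b) ≠ 0 := by
    intro s' hs' h0
    have : (s' * r) • ((1 : K) ⊗ₜ[A] b) = 0 := by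
      rw [← TensorProduct.tmul_smul, mul_smul, h0, TensorProduct.tmul_zero]
    exact smul_ne_zero_of_ne_zero K (mul_ne_zero hs' hr) hb0 this
  obtain ⟨a, ha, hak⟩ := exists_one_tmul_ne_zero (r • b) hx
  refine ⟨a, ha, fun k _ _ hk hred => ?_⟩
  have h1 := hak k hk
  apply h1
  apply hred.eq_zero
  refine ⟨n, ?_⟩
  rw [Algebra.TensorProduct.tmul_pow, one_pow, hb', TensorProduct.tmul_zero]

/-- **Torsion dies generically**: after inverting one nonzero element, a finite type algebra over
a domain becomes torsion-free. -/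
theorem exists_forall_pow_smul_eq_zero :
    ∃ a : A, a ≠ 0 ∧ ∀ x : B, (∃ s : A, s ≠ 0 ∧ s • x = 0) → ∃ n : ℕ, a ^ n • x = 0 := by
  obtain ⟨f, hf, -, hfree, -, -⟩ := Groth.Agent.S0389.result (R := A) (S := B) (M := B)
  haveI := hfree
  refine ⟨f, hf, ?_⟩
  rintro x ⟨s, hs, hsx⟩
  exact Groth.Agent.H73.GenExact.exists_pow_smul_eq_zero_of_free hf hs hsx

omit [IsDomain A] [Algebra.FiniteType A B] in
/-- The kernel of `k ⊗ B → k ⊗ (B / nilradical)` is a nil ideal. -/
lemma isNilpotent_of_map_mk_eq_zero (k : Type*) [CommRing k] [Algebra A k] (x : k ⊗[A] B)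
    (hx : (Algebra.TensorProduct.map (AlgHom.id k k)
      (Ideal.Quotient.mkₐ A (nilradical B))) x = 0) : IsNilpotent x := by
  let N : Submodule A B := (nilradical B).restrictScalars A
  let π : B →ₗ[A] B ⧸ nilradical B := (Ideal.Quotient.mkₐ A (nilradical B)).toLinearMap
  have hex : Function.Exact N.subtype π := by
    intro b
    change Ideal.Quotient.mk (nilradical B) b = 0 ↔ _
    rw [Ideal.Quotient.eq_zero_iff_mem]
    constructor
    · intro hb
      exact ⟨⟨b, hb⟩, rfl⟩
    · rintro ⟨⟨b', hb'⟩, rfl⟩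
      exact hb'
  have hsurj : Function.Surjective π := Ideal.Quotient.mkₐ_surjective A _
  have hexk := lTensor_exact k hex hsurj
  have hx' : (π.lTensor k) x = 0 := by
    have : ∀ z : k ⊗[A] B, (π.lTensor k) z = (Algebra.TensorProduct.map (AlgHom.id k k)
        (Ideal.Quotient.mkₐ A (nilradical B))) z := by
      intro z
      induction z using TensorProduct.induction_on with
      | zero => simp
      | tmul y b => simp [π]
      | add z z' hz hz' => simp only [map_add, hz, hz']
    rw [this]; exact hx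
  obtain ⟨w, rfl⟩ := (hexk x).mp hx'
  clear hx hx'
  induction w using TensorProduct.induction_on with
  | zero => simp
  | tmul y n =>
    obtain ⟨m, hm⟩ : IsNilpotent (n : B) := n.2
    refine ⟨m, ?_⟩
    rw [LinearMap.lTensor_tmul, Submodule.subtype_apply, Algebra.TensorProduct.tmul_pow, hm,
      TensorProduct.tmul_zero]
  | add w w' hw hw' =>
    rw [map_add]
    exact Commute.isNilpotent_add (Commute.all _ _) hw hw'

/-- **Density of a basic open spreads out** (domain case): if `1 ⊗ g` is nil-regular in the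
generic fibre, it is nil-regular in the fibres over a nonempty open. -/
theorem exists_nilRegular (K : Type u) [Field K] [Algebra A K] [IsFractionRing A K] (g : B)
    (hg : NilRegular ((1 : K) ⊗ₜ[A] g)) :
    ∃ a : A, a ≠ 0 ∧ ∀ (k : Type u) [Field k] [Algebra A k], algebraMap A k a ≠ 0 →
      NilRegular ((1 : k) ⊗ₜ[A] g) := by
  let B₁ := B ⧸ nilradical B
  let π : B →ₐ[A] B₁ := Ideal.Quotient.mkₐ A (nilradical B)
  have hπ : Function.Surjective π := Ideal.Quotient.mkₐ_surjective A _
  haveI : Algebra.FiniteType A B₁ := Algebra.FiniteType.of_surjective π hπ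
  let g₁ : B₁ := π g
  obtain ⟨f, hf, hMfree, hBfree, -, -⟩ := Groth.Agent.S0389.result (R := A) (S := B₁)
    (M := B₁ ⧸ Ideal.span {g₁})
  haveI := hMfree
  haveI := hBfree
  -- the kernel of multiplication by `g₁` on `B₁` is torsion
  have htors : ∀ t : B₁, g₁ * t = 0 → ∃ r : A, r ≠ 0 ∧ r • t = 0 := by
    intro t ht
    obtain ⟨t', rfl⟩ := hπ t
    have h1 : IsNilpotent (g * t') := by
      have : π (g * t') = 0 := by rw [map_mul]; exact ht
      exact (Ideal.Quotient.eq_zero_iff_mem.mp this)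
    have h2 : IsNilpotent (((1 : K) ⊗ₜ[A] g) * ((1 : K) ⊗ₜ[A] t')) := by
      rw [Algebra.TensorProduct.tmul_mul_tmul, one_mul]
      obtain ⟨n, hn⟩ := h1
      exact ⟨n, by rw [Algebra.TensorProduct.tmul_pow, hn, TensorProduct.tmul_zero]⟩
    obtain ⟨n, hn⟩ := hg _ h2
    rw [Algebra.TensorProduct.tmul_pow, one_pow] at hn
    obtain ⟨r, hr, hrt⟩ := exists_smul_eq_zero_of_one_tmul_eq_zero K hn
    refine ⟨r, hr, ?_⟩
    have h3 : IsNilpotent (r • t') := by
      cases n with
      | zero =>
        rw [pow_zero] at hrt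
        have : r • t' = 0 := by rw [← one_mul t', ← smul_mul_assoc, hrt, zero_mul]
        rw [this]; exact IsNilpotent.zero
      | succ n =>
        exact ⟨n + 1, by rw [smul_pow, pow_succ r n, mul_smul, hrt, smul_zero]⟩
    rw [← map_smul]
    exact Ideal.Quotient.eq_zero_iff_mem.mpr h3
  refine ⟨f, hf, fun k _ _ hk => ?_⟩
  -- multiplication by `g₁` stays injective on the fibre `k ⊗ B₁`
  let u : PUnit.{u+1} →ₗ[A] B₁ := 0
  let v : B₁ →ₗ[A] B₁ := LinearMap.mulLeft A g₁
  let q : B₁ →ₗ[A] B₁ ⧸ Ideal.span {g₁} := (Ideal.Quotient.mkₐ A (Ideal.span {g₁})).toLinearMap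
  have hq : Function.Surjective q := Ideal.Quotient.mkₐ_surjective A _
  have hvq : Function.Exact v q := by
    intro x
    change Ideal.Quotient.mk (Ideal.span {g₁}) x = 0 ↔ _
    rw [Ideal.Quotient.eq_zero_iff_mem, Ideal.mem_span_singleton']
    constructor
    · rintro ⟨y, rfl⟩
      exact ⟨y, mul_comm _ _⟩
    · rintro ⟨y, rfl⟩
      exact ⟨y, mul_comm _ _⟩
  have h1 : ∀ x, ∃ n : ℕ, f ^ n • v (u x) = 0 := fun x => ⟨0, by simp [u]⟩
  have h2 : ∀ t, v t = 0 → ∃ n : ℕ, f ^ n • t ∈ LinearMap.range u := by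
    intro t ht
    obtain ⟨r, hr, hrt⟩ := htors t ht
    obtain ⟨n, hn⟩ := Groth.Agent.H73.GenExact.exists_pow_smul_eq_zero_of_free hf hr hrt
    exact ⟨n, by rw [hn]; exact Submodule.zero_mem _⟩
  haveI : Module.Flat (Localization.Away f) (Localization.Away f ⊗[A] (B₁ ⧸ Ideal.span {g₁})) :=
    inferInstance
  have hex := Groth.Agent.H73.GenExact.fibre_exact f u v q hq hvq h1 h2 k hk
  have hvd : ∀ d : k ⊗[A] B₁, (v.lTensor k) d = ((1 : k) ⊗ₜ[A] g₁) * d := by
    intro d
    induction d using TensorProduct.induction_on with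
    | zero => simp
    | tmul y b => simp [v]
    | add z z' hz hz' => rw [map_add, hz, hz', mul_add]
  have hinj : ∀ d : k ⊗[A] B₁, ((1 : k) ⊗ₜ[A] g₁) * d = 0 → d = 0 := by
    intro d hd
    obtain ⟨w, hw⟩ := (hex d).mp (by rw [hvd]; exact hd)
    rw [← hw]
    simp [u]
  refine NilRegular.of_surjective
    (Algebra.TensorProduct.map (AlgHom.id k k) π).toRingHom ?_ ?_
  · intro x hx
    exact isNilpotent_of_map_mk_eq_zero k x hx
  · intro d hd
    apply hinj d
    have : (Algebra.TensorProduct.map (AlgHom.id k k) π).toRingHom ((1 : k) ⊗ₜ[A] g) =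
        (1 : k) ⊗ₜ[A] g₁ := by
      simp [g₁]
    rw [← this]; exact hd

end Domain

section PrimeNil

variable {A B : Type u} [CommRing A] [CommRing B] [Algebra A B] [Algebra.FiniteType A B]

/-- A field `K` over `A` which is "the residue field at the generic point" of `Spec A`, when the
nilradical of `A` is prime: the kernel of `A → K` is the nilradical and `K` consists of fractions. -/
structure IsGenericField (A K : Type*) [CommRing A] [Field K] [Algebra A K] : Prop where
  ker : ∀ a : A, algebraMap A K a = 0 → IsNilpotent a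
  frac : ∀ z : K, ∃ a s : A, algebraMap A K s ≠ 0 ∧ z * algebraMap A K s = algebraMap A K a

/-- The algebra structure over `A ⧸ nilradical A` of a field over `A`. -/
@[reducible] noncomputable def algebraQuotNil (k : Type*) [Field k] [Algebra A k] :
    Algebra (A ⧸ nilradical A) k :=
  (Ideal.Quotient.lift (nilradical A) (algebraMap A k) (fun a ha =>
    (IsNilpotent.map (mem_nilradical.mp ha) (algebraMap A k)).eq_zero)).toAlgebra

lemma isScalarTower_quotNil (k : Type*) [Field k] [Algebra A k] :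
    letI := algebraQuotNil (A := A) k
    IsScalarTower A (A ⧸ nilradical A) k :=
  letI := algebraQuotNil (A := A) k
  IsScalarTower.of_algebraMap_eq fun _ => rfl

lemma isFractionRing_quotNil (hnil : (nilradical A).IsPrime) (K : Type*) [Field K] [Algebra A K]
    (hK : IsGenericField A K) :
    letI := algebraQuotNil (A := A) K
    haveI : IsDomain (A ⧸ nilradical A) := Ideal.Quotient.isDomain _
    IsFractionRing (A ⧸ nilradical A) K := by
  letI := algebraQuotNil (A := A) K
  haveI : IsDomain (A ⧸ nilradical A) := Ideal.Quotient.isDomain _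
  have hinj : Function.Injective (algebraMap (A ⧸ nilradical A) K) := by
    rw [injective_iff_map_eq_zero]
    intro x hx
    obtain ⟨a, rfl⟩ := Ideal.Quotient.mk_surjective x
    have : algebraMap A K a = 0 := hx
    exact Ideal.Quotient.eq_zero_iff_mem.mpr (mem_nilradical.mpr (hK.ker a this))
  haveI : FaithfulSMul (A ⧸ nilradical A) K := (faithfulSMul_iff_algebraMap_injective _ _).mpr hinj
  refine IsFractionRing.of_field _ _ (fun z => ?_)
  obtain ⟨a, s, hs, hz⟩ := hK.frac z
  refine ⟨Ideal.Quotient.mk _ a, Ideal.Quotient.mk _ s, ?_⟩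
  change z = algebraMap A K a / algebraMap A K s
  rw [eq_div_iff hs, hz]

/-- The kernel of `B → (A ⧸ nilradical A) ⊗[A] B` is nil. -/
lemma isNilpotent_of_one_tmul_eq_zero (b : B)
    (hb : (1 : A ⧸ nilradical A) ⊗ₜ[A] b = 0) : IsNilpotent b := by
  rw [← mem_nilradical, nilradical_eq_sInf, Ideal.mem_sInf]
  intro q hq
  haveI : q.IsPrime := hq
  let ρ₀ : A ⧸ nilradical A →ₐ[A] B ⧸ q :=
    { Ideal.Quotient.lift (nilradical A) (algebraMap A (B ⧸ q)) (fun a ha =>
        (IsNilpotent.map (mem_nilradical.mp ha) (algebraMap A (B ⧸ q))).eq_zero) with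
      commutes' := fun a => rfl }
  let ρ : (A ⧸ nilradical A) ⊗[A] B →ₐ[A] B ⧸ q :=
    Algebra.TensorProduct.productMap ρ₀ (Ideal.Quotient.mkₐ A q)
  have h1 : ρ ((1 : A ⧸ nilradical A) ⊗ₜ[A] b) = Ideal.Quotient.mk q b := by
    simp [ρ]
  rw [hb, map_zero] at h1
  exact Ideal.Quotient.eq_zero_iff_mem.mp h1.symm

/-- **Torsion dies generically** (irreducible base). -/
theorem exists_forall_isNilpotent_smul (hnil : (nilradical A).IsPrime) :
    ∃ a : A, a ∉ nilradical A ∧ ∀ g : B, (∃ s : A, s ∉ nilradical A ∧ IsNilpotent (s • g)) →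
      IsNilpotent (a • g) := by
  haveI : IsDomain (A ⧸ nilradical A) := Ideal.Quotient.isDomain _
  obtain ⟨a₀, ha₀, h⟩ := exists_forall_pow_smul_eq_zero (A := A ⧸ nilradical A)
    (B := (A ⧸ nilradical A) ⊗[A] B)
  obtain ⟨a, rfl⟩ := Ideal.Quotient.mk_surjective a₀
  refine ⟨a, fun ha => ha₀ (Ideal.Quotient.eq_zero_iff_mem.mpr ha), ?_⟩
  rintro g ⟨s, hs, m, hm⟩
  have hs' : (Ideal.Quotient.mk (nilradical A) s) ^ m ≠ 0 :=
    pow_ne_zero m (fun h0 => hs (Ideal.Quotient.eq_zero_iff_mem.mp h0))
  have h1 : (Ideal.Quotient.mk (nilradical A) s) ^ m •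
      ((1 : A ⧸ nilradical A) ⊗ₜ[A] (g ^ m)) = 0 := by
    rw [TensorProduct.smul_tmul', smul_eq_mul, mul_one, ← map_pow,
      ← Ideal.Quotient.algebraMap_eq, Algebra.algebraMap_eq_smul_one, TensorProduct.smul_tmul,
      ← smul_pow, hm, TensorProduct.tmul_zero]
  obtain ⟨n, hn⟩ := h _ ⟨_, hs', h1⟩
  have h2 : (1 : A ⧸ nilradical A) ⊗ₜ[A] (a ^ n • g ^ m) = 0 := by
    rw [← hn, TensorProduct.smul_tmul', smul_eq_mul, mul_one, ← map_pow,
      ← Ideal.Quotient.algebraMap_eq, Algebra.algebraMap_eq_smul_one, TensorProduct.smul_tmul]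
  have h3 := isNilpotent_of_one_tmul_eq_zero _ h2
  have h4 : (a • g) ^ (n + m) = (a ^ n • g ^ m) * (a ^ m • g ^ n) := by
    rw [smul_pow, pow_add, pow_add, smul_mul_smul_comm, mul_comm (g ^ n)]
  obtain ⟨r, hr⟩ := h3
  refine ⟨(n + m) * r, ?_⟩
  rw [pow_mul, h4, mul_pow, hr, zero_mul]

/-- **Non-reducedness spreads out** (irreducible base). -/
theorem exists_not_isReduced' (hnil : (nilradical A).IsPrime) (K : Type u) [Field K]
    [Algebra A K] (hK : IsGenericField A K) (h : ¬ IsReduced (K ⊗[A] B)) :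
    ∃ a : A, a ∉ nilradical A ∧ ∀ (k : Type u) [Field k] [Algebra A k], algebraMap A k a ≠ 0 →
      ¬ IsReduced (k ⊗[A] B) := by
  haveI : IsDomain (A ⧸ nilradical A) := Ideal.Quotient.isDomain _
  letI := algebraQuotNil (A := A) K
  haveI := isScalarTower_quotNil (A := A) K
  haveI := isFractionRing_quotNil hnil K hK
  have h' : ¬ IsReduced (K ⊗[A ⧸ nilradical A] ((A ⧸ nilradical A) ⊗[A] B)) := by
    intro hred
    apply h
    let e := Algebra.TensorProduct.cancelBaseChange A (A ⧸ nilradical A) K K B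
    exact isReduced_of_injective e.symm.toRingEquiv.toRingHom e.symm.injective
  obtain ⟨a₀, ha₀, hk⟩ := exists_not_isReduced (A := A ⧸ nilradical A)
    (B := (A ⧸ nilradical A) ⊗[A] B) K h'
  obtain ⟨a, rfl⟩ := Ideal.Quotient.mk_surjective a₀
  refine ⟨a, fun ha => ha₀ (Ideal.Quotient.eq_zero_iff_mem.mpr ha), fun k _ _ hak hred => ?_⟩
  letI := algebraQuotNil (A := A) k
  haveI := isScalarTower_quotNil (A := A) k
  refine hk k hak ?_
  let e := Algebra.TensorProduct.cancelBaseChange A (A ⧸ nilradical A) k k B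
  exact isReduced_of_injective e.toRingEquiv.toRingHom e.injective

/-- **Density of a basic open spreads out** (irreducible base). -/
theorem exists_nilRegular' (hnil : (nilradical A).IsPrime) (K : Type u) [Field K]
    [Algebra A K] (hK : IsGenericField A K) (g : B) (hg : NilRegular ((1 : K) ⊗ₜ[A] g)) :
    ∃ a : A, a ∉ nilradical A ∧ ∀ (k : Type u) [Field k] [Algebra A k], algebraMap A k a ≠ 0 →
      NilRegular ((1 : k) ⊗ₜ[A] g) := by
  haveI : IsDomain (A ⧸ nilradical A) := Ideal.Quotient.isDomain _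
  letI := algebraQuotNil (A := A) K
  haveI := isScalarTower_quotNil (A := A) K
  haveI := isFractionRing_quotNil hnil K hK
  have h' : NilRegular ((1 : K) ⊗ₜ[A ⧸ nilradical A]
      ((1 : A ⧸ nilradical A) ⊗ₜ[A] g)) := by
    let e := Algebra.TensorProduct.cancelBaseChange A (A ⧸ nilradical A) K K B
    have := hg.of_ringEquiv e.symm.toRingEquiv
    simpa [e] using this
  obtain ⟨a₀, ha₀, hk⟩ := exists_nilRegular (A := A ⧸ nilradical A)
    (B := (A ⧸ nilradical A) ⊗[A] B) K _ h'
  obtain ⟨a, rfl⟩ := Ideal.Quotient.mk_surjective a₀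
  refine ⟨a, fun ha => ha₀ (Ideal.Quotient.eq_zero_iff_mem.mpr ha), fun k _ _ hak => ?_⟩
  letI := algebraQuotNil (A := A) k
  haveI := isScalarTower_quotNil (A := A) k
  have h1 := hk k hak
  let e := Algebra.TensorProduct.cancelBaseChange A (A ⧸ nilradical A) k k B
  have := h1.of_ringEquiv e.toRingEquiv
  simpa [e] using this

end PrimeNil

end Groth.Agent.H20.GenFibre
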