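import Groth.Agent.H20.FlatReducedScheme
import Groth.Agent.H44.FlatGenFibre
import Mathlib.AlgebraicGeometry.IdealSheaf.Subscheme
import Mathlib.AlgebraicGeometry.ResidueField
import Mathlib.AlgebraicGeometry.Stalk
import Mathlib.LinearAlgebra.TensorProduct.RightExactness
import Mathlib.RingTheory.Ideal.Quotient.Nilpotent

set_option autoImplicit false
universe u

namespace Groth.Agent.H20

open TensorProduct CategoryTheory CategoryTheory.Limits AlgebraicGeometry TopologicalSpace

section Algebra

variable {R S' A' K : Type*} [CommRing R] [CommRing S'] [CommRing A'] [CommRing K]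
  [Algebra R S'] [Algebra R A'] [Algebra R K] [Algebra A' K] [IsScalarTower R A' K]

/-- If `S'` is a reduced `R`-algebra, `A'` a localization of `R`, and `A' → K` is surjective with
kernel consisting of nilpotents, then `S' ⊗ K` is reduced (it equals the localization `S' ⊗ A'`).-/
theorem isReduced_tensor_of_surjective_of_nil (M : Submonoid R) [IsLocalization M A']
    [IsReduced S'] (hsurj : Function.Surjective (algebraMap A' K))
    (hnil : ∀ a : A', algebraMap A' K a = 0 → IsNilpotent a) : IsReduced (S' ⊗[R] K) := by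
  haveI : IsReduced (S' ⊗[R] A') := by
    let e0 := IsLocalization.algEquiv (Algebra.algebraMapSubmonoid S' M) (S' ⊗[R] A')
      (Localization (Algebra.algebraMapSubmonoid S' M))
    exact isReduced_of_injective e0.toRingEquiv.toRingHom e0.injective
  let g : A' →ₐ[R] K := IsScalarTower.toAlgHom R A' K
  let π : S' ⊗[R] A' →ₐ[S'] S' ⊗[R] K := Algebra.TensorProduct.map (AlgHom.id S' S') g
  have hπ : ∀ t, π t = LinearMap.lTensor S' g.toLinearMap t := by
    intro t
    induction t with
    | zero => simp
    | add x y hx hy => rw [map_add, map_add, hx, hy]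
    | tmul s a => simp [π]
  have hgs : Function.Surjective g.toLinearMap := hsurj
  have hsurjπ : Function.Surjective π := by
    intro z
    obtain ⟨t, ht⟩ := LinearMap.lTensor_surjective S' hgs z
    exact ⟨t, by rw [hπ, ht]⟩
  let N : Submodule R A' := LinearMap.ker g.toLinearMap
  have hexact : Function.Exact N.subtype g.toLinearMap := by
    rw [LinearMap.exact_iff]
    exact (Submodule.range_subtype N).symm
  have hexact' := lTensor_exact S' hexact hgs
  have hzero : ∀ w : S' ⊗[R] N, LinearMap.lTensor S' N.subtype w = 0 := by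
    intro w
    induction w with
    | zero => simp
    | add x y hx hy => rw [map_add, hx, hy, add_zero]
    | tmul s a =>
      have ha : IsNilpotent a.1 := hnil a.1 (LinearMap.mem_ker.mp a.2)
      have h1 : IsNilpotent ((1 : S') ⊗ₜ[R] a.1) :=
        ha.map (Algebra.TensorProduct.includeRight : A' →ₐ[R] S' ⊗[R] A')
      have h2 : (1 : S') ⊗ₜ[R] a.1 = 0 := h1.eq_zero
      have h3 : s ⊗ₜ[R] a.1 = (s ⊗ₜ[R] (1 : A')) * ((1 : S') ⊗ₜ[R] a.1) := by
        rw [Algebra.TensorProduct.tmul_mul_tmul, mul_one, one_mul]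
      simp only [LinearMap.lTensor_tmul, Submodule.subtype_apply]
      rw [h3, h2, mul_zero]
  have hinjπ : Function.Injective π := by
    rw [injective_iff_map_eq_zero]
    intro t ht
    rw [hπ] at ht
    obtain ⟨w, hw⟩ := (hexact' t).mp ht
    rw [← hw, hzero]
  let e : S' ⊗[R] A' ≃+* S' ⊗[R] K := RingEquiv.ofBijective π.toRingHom ⟨hinjπ, hsurjπ⟩
  exact isReduced_of_injective e.symm.toRingHom e.symm.injective

end Algebra

section MaxPoint

variable {Y : Scheme.{u}}

/-- At the generic point of an irreducible component, every non-unit of the local ring is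
nilpotent. -/
theorem isNilpotent_of_mem_maximalIdeal_stalk_of_isGenericPoint (η : Y) (W : Set Y)
    (hW : W ∈ irreducibleComponents Y) (hη : IsGenericPoint η W)
    (a : Y.presheaf.stalk η) (ha : a ∈ IsLocalRing.maximalIdeal (Y.presheaf.stalk η)) :
    IsNilpotent a := by
  rw [← mem_nilradical, nilradical_eq_sInf, Ideal.mem_sInf]
  intro p hp
  have hp' : p.IsPrime := hp
  let z : Spec (Y.presheaf.stalk η) := ⟨p, hp'⟩
  have hz : Y.fromSpecStalk η z ⤳ η := by
    have : Y.fromSpecStalk η z ∈ Set.range (Y.fromSpecStalk η) := Set.mem_range_self z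
    rwa [Scheme.range_fromSpecStalk] at this
  set y := Y.fromSpecStalk η z with hy
  have h1 : W ⊆ closure {y} := by
    rw [← hη.def]
    exact (specializes_iff_closure_subset.mp hz)
  have h2 : closure {y} ⊆ W :=
    hW.2 (isIrreducible_singleton.closure) h1
  have h3 : η ⤳ y := by
    rw [specializes_iff_mem_closure, hη.def]
    exact h2 (subset_closure rfl)
  have h4 : y = η := (hz.antisymm h3).eq
  have h5 : z = IsLocalRing.closedPoint (Y.presheaf.stalk η) := by
    apply (Y.fromSpecStalk η).isEmbedding.injective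
    rw [← hy, h4, Scheme.fromSpecStalk_closedPoint]
  have h6 : p = IsLocalRing.maximalIdeal (Y.presheaf.stalk η) := by
    have := congrArg PrimeSpectrum.asIdeal h5
    exact this
  rw [h6]
  exact ha

end MaxPoint

section Nilradical

/-- The closed subscheme defined by a radical ideal sheaf is reduced. -/
theorem isReduced_subscheme_radical {X : Scheme.{u}} (I : X.IdealSheafData) :
    AlgebraicGeometry.IsReduced I.radical.subscheme := by
  haveI : ∀ U, AlgebraicGeometry.IsReduced (I.radical.subschemeCover.openCover.X U) := by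
    intro U
    change AlgebraicGeometry.IsReduced (Spec (.of <| Γ(X, U.1) ⧸ I.radical.ideal U))
    haveI : _root_.IsReduced (Γ(X, U.1) ⧸ I.radical.ideal U) := by
      rw [Scheme.IdealSheafData.radical_ideal]
      exact (Ideal.isRadical_iff_quotient_reduced _).mp (Ideal.radical_isRadical _)
    infer_instance
  exact AlgebraicGeometry.IsReduced.of_openCover _ I.radical.subschemeCover.openCover

instance {X : Scheme.{u}} : AlgebraicGeometry.IsReduced X.nilradical.subscheme :=
  isReduced_subscheme_radical ⊥

end Nilradical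

section Compat

lemma presheaf_map_endo_eq_id {X : Scheme.{u}} {U : X.Opens} (i : Opposite.op U ⟶ Opposite.op U) :
    X.presheaf.map i = 𝟙 _ := by
  rw [Subsingleton.elim i (𝟙 _), X.presheaf.map_id]

lemma fromSpecResidueField_appLE {Y : Scheme.{u}} (η : Y) (V : Y.Opens) (hη : η ∈ V)
    (h : (⊤ : (Spec (Y.residueField η)).Opens) ≤ (Y.fromSpecResidueField η) ⁻¹ᵁ V) :
    (Y.fromSpecResidueField η).appLE V ⊤ h =
      Y.presheaf.germ V η hη ≫ Y.residue η ≫ (Scheme.ΓSpecIso (Y.residueField η)).inv := by
  have h1 : (⊤ : (Spec (Y.presheaf.stalk η)).Opens) ≤ (Y.fromSpecStalk η) ⁻¹ᵁ V := by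
    intro z _
    change Y.fromSpecStalk η z ∈ V
    have hz : Y.fromSpecStalk η z ⤳ η := by
      have : Y.fromSpecStalk η z ∈ Set.range (Y.fromSpecStalk η) := Set.mem_range_self z
      rwa [Scheme.range_fromSpecStalk] at this
    exact hz.mem_open V.2 hη
  have h2 : (⊤ : (Spec (Y.residueField η)).Opens) ≤ (Spec.map (Y.residue η)) ⁻¹ᵁ ⊤ := le_top
  have key := Scheme.Hom.appLE_comp_appLE (Spec.map (Y.residue η)) (Y.fromSpecStalk η) V ⊤ ⊤ h1 h2
  change (Spec.map (Y.residue η) ≫ Y.fromSpecStalk η).appLE V ⊤ h = _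
  rw [← key]
  have e1 : (Y.fromSpecStalk η).appLE V ⊤ h1 =
      Y.presheaf.germ V η hη ≫ (Scheme.ΓSpecIso (Y.presheaf.stalk η)).inv := by
    rw [Scheme.Hom.appLE, Scheme.fromSpecStalk_app hη, Category.assoc, Category.assoc,
      ← Functor.map_comp, presheaf_map_endo_eq_id, Category.comp_id]
  have nat : (Spec.map (Y.residue η)).appTop =
      (Scheme.ΓSpecIso _).hom ≫ Y.residue η ≫ (Scheme.ΓSpecIso _).inv := by
    rw [← Scheme.ΓSpecIso_naturality_assoc, Iso.hom_inv_id, Category.comp_id]
  have e2 : (Spec.map (Y.residue η)).appLE ⊤ ⊤ h2 =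
      (Scheme.ΓSpecIso (Y.presheaf.stalk η)).hom ≫ Y.residue η ≫
        (Scheme.ΓSpecIso (Y.residueField η)).inv := by
    rw [Scheme.Hom.appLE]
    have hid : (Spec (Y.residueField η)).presheaf.map (homOfLE h2).op = 𝟙 _ :=
      presheaf_map_endo_eq_id (X := Spec (Y.residueField η)) (U := ⊤) _
    rw [hid]
    exact (Category.comp_id _).trans nat
  rw [e1, e2]
  simp

end Compat

section Fibre

/-- In a pushout square of commutative rings, the corner is reduced if the tensor product is. -/
lemma isReduced_of_isPushout_of_tensor {A B K C : CommRingCat.{u}} {φ : A ⟶ B} {ψ : A ⟶ K}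
    {ι : B ⟶ C} {π : K ⟶ C} (h : IsPushout φ ψ ι π)
    (hred : letI := φ.hom.toAlgebra
      letI := ψ.hom.toAlgebra
      _root_.IsReduced (B ⊗[A] K)) : _root_.IsReduced C := by
  letI : Algebra A B := φ.hom.toAlgebra
  letI : Algebra A K := ψ.hom.toAlgebra
  have h0 := CommRingCat.isPushout_tensorProduct A B K
  have h' : IsPushout (CommRingCat.ofHom (algebraMap A B)) (CommRingCat.ofHom (algebraMap A K))
    ι π := h
  have hiso : Function.Injective (h0.isoIsPushout _ _ h').inv.hom := by
    intro x y hxy
    have := congrArg (h0.isoIsPushout _ _ h').hom.hom hxy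
    simpa using this
  haveI : _root_.IsReduced (CommRingCat.of (B ⊗[A] K)) := hred
  exact isReduced_of_injective (h0.isoIsPushout _ _ h').inv.hom hiso

variable {X' Y : Scheme.{u}} (g : X' ⟶ Y)

/-- The fibre of a morphism from a reduced scheme over the generic point of an irreducible component
of the target is reduced. -/
theorem isReduced_fiber_of_isGenericPoint [AlgebraicGeometry.IsReduced X'] (η : Y) (W : Set Y)
    (hW : W ∈ irreducibleComponents Y) (hη : IsGenericPoint η W) :
    AlgebraicGeometry.IsReduced (g.fiber η) := by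
  apply Groth.Agent.H44.isReduced_of_forall_exists_affine
  intro z
  have hx' : g (g.fiberι η z) = η := by
    have : g.fiberι η z ∈ Set.range (g.fiberι η) := Set.mem_range_self z
    rw [Scheme.Hom.range_fiberι] at this
    exact this
  obtain ⟨V, hV, hηV, -⟩ := exists_isAffineOpen_mem_and_subset (x := η) (U := ⊤) trivial
  obtain ⟨U, hU, hxU, hUV⟩ := exists_isAffineOpen_mem_and_subset (x := g.fiberι η z)
    (U := g ⁻¹ᵁ V) (by change g (g.fiberι η z) ∈ V; rw [hx']; exact hηV)
  have hUST : (⊤ : (Spec (Y.residueField η)).Opens) ≤ (Y.fromSpecResidueField η) ⁻¹ᵁ V := by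
    intro t _
    change (Y.fromSpecResidueField η) t ∈ V
    rw [Scheme.fromSpecResidueField_apply]
    exact hηV
  have H : IsPullback (g.fiberι η) (g.fiberToSpecResidueField η) g
      (Y.fromSpecResidueField η) := IsPullback.of_hasPullback _ _
  refine ⟨(g.fiberι η) ⁻¹ᵁ U ⊓ (g.fiberToSpecResidueField η) ⁻¹ᵁ ⊤, ⟨hxU, trivial⟩, ?_, ?_⟩
  · have : IsAffine (V : Scheme.{u}) := hV
    have : IsAffine ((⊤ : (Spec (Y.residueField η)).Opens) : Scheme.{u}) := isAffineOpen_top _
    have : IsAffine (U : Scheme.{u}) := hU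
    exact IsAffine.of_isIso (Scheme.Hom.isPullback_resLE H hUST hUV rfl).isoPullback.hom
  · have hiso := isIso_pushoutSection_of_isAffineOpen H hUST hUV rfl hV (isAffineOpen_top _) hU
    have hPO := (isIso_pushoutSection_iff H hUST hUV rfl).mp hiso
    refine isReduced_of_isPushout_of_tensor hPO ?_
    letI : Algebra Γ(Y, V) Γ(X', U) := (g.appLE V U hUV).hom.toAlgebra
    letI : Algebra Γ(Y, V) Γ(Spec (Y.residueField η), ⊤) :=
      ((Y.fromSpecResidueField η).appLE V ⊤ hUST).hom.toAlgebra
    letI : Algebra Γ(Y, V) (Y.presheaf.stalk η) := Y.presheaf.algebra_section_stalk ⟨η, hηV⟩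
    have hloc := hV.isLocalization_stalk ⟨η, hηV⟩
    let ρ : Y.presheaf.stalk η ⟶ Γ(Spec (Y.residueField η), ⊤) :=
      Y.residue η ≫ (Scheme.ΓSpecIso (Y.residueField η)).inv
    letI : Algebra (Y.presheaf.stalk η) Γ(Spec (Y.residueField η), ⊤) := ρ.hom.toAlgebra
    haveI : IsScalarTower Γ(Y, V) (Y.presheaf.stalk η) Γ(Spec (Y.residueField η), ⊤) := by
      refine IsScalarTower.of_algebraMap_eq' ?_
      have := fromSpecResidueField_appLE η V hηV hUST
      exact congrArg CommRingCat.Hom.hom this
    have hinv : Function.Injective (Scheme.ΓSpecIso (Y.residueField η)).inv.hom := by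
      intro a b hab
      have := congrArg (Scheme.ΓSpecIso (Y.residueField η)).hom.hom hab
      simpa using this
    have hsurjinv : Function.Surjective (Scheme.ΓSpecIso (Y.residueField η)).inv.hom := by
      intro b
      exact ⟨(Scheme.ΓSpecIso (Y.residueField η)).hom.hom b, by simp⟩
    refine isReduced_tensor_of_surjective_of_nil (R := Γ(Y, V)) (S' := Γ(X', U))
      (A' := Y.presheaf.stalk η) (K := Γ(Spec (Y.residueField η), ⊤))
      (hV.primeIdealOf ⟨η, hηV⟩).asIdeal.primeCompl ?_ ?_
    · intro b
      obtain ⟨c, hc⟩ := hsurjinv b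
      obtain ⟨a, ha⟩ := Y.residue_surjective η c
      refine ⟨a, ?_⟩
      change (Scheme.ΓSpecIso (Y.residueField η)).inv.hom ((Y.residue η).hom a) = b
      rw [← hc]
      exact congrArg _ ha
    · intro a ha
      apply isNilpotent_of_mem_maximalIdeal_stalk_of_isGenericPoint η W hW hη
      have h0 : (Scheme.ΓSpecIso (Y.residueField η)).inv.hom ((Y.residue η).hom a) = 0 := ha
      have h1 : (Y.residue η).hom a = 0 := hinv (by rw [h0, map_zero])
      exact (IsLocalRing.residue_eq_zero_iff a).mp h1

end Fibre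

end Groth.Agent.H20
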