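import Mathlib
import Groth.Agent.H20.GenFibreAlg
import Groth.Agent.H20.MaxPointFibre

/-!
# Spreading out from the generic fibre: scheme-level API

* the trace of an affine open `U ⊆ f⁻¹ V` on the fibre over `y ∈ V` is the affine scheme of
  `κ(y) ⊗[Γ(Y, V)] Γ(X, U)`;
* the residue field at the generic point of an irreducible scheme is a "generic field" over the
  sections of any affine open neighbourhood.
-/

set_option autoImplicit false
set_option linter.style.haveILetI false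
set_option linter.unusedSectionVars false
universe u

open TensorProduct CategoryTheory CategoryTheory.Limits AlgebraicGeometry TopologicalSpace

namespace Groth.Agent.H20.GenFibre

variable {X Y : Scheme.{u}} (f : X ⟶ Y) (y : Y)

lemma top_le_preimage_fromSpecResidueField {V : Y.Opens} (hy : y ∈ V) :
    (⊤ : (Spec (Y.residueField y)).Opens) ≤ (Y.fromSpecResidueField y) ⁻¹ᵁ V := by
  intro t _
  change (Y.fromSpecResidueField y) t ∈ V
  rw [Scheme.fromSpecResidueField_apply]
  exact hy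

lemma fiberι_mem_preimage {V : Y.Opens} (hy : y ∈ V) (z : f.fiber y) :
    f.fiberι y z ∈ f ⁻¹ᵁ V := by
  have hz : f (f.fiberι y z) = y := by
    have := f.range_fiberι y ▸ Set.mem_range_self z
    exact this
  change f (f.fiberι y z) ∈ V
  rw [hz]; exact hy

/-- The trace on a fibre of an affine open lying over an affine open is affine. -/
lemma isAffineOpen_fiberι_preimage {U : X.Opens} {V : Y.Opens} (hU : IsAffineOpen U)
    (hV : IsAffineOpen V) (hUV : U ≤ f ⁻¹ᵁ V) (hy : y ∈ V) :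
    IsAffineOpen ((f.fiberι y) ⁻¹ᵁ U) := by
  have H : IsPullback (f.fiberι y) (f.fiberToSpecResidueField y) f
      (Y.fromSpecResidueField y) := IsPullback.of_hasPullback _ _
  have hUST := top_le_preimage_fromSpecResidueField y hy
  have hUY : (f.fiberι y) ⁻¹ᵁ U = (f.fiberι y) ⁻¹ᵁ U ⊓ (f.fiberToSpecResidueField y) ⁻¹ᵁ ⊤ := by
    simp
  have : IsAffine (V : Scheme.{u}) := hV
  have : IsAffine ((⊤ : (Spec (Y.residueField y)).Opens) : Scheme.{u}) := isAffineOpen_top _
  have : IsAffine (U : Scheme.{u}) := hU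
  exact IsAffine.of_isIso (Scheme.Hom.isPullback_resLE H hUST hUV hUY).isoPullback.hom

/-- The sections of the trace of an affine open on a fibre are the tensor product with the
residue field. -/
theorem exists_fibre_ringEquiv {U : X.Opens} {V : Y.Opens} (hU : IsAffineOpen U)
    (hV : IsAffineOpen V) (hUV : U ≤ f ⁻¹ᵁ V) (hy : y ∈ V) :
    letI := (f.appLE V U hUV).hom.toAlgebra
    letI := (Y.evaluation V y hy).hom.toAlgebra
    ∃ e : (Y.residueField y) ⊗[Γ(Y, V)] Γ(X, U) ≃+* Γ(f.fiber y, (f.fiberι y) ⁻¹ᵁ U),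
      ∀ b : Γ(X, U), e ((1 : Y.residueField y) ⊗ₜ[Γ(Y, V)] b) =
        (f.fiberι y).appLE U ((f.fiberι y) ⁻¹ᵁ U) le_rfl b := by
  let _ : Algebra Γ(Y, V) Γ(X, U) := (f.appLE V U hUV).hom.toAlgebra
  let _ : Algebra Γ(Y, V) (Y.residueField y) := (Y.evaluation V y hy).hom.toAlgebra
  let p := f.fiberι y
  let q := f.fiberToSpecResidueField y
  let r := Y.fromSpecResidueField y
  have hpb : IsPullback p q f r := IsPullback.of_hasPullback f r
  have hT : IsAffineOpen (⊤ : (Spec (Y.residueField y)).Opens) := isAffineOpen_top _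
  have hUST := top_le_preimage_fromSpecResidueField y hy
  have hUY : p ⁻¹ᵁ U = p ⁻¹ᵁ U ⊓ q ⁻¹ᵁ ⊤ := by simp
  have hpo : IsPushout (f.appLE V U hUV) (r.appLE V ⊤ hUST)
      (p.appLE U (p ⁻¹ᵁ U) le_rfl) (q.appLE ⊤ (p ⁻¹ᵁ U) (by simp)) := by
    have := isIso_pushoutSection_of_isAffineOpen hpb hUST hUV hUY hV hT hU
    exact (isIso_pushoutSection_iff hpb hUST hUV hUY).mp this
  let e₃ := Scheme.ΓSpecIso (Y.residueField y)
  have hev : r.appLE V ⊤ hUST ≫ e₃.hom = Y.evaluation V y hy := by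
    rw [Groth.Agent.H20.fromSpecResidueField_appLE y V hy hUST]
    simp only [Category.assoc, e₃, Iso.inv_hom_id, Category.comp_id]
    rfl
  have hpo' : IsPushout (f.appLE V U hUV) (Y.evaluation V y hy)
      (p.appLE U (p ⁻¹ᵁ U) le_rfl) (e₃.inv ≫ q.appLE ⊤ (p ⁻¹ᵁ U) (by simp)) := by
    refine IsPushout.of_iso hpo (Iso.refl _) (Iso.refl _) e₃ (Iso.refl _) ?_ ?_ ?_ ?_
    · simp
    · rw [Iso.refl_hom, Category.id_comp]
      exact hev
    · simp
    · simp
  let _ : Algebra Γ(X, U) Γ(f.fiber y, p ⁻¹ᵁ U) := (p.appLE U (p ⁻¹ᵁ U) le_rfl).hom.toAlgebra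
  let _ : Algebra (Y.residueField y) Γ(f.fiber y, p ⁻¹ᵁ U) :=
    (e₃.inv ≫ q.appLE ⊤ (p ⁻¹ᵁ U) (by simp)).hom.toAlgebra
  let _ : Algebra Γ(Y, V) Γ(f.fiber y, p ⁻¹ᵁ U) :=
    ((f.appLE V U hUV) ≫ (p.appLE U (p ⁻¹ᵁ U) le_rfl)).hom.toAlgebra
  have t1 : IsScalarTower Γ(Y, V) Γ(X, U) Γ(f.fiber y, p ⁻¹ᵁ U) :=
    IsScalarTower.of_algebraMap_eq fun r => rfl
  have t2 : IsScalarTower Γ(Y, V) (Y.residueField y) Γ(f.fiber y, p ⁻¹ᵁ U) :=
    IsScalarTower.of_algebraMap_eq fun r => congr($(hpo'.w).hom r)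
  have hpo'' : Algebra.IsPushout Γ(Y, V) Γ(X, U) (Y.residueField y) Γ(f.fiber y, p ⁻¹ᵁ U) :=
    CommRingCat.isPushout_iff_isPushout.mp hpo'
  let e₁ := Algebra.IsPushout.equiv Γ(Y, V) Γ(X, U) (Y.residueField y) Γ(f.fiber y, p ⁻¹ᵁ U)
  let e₂ := Algebra.TensorProduct.comm Γ(Y, V) (Y.residueField y) Γ(X, U)
  refine ⟨e₂.toRingEquiv.trans e₁.toRingEquiv, fun b => ?_⟩
  change e₁ (e₂ ((1 : Y.residueField y) ⊗ₜ[Γ(Y, V)] b)) = _
  rw [Algebra.TensorProduct.comm_tmul]
  rw [Algebra.IsPushout.equiv_tmul]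
  simp
  rfl

/-- Basic opens of the trace of `U` on a fibre are preimages of basic opens of `U`. -/
lemma fibre_basicOpen {U : X.Opens} (g : Γ(X, U)) :
    (f.fiber y).basicOpen ((f.fiberι y).appLE U ((f.fiberι y) ⁻¹ᵁ U) le_rfl g) =
      (f.fiberι y) ⁻¹ᵁ (X.basicOpen g) := by
  rw [Scheme.basicOpen_appLE]
  apply le_antisymm inf_le_right
  refine le_inf ?_ le_rfl
  intro z hz
  exact X.basicOpen_le g hz

section Generic

variable [IrreducibleSpace ↥Y]

/-- The nilradical of the sections over a nonempty affine open of an irreducible scheme is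
prime. -/
lemma nilradical_isPrime_of_isAffineOpen {V : Y.Opens} (hV : IsAffineOpen V)
    (hη : genericPoint ↥Y ∈ V) : (nilradical Γ(Y, V)).IsPrime := by
  have : Nonempty ↥V := ⟨⟨genericPoint ↥Y, hη⟩⟩
  have h1 : IrreducibleSpace ↥V := V.isOpen.isOpenEmbedding_subtypeVal.irreducibleSpace
  have h2 : IrreducibleSpace (Spec Γ(Y, V)) :=
    (hV.isoSpec.hom.homeomorph.irreducibleSpace_iff).mp h1
  exact PrimeSpectrum.irreducibleSpace_iff_isPrime_nilradical.mp h2

/-- The generic point lies in every nonempty open. -/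
lemma genericPoint_mem_of_nonempty {W : Y.Opens} (hW : (W : Set Y).Nonempty) :
    genericPoint ↥Y ∈ W := by
  obtain ⟨w, hw⟩ := hW
  exact (genericPoint_specializes w).mem_open W.2 hw

/-- A section over an affine open that vanishes at the generic point is nilpotent. -/
lemma isNilpotent_of_evaluation_eq_zero {V : Y.Opens} (hV : IsAffineOpen V)
    (hη : genericPoint ↥Y ∈ V) (a : Γ(Y, V))
    (ha : Y.evaluation V (genericPoint ↥Y) hη a = 0) : IsNilpotent a := by
  rw [Scheme.evaluation_eq_zero_iff_notMem_basicOpen] at ha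
  rw [Scheme.isNilpotent_iff_basicOpen_eq_bot_of_isCompact hV.isCompact]
  by_contra hne
  apply ha
  apply genericPoint_mem_of_nonempty
  by_contra hcon
  rw [Set.not_nonempty_iff_eq_empty] at hcon
  exact hne (TopologicalSpace.Opens.ext (by simpa using hcon))

/-- The residue field at the generic point is a generic field over the sections of an affine
open neighbourhood. -/
theorem isGenericField_residueField {V : Y.Opens} (hV : IsAffineOpen V)
    (hη : genericPoint ↥Y ∈ V) :
    letI := (Y.evaluation V (genericPoint ↥Y) hη).hom.toAlgebra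
    IsGenericField Γ(Y, V) (Y.residueField (genericPoint ↥Y)) := by
  letI := (Y.evaluation V (genericPoint ↥Y) hη).hom.toAlgebra
  refine ⟨fun a ha => isNilpotent_of_evaluation_eq_zero hV hη a ha, fun z => ?_⟩
  obtain ⟨w, rfl⟩ := Y.residue_surjective (genericPoint ↥Y) z
  letI : Algebra Γ(Y, V) (Y.presheaf.stalk (genericPoint ↥Y)) :=
    Y.presheaf.algebra_section_stalk ⟨genericPoint ↥Y, hη⟩
  have hloc := hV.isLocalization_stalk ⟨genericPoint ↥Y, hη⟩
  obtain ⟨⟨a, s⟩, hs⟩ := IsLocalization.surj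
    (hV.primeIdealOf ⟨genericPoint ↥Y, hη⟩).asIdeal.primeCompl w
  refine ⟨a, s, ?_, ?_⟩
  · have hu : IsUnit (algebraMap Γ(Y, V) (Y.presheaf.stalk (genericPoint ↥Y)) s) :=
      IsLocalization.map_units _ s
    have hu' := hu.map (Y.residue (genericPoint ↥Y)).hom
    exact hu'.ne_zero
  · have := congrArg (Y.residue (genericPoint ↥Y)).hom hs
    rw [map_mul] at this
    exact this

end Generic

end Groth.Agent.H20.GenFibre
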