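import Mathlib
import Groth.Agent.H20.GenFibreScheme
import Groth.Agent.H44.FlatGenFibre

/-!
# Non-reducedness of the generic fibre spreads out
-/

set_option autoImplicit false
set_option linter.style.haveILetI false
set_option linter.unusedSectionVars false
universe u

open TensorProduct CategoryTheory CategoryTheory.Limits AlgebraicGeometry TopologicalSpace

namespace Groth.Agent.H20.GenFibre

variable {X Y : Scheme.{u}} (f : X ⟶ Y)

/-- A nonzero basic open of an affine open is nonempty. -/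
lemma basicOpen_nonempty_of_not_isNilpotent {V : Y.Opens} (hV : IsAffineOpen V) (a : Γ(Y, V))
    (ha : ¬ IsNilpotent a) : ((Y.basicOpen a : Y.Opens) : Set Y).Nonempty := by
  by_contra hcon
  rw [Set.not_nonempty_iff_eq_empty] at hcon
  have hbot : Y.basicOpen a = ⊥ := TopologicalSpace.Opens.ext (by simpa using hcon)
  rw [← Scheme.isNilpotent_iff_basicOpen_eq_bot_of_isCompact hV.isCompact] at hbot
  exact ha hbot

/-- **Non-reducedness of the generic fibre spreads out.** -/
theorem exists_open_not_isReduced_fiber [IrreducibleSpace ↥Y] [LocallyOfFiniteType f]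
    (h : ¬ AlgebraicGeometry.IsReduced (f.fiber (genericPoint ↥Y))) :
    ∃ V : Y.Opens, (V : Set ↥Y).Nonempty ∧ ∀ y ∈ V, ¬ AlgebraicGeometry.IsReduced (f.fiber y) := by
  let η := genericPoint ↥Y
  obtain ⟨_, ⟨V₀, hV₀, rfl⟩, hηV, -⟩ :=
    Y.isBasis_affineOpens.exists_subset_of_mem_open (Set.mem_univ η) isOpen_univ
  have hV₀ : IsAffineOpen V₀ := hV₀
  have hηV : η ∈ V₀ := hηV
  have hnil := nilradical_isPrime_of_isAffineOpen hV₀ hηV
  -- a point of the generic fibre without reduced affine neighbourhoods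
  have hex : ∃ z : f.fiber η, ∀ W : (f.fiber η).Opens, z ∈ W → IsAffineOpen W →
      ¬ _root_.IsReduced Γ(f.fiber η, W) := by
    by_contra hcon
    push Not at hcon
    apply h
    apply Groth.Agent.H44.isReduced_of_forall_exists_affine
    intro z
    obtain ⟨W, hzW, hW, hred⟩ := hcon z
    exact ⟨W, hzW, hW, hred⟩
  obtain ⟨z, hz⟩ := hex
  obtain ⟨U, hU, hzU, hUV⟩ := exists_isAffineOpen_mem_and_subset (x := f.fiberι η z)
    (U := f ⁻¹ᵁ V₀) (fiberι_mem_preimage f η hηV z)
  have hnr := hz ((f.fiberι η) ⁻¹ᵁ U) hzU (isAffineOpen_fiberι_preimage f η hU hV₀ hUV hηV)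
  letI : Algebra Γ(Y, V₀) Γ(X, U) := (f.appLE V₀ U hUV).hom.toAlgebra
  haveI hft : Algebra.FiniteType Γ(Y, V₀) Γ(X, U) :=
    HasRingHomProperty.appLE @LocallyOfFiniteType f inferInstance ⟨V₀, hV₀⟩ ⟨U, hU⟩ hUV
  -- translate to the tensor product
  obtain ⟨a, ha, hak⟩ : ∃ a : Γ(Y, V₀), a ∉ nilradical Γ(Y, V₀) ∧
      ∀ (k : Type u) [Field k] [Algebra Γ(Y, V₀) k], algebraMap Γ(Y, V₀) k a ≠ 0 →
        ¬ _root_.IsReduced (k ⊗[Γ(Y, V₀)] Γ(X, U)) := by
    letI : Algebra Γ(Y, V₀) (Y.residueField η) := (Y.evaluation V₀ η hηV).hom.toAlgebra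
    have hK : IsGenericField Γ(Y, V₀) (Y.residueField η) := isGenericField_residueField hV₀ hηV
    obtain ⟨e, -⟩ := exists_fibre_ringEquiv f η hU hV₀ hUV hηV
    refine exists_not_isReduced' hnil (Y.residueField η) hK ?_
    intro hred
    apply hnr
    exact isReduced_of_injective e.symm.toRingHom e.symm.injective
  refine ⟨Y.basicOpen a, basicOpen_nonempty_of_not_isNilpotent hV₀ a
    (fun hn => ha (mem_nilradical.mpr hn)), fun y hy hred => ?_⟩
  have hyV : y ∈ V₀ := Y.basicOpen_le a hy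
  have hev : Y.evaluation V₀ y hyV a ≠ 0 :=
    (Y.evaluation_ne_zero_iff_mem_basicOpen y hyV a).mpr hy
  letI : Algebra Γ(Y, V₀) (Y.residueField y) := (Y.evaluation V₀ y hyV).hom.toAlgebra
  obtain ⟨e, -⟩ := exists_fibre_ringEquiv f y hU hV₀ hUV hyV
  apply hak (Y.residueField y) hev
  haveI : _root_.IsReduced Γ(f.fiber y, (f.fiberι y) ⁻¹ᵁ U) := inferInstance
  exact isReduced_of_injective e.toRingHom e.injective

end Groth.Agent.H20.GenFibre
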