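import Mathlib
import Groth.Agent.H20.GenFibreReduced

/-!
# The closure of the generic fibre contains the preimage of a nonempty open
-/

set_option autoImplicit false
set_option linter.style.haveILetI false
set_option linter.unusedSectionVars false
universe u

open TensorProduct CategoryTheory CategoryTheory.Limits AlgebraicGeometry TopologicalSpace

namespace Groth.Agent.H20.GenFibre

variable {X Y : Scheme.{u}} (f : X ⟶ Y)

section

variable [IrreducibleSpace ↥Y]

/-- The point of an affine open corresponding to the nilradical is the generic point. -/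
lemma fromSpec_nilradical_eq_genericPoint {V : Y.Opens} (hV : IsAffineOpen V)
    (hη : genericPoint ↥Y ∈ V) (p : PrimeSpectrum Γ(Y, V)) (hp : p.asIdeal = nilradical Γ(Y, V)) :
    hV.fromSpec p = genericPoint ↥Y := by
  let pη := hV.primeIdealOf ⟨genericPoint ↥Y, hη⟩
  have h1 : hV.fromSpec pη = genericPoint ↥Y := hV.fromSpec_primeIdealOf ⟨genericPoint ↥Y, hη⟩
  have h2 : pη.asIdeal ≤ nilradical Γ(Y, V) := by
    intro a ha
    rw [mem_nilradical]
    apply isNilpotent_of_evaluation_eq_zero hV hη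
    rw [Scheme.evaluation_eq_zero_iff_notMem_basicOpen]
    intro hmem
    have : pη ∈ hV.fromSpec ⁻¹ᵁ Y.basicOpen a := by
      change hV.fromSpec pη ∈ Y.basicOpen a
      rw [h1]; exact hmem
    rw [hV.fromSpec_preimage_basicOpen] at this
    exact this ha
  have h3 : pη = p := by
    apply PrimeSpectrum.ext
    rw [hp]
    apply le_antisymm h2
    rw [nilradical_eq_sInf]
    exact sInf_le pη.2
  rw [← h3, h1]

/-- Globalization over a finite affine cover of the preimage of an affine open. -/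
theorem exists_open_forall_cover [QuasiCompact f] {V₀ : Y.Opens} (hV₀ : IsAffineOpen V₀)
    (hη : genericPoint ↥Y ∈ V₀) (Q : X.Opens → Y → Prop)
    (hQ : ∀ U : X.Opens, IsAffineOpen U → U ≤ f ⁻¹ᵁ V₀ →
      ∃ a : Γ(Y, V₀), ¬ IsNilpotent a ∧ ∀ y ∈ Y.basicOpen a, Q U y) :
    ∃ s : Set X.affineOpens, s.Finite ∧ (∀ U ∈ s, (U : X.Opens) ≤ f ⁻¹ᵁ V₀) ∧
      (∀ x : X, f x ∈ V₀ → ∃ U ∈ s, x ∈ (U : X.Opens)) ∧
      ∃ V : Y.Opens, V ≤ V₀ ∧ (V : Set ↥Y).Nonempty ∧ ∀ y ∈ V, ∀ U ∈ s, Q U y := by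
  classical
  have hnil := nilradical_isPrime_of_isAffineOpen hV₀ hη
  have hc : IsCompact ((f ⁻¹ᵁ V₀ : X.Opens) : Set X) :=
    QuasiCompact.isCompact_preimage _ V₀.isOpen hV₀.isCompact
  obtain ⟨s, hs, hcov⟩ := isCompact_iff_finite_and_eq_biUnion_affineOpens.mp hc
  have := hs.fintype
  have hle : ∀ U ∈ s, ((U : X.affineOpens) : X.Opens) ≤ f ⁻¹ᵁ V₀ := fun U hU => by
    rw [hcov]
    exact le_iSup₂ (f := fun (i : X.affineOpens) (_ : i ∈ s) => (i : X.Opens)) U hU
  refine ⟨s, hs, hle, ?_, ?_⟩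
  · intro x hx
    have hx' : x ∈ (f ⁻¹ᵁ V₀ : X.Opens) := hx
    rw [hcov] at hx'
    simpa using hx'
  choose a ha hQa using fun U : s => hQ U.1.1 U.1.2 (hle U.1 U.2)
  let a₀ : Γ(Y, V₀) := ∏ U : s, a U
  have ha₀ : ¬ IsNilpotent a₀ := by
    intro hmem
    obtain ⟨U, -, hU⟩ := (Ideal.IsPrime.prod_mem_iff (hp := hnil)).mp (mem_nilradical.mpr hmem)
    exact ha U (mem_nilradical.mp hU)
  refine ⟨Y.basicOpen a₀, Y.basicOpen_le a₀, basicOpen_nonempty_of_not_isNilpotent hV₀ a₀ ha₀,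
    fun y hy U hU => ?_⟩
  apply hQa ⟨U, hU⟩
  have hyV : y ∈ V₀ := Y.basicOpen_le a₀ hy
  have hy' := (Y.evaluation_ne_zero_iff_mem_basicOpen y hyV a₀).mpr hy
  rw [← Y.evaluation_ne_zero_iff_mem_basicOpen y hyV]
  intro h0
  apply hy'
  change Y.evaluation V₀ y hyV (∏ U : s, a U) = 0
  rw [map_prod]
  exact Finset.prod_eq_zero (Finset.mem_univ ⟨U, hU⟩) h0

/-- Local form: on an affine open over an affine open, the closure of the generic fibre contains
everything over a nonempty basic open. -/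
theorem exists_basicOpen_subset_closure_fiber [LocallyOfFiniteType f] {V₀ : Y.Opens}
    (hV₀ : IsAffineOpen V₀) (hη : genericPoint ↥Y ∈ V₀) {U : X.Opens} (hU : IsAffineOpen U)
    (hUV : U ≤ f ⁻¹ᵁ V₀) :
    ∃ a : Γ(Y, V₀), ¬ IsNilpotent a ∧ ∀ y ∈ Y.basicOpen a, ∀ x ∈ U, f x = y →
      x ∈ closure (f ⁻¹' {genericPoint ↥Y}) := by
  have hnil := nilradical_isPrime_of_isAffineOpen hV₀ hη
  letI : Algebra Γ(Y, V₀) Γ(X, U) := (f.appLE V₀ U hUV).hom.toAlgebra
  haveI hft : Algebra.FiniteType Γ(Y, V₀) Γ(X, U) :=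
    HasRingHomProperty.appLE @LocallyOfFiniteType f inferInstance ⟨V₀, hV₀⟩ ⟨U, hU⟩ hUV
  obtain ⟨a, ha, hag⟩ := exists_forall_isNilpotent_smul (A := Γ(Y, V₀)) (B := Γ(X, U)) hnil
  refine ⟨a, fun hn => ha (mem_nilradical.mpr hn), ?_⟩
  rintro y hy x hxU rfl
  by_contra hxT
  let T : Set X := closure (f ⁻¹' {genericPoint ↥Y})
  let W : X.Opens := ⟨Tᶜ, isClosed_closure.isOpen_compl⟩
  obtain ⟨g, hgW, hxg⟩ := hU.exists_basicOpen_le (V := W) ⟨x, hxT⟩ hxU
  -- `g` is killed by an element outside the nilradical, up to nilpotents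
  have hex : ∃ s : Γ(Y, V₀), s ∉ nilradical Γ(Y, V₀) ∧ IsNilpotent (s • g) := by
    by_contra hcon
    push Not at hcon
    let M : Submonoid Γ(X, U) :=
      (Submonoid.map (algebraMap Γ(Y, V₀) Γ(X, U)) (nilradical Γ(Y, V₀)).primeCompl) ⊔
        Submonoid.powers g
    have hdisj : Disjoint ((⊥ : Ideal Γ(X, U)) : Set Γ(X, U)) (M : Set Γ(X, U)) := by
      rw [Set.disjoint_left]
      intro b hb hbM
      have hb0 : b = 0 := hb
      subst hb0
      obtain ⟨_, ⟨s, hs, rfl⟩, _, ⟨n, rfl⟩, hprod⟩ := Submonoid.mem_sup.mp hbM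
      apply hcon s hs
      refine ⟨n + 1, ?_⟩
      have h0 : s • g ^ n = 0 := by rw [Algebra.smul_def]; exact hprod
      rw [smul_pow, pow_succ, pow_succ, mul_smul, ← smul_mul_assoc, h0, zero_mul, smul_zero]
    obtain ⟨q, hq, -, hqM⟩ := Ideal.exists_le_prime_disjoint ⊥ M hdisj
    have hgq : g ∉ q := fun hgq => Set.disjoint_left.mp hqM hgq
      (Submonoid.mem_sup_right (Submonoid.mem_powers g))
    have hcomap : Ideal.comap (algebraMap Γ(Y, V₀) Γ(X, U)) q = nilradical Γ(Y, V₀) := by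
      apply le_antisymm
      · intro s hs
        by_contra hsn
        exact Set.disjoint_left.mp hqM hs
          (Submonoid.mem_sup_left (Submonoid.mem_map_of_mem _ hsn))
      · rw [nilradical_eq_sInf]
        exact sInf_le (Ideal.comap_isPrime _ q)
    let xq : X := hU.fromSpec ⟨q, hq⟩
    have hxq : xq ∈ X.basicOpen g := by
      have : (⟨q, hq⟩ : PrimeSpectrum Γ(X, U)) ∈ hU.fromSpec ⁻¹ᵁ X.basicOpen g := by
        rw [hU.fromSpec_preimage_basicOpen]
        exact hgq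
      exact this
    have hfxq : f xq = genericPoint ↥Y := by
      have h1 := IsAffineOpen.SpecMap_appLE_fromSpec f hV₀ hU hUV
      have h2 : f xq = hV₀.fromSpec (Spec.map (f.appLE V₀ U hUV) ⟨q, hq⟩) := by
        change (hU.fromSpec ≫ f) ⟨q, hq⟩ = _
        rw [← h1]
        rfl
      rw [h2]
      apply fromSpec_nilradical_eq_genericPoint hV₀ hη
      exact hcomap
    have : xq ∈ T := subset_closure hfxq
    exact hgW hxq this
  obtain ⟨s, hs, hsg⟩ := hex
  have hnilp := hag g ⟨s, hs, hsg⟩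
  have hbot : X.basicOpen (a • g) = ⊥ :=
    (Scheme.isNilpotent_iff_basicOpen_eq_bot_of_isCompact hU.isCompact _).mp hnilp
  have hmem : x ∈ X.basicOpen (a • g) := by
    rw [Algebra.smul_def, Scheme.basicOpen_mul]
    refine ⟨?_, hxg⟩
    change x ∈ X.basicOpen (f.appLE V₀ U hUV a)
    rw [Scheme.basicOpen_appLE]
    exact ⟨hxU, hy⟩
  rw [hbot] at hmem
  exact hmem

/-- **The closure of the generic fibre contains the preimage of a nonempty open.** -/
theorem exists_open_preimage_subset_closure_fiber [LocallyOfFiniteType f] [QuasiCompact f] :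
    ∃ V : Y.Opens, (V : Set ↥Y).Nonempty ∧ ∀ x : X, f x ∈ V →
      x ∈ closure (f ⁻¹' {genericPoint ↥Y}) := by
  let η := genericPoint ↥Y
  obtain ⟨_, ⟨V₀, hV₀, rfl⟩, hηV, -⟩ :=
    Y.isBasis_affineOpens.exists_subset_of_mem_open (Set.mem_univ η) isOpen_univ
  have hV₀ : IsAffineOpen V₀ := hV₀
  have hηV : η ∈ V₀ := hηV
  obtain ⟨s, -, -, hcov, V, hVV₀, hVne, hV⟩ := exists_open_forall_cover f hV₀ hηV
    (fun U y => ∀ x ∈ U, f x = y → x ∈ closure (f ⁻¹' {genericPoint ↥Y}))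
    (fun U hU hUV => exists_basicOpen_subset_closure_fiber f hV₀ hηV hU hUV)
  refine ⟨V, hVne, fun x hx => ?_⟩
  obtain ⟨U, hUs, hxU⟩ := hcov x (hVV₀ hx)
  exact hV (f x) hx U hUs x hxU rfl

end

end Groth.Agent.H20.GenFibre
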