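import Mathlib
import Groth.Agent.H20.GenFibreClosure

/-!
# Nowhere density on the generic fibre spreads out
-/

set_option autoImplicit false
set_option linter.style.haveILetI false
set_option linter.unusedSectionVars false
universe u

open TensorProduct CategoryTheory CategoryTheory.Limits AlgebraicGeometry TopologicalSpace

namespace Groth.Agent.H20.GenFibre

/-- Ring-theoretic form of `exists_mem_nilRegular_map`. -/
theorem exists_mem_nilRegular_map' {B C : Type*} [CommRing B] [CommRing C] (φ : B →+* C)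
    (hfin : (minimalPrimes C).Finite) (I : Ideal B)
    (h : ∀ c : C, (∀ g ∈ I, IsNilpotent (c * φ g)) → IsNilpotent c) :
    ∃ g ∈ I, NilRegular (φ g) := by
  apply exists_mem_nilRegular_map φ hfin I
  rw [Set.eq_empty_iff_forall_notMem]
  intro x hx
  obtain ⟨_, ⟨c, rfl⟩, hxc, hsub⟩ := PrimeSpectrum.isTopologicalBasis_basic_opens.exists_subset_of_mem_open
    hx isOpen_interior
  have hc : IsNilpotent c := by
    apply h
    intro g hg
    rw [← mem_nilradical, nilradical_eq_sInf, Ideal.mem_sInf]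
    intro q hq
    haveI : q.IsPrime := hq
    by_cases hcq : c ∈ q
    · exact q.mul_mem_right _ hcq
    · have h1 : (⟨q, hq⟩ : PrimeSpectrum C) ∈
          PrimeSpectrum.zeroLocus ((I.map φ : Ideal C) : Set C) :=
        interior_subset (hsub hcq)
      exact q.mul_mem_left _ (h1 (Ideal.mem_map_of_mem φ hg))
  exact hxc (nilradical_le_prime x.asIdeal (mem_nilradical.mpr hc))

variable {X Y : Scheme.{u}} (f : X ⟶ Y)

/-- The ideal of sections over `U` whose basic open misses `Z`. -/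
def missIdeal (U : X.Opens) (Z : Set X) : Ideal Γ(X, U) where
  carrier := {g | ∀ x ∈ X.basicOpen g, x ∉ Z}
  zero_mem' := by
    intro x hx
    rw [Scheme.basicOpen_zero] at hx
    exact absurd hx (by simp)
  add_mem' := by
    intro g h hg hh x hx
    rcases X.basicOpen_add_le g h hx with h1 | h1
    · exact hg x h1
    · exact hh x h1
  smul_mem' := by
    intro c g hg x hx
    rw [smul_eq_mul, Scheme.basicOpen_mul] at hx
    exact hg x hx.2

lemma mem_missIdeal {U : X.Opens} {Z : Set X} {g : Γ(X, U)} :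
    g ∈ missIdeal U Z ↔ ∀ x ∈ X.basicOpen g, x ∉ Z := Iff.rfl

/-- A point of an affine open outside a closed set lies in a basic open missing it. -/
lemma exists_mem_missIdeal {U : X.Opens} (hU : IsAffineOpen U) {Z : Set X} (hZ : IsClosed Z)
    {x : X} (hxU : x ∈ U) (hxZ : x ∉ Z) : ∃ g ∈ missIdeal U Z, x ∈ X.basicOpen g := by
  let W : X.Opens := ⟨Zᶜ, hZ.isOpen_compl⟩
  obtain ⟨g, hgW, hxg⟩ := hU.exists_basicOpen_le (V := W) ⟨x, hxZ⟩ hxU
  exact ⟨g, fun x' hx' => hgW hx', hxg⟩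

section

variable [IrreducibleSpace ↥Y]

/-- Local form of the spreading out of nowhere density. -/
theorem exists_basicOpen_nowhereDense [LocallyOfFiniteType f] {V₀ : Y.Opens}
    (hV₀ : IsAffineOpen V₀) (hη : genericPoint ↥Y ∈ V₀) {U : X.Opens} (hU : IsAffineOpen U)
    (hUV : U ≤ f ⁻¹ᵁ V₀) (Z : Set X) (hZ : IsClosed Z)
    (h : IsNowhereDense ((f.fiberι (genericPoint ↥Y)) ⁻¹' Z)) :
    ∃ a : Γ(Y, V₀), ¬ IsNilpotent a ∧ ∀ y ∈ Y.basicOpen a,
      ∀ O : (f.fiber y).Opens, O ≤ (f.fiberι y) ⁻¹ᵁ U → (O : Set (f.fiber y)) ⊆ (f.fiberι y) ⁻¹' Z →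
        O = ⊥ := by
  let η := genericPoint ↥Y
  have hnil := nilradical_isPrime_of_isAffineOpen hV₀ hη
  letI : Algebra Γ(Y, V₀) Γ(X, U) := (f.appLE V₀ U hUV).hom.toAlgebra
  haveI hft : Algebra.FiniteType Γ(Y, V₀) Γ(X, U) :=
    HasRingHomProperty.appLE @LocallyOfFiniteType f inferInstance ⟨V₀, hV₀⟩ ⟨U, hU⟩ hUV
  -- Step 1: a section `g` missing `Z` whose image in the generic fibre is nil-regular
  obtain ⟨g, hgI, a, ha, hak⟩ : ∃ g ∈ missIdeal U Z, ∃ a : Γ(Y, V₀), a ∉ nilradical Γ(Y, V₀) ∧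
      ∀ (k : Type u) [Field k] [Algebra Γ(Y, V₀) k], algebraMap Γ(Y, V₀) k a ≠ 0 →
        NilRegular ((1 : k) ⊗ₜ[Γ(Y, V₀)] g) := by
    letI : Algebra Γ(Y, V₀) (Y.residueField η) := (Y.evaluation V₀ η hη).hom.toAlgebra
    have hK : IsGenericField Γ(Y, V₀) (Y.residueField η) := isGenericField_residueField hV₀ hη
    obtain ⟨e, he⟩ := exists_fibre_ringEquiv f η hU hV₀ hUV hη
    have hWaff := isAffineOpen_fiberι_preimage f η hU hV₀ hUV hη
    haveI : IsNoetherianRing ((Y.residueField η) ⊗[Γ(Y, V₀)] Γ(X, U)) :=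
      Algebra.FiniteType.isNoetherianRing (Y.residueField η) _
    haveI : IsNoetherianRing Γ(f.fiber η, (f.fiberι η) ⁻¹ᵁ U) :=
      isNoetherianRing_of_ringEquiv _ e
    have hfin : (minimalPrimes Γ(f.fiber η, (f.fiberι η) ⁻¹ᵁ U)).Finite :=
      minimalPrimes.finite_of_isNoetherianRing _
    obtain ⟨g, hgI, hg⟩ := exists_mem_nilRegular_map'
      ((f.fiberι η).appLE U ((f.fiberι η) ⁻¹ᵁ U) le_rfl).hom hfin (missIdeal U Z) (by
        intro c hc
        rw [Scheme.isNilpotent_iff_basicOpen_eq_bot_of_isCompact hWaff.isCompact]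
        have hsub : ((f.fiber η).basicOpen c : Set (f.fiber η)) ⊆ (f.fiberι η) ⁻¹' Z := by
          intro w hw
          by_contra hwZ
          have hwU : f.fiberι η w ∈ U := (f.fiber η).basicOpen_le c hw
          obtain ⟨g, hgI, hxg⟩ := exists_mem_missIdeal hU hZ hwU hwZ
          have h1 : w ∈ (f.fiber η).basicOpen
              ((f.fiberι η).appLE U ((f.fiberι η) ⁻¹ᵁ U) le_rfl g) := by
            rw [fibre_basicOpen]; exact hxg
          have h2 : w ∈ (f.fiber η).basicOpen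
              (c * (f.fiberι η).appLE U ((f.fiberι η) ⁻¹ᵁ U) le_rfl g) := by
            rw [Scheme.basicOpen_mul]; exact ⟨hw, h1⟩
          have h3 := (Scheme.isNilpotent_iff_basicOpen_eq_bot_of_isCompact hWaff.isCompact _).mp
            (hc g hgI)
          rw [h3] at h2
          exact h2
        have hcl : IsClosed ((f.fiberι η) ⁻¹' Z) := hZ.preimage (f.fiberι η).continuous
        have hint : interior ((f.fiberι η) ⁻¹' Z) = ∅ := by
          have := h
          rw [IsNowhereDense, hcl.closure_eq] at this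
          exact this
        have h4 : ((f.fiber η).basicOpen c : Set (f.fiber η)) ⊆ interior ((f.fiberι η) ⁻¹' Z) :=
          interior_maximal hsub ((f.fiber η).basicOpen c).isOpen
        rw [hint] at h4
        exact TopologicalSpace.Opens.ext (Set.subset_empty_iff.mp h4))
    have hg' : NilRegular ((1 : Y.residueField η) ⊗ₜ[Γ(Y, V₀)] g) := by
      have := hg.of_ringEquiv e.symm
      have h5 : e.symm (((f.fiberι η).appLE U ((f.fiberι η) ⁻¹ᵁ U) le_rfl).hom g) =
          (1 : Y.residueField η) ⊗ₜ[Γ(Y, V₀)] g := by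
        rw [RingEquiv.symm_apply_eq]; exact (he g).symm
      rw [h5] at this
      exact this
    obtain ⟨a, ha, hak⟩ := exists_nilRegular' hnil (Y.residueField η) hK g hg'
    exact ⟨g, hgI, a, ha, hak⟩
  -- Step 2: density on the other fibres
  refine ⟨a, fun hn => ha (mem_nilradical.mpr hn), fun y hy O hOU hOZ => ?_⟩
  have hyV : y ∈ V₀ := Y.basicOpen_le a hy
  have hev : Y.evaluation V₀ y hyV a ≠ 0 :=
    (Y.evaluation_ne_zero_iff_mem_basicOpen y hyV a).mpr hy
  letI : Algebra Γ(Y, V₀) (Y.residueField y) := (Y.evaluation V₀ y hyV).hom.toAlgebra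
  obtain ⟨e, he⟩ := exists_fibre_ringEquiv f y hU hV₀ hUV hyV
  have hWaff := isAffineOpen_fiberι_preimage f y hU hV₀ hUV hyV
  have hreg : NilRegular (((f.fiberι y).appLE U ((f.fiberι y) ⁻¹ᵁ U) le_rfl).hom g) := by
    have := (hak (Y.residueField y) hev).of_ringEquiv e
    rw [he g] at this
    exact this
  by_contra hne
  obtain ⟨w, hw⟩ : ∃ w, w ∈ O := by
    by_contra hcon
    push Not at hcon
    exact hne (TopologicalSpace.Opens.ext (Set.eq_empty_of_forall_notMem hcon))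
  obtain ⟨c, hcO, hwc⟩ := hWaff.exists_basicOpen_le (V := O) ⟨w, hw⟩ (hOU hw)
  have hcnil : ¬ IsNilpotent c := by
    intro hn
    rw [Scheme.isNilpotent_iff_basicOpen_eq_bot_of_isCompact hWaff.isCompact] at hn
    rw [hn] at hwc
    exact hwc
  have h1 : ¬ IsNilpotent (((f.fiberι y).appLE U ((f.fiberι y) ⁻¹ᵁ U) le_rfl).hom g * c) :=
    fun hn => hcnil (hreg c hn)
  rw [Scheme.isNilpotent_iff_basicOpen_eq_bot_of_isCompact hWaff.isCompact] at h1
  obtain ⟨w', hw'⟩ : ∃ w', w' ∈ (f.fiber y).basicOpen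
      (((f.fiberι y).appLE U ((f.fiberι y) ⁻¹ᵁ U) le_rfl).hom g * c) := by
    by_contra hcon
    push Not at hcon
    exact h1 (TopologicalSpace.Opens.ext (Set.eq_empty_of_forall_notMem hcon))
  rw [Scheme.basicOpen_mul] at hw'
  have h2 : w' ∈ (f.fiberι y) ⁻¹ᵁ (X.basicOpen g) := by
    rw [← fibre_basicOpen]; exact hw'.1
  exact hgI _ h2 (hOZ (hcO hw'.2))

/-- **Nowhere density on the generic fibre spreads out.** -/
theorem exists_open_isNowhereDense_fiber [LocallyOfFiniteType f] [QuasiCompact f]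
    (Z : Set X) (hZ : IsClosed Z)
    (h : IsNowhereDense ((f.fiberι (genericPoint ↥Y)) ⁻¹' Z)) :
    ∃ V : Y.Opens, (V : Set ↥Y).Nonempty ∧ ∀ y ∈ V, IsNowhereDense ((f.fiberι y) ⁻¹' Z) := by
  let η := genericPoint ↥Y
  obtain ⟨_, ⟨V₀, hV₀, rfl⟩, hηV, -⟩ :=
    Y.isBasis_affineOpens.exists_subset_of_mem_open (Set.mem_univ η) isOpen_univ
  have hV₀ : IsAffineOpen V₀ := hV₀
  have hηV : η ∈ V₀ := hηV
  obtain ⟨s, -, -, hcov, V, hVV₀, hVne, hV⟩ := exists_open_forall_cover f hV₀ hηV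
    (fun U y => ∀ O : (f.fiber y).Opens, O ≤ (f.fiberι y) ⁻¹ᵁ U →
      (O : Set (f.fiber y)) ⊆ (f.fiberι y) ⁻¹' Z → O = ⊥)
    (fun U hU hUV => exists_basicOpen_nowhereDense f hV₀ hηV hU hUV Z hZ h)
  refine ⟨V, hVne, fun y hy => ?_⟩
  have hcl : IsClosed ((f.fiberι y) ⁻¹' Z) := hZ.preimage (f.fiberι y).continuous
  rw [IsNowhereDense, hcl.closure_eq, Set.eq_empty_iff_forall_notMem]
  intro w hw
  obtain ⟨U, hUs, hxU⟩ := hcov (f.fiberι y w) (fiberι_mem_preimage f y (hVV₀ hy) w)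
  let O₀ : (f.fiber y).Opens := ⟨interior ((f.fiberι y) ⁻¹' Z), isOpen_interior⟩
  have := hV y hy U hUs (O₀ ⊓ (f.fiberι y) ⁻¹ᵁ U) inf_le_right
    (fun w' hw' => interior_subset hw'.1)
  have hmem : w ∈ O₀ ⊓ (f.fiberι y) ⁻¹ᵁ (U : X.Opens) := ⟨hw, hxU⟩
  rw [this] at hmem
  exact hmem

end

end Groth.Agent.H20.GenFibre
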