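import Mathlib
import Groth.Agent.H20.GenFibreNowhereDense

/-!
# Images and empty generic fibres

* a closed subset missing the generic fibre misses the preimage of a nonempty open;
* if the generic point is in the image of `f`, so is a nonempty open.
-/

set_option autoImplicit false
set_option linter.style.haveILetI false
set_option linter.unusedSectionVars false
universe u

open TensorProduct CategoryTheory CategoryTheory.Limits AlgebraicGeometry TopologicalSpace

namespace Groth.Agent.H20.GenFibre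

section Alg

/-- **Nontriviality spreads out** (domain case). -/
theorem exists_nontrivial {A B : Type u} [CommRing A] [IsDomain A] [CommRing B] [Algebra A B]
    [Algebra.FiniteType A B] (K : Type u) [Field K] [Algebra A K] [IsFractionRing A K]
    (h : Nontrivial (K ⊗[A] B)) :
    ∃ a : A, a ≠ 0 ∧ ∀ (k : Type u) [Field k] [Algebra A k], algebraMap A k a ≠ 0 →
      Nontrivial (k ⊗[A] B) := by
  have h1 : (1 : K) ⊗ₜ[A] (1 : B) ≠ 0 := by
    rw [← Algebra.TensorProduct.one_def]; exact one_ne_zero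
  have hx : ∀ s : A, s ≠ 0 → s • (1 : B) ≠ 0 := by
    intro s hs h0
    have : s • ((1 : K) ⊗ₜ[A] (1 : B)) = 0 := by
      rw [← TensorProduct.tmul_smul, h0, TensorProduct.tmul_zero]
    exact smul_ne_zero_of_ne_zero K hs h1 this
  obtain ⟨a, ha, hak⟩ := exists_one_tmul_ne_zero (1 : B) hx
  refine ⟨a, ha, fun k _ _ hk => ?_⟩
  exact ⟨⟨_, _, hak k hk⟩⟩

/-- **Nontriviality spreads out** (irreducible base). -/
theorem exists_nontrivial' {A B : Type u} [CommRing A] [CommRing B] [Algebra A B]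
    [Algebra.FiniteType A B] (hnil : (nilradical A).IsPrime) (K : Type u) [Field K]
    [Algebra A K] (hK : IsGenericField A K) (h : Nontrivial (K ⊗[A] B)) :
    ∃ a : A, a ∉ nilradical A ∧ ∀ (k : Type u) [Field k] [Algebra A k], algebraMap A k a ≠ 0 →
      Nontrivial (k ⊗[A] B) := by
  haveI : IsDomain (A ⧸ nilradical A) := Ideal.Quotient.isDomain _
  letI := algebraQuotNil (A := A) K
  haveI := isScalarTower_quotNil (A := A) K
  haveI := isFractionRing_quotNil hnil K hK
  have h' : Nontrivial (K ⊗[A ⧸ nilradical A] ((A ⧸ nilradical A) ⊗[A] B)) := by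
    let e := Algebra.TensorProduct.cancelBaseChange A (A ⧸ nilradical A) K K B
    exact e.toEquiv.nontrivial
  obtain ⟨a₀, ha₀, hk⟩ := exists_nontrivial (A := A ⧸ nilradical A)
    (B := (A ⧸ nilradical A) ⊗[A] B) K h'
  obtain ⟨a, rfl⟩ := Ideal.Quotient.mk_surjective a₀
  refine ⟨a, fun ha => ha₀ (Ideal.Quotient.eq_zero_iff_mem.mpr ha), fun k _ _ hak => ?_⟩
  letI := algebraQuotNil (A := A) k
  haveI := isScalarTower_quotNil (A := A) k
  haveI := hk k hak
  let e := Algebra.TensorProduct.cancelBaseChange A (A ⧸ nilradical A) k k B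
  exact e.symm.toEquiv.nontrivial

end Alg

variable {X Y : Scheme.{u}} (f : X ⟶ Y)

section

variable [IrreducibleSpace ↥Y]

/-- **A closed subset missing the generic fibre misses the preimage of a nonempty open.** -/
theorem exists_open_preimage_disjoint [LocallyOfFiniteType f] [QuasiCompact f]
    (Z : Set X) (hZ : IsClosed Z) (h : ∀ x ∈ Z, f x ≠ genericPoint ↥Y) :
    ∃ V : Y.Opens, (V : Set ↥Y).Nonempty ∧ ∀ x ∈ Z, f x ∉ V := by
  let I := Scheme.IdealSheafData.vanishingIdeal ⟨Z, hZ⟩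
  have hrange : Set.range I.subschemeι = Z := by
    rw [Scheme.IdealSheafData.range_subschemeι]
    exact Scheme.IdealSheafData.coe_support_vanishingIdeal _
  obtain ⟨V, hVne, hV⟩ := exists_open_preimage_subset_closure_fiber (I.subschemeι ≫ f)
  refine ⟨V, hVne, fun x hx hfx => ?_⟩
  obtain ⟨x', rfl⟩ : x ∈ Set.range I.subschemeι := by rw [hrange]; exact hx
  have h1 := hV x' hfx
  have h2 : (I.subschemeι ≫ f) ⁻¹' {genericPoint ↥Y} = ∅ := by
    rw [Set.eq_empty_iff_forall_notMem]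
    intro t ht
    have ht' : f (I.subschemeι t) = genericPoint ↥Y := ht
    exact h (I.subschemeι t) (by rw [← hrange]; exact Set.mem_range_self t) ht'
  rw [h2, closure_empty] at h1
  exact h1

/-- Local form: nonemptiness of the fibres of an affine open spreads out. -/
theorem exists_basicOpen_subset_image [LocallyOfFiniteType f] {V₀ : Y.Opens}
    (hV₀ : IsAffineOpen V₀) (hη : genericPoint ↥Y ∈ V₀) {U : X.Opens} (hU : IsAffineOpen U)
    (hUV : U ≤ f ⁻¹ᵁ V₀) (h : ∃ x ∈ U, f x = genericPoint ↥Y) :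
    ∃ a : Γ(Y, V₀), ¬ IsNilpotent a ∧ ∀ y ∈ Y.basicOpen a, ∃ x ∈ U, f x = y := by
  let η := genericPoint ↥Y
  have hnil := nilradical_isPrime_of_isAffineOpen hV₀ hη
  letI : Algebra Γ(Y, V₀) Γ(X, U) := (f.appLE V₀ U hUV).hom.toAlgebra
  haveI hft : Algebra.FiniteType Γ(Y, V₀) Γ(X, U) :=
    HasRingHomProperty.appLE @LocallyOfFiniteType f inferInstance ⟨V₀, hV₀⟩ ⟨U, hU⟩ hUV
  obtain ⟨a, ha, hak⟩ : ∃ a : Γ(Y, V₀), a ∉ nilradical Γ(Y, V₀) ∧
      ∀ (k : Type u) [Field k] [Algebra Γ(Y, V₀) k], algebraMap Γ(Y, V₀) k a ≠ 0 →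
        Nontrivial (k ⊗[Γ(Y, V₀)] Γ(X, U)) := by
    letI : Algebra Γ(Y, V₀) (Y.residueField η) := (Y.evaluation V₀ η hη).hom.toAlgebra
    have hK : IsGenericField Γ(Y, V₀) (Y.residueField η) := isGenericField_residueField hV₀ hη
    obtain ⟨e, -⟩ := exists_fibre_ringEquiv f η hU hV₀ hUV hη
    refine exists_nontrivial' hnil (Y.residueField η) hK ?_
    obtain ⟨x, hxU, hfx⟩ := h
    obtain ⟨z, rfl⟩ : x ∈ Set.range (f.fiberι η) := by
      rw [f.range_fiberι]; exact hfx
    haveI : Nonempty ↥((f.fiberι η) ⁻¹ᵁ U) := ⟨⟨z, hxU⟩⟩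
    haveI : Nontrivial Γ(f.fiber η, (f.fiberι η) ⁻¹ᵁ U) := inferInstance
    exact e.toEquiv.nontrivial
  refine ⟨a, fun hn => ha (mem_nilradical.mpr hn), fun y hy => ?_⟩
  have hyV : y ∈ V₀ := Y.basicOpen_le a hy
  have hev : Y.evaluation V₀ y hyV a ≠ 0 :=
    (Y.evaluation_ne_zero_iff_mem_basicOpen y hyV a).mpr hy
  letI : Algebra Γ(Y, V₀) (Y.residueField y) := (Y.evaluation V₀ y hyV).hom.toAlgebra
  obtain ⟨e, -⟩ := exists_fibre_ringEquiv f y hU hV₀ hUV hyV
  have hWaff := isAffineOpen_fiberι_preimage f y hU hV₀ hUV hyV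
  haveI := hak (Y.residueField y) hev
  haveI : Nontrivial Γ(f.fiber y, (f.fiberι y) ⁻¹ᵁ U) := e.symm.toEquiv.nontrivial
  obtain ⟨z, hz⟩ : ∃ z, z ∈ (f.fiberι y) ⁻¹ᵁ U := by
    by_contra hcon
    push Not at hcon
    have hbot : (f.fiberι y) ⁻¹ᵁ U = ⊥ :=
      TopologicalSpace.Opens.ext (Set.eq_empty_of_forall_notMem hcon)
    have : Subsingleton Γ(f.fiber y, (f.fiberι y) ⁻¹ᵁ U) := by
      rw [hbot]; infer_instance
    exact not_subsingleton _ this
  refine ⟨f.fiberι y z, hz, ?_⟩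
  have := f.range_fiberι y ▸ Set.mem_range_self z
  exact this

/-- **If the generic point is in the image, so is a nonempty open.** -/
theorem exists_open_subset_range [LocallyOfFiniteType f]
    (h : genericPoint ↥Y ∈ Set.range f) :
    ∃ V : Y.Opens, (V : Set ↥Y).Nonempty ∧ (V : Set ↥Y) ⊆ Set.range f := by
  let η := genericPoint ↥Y
  obtain ⟨x, hfx⟩ := h
  obtain ⟨_, ⟨V₀, hV₀, rfl⟩, hηV, -⟩ :=
    Y.isBasis_affineOpens.exists_subset_of_mem_open (Set.mem_univ η) isOpen_univ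
  have hV₀ : IsAffineOpen V₀ := hV₀
  have hηV : η ∈ V₀ := hηV
  obtain ⟨U, hU, hxU, hUV⟩ := exists_isAffineOpen_mem_and_subset (x := x)
    (U := f ⁻¹ᵁ V₀) (by change f x ∈ V₀; rw [hfx]; exact hηV)
  obtain ⟨a, ha, hay⟩ := exists_basicOpen_subset_image f hV₀ hηV hU hUV ⟨x, hxU, hfx⟩
  refine ⟨Y.basicOpen a, basicOpen_nonempty_of_not_isNilpotent hV₀ a ha, fun y hy => ?_⟩
  obtain ⟨x', -, hx'⟩ := hay y hy
  exact ⟨x', hx'⟩

end

end Groth.Agent.H20.GenFibre
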