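import Mathlib.RingTheory.Smooth.IntegralClosure
import Mathlib.RingTheory.Smooth.Fiber
import Mathlib.RingTheory.Unramified.Field
import Mathlib.RingTheory.Unramified.Finite
import Mathlib.RingTheory.Artinian.Ring
import Mathlib.RingTheory.IntegralClosure.IntegrallyClosed
import Mathlib.RingTheory.Flat.FaithfullyFlat.Algebra
import Mathlib.RingTheory.Localization.BaseChange
import Mathlib.AlgebraicGeometry.Morphisms.Etale
import Mathlib.AlgebraicGeometry.Morphisms.Flat

set_option autoImplicit false
universe u

namespace Groth.Agent.H20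

open TensorProduct IsLocalRing

section Core

variable {A B : Type*} [CommRing A] [CommRing B] [Algebra A B]

/-- An idempotent of a local ring is `0` or `1`. -/
theorem eq_zero_or_eq_one_of_isIdempotentElem_of_isLocalRing [IsLocalRing B] {b : B}
    (hb : IsIdempotentElem b) : b = 0 ∨ b = 1 := by
  have h : b * (1 - b) = 0 := by rw [mul_sub, mul_one, hb.eq, sub_self]
  rcases IsLocalRing.isUnit_or_isUnit_one_sub_self b with hu | hu
  · right
    have := hu.mul_right_eq_zero.mp h
    exact (sub_eq_zero.mp this).symm
  · left
    exact hu.mul_left_eq_zero.mp h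

/-- The core of ascent of normality: if `A` is a normal domain with fraction field `K`, `B` is a
flat local `A`-algebra which is integrally closed in `B ⊗ K` (expressed via bijectivity of
`toIntegralClosure`), and `B ⊗ K` is a reduced Artinian ring, then `B` is a normal domain. -/
theorem isDomain_and_isIntegrallyClosed_of_toIntegralClosure_bijective
    [IsDomain A] [IsIntegrallyClosed A] [IsLocalRing B] [Module.Flat A B]
    (hbij : Function.Bijective (TensorProduct.toIntegralClosure A B (FractionRing A)))
    (hred : IsReduced (B ⊗[A] FractionRing A)) (hart : IsArtinianRing (B ⊗[A] FractionRing A)) :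
    IsDomain B ∧ IsIntegrallyClosed B := by
  classical
  set K := FractionRing A with hK
  set L := B ⊗[A] K with hL
  have hinj : Function.Injective (algebraMap B L) :=
    Algebra.TensorProduct.includeLeft_injective (S := B) (IsFractionRing.injective A K)
  haveI : Nontrivial L := hinj.nontrivial
  -- `B` is integrally closed in `L`
  have hrange : ∀ w : B ⊗[A] integralClosure A K,
      ((TensorProduct.toIntegralClosure A B K w : integralClosure B L) : L) ∈
        (algebraMap B L).range := by
    intro w
    induction w with
    | zero => simp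
    | add x y hx hy =>
      rw [map_add, Subalgebra.coe_add]
      exact add_mem hx hy
    | tmul b y =>
      obtain ⟨a, ha⟩ := IsIntegrallyClosed.isIntegral_iff.mp y.2
      refine ⟨a • b, ?_⟩
      have : ((TensorProduct.toIntegralClosure A B K (b ⊗ₜ y) : integralClosure B L) : L) =
          b ⊗ₜ (y : K) := by
        simp [TensorProduct.toIntegralClosure]
      rw [this, ← ha, Algebra.TensorProduct.algebraMap_apply, Algebra.algebraMap_self,
        RingHom.id_apply, TensorProduct.smul_tmul, Algebra.smul_def, mul_one]
  have hclosed : ∀ {z : L}, IsIntegral B z → ∃ b, algebraMap B L b = z := by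
    intro z hz
    obtain ⟨w, hw⟩ := hbij.2 ⟨z, hz⟩
    obtain ⟨b, hb⟩ := hrange w
    exact ⟨b, by rw [hb, hw]⟩
  -- all maximal ideals of `L` coincide
  have hmax : ∀ m m' : MaximalSpectrum L, m' = m := by
    intro m m'
    set e := (IsArtinianRing.equivPi L).symm (Pi.single m 1) with he
    have heid : IsIdempotentElem e := by
      rw [IsIdempotentElem, he, ← map_mul, ← Pi.single_mul, mul_one]
    have hint : IsIntegral B e := by
      refine ⟨Polynomial.X ^ 2 - Polynomial.X, ?_, ?_⟩
      · exact Polynomial.monic_X_pow_sub (by simp)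
      · simp [pow_two, heid.eq]
    obtain ⟨b, hb⟩ := hclosed hint
    have hbid : IsIdempotentElem b := by
      apply hinj
      rw [map_mul, hb, heid.eq]
    have hne : e ≠ 0 := by
      intro h0
      have : (Pi.single m 1 : ∀ I : MaximalSpectrum L, L ⧸ I.asIdeal) = 0 := by
        have := congrArg (IsArtinianRing.equivPi L) h0
        rwa [he, AlgEquiv.apply_symm_apply, map_zero] at this
      have h1 := congrFun this m
      simp at h1
    rcases eq_zero_or_eq_one_of_isIdempotentElem_of_isLocalRing hbid with h0 | h1
    · exact absurd (by rw [← hb, h0, map_zero]) hne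
    · have he1 : e = 1 := by rw [← hb, h1, map_one]
      have : (Pi.single m 1 : ∀ I : MaximalSpectrum L, L ⧸ I.asIdeal) = 1 := by
        have := congrArg (IsArtinianRing.equivPi L) he1
        rwa [he, AlgEquiv.apply_symm_apply, map_one] at this
      by_contra hmm
      have h1 := congrFun this m'
      rw [Pi.single_eq_of_ne hmm] at h1
      simp at h1
  obtain ⟨m₀, hm₀⟩ := Ideal.exists_maximal L
  haveI : IsLocalRing L := IsLocalRing.of_unique_max_ideal ⟨m₀, hm₀, fun I hI =>
    congrArg MaximalSpectrum.asIdeal (hmax ⟨m₀, hm₀⟩ ⟨I, hI⟩)⟩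
  have hfield : IsField L := IsArtinianRing.isField_of_isReduced_of_isLocalRing L
  letI : Field L := hfield.toField
  haveI : IsDomain B := hinj.isDomain (algebraMap B L)
  haveI : FaithfulSMul B L := (faithfulSMul_iff_algebraMap_injective B L).mpr hinj
  haveI : IsFractionRing B L := by
    refine IsFractionRing.of_field B L fun z => ?_
    obtain ⟨x, s, rfl⟩ := IsLocalization.exists_mk'_eq
      (Algebra.algebraMapSubmonoid B (nonZeroDivisors A)) z
    refine ⟨x, s.1, ?_⟩
    have hs : algebraMap B L s.1 ≠ 0 :=
      (IsLocalization.map_units L s).ne_zero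
    rw [eq_div_iff hs, IsLocalization.mk'_spec]
  refine ⟨inferInstance, (isIntegrallyClosed_iff_isIntegrallyClosedIn L).mpr ?_⟩
  exact isIntegrallyClosedIn_iff.mpr ⟨hinj, hclosed⟩

/-- If `A` is a domain and `B` is a formally unramified `A`-algebra essentially of finite type,
then `B ⊗ Frac A` is a reduced Artinian ring. -/
theorem isReduced_and_isArtinianRing_tensor_fractionRing [IsDomain A]
    [Algebra.FormallyUnramified A B] [Algebra.EssFiniteType A B] :
    IsReduced (B ⊗[A] FractionRing A) ∧ IsArtinianRing (B ⊗[A] FractionRing A) := by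
  set K := FractionRing A
  haveI : IsReduced (K ⊗[A] B) := Algebra.FormallyUnramified.isReduced_of_field K (K ⊗[A] B)
  haveI : Module.Finite K (K ⊗[A] B) := Algebra.FormallyUnramified.finite_of_free K (K ⊗[A] B)
  haveI : IsArtinianRing (K ⊗[A] B) := IsArtinianRing.of_finite K (K ⊗[A] B)
  let e : K ⊗[A] B ≃ₐ[A] B ⊗[A] K := Algebra.TensorProduct.comm A K B
  exact ⟨isReduced_of_injective e.symm.toRingEquiv.toRingHom e.symm.injective,
    e.toRingEquiv.isArtinianRing⟩

end Core

section Localization

open Algebra

variable {R S : Type u} [CommRing R] [CommRing S] [Algebra R S]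

/-- Étale algebras preserve normality of local rings: if `S` is étale over `R`, `q` a prime of `S`
over `p`, and `R_p` is a normal domain, then so is `S_q`. -/
theorem isDomain_and_isIntegrallyClosed_localization_of_etale [Algebra.Etale R S]
    (p : Ideal R) (q : Ideal S) [p.IsPrime] [q.IsPrime] [q.LiesOver p]
    [IsDomain (Localization.AtPrime p)] [IsIntegrallyClosed (Localization.AtPrime p)] :
    IsDomain (Localization.AtPrime q) ∧ IsIntegrallyClosed (Localization.AtPrime q) := by
  let Rp := Localization.AtPrime p
  let Sp := Localization (algebraMapSubmonoid S p.primeCompl)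
  let Sq := Localization.AtPrime q
  let := Localization.AtPrime.algebraOfLiesOver p q
  let f : Sp →ₐ[S] Sq := IsLocalization.liftAlgHom (M := algebraMapSubmonoid S p.primeCompl)
        (f := Algebra.ofId _ _) (by
      rintro ⟨_, x, hx, rfl⟩
      simpa using! IsLocalization.map_units (M := q.primeCompl) Sq ⟨algebraMap _ _ x,
        by simp_all [q.over_def p]⟩)
  algebraize [f.toRingHom]
  have : IsScalarTower R Sp Sq := .to₁₃₄ _ S _ _
  have : IsScalarTower Rp Sp Sq := .of_algebraMap_eq' <| by
    apply IsLocalization.ringHom_ext p.primeCompl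
    simp only [RingHom.comp_assoc, ← IsScalarTower.algebraMap_eq]
  have : IsLocalization (algebraMapSubmonoid Sp q.primeCompl) Sq :=
    .isLocalization_of_submonoid_le _ _ (algebraMapSubmonoid S p.primeCompl) _
    (by rintro _ ⟨x, hx, rfl⟩; simp_all [q.over_def p])
  have : Algebra.IsPushout R Rp S Sp :=
    .symm <| Algebra.isPushout_of_isLocalization p.primeCompl _ _ _
  have : Algebra.Smooth Rp Sp := .of_equiv (Algebra.IsPushout.equiv R Rp S Sp)
  -- properties of `Rp → Sq`
  have : Algebra.FormallyUnramified R Sq := .comp R S Sq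
  have : Algebra.FormallyUnramified Rp Sq := .of_restrictScalars R Rp Sq
  have : Algebra.EssFiniteType S Sq := .of_isLocalization Sq q.primeCompl
  have : Algebra.EssFiniteType R Sq := .comp R S Sq
  have : Algebra.EssFiniteType Rp Sq := .of_comp R Rp Sq
  have : Module.Flat Rp Sp := inferInstance
  have : Module.Flat Sp Sq := IsLocalization.flat Sq (algebraMapSubmonoid Sp q.primeCompl)
  have : Module.Flat Rp Sq := .trans Rp Sp Sq
  obtain ⟨hred, hart⟩ := isReduced_and_isArtinianRing_tensor_fractionRing (A := Rp) (B := Sq)
  refine isDomain_and_isIntegrallyClosed_of_toIntegralClosure_bijective (A := Rp) (B := Sq)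
    ?_ hred hart
  exact TensorProduct.toIntegralClosure_bijective_of_tower (R := Rp) (S := Sp) (T := Sq)
    TensorProduct.toIntegralClosure_bijective_of_smooth
    (TensorProduct.toIntegralClosure_bijective_of_isLocalization
      (algebraMapSubmonoid Sp q.primeCompl))

end Localization

section Descent

variable {A B : Type*} [CommRing A] [CommRing B] [Algebra A B]

/-- Normality descends along faithfully flat ring maps: if `B` is a normal domain, faithfully flat
over `A`, then `A` is a normal domain. -/
theorem isDomain_and_isIntegrallyClosed_of_faithfullyFlat [Module.FaithfullyFlat A B]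
    [IsDomain B] [IsIntegrallyClosed B] : IsDomain A ∧ IsIntegrallyClosed A := by
  have hinj : Function.Injective (algebraMap A B) := FaithfulSMul.algebraMap_injective A B
  haveI : IsDomain A := hinj.isDomain _
  refine ⟨inferInstance, (isIntegrallyClosed_iff (FractionRing A)).mpr ?_⟩
  intro x hx
  let g : A →+* FractionRing B := (algebraMap B (FractionRing B)).comp (algebraMap A B)
  have hg : Function.Injective g := (IsFractionRing.injective B (FractionRing B)).comp hinj
  let φ : FractionRing A →+* FractionRing B := IsFractionRing.lift hg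
  have hφ : ∀ a, φ (algebraMap A (FractionRing A) a) = g a :=
    fun a => IsFractionRing.lift_algebraMap hg a
  -- `φ x` is integral over `B`
  have hint : IsIntegral B (φ x) := by
    obtain ⟨P, hP, hPx⟩ := hx
    refine ⟨P.map (algebraMap A B), hP.map _, ?_⟩
    rw [Polynomial.eval₂_map]
    have : (algebraMap B (FractionRing B)).comp (algebraMap A B) =
        φ.comp (algebraMap A (FractionRing A)) := by
      ext a
      exact (hφ a).symm
    rw [this, ← Polynomial.hom_eval₂, hPx, map_zero]
  obtain ⟨b, hb⟩ := IsIntegrallyClosed.isIntegral_iff.mp hint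
  obtain ⟨a, s, hxas⟩ := IsLocalization.exists_mk'_eq (nonZeroDivisors A) x
  have hs : algebraMap A (FractionRing A) s.1 ≠ 0 :=
    (IsLocalization.map_units (FractionRing A) s).ne_zero
  have h1 : x * algebraMap A (FractionRing A) s.1 = algebraMap A (FractionRing A) a := by
    rw [← hxas]
    exact IsLocalization.mk'_spec (FractionRing A) a s
  have h2 : b * algebraMap A B s.1 = algebraMap A B a := by
    apply IsFractionRing.injective B (FractionRing B)
    have := congrArg φ h1
    rw [map_mul, hφ, hφ, ← hb] at this
    rw [map_mul]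
    exact this
  have h3 : a ∈ Ideal.span {s.1} := by
    rw [← Ideal.comap_map_eq_self_of_faithfullyFlat (B := B) (Ideal.span {s.1}), Ideal.mem_comap,
      Ideal.map_span, Set.image_singleton, Ideal.mem_span_singleton']
    exact ⟨b, h2⟩
  obtain ⟨c, hc⟩ := Ideal.mem_span_singleton'.mp h3
  refine ⟨c, ?_⟩
  apply mul_right_cancel₀ hs
  rw [h1, ← map_mul, hc]

end Descent

section Scheme

open AlgebraicGeometry CategoryTheory

variable {X Y : Scheme.{u}} (f : X ⟶ Y)

/-- Normality of local rings ascends along étale morphisms. -/
theorem isDomain_and_isIntegrallyClosed_stalk_of_etale [Etale f] (x : X)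
    (h : IsDomain (Y.presheaf.stalk (f x)) ∧ IsIntegrallyClosed (Y.presheaf.stalk (f x))) :
    IsDomain (X.presheaf.stalk x) ∧ IsIntegrallyClosed (X.presheaf.stalk x) := by
  have key := HasRingHomProperty.stalkMap_of_respectsIso (P := @Etale) (Q := RingHom.Etale)
    (Q' := fun {R S} _ _ (_ : R →+* S) =>
      (IsDomain R ∧ IsIntegrallyClosed R) → (IsDomain S ∧ IsIntegrallyClosed S))
    ?_ ?_ ‹Etale f› x
  · exact key h
  · constructor
    · intro R S T _ _ _ φ e hφ hR
      obtain ⟨h1, h2⟩ := hφ hR
      exact ⟨MulEquiv.isDomain S e.symm.toMulEquiv, IsIntegrallyClosed.of_equiv e⟩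
    · intro R S T _ _ _ φ e hφ hR
      apply hφ
      obtain ⟨h1, h2⟩ := hR
      exact ⟨MulEquiv.isDomain R e.symm.toMulEquiv, IsIntegrallyClosed.of_equiv e⟩
  · intro R S _ _ φ hφ J hJ hR
    algebraize [φ]
    haveI : J.LiesOver (J.comap φ) := ⟨rfl⟩
    obtain ⟨h1, h2⟩ := hR
    exact isDomain_and_isIntegrallyClosed_localization_of_etale (J.comap φ) J

/-- Étale morphisms preserve and reflect normality of local rings. -/
theorem isDomain_and_isIntegrallyClosed_stalk_iff_of_etale [Etale f] (x : X) :
    (IsDomain (X.presheaf.stalk x) ∧ IsIntegrallyClosed (X.presheaf.stalk x)) ↔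
      (IsDomain (Y.presheaf.stalk (f x)) ∧ IsIntegrallyClosed (Y.presheaf.stalk (f x))) := by
  refine ⟨fun h => ?_, isDomain_and_isIntegrallyClosed_stalk_of_etale f x⟩
  algebraize [(f.stalkMap x).hom]
  have hloc : IsLocalHom (algebraMap (Y.presheaf.stalk (f x)) (X.presheaf.stalk x)) :=
    inferInstanceAs <| IsLocalHom (f.stalkMap x).hom
  have hflat : Module.Flat (Y.presheaf.stalk (f x)) (X.presheaf.stalk x) := by
    have := Flat.stalkMap f x
    rwa [RingHom.flat_algebraMap_iff.symm, RingHom.algebraMap_toAlgebra]
  haveI : Module.FaithfullyFlat (Y.presheaf.stalk (f x)) (X.presheaf.stalk x) :=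
    Module.FaithfullyFlat.of_flat_of_isLocalHom
  obtain ⟨h1, h2⟩ := h
  exact isDomain_and_isIntegrallyClosed_of_faithfullyFlat (A := Y.presheaf.stalk (f x))
    (B := X.presheaf.stalk x)

end Scheme

end Groth.Agent.H20
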