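import Mathlib

set_option autoImplicit false
universe u

open MvPolynomial

namespace Groth.Agent.H20


open Polynomial in
/-- Nakayama/Cayley–Hamilton: if `F ≤ I`, `I` f.g. and `a • I ≤ F ⊔ I ^ 2`, then some `h ≡ a ^ s` mod `I`
multiplies `I` into `F`. -/
theorem exists_mul_le_of_mul_le_sup_sq {S : Type u} [CommRing S] (F I : Ideal S) (hFI : F ≤ I)
    (hfg : I.FG) (a : S) (ha : ∀ x ∈ I, a * x ∈ F ⊔ I ^ 2) :
    ∃ (h : S) (s : ℕ), (∀ x ∈ I, h * x ∈ F) ∧ h - a ^ s ∈ I := by
  classical
  let Q := S ⧸ F
  let π : S →+* Q := Ideal.Quotient.mk F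
  have hπ : Function.Surjective π := Ideal.Quotient.mk_surjective
  let Ibar : Ideal Q := I.map π
  have hIbar_fg : Ibar.FG := hfg.map π
  have : Module.Finite Q Ibar := Module.Finite.iff_fg.2 hIbar_fg
  let f : Module.End Q Ibar := algebraMap Q (Module.End Q Ibar) (π a)
  have hf : LinearMap.range f ≤ Ibar • (⊤ : Submodule Q Ibar) := by
    rintro _ ⟨x, rfl⟩
    have hx : (x : Q) ∈ Ibar := x.2
    obtain ⟨x0, hx0, hx0'⟩ := (Ideal.mem_map_iff_of_surjective π hπ).1 hx
    have h1 : π (a * x0) ∈ Ibar * Ibar := by
      have h2 := ha x0 hx0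
      have h3 : π (a * x0) ∈ (F ⊔ I ^ 2).map π := Ideal.mem_map_of_mem π h2
      rw [Ideal.map_sup, Ideal.map_pow, pow_two] at h3
      have h4 : F.map π = ⊥ := by
        rw [Ideal.map_eq_bot_iff_le_ker, Ideal.mk_ker]
      rw [h4, bot_sup_eq] at h3
      exact h3
    have h5 : ((f x : Ibar) : Q) = π (a * x0) := by
      change ((π a • x : Ibar) : Q) = _
      rw [map_mul, hx0']
      rfl
    have h6 : (Ibar • (⊤ : Submodule Q Ibar)).map Ibar.subtype = Ibar * Ibar := by
      rw [Submodule.map_smul'', Submodule.map_top, Submodule.range_subtype]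
      rfl
    have h7 : ((f x : Ibar) : Q) ∈ (Ibar • (⊤ : Submodule Q Ibar)).map Ibar.subtype := by
      rw [h6, h5]; exact h1
    obtain ⟨y, hy, hy'⟩ := h7
    have : y = f x := Subtype.ext hy'
    rw [← this]; exact hy
  obtain ⟨p, hmonic, -, hcoeff, hp⟩ :=
    LinearMap.exists_monic_and_natDegree_eq_and_coeff_mem_pow_and_aeval_eq_zero Q f Ibar hf
  set d := p.natDegree with hd
  let hbar : Q := p.eval (π a)
  have hp' : ∀ x : Ibar, hbar • x = 0 := by
    intro x
    have h1 : Polynomial.aeval f p = algebraMap Q (Module.End Q Ibar) hbar := by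
      change Polynomial.aeval (algebraMap Q (Module.End Q Ibar) (π a)) p = _
      rw [Polynomial.aeval_algebraMap_apply]
      rfl
    have h2 := LinearMap.congr_fun hp x
    rw [h1] at h2
    exact h2
  have hsub : hbar - π a ^ d ∈ Ibar := by
    change p.eval (π a) - π a ^ d ∈ Ibar
    rw [Polynomial.eval_eq_sum_range, Finset.sum_range_succ, ← hd, hmonic.coeff_natDegree,
      one_mul, add_sub_cancel_right]
    apply Ideal.sum_mem
    intro k hk
    apply Ideal.mul_mem_right
    have := hcoeff k
    have hk' : d - k ≠ 0 := by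
      have := Finset.mem_range.1 hk
      omega
    exact Ideal.pow_le_self hk' this
  obtain ⟨h, hh⟩ := hπ hbar
  refine ⟨h, d, ?_, ?_⟩
  · intro x hx
    rw [← Ideal.Quotient.eq_zero_iff_mem]
    change π (h * x) = 0
    rw [map_mul, hh]
    have := hp' ⟨π x, Ideal.mem_map_of_mem π hx⟩
    exact congrArg Subtype.val this
  · have h1 : π (h - a ^ d) ∈ Ibar := by
      rw [map_sub, map_pow, hh]; exact hsub
    obtain ⟨y, hy, hy'⟩ := (Ideal.mem_map_iff_of_surjective π hπ).1 h1
    have h2 : y - (h - a ^ d) ∈ F := by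
      rw [← Ideal.Quotient.eq_zero_iff_mem]
      change π (y - (h - a ^ d)) = 0
      rw [map_sub, hy', sub_self]
    have h3 : h - a ^ d = y - (y - (h - a ^ d)) := by ring
    rw [h3]
    exact I.sub_mem hy (hFI h2)


variable {R A : Type u} [CommRing R] [CommRing A] [Algebra R A]

section
variable {n c : ℕ} (f : Fin c → MvPolynomial (Fin n) R) (g : MvPolynomial (Fin n) R)

/-- the relations of the new presentation -/
noncomputable def relV : Fin c ⊕ Unit → MvPolynomial (Fin n ⊕ Unit) R :=
  Sum.elim (fun j => rename Sum.inl (f j)) (fun _ => X (Sum.inr ()) * rename Sum.inl g - 1)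

variable (hom : MvPolynomial (Fin n) R →ₐ[R] A) (a : A) (k : ℕ) (hg : hom g = a ^ k)

include hg in
lemma isUnit_hom_g : IsUnit (algebraMap A (Localization.Away a) (hom g)) := by
  rw [hg, map_pow]
  exact (IsLocalization.Away.algebraMap_isUnit a).pow k

/-- the map from the polynomial ring to the localization -/
noncomputable def psi : MvPolynomial (Fin n ⊕ Unit) R →ₐ[R] Localization.Away a :=
  aeval (Sum.elim (fun i => algebraMap A (Localization.Away a) (hom (X i)))
    (fun _ => ((isUnit_hom_g g hom a k hg).unit⁻¹ : (Localization.Away a)ˣ)))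

lemma psi_rename (p : MvPolynomial (Fin n) R) :
    psi g hom a k hg (rename Sum.inl p) = algebraMap A (Localization.Away a) (hom p) := by
  have : (psi g hom a k hg).comp (rename Sum.inl) =
      (IsScalarTower.toAlgHom R A (Localization.Away a)).comp hom := by
    apply MvPolynomial.algHom_ext
    intro i
    simp [psi]
  exact congrArg (fun φ => φ p) this

lemma psi_X_inr : psi g hom a k hg (X (Sum.inr ())) =
    ((isUnit_hom_g g hom a k hg).unit⁻¹ : (Localization.Away a)ˣ) := by
  simp [psi]

variable (hf : ∀ j, hom (f j) = 0)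

include hf in
lemma psi_relV (i : Fin c ⊕ Unit) : psi g hom a k hg (relV f g i) = 0 := by
  rcases i with j | _
  · change psi g hom a k hg (rename Sum.inl (f j)) = 0
    rw [psi_rename, hf, map_zero]
  · change psi g hom a k hg (X (Sum.inr ()) * rename Sum.inl g - 1) = 0
    rw [map_sub, map_mul, psi_rename, psi_X_inr, map_one]
    have := (isUnit_hom_g g hom a k hg).unit.inv_mul
    rw [IsUnit.unit_spec] at this
    rw [sub_eq_zero]
    exact this


/-- the new presented algebra -/
abbrev QB : Type u := MvPolynomial (Fin n ⊕ Unit) R ⧸ Ideal.span (Set.range (relV f g))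

include hf in
lemma span_le_ker_psi : Ideal.span (Set.range (relV f g)) ≤ RingHom.ker (psi g hom a k hg).toRingHom := by
  rw [Ideal.span_le]
  rintro _ ⟨i, rfl⟩
  exact psi_relV f g hom a k hg hf i

/-- `QB → A_a` -/
noncomputable def toAway : QB f g →ₐ[R] Localization.Away a :=
  Ideal.Quotient.liftₐ _ (psi g hom a k hg) (fun x hx => span_le_ker_psi f g hom a k hg hf hx)

lemma mk_y_mul : (Ideal.Quotient.mk (Ideal.span (Set.range (relV f g))) (X (Sum.inr ()))) *
    (Ideal.Quotient.mk (Ideal.span (Set.range (relV f g))) (rename Sum.inl g)) = 1 := by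
  rw [← map_mul, ← sub_eq_zero, ← map_one (Ideal.Quotient.mk _), ← map_sub,
    Ideal.Quotient.eq_zero_iff_mem]
  exact Ideal.subset_span ⟨Sum.inr (), rfl⟩

variable (hgker : ∀ p, hom p = 0 → g * p ∈ Ideal.span (Set.range f))

include hgker in
lemma mk_rename_eq_zero (p : MvPolynomial (Fin n) R) (hp : hom p = 0) :
    Ideal.Quotient.mk (Ideal.span (Set.range (relV f g))) (rename Sum.inl p) = 0 := by
  have h1 : Ideal.Quotient.mk (Ideal.span (Set.range (relV f g))) (rename Sum.inl (g * p)) = 0 := by
    rw [Ideal.Quotient.eq_zero_iff_mem]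
    have h2 : (Ideal.span (Set.range f)).map (rename (R := R) (Sum.inl : Fin n → Fin n ⊕ Unit)).toRingHom ≤
        Ideal.span (Set.range (relV f g)) := by
      rw [Ideal.map_span, Ideal.span_le]
      rintro _ ⟨_, ⟨j, rfl⟩, rfl⟩
      exact Ideal.subset_span ⟨Sum.inl j, rfl⟩
    exact h2 (Ideal.mem_map_of_mem _ (hgker p hp))
  rw [map_mul, map_mul] at h1
  have h3 := congrArg (fun z => Ideal.Quotient.mk (Ideal.span (Set.range (relV f g))) (X (Sum.inr ())) * z) h1
  simp only [mul_zero] at h3
  rw [← mul_assoc, mk_y_mul, one_mul] at h3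
  exact h3


variable (surj : Function.Surjective hom)

/-- `A → QB` -/
noncomputable def fromA : A →ₐ[R] QB f g :=
  (Ideal.Quotient.liftₐ (RingHom.ker hom.toRingHom)
    ((Ideal.Quotient.mkₐ R (Ideal.span (Set.range (relV f g)))).comp (rename Sum.inl))
    (fun p hp => mk_rename_eq_zero f g hom hgker p ((RingHom.mem_ker).1 hp))).comp
    (Ideal.quotientKerAlgEquivOfSurjective surj).symm.toAlgHom

lemma fromA_hom (p : MvPolynomial (Fin n) R) :
    fromA f g hom hgker surj (hom p) =
      Ideal.Quotient.mk (Ideal.span (Set.range (relV f g))) (rename Sum.inl p) := by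
  have h1 : (Ideal.quotientKerAlgEquivOfSurjective surj).symm (hom p) =
      Ideal.Quotient.mk (RingHom.ker hom.toRingHom) p := by
    rw [AlgEquiv.symm_apply_eq]
    rfl
  unfold fromA
  rw [AlgHom.comp_apply]
  change (Ideal.Quotient.liftₐ (RingHom.ker hom.toRingHom)
        ((Ideal.Quotient.mkₐ R (Ideal.span (Set.range (relV f g)))).comp (rename Sum.inl)) _)
      ((Ideal.quotientKerAlgEquivOfSurjective surj).symm (hom p)) = _
  rw [h1]
  rfl

include hg in
lemma isUnit_fromA_a (hk : k ≠ 0) : IsUnit (fromA f g hom hgker surj a) := by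
  have h1 : IsUnit (fromA f g hom hgker surj (hom g)) := by
    rw [fromA_hom]
    exact IsUnit.of_mul_eq_one _ (by rw [mul_comm]; exact mk_y_mul f g)
  rw [hg, map_pow] at h1
  exact (isUnit_pow_iff hk).1 h1

/-- `A_a → QB` -/
noncomputable def fromAway (hk : k ≠ 0) : Localization.Away a →ₐ[R] QB f g :=
  IsLocalization.Away.liftAlgHom (S := Localization.Away a) a (f := fromA f g hom hgker surj)
    (isUnit_fromA_a f g hom a k hg hgker surj hk)

lemma fromAway_algebraMap (hk : k ≠ 0) (x : A) :
    fromAway f g hom a k hg hgker surj hk (algebraMap A (Localization.Away a) x) =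
      fromA f g hom hgker surj x := by
  unfold fromAway
  rw [IsLocalization.Away.liftAlgHom_apply, IsLocalization.Away.lift_eq]
  rfl

lemma toAway_mk (p : MvPolynomial (Fin n ⊕ Unit) R) :
    toAway f g hom a k hg hf (Ideal.Quotient.mk _ p) = psi g hom a k hg p := rfl

lemma toAway_comp_fromAway (hk : k ≠ 0) :
    (toAway f g hom a k hg hf).comp (fromAway f g hom a k hg hgker surj hk) = AlgHom.id R _ := by
  apply IsLocalization.algHom_ext (Submonoid.powers a)
  ext x
  obtain ⟨p, rfl⟩ := surj x
  change toAway f g hom a k hg hf (fromAway f g hom a k hg hgker surj hk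
    (algebraMap A (Localization.Away a) (hom p))) = algebraMap A (Localization.Away a) (hom p)
  rw [fromAway_algebraMap, fromA_hom, toAway_mk, psi_rename]


lemma fromAway_comp_toAway (hk : k ≠ 0) :
    (fromAway f g hom a k hg hgker surj hk).comp (toAway f g hom a k hg hf) = AlgHom.id R _ := by
  apply Ideal.Quotient.algHom_ext
  apply MvPolynomial.algHom_ext
  rintro (i | _)
  · change fromAway f g hom a k hg hgker surj hk (toAway f g hom a k hg hf
      (Ideal.Quotient.mk _ (X (Sum.inl i)))) = Ideal.Quotient.mk _ (X (Sum.inl i))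
    rw [toAway_mk, ← rename_X (Sum.inl : Fin n → Fin n ⊕ Unit) i, psi_rename,
      fromAway_algebraMap, fromA_hom]
  · change fromAway f g hom a k hg hgker surj hk (toAway f g hom a k hg hf
      (Ideal.Quotient.mk _ (X (Sum.inr ())))) = Ideal.Quotient.mk _ (X (Sum.inr ()))
    rw [toAway_mk, psi_X_inr]
    have h1 : fromAway f g hom a k hg hgker surj hk
        (algebraMap A (Localization.Away a) (hom g)) =
        Ideal.Quotient.mk _ (rename Sum.inl g) := by
      rw [fromAway_algebraMap, fromA_hom]
    have h2 : fromAway f g hom a k hg hgker surj hk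
        (((isUnit_hom_g g hom a k hg).unit⁻¹ : (Localization.Away a)ˣ) : Localization.Away a) *
        fromAway f g hom a k hg hgker surj hk (algebraMap A (Localization.Away a) (hom g)) = 1 := by
      rw [← map_mul]
      have := (isUnit_hom_g g hom a k hg).unit.inv_mul
      rw [IsUnit.unit_spec] at this
      rw [← map_one (fromAway f g hom a k hg hgker surj hk)]
      exact congrArg _ this
    rw [h1] at h2
    have h3 := mk_y_mul f g
    have hu : IsUnit (Ideal.Quotient.mk (Ideal.span (Set.range (relV f g))) (rename Sum.inl g)) :=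
      IsUnit.of_mul_eq_one _ (by rw [mul_comm]; exact h3)
    exact hu.mul_right_cancel (h2.trans h3.symm)

/-- the equivalence -/
noncomputable def equivAway (hk : k ≠ 0) : QB f g ≃ₐ[R] Localization.Away a :=
  AlgEquiv.ofAlgHom (toAway f g hom a k hg hf) (fromAway f g hom a k hg hgker surj hk)
    (toAway_comp_fromAway f g hom a k hg hf hgker surj hk)
    (fromAway_comp_toAway f g hom a k hg hf hgker surj hk)


section jac

variable (cols : Fin c → Fin n) (hcols : Function.Injective cols)

omit [CommRing A] [Algebra R A] in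
lemma pderiv_inr_rename_inl (p : MvPolynomial (Fin n) R) :
    pderiv (Sum.inr () : Fin n ⊕ Unit) (rename Sum.inl p) = 0 := by
  induction p using MvPolynomial.induction_on with
  | C r => simp
  | add p q hp hq => simp [hp, hq]
  | mul_X p i hp =>
    rw [map_mul, Derivation.leibniz, hp, rename_X, pderiv_X_of_ne (by simp)]
    simp

include hcols in
lemma sumMap_injective : Function.Injective (Sum.map cols (id : Unit → Unit)) :=
  Function.Injective.sumMap hcols Function.injective_id

/-- the pre-submersive presentation of `QB` -/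
noncomputable def preSub : Algebra.PreSubmersivePresentation R (QB f g) (Fin n ⊕ Unit) (Fin c ⊕ Unit) :=
  Algebra.PreSubmersivePresentation.naive (v := relV f g) (Sum.map cols id) (sumMap_injective cols hcols)

lemma preSub_jacobiMatrix (i j : Fin c ⊕ Unit) :
    (preSub f g cols hcols).jacobiMatrix i j = pderiv (Sum.map cols id i) (relV f g j) :=
  Algebra.PreSubmersivePresentation.jacobiMatrix_naive _ _ _ _ i j

lemma preSub_jacobiMatrix_det :
    (preSub f g cols hcols).jacobiMatrix.det =
      rename Sum.inl (Matrix.det (Matrix.of fun j k' : Fin c => pderiv (cols k') (f j))) *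
        rename Sum.inl g := by
  rw [← Matrix.fromBlocks_toBlocks (preSub f g cols hcols).jacobiMatrix]
  have h21 : (preSub f g cols hcols).jacobiMatrix.toBlocks₂₁ = 0 := by
    refine Matrix.ext fun i j => ?_
    rw [Matrix.toBlocks₂₁, Matrix.of_apply, preSub_jacobiMatrix]
    exact pderiv_inr_rename_inl (f j)
  rw [h21, Matrix.det_fromBlocks_zero₂₁]
  congr 1
  · have h11 : (preSub f g cols hcols).jacobiMatrix.toBlocks₁₁ =
        Matrix.transpose ((rename (R := R) (Sum.inl : Fin n → Fin n ⊕ Unit)).toRingHom.mapMatrix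
          (Matrix.of fun j k' : Fin c => pderiv (cols k') (f j))) := by
      refine Matrix.ext fun i j => ?_
      rw [Matrix.toBlocks₁₁, Matrix.of_apply, preSub_jacobiMatrix]
      change pderiv (Sum.inl (cols i)) (rename Sum.inl (f j)) = rename Sum.inl (pderiv (cols i) (f j))
      exact pderiv_rename Sum.inl_injective _ _
    rw [h11, Matrix.det_transpose, ← RingHom.map_det]
    rfl
  · rw [Matrix.det_unique, Matrix.toBlocks₂₂, Matrix.of_apply, preSub_jacobiMatrix]
    change pderiv (Sum.inr ()) (X (Sum.inr ()) * rename Sum.inl g - 1) = _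
    rw [map_sub, Derivation.leibniz, pderiv_inr_rename_inl, pderiv_X_self]
    simp


include hf hgker surj hg hcols in
theorem isStandardSmooth_away_of_presentation (hk : k ≠ 0)
    (hΔ : IsUnit (algebraMap A (Localization.Away a)
      (hom (Matrix.det (Matrix.of fun j k' : Fin c => pderiv (cols k') (f j)))))) :
    Algebra.IsStandardSmooth R (Localization.Away a) := by
  have hjac : IsUnit (preSub f g cols hcols).jacobian := by
    rw [(preSub f g cols hcols).jacobian_eq_jacobiMatrix_det, preSub_jacobiMatrix_det]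
    have hmk : ∀ x : MvPolynomial (Fin n ⊕ Unit) R,
        algebraMap (preSub f g cols hcols).Ring (QB f g) x = Ideal.Quotient.mk _ x := by
      intro x
      rfl
    rw [hmk]
    apply (isUnit_map_iff (equivAway f g hom a k hg hf hgker surj hk) _).1
    change IsUnit (psi g hom a k hg (rename Sum.inl _ * rename Sum.inl g))
    rw [map_mul, psi_rename, psi_rename]
    exact hΔ.mul (isUnit_hom_g g hom a k hg)
  let SP : Algebra.SubmersivePresentation R (QB f g) (Fin n ⊕ Unit) (Fin c ⊕ Unit) :=
    { toPreSubmersivePresentation := preSub f g cols hcols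
      jacobian_isUnit := hjac }
  exact (SP.ofAlgEquiv (equivAway f g hom a k hg hf hgker surj hk)).isStandardSmooth

end jac

end

end Groth.Agent.H20
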