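import Groth.Prelude.Def_FSch3
import Mathlib.RingTheory.AdicCompletion.Algebra
import Mathlib.RingTheory.LocalRing.ResidueField.Basic

set_option autoImplicit false
universe u

namespace Groth.Agent.H20

section

variable {S T : Type u} [CommRing S] [CommRing T] (I : Ideal S) (K : Ideal T) (g : S →+* T)

lemma evalₐ_complMap (h : I.map g ≤ K) (n : ℕ) (x : AdicCompletion I S) :
    AdicCompletion.evalₐ K n (FSch.complMap I K g h x) =
      Ideal.quotientMap (K ^ n) g (FSch.pow_le_comap_pow_of_map_le I K g h n)
        (AdicCompletion.evalₐ I n x) := by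
  have h1 := RingHom.congr_fun (AdicCompletion.evalₐ_comp_liftRingHom K
    (fun n => (Ideal.quotientMap (K ^ n) g (FSch.pow_le_comap_pow_of_map_le I K g h n)).comp
      (AdicCompletion.evalₐ I n).toRingHom) (by
      intro m n hle
      apply RingHom.ext
      intro x
      obtain ⟨y, rfl⟩ := AdicCompletion.mk_surjective I S x
      simp only [RingHom.coe_comp, Function.comp_apply, AlgHom.toRingHom_eq_coe,
        AlgHom.coe_toRingHom, AdicCompletion.evalₐ_mk, Ideal.quotientMap_mk,
        Ideal.Quotient.factorPow, Ideal.Quotient.factor_mk]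
      rw [Ideal.Quotient.eq]
      have hy := y.2 hle
      rw [SModEq.sub_mem] at hy
      simp only [smul_eq_mul, Ideal.mul_top] at hy
      rw [← map_sub]
      have hy' : (y : ℕ → S) n - (y : ℕ → S) m ∈ I ^ m := by
        rw [← neg_sub]; exact (I ^ m).neg_mem hy
      exact FSch.pow_le_comap_pow_of_map_le I K g h m hy') n) x
  exact h1

lemma complMap_of (h : I.map g ≤ K) (x : S) :
    FSch.complMap I K g h (AdicCompletion.of I S x) = AdicCompletion.of K T (g x) := by
  apply AdicCompletion.ext_evalₐ
  intro n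
  rw [evalₐ_complMap, AdicCompletion.evalₐ_of, AdicCompletion.evalₐ_of, Ideal.quotientMap_mk]

end

section Comp

variable {S T U : Type u} [CommRing S] [CommRing T] [CommRing U]
  (I : Ideal S) (K : Ideal T) (L : Ideal U) (g : S →+* T) (g' : T →+* U)

lemma complMap_comp_eq (g'' : S →+* U) (hg : g'.comp g = g'') (h : I.map g ≤ K)
    (h' : K.map g' ≤ L) (h'' : I.map g'' ≤ L) (x : AdicCompletion I S) :
    FSch.complMap K L g' h' (FSch.complMap I K g h x) = FSch.complMap I L g'' h'' x := by
  subst hg
  apply AdicCompletion.ext_evalₐ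
  intro n
  rw [evalₐ_complMap, evalₐ_complMap, evalₐ_complMap]
  obtain ⟨y, hy⟩ := Ideal.Quotient.mk_surjective (AdicCompletion.evalₐ I n x)
  rw [← hy, Ideal.quotientMap_mk, Ideal.quotientMap_mk, Ideal.quotientMap_mk]
  rfl

end Comp

end Groth.Agent.H20
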