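import Mathlib

set_option autoImplicit false
universe u

open IsLocalRing

namespace Groth.Agent.H20


/-- A field of characteristic zero is formally smooth over `ℚ`. -/
lemma formallySmooth_rat (κ : Type u) [Field κ] [CharZero κ] : Algebra.FormallySmooth ℚ κ := by
  obtain ⟨s, hs⟩ := exists_isTranscendenceBasis ℚ κ
  have halg : Algebra.IsAlgebraic (IntermediateField.adjoin ℚ (Set.range ((↑) : s → κ))) κ := by
    have := hs.isAlgebraic_field
    exact this
  have : Algebra.IsSeparable (IntermediateField.adjoin ℚ (Set.range ((↑) : s → κ))) κ :=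
    Algebra.IsAlgebraic.isSeparable_of_perfectField
  exact Algebra.FormallySmooth.of_algebraicIndependent_of_isSeparable hs.1

theorem coeffField (R : Type u) [CommRing R] [IsLocalRing R]
    [IsAdicComplete (IsLocalRing.maximalIdeal R) R] [CharZero (IsLocalRing.ResidueField R)] :
    ∃ s : IsLocalRing.ResidueField R →+* R, (IsLocalRing.residue R).comp s = RingHom.id _ := by
  have hunit : ∀ y : nonZeroDivisors ℤ, IsUnit (Int.castRingHom R y) := by
    intro y
    have hy : (y : ℤ) ≠ 0 := nonZeroDivisors.ne_zero y.2
    by_contra hnu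
    have hm : Int.castRingHom R y ∈ maximalIdeal R := (mem_maximalIdeal _).2 hnu
    have h0 : residue R (Int.castRingHom R y) = 0 := (residue_eq_zero_iff _).2 hm
    have h1 : ((y : ℤ) : ResidueField R) = 0 := by
      rw [← h0]; simp
    exact hy (by exact_mod_cast h1)
  let φ : ℚ →+* R := IsLocalization.lift (M := nonZeroDivisors ℤ) (g := Int.castRingHom R) hunit
  let _ : Algebra ℚ R := φ.toAlgebra
  have := formallySmooth_rat (ResidueField R)
  let f : ResidueField R →ₐ[ℚ] R ⧸ maximalIdeal R :=
    { toRingHom := RingHom.id _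
      commutes' := fun r => by
        exact RingHom.congr_fun (RingHom.ext_rat ((RingHom.id _).comp (algebraMap ℚ (ResidueField R)))
          (algebraMap ℚ (R ⧸ maximalIdeal R))) r }
  obtain ⟨g, hg⟩ := Algebra.FormallySmooth.exists_mkₐ_comp_eq_of_isAdicComplete f
  refine ⟨g.toRingHom, ?_⟩
  ext x
  exact congrArg (fun h => h x) hg

end Groth.Agent.H20
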