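import Groth.Agent.H20.EtaleStalk
import Mathlib.RingTheory.Ideal.Cotangent
import Mathlib.Algebra.Module.SpanRankOperations
import Mathlib.RingTheory.Flat.FaithfullyFlat.Algebra
import Mathlib.LinearAlgebra.LinearIndependent.Lemmas

set_option autoImplicit false
universe u

namespace Groth.Agent.H20

open IsLocalRing

section Algebra

variable {A B : Type*} [CommRing A] [CommRing B] [Algebra A B]
variable [IsLocalRing A] [IsLocalRing B] [IsLocalHom (algebraMap A B)]

/-- For a flat local homomorphism of Noetherian local rings with `𝔪_A B = 𝔪_B`, the maximal ideal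
of `A` needs at most as many generators as that of `B`. -/
theorem spanFinrank_maximalIdeal_le_of_flat [IsNoetherianRing A] [IsNoetherianRing B]
    [Module.Flat A B] (h : (maximalIdeal A).map (algebraMap A B) = maximalIdeal B) :
    (maximalIdeal A).spanFinrank ≤ (maximalIdeal B).spanFinrank := by
  classical
  haveI : Module.FaithfullyFlat A B := Module.FaithfullyFlat.of_flat_of_isLocalHom
  obtain ⟨s, hs⟩ := (maximalIdeal A).fg_of_isNoetherianRing
  have hsm : ∀ a ∈ s, algebraMap A B a ∈ maximalIdeal B := fun a ha => by
    rw [← h]
    exact Ideal.mem_map_of_mem _ (hs ▸ Ideal.subset_span ha)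
  -- the images in the cotangent space of `B`
  let g : {a // a ∈ s} → maximalIdeal B := fun a => ⟨algebraMap A B a.1, hsm a.1 a.2⟩
  let c : {a // a ∈ s} → CotangentSpace B := fun a => (maximalIdeal B).toCotangent (g a)
  have key : ∀ t : Set {a // a ∈ s},
      Submodule.span (ResidueField B) (c '' t) = ⊤ →
        Ideal.span ((fun a : {a // a ∈ s} => a.1) '' t) = maximalIdeal A := by
    intro t ht
    have h1 : Submodule.span B (g '' t) = ⊤ := by
      rw [← CotangentSpace.span_image_eq_top_iff, ← Set.image_comp]
      exact ht
    have h2 : Ideal.span ((fun a : {a // a ∈ s} => algebraMap A B a.1) '' t) = maximalIdeal B := by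
      have := congrArg (Submodule.map (maximalIdeal B).subtype) h1
      rw [Submodule.map_span, Submodule.map_top, Submodule.range_subtype, ← Set.image_comp] at this
      exact this
    have h3 : (Ideal.span ((fun a : {a // a ∈ s} => a.1) '' t)).map (algebraMap A B) =
        (maximalIdeal A).map (algebraMap A B) := by
      rw [Ideal.map_span, ← Set.image_comp, h]
      exact h2
    rw [← Ideal.comap_map_eq_self_of_faithfullyFlat (B := B)
      (Ideal.span ((fun a : {a // a ∈ s} => a.1) '' t)), h3,
      Ideal.comap_map_eq_self_of_faithfullyFlat]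
  have htop : Submodule.span (ResidueField B) (c '' Set.univ) = ⊤ := by
    have hcg : c '' Set.univ = (maximalIdeal B).toCotangent '' (g '' Set.univ) := by
      rw [← Set.image_comp]; rfl
    rw [hcg, CotangentSpace.span_image_eq_top_iff]
    have himg : (maximalIdeal B).subtype '' (g '' Set.univ) = algebraMap A B '' (s : Set A) := by
      ext b
      simp only [Set.image_univ, Set.mem_image, Set.mem_range, Submodule.coe_subtype,
        Finset.mem_coe]
      constructor
      · rintro ⟨_, ⟨a, rfl⟩, rfl⟩
        exact ⟨a.1, a.2, rfl⟩
      · rintro ⟨a, ha, rfl⟩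
        exact ⟨_, ⟨⟨a, ha⟩, rfl⟩, rfl⟩
    have : Submodule.map (maximalIdeal B).subtype (Submodule.span B (g '' Set.univ)) =
        Submodule.map (maximalIdeal B).subtype ⊤ := by
      rw [Submodule.map_span, Submodule.map_top, Submodule.range_subtype, himg]
      have h' := h
      rw [← hs, Ideal.map_span] at h'
      exact h'
    exact Submodule.map_injective_of_injective (maximalIdeal B).injective_subtype this
  obtain ⟨b, hbsub, hbspan, hbli⟩ := exists_linearIndependent (ResidueField B) (c '' Set.univ)
  rw [htop] at hbspan
  -- choose preimages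
  have hpre : ∀ v : b, ∃ a : {a // a ∈ s}, c a = v.1 := fun v => by
    obtain ⟨a, -, ha⟩ := hbsub v.2
    exact ⟨a, ha⟩
  choose σ hσ using hpre
  let t : Set {a // a ∈ s} := Set.range σ
  have ht : Submodule.span (ResidueField B) (c '' t) = ⊤ := by
    rw [← top_le_iff, ← hbspan]
    apply Submodule.span_mono
    intro v hv
    exact ⟨σ ⟨v, hv⟩, ⟨_, rfl⟩, hσ ⟨v, hv⟩⟩
  have hmA := key t ht
  have hbfin : b.Finite := (Set.toFinite (c '' Set.univ)).subset hbsub
  haveI : Fintype b := hbfin.fintype
  have hcard : Fintype.card b = Module.finrank (ResidueField B) (CotangentSpace B) := by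
    have := (Module.finrank_eq_card_basis (Module.Basis.mk hbli (by
      rw [Subtype.range_coe_subtype, Set.setOf_mem_eq]; exact hbspan.ge)))
    exact this.symm
  calc (maximalIdeal A).spanFinrank
      = (Ideal.span ((fun a : {a // a ∈ s} => a.1) '' t)).spanFinrank := by rw [hmA]
    _ ≤ ((fun a : {a // a ∈ s} => a.1) '' t).ncard :=
        Submodule.spanFinrank_span_le_ncard_of_finite ((Set.finite_range σ).image _)
    _ ≤ t.ncard := Set.ncard_image_le (Set.finite_range σ)
    _ ≤ Fintype.card b := by
        have h1 : t.ncard ≤ (Set.univ : Set b).ncard := by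
          have : t = σ '' Set.univ := by simp [t]
          rw [this]
          exact Set.ncard_image_le Set.finite_univ
        rw [Set.ncard_univ, Nat.card_eq_fintype_card] at h1
        exact h1
    _ = (maximalIdeal B).spanFinrank := by
        rw [hcard, spanFinrank_maximalIdeal_eq_finrank_cotangentSpace]

/-- For a flat local homomorphism of Noetherian local rings with `𝔪_A B = 𝔪_B`,
`B` is regular iff `A` is. -/
theorem isRegularLocalRing_iff_of_flat_of_map_maximalIdeal [IsNoetherianRing A]
    [IsNoetherianRing B] [Module.Flat A B]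
    (h : (maximalIdeal A).map (algebraMap A B) = maximalIdeal B) :
    IsRegularLocalRing B ↔ IsRegularLocalRing A := by
  have hdim : ringKrullDim B = ringKrullDim A := ringKrullDim_eq_of_flat_of_map_maximalIdeal h
  have h1 : (maximalIdeal A).spanFinrank ≤ (maximalIdeal B).spanFinrank :=
    spanFinrank_maximalIdeal_le_of_flat h
  have h2 : (maximalIdeal B).spanFinrank ≤ (maximalIdeal A).spanFinrank := by
    rw [← h]
    exact Ideal.spanFinrank_map_le_of_fg _ (maximalIdeal A).fg_of_isNoetherianRing
  have heq : (maximalIdeal B).spanFinrank = (maximalIdeal A).spanFinrank := le_antisymm h2 h1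
  rw [isRegularLocalRing_iff, isRegularLocalRing_iff, heq, hdim]

end Algebra

section Scheme

open AlgebraicGeometry

variable {X Y : Scheme.{u}} (f : X ⟶ Y)

/-- Étale morphisms to locally Noetherian schemes preserve and reflect regularity of local rings. -/
theorem isRegularLocalRing_stalk_iff_of_etale [Etale f] [IsLocallyNoetherian Y] (x : X) :
    IsRegularLocalRing (X.presheaf.stalk x) ↔ IsRegularLocalRing (Y.presheaf.stalk (f x)) := by
  letI := (f.stalkMap x).hom.toAlgebra
  obtain ⟨h1, h2, h3, -, -, h6⟩ := etale_stalkMap_package f x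
  exact isRegularLocalRing_iff_of_flat_of_map_maximalIdeal h6

end Scheme

end Groth.Agent.H20
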