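import Mathlib.RingTheory.Flat.FaithfullyFlat.Basic
import Mathlib.RingTheory.Flat.FaithfullyFlat.Algebra
import Mathlib.LinearAlgebra.TensorProduct.Tower

set_option autoImplicit false

namespace Groth.Agent.H20

open TensorProduct

/-- Descent of flatness: if `A → R → M` with `R → M` faithfully flat and `A → M` flat, then
`A → R` is flat. -/
theorem flat_of_faithfullyFlat_of_flat (A R M : Type*) [CommRing A] [CommRing R] [CommRing M]
    [Algebra A R] [Algebra R M] [Algebra A M] [IsScalarTower A R M]
    [Module.FaithfullyFlat R M] [Module.Flat A M] : Module.Flat A R := by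
  rw [Module.Flat.iff_lTensor_preserves_injective_linearMap]
  intro N P _ _ _ _ f hf
  -- view `lTensor R f` as an `R`-linear map
  let g : R ⊗[A] N →ₗ[R] R ⊗[A] P := f.baseChange R
  have hg : (g : R ⊗[A] N → R ⊗[A] P) = f.lTensor R := by
    ext x
    simp [g, LinearMap.baseChange_eq_ltensor]
  rw [← hg, ← Module.FaithfullyFlat.lTensor_injective_iff_injective R M g]
  let e₁ := AlgebraTensorModule.cancelBaseChange A R M M N
  let e₂ := AlgebraTensorModule.cancelBaseChange A R M M P
  have hnat : ∀ x, e₂ (g.lTensor M x) = f.lTensor M (e₁ x) := by
    intro x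
    induction x using TensorProduct.induction_on with
    | zero => simp
    | add x y hx hy => simp only [map_add, hx, hy]
    | tmul m y =>
      induction y using TensorProduct.induction_on with
      | zero => simp
      | add x y hx hy => simp only [tmul_add, map_add, hx, hy]
      | tmul r n => simp [e₁, e₂, g]
  have hinj : Function.Injective (f.lTensor M) :=
    Module.Flat.lTensor_preserves_injective_linearMap f hf
  intro x y hxy
  apply e₁.injective
  apply hinj
  rw [← hnat, ← hnat, hxy]

end Groth.Agent.H20
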