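import Groth.Agent.H20.ComplBij
import Groth.Agent.H20.FlatDescent
import Mathlib.RingTheory.AdicCompletion.AsTensorProduct
import Mathlib.RingTheory.AdicCompletion.LocalRing
import Mathlib.RingTheory.Flat.FaithfullyFlat.Algebra
import Mathlib.RingTheory.Nakayama
import Mathlib.FieldTheory.IsSepClosed
import Mathlib.FieldTheory.IsAlgClosed.Basic

set_option autoImplicit false
universe u

namespace Groth.Agent.H20

open IsLocalRing

section

variable {A B : Type u} [CommRing A] [CommRing B] [IsLocalRing A] [IsLocalRing B] [Algebra A B]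
  [IsLocalHom (algebraMap A B)]

theorem map_maximalIdeal_le : (maximalIdeal A).map (algebraMap A B) ≤ maximalIdeal B :=
  ((local_hom_TFAE (algebraMap A B)).out 0 2 rfl rfl).mp ‹_›

/-- If `𝔪_A B = 𝔪_B` and the residue field extension is trivial, then `A → B/𝔪_B^k` is surjective
for all `k`. -/
theorem exists_sub_mem_pow_of_map_maximalIdeal
    (hmax : (maximalIdeal A).map (algebraMap A B) = maximalIdeal B)
    (hres : ∀ b : B, ∃ a : A, b - algebraMap A B a ∈ maximalIdeal B) (k : ℕ) :
    ∀ b : B, ∃ a : A, b - algebraMap A B a ∈ maximalIdeal B ^ k := by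
  induction k with
  | zero => intro b; exact ⟨0, by simp⟩
  | succ k ih =>
    -- key claim: elements of `𝔫^k = 𝔪^k B` are congruent mod `𝔫^(k+1)` to elements of `𝔪^k`
    have key : ∀ c ∈ (maximalIdeal A ^ k).map (algebraMap A B),
        ∃ a ∈ maximalIdeal A ^ k, c - algebraMap A B a ∈ maximalIdeal B ^ (k + 1) := by
      intro c hc
      induction hc using Submodule.span_induction with
      | mem c hc =>
        obtain ⟨μ, hμ, rfl⟩ := hc
        exact ⟨μ, hμ, by simp⟩
      | zero => exact ⟨0, zero_mem _, by simp⟩
      | add c d _ _ hc hd =>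
        obtain ⟨a₁, ha₁, h₁⟩ := hc
        obtain ⟨a₂, ha₂, h₂⟩ := hd
        refine ⟨a₁ + a₂, add_mem ha₁ ha₂, ?_⟩
        have : c + d - algebraMap A B (a₁ + a₂) =
            (c - algebraMap A B a₁) + (d - algebraMap A B a₂) := by rw [map_add]; ring
        rw [this]
        exact add_mem h₁ h₂
      | smul b' c _ hc =>
        obtain ⟨a', ha', h'⟩ := hc
        obtain ⟨ab, hab⟩ := hres b'
        refine ⟨ab * a', Ideal.mul_mem_left _ _ ha', ?_⟩
        have e : b' • c - algebraMap A B (ab * a') =
            b' * (c - algebraMap A B a') + (b' - algebraMap A B ab) * algebraMap A B a' := by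
          rw [map_mul, smul_eq_mul]; ring
        rw [e]
        refine add_mem (Ideal.mul_mem_left _ _ h') ?_
        have h1 : algebraMap A B a' ∈ maximalIdeal B ^ k := by
          rw [← hmax, ← Ideal.map_pow]
          exact Ideal.mem_map_of_mem _ ha'
        rw [pow_succ']
        exact Ideal.mul_mem_mul hab h1
    intro b
    obtain ⟨a, ha⟩ := ih b
    rw [← hmax, ← Ideal.map_pow] at ha
    obtain ⟨a', -, ha'⟩ := key _ ha
    refine ⟨a + a', ?_⟩
    have : b - algebraMap A B (a + a') = b - algebraMap A B a - algebraMap A B a' := by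
      rw [map_add]; ring
    rw [this]
    exact ha'

theorem surjective_mk_comp_iff (k : ℕ) :
    Function.Surjective ((Ideal.Quotient.mk (maximalIdeal B ^ k)).comp (algebraMap A B)) ↔
      ∀ b : B, ∃ a : A, b - algebraMap A B a ∈ maximalIdeal B ^ k := by
  constructor
  · intro h b
    obtain ⟨a, ha⟩ := h (Ideal.Quotient.mk _ b)
    refine ⟨a, ?_⟩
    rw [RingHom.comp_apply, Ideal.Quotient.eq] at ha
    have := (maximalIdeal B ^ k).neg_mem ha
    rwa [neg_sub] at this
  · intro h y
    obtain ⟨b, rfl⟩ := Ideal.Quotient.mk_surjective y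
    obtain ⟨a, ha⟩ := h b
    refine ⟨a, ?_⟩
    rw [RingHom.comp_apply, Ideal.Quotient.eq]
    have := (maximalIdeal B ^ k).neg_mem ha
    rwa [neg_sub] at this

/-- If `A → B/𝔪_B^2` is surjective, then `𝔪_A B = 𝔪_B` (for `𝔪_B` finitely generated). -/
theorem map_maximalIdeal_eq_of_surjective_sq (hfg : (maximalIdeal B).FG)
    (h2 : ∀ b : B, ∃ a : A, b - algebraMap A B a ∈ maximalIdeal B ^ 2) :
    (maximalIdeal A).map (algebraMap A B) = maximalIdeal B := by
  apply le_antisymm map_maximalIdeal_le
  apply Submodule.le_of_le_smul_of_le_jacobson_bot hfg (maximalIdeal_le_jacobson _)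
  intro x hx
  obtain ⟨a, ha⟩ := h2 x
  have ha1 : x - algebraMap A B a ∈ maximalIdeal B :=
    Ideal.pow_le_self two_ne_zero ha
  have ha2 : algebraMap A B a ∈ maximalIdeal B := by
    have := (maximalIdeal B).sub_mem hx ha1
    rwa [sub_sub_cancel] at this
  have ha3 : a ∈ maximalIdeal A := by
    by_contra hna
    have hu : IsUnit a := by
      rwa [mem_maximalIdeal, mem_nonunits_iff, not_not] at hna
    exact (mem_maximalIdeal _).mp ha2 (hu.map _)
  have : x = algebraMap A B a + (x - algebraMap A B a) := by ring
  rw [this]
  refine Submodule.add_mem_sup (Ideal.mem_map_of_mem _ ha3) ?_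
  rwa [smul_eq_mul, ← pow_two]

/-- For a flat local homomorphism with `𝔪_A B = 𝔪_B`, the kernel of `A → B/𝔪_B^k` is `𝔪_A^k`. -/
theorem ker_mk_comp_eq_pow_of_flat [Module.Flat A B]
    (hmax : (maximalIdeal A).map (algebraMap A B) = maximalIdeal B) (k : ℕ) :
    RingHom.ker ((Ideal.Quotient.mk (maximalIdeal B ^ k)).comp (algebraMap A B)) =
      maximalIdeal A ^ k := by
  haveI : Module.FaithfullyFlat A B := Module.FaithfullyFlat.of_flat_of_isLocalHom
  rw [← RingHom.comap_ker, Ideal.mk_ker, ← hmax, ← Ideal.map_pow,
    Ideal.comap_map_eq_self_of_faithfullyFlat]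

end

section Flat

variable {A B : Type u} [CommRing A] [CommRing B] [IsLocalRing A] [IsLocalRing B] [Algebra A B]
  [IsLocalHom (algebraMap A B)] [IsNoetherianRing A] [IsNoetherianRing B]

/-- If `A/𝔪_A^k → B/𝔪_B^k` is bijective for all `k` (for a local homomorphism of Noetherian local
rings), then `B` is flat over `A`. -/
theorem flat_of_levels
    (hsurj : ∀ k, ∀ b : B, ∃ a : A, b - algebraMap A B a ∈ maximalIdeal B ^ k)
    (hker : ∀ k, RingHom.ker ((Ideal.Quotient.mk (maximalIdeal B ^ k)).comp (algebraMap A B)) =
      maximalIdeal A ^ k) :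
    Module.Flat A B := by
  have hle : (maximalIdeal A).map (algebraMap A B) ≤ maximalIdeal B := map_maximalIdeal_le
  have hb : ∀ n, Function.Bijective (Ideal.quotientMap (maximalIdeal B ^ n) (algebraMap A B)
      (FSch.pow_le_comap_pow_of_map_le (maximalIdeal A) (maximalIdeal B) (algebraMap A B) hle n)) := by
    intro n
    constructor
    · rw [injective_iff_map_eq_zero]
      intro y hy
      obtain ⟨a, rfl⟩ := Ideal.Quotient.mk_surjective y
      rw [Ideal.quotientMap_mk, Ideal.Quotient.eq_zero_iff_mem] at hy
      rw [Ideal.Quotient.eq_zero_iff_mem, ← hker n, RingHom.mem_ker, RingHom.comp_apply,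
        Ideal.Quotient.eq_zero_iff_mem]
      exact hy
    · intro y
      obtain ⟨b, rfl⟩ := Ideal.Quotient.mk_surjective y
      obtain ⟨a, ha⟩ := hsurj n b
      refine ⟨Ideal.Quotient.mk _ a, ?_⟩
      rw [Ideal.quotientMap_mk, Ideal.Quotient.eq]
      have := (maximalIdeal B ^ n).neg_mem ha
      rwa [neg_sub] at this
  have hψ := complMap_bijective (maximalIdeal A) (maximalIdeal B) (algebraMap A B) hle hb
  haveI : IsScalarTower A B (AdicCompletion (maximalIdeal B) B) :=
    IsScalarTower.of_algebraMap_eq (fun a => by
      apply AdicCompletion.ext_evalₐ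
      intro n
      rfl)
  let e : AdicCompletion (maximalIdeal A) A ≃ₗ[A] AdicCompletion (maximalIdeal B) B :=
    { (RingEquiv.ofBijective _ hψ).toAddEquiv with
      map_smul' := by
        intro a x
        change FSch.complMap (maximalIdeal A) (maximalIdeal B) (algebraMap A B) hle (a • x) =
          a • FSch.complMap (maximalIdeal A) (maximalIdeal B) (algebraMap A B) hle x
        rw [Algebra.smul_def, Algebra.smul_def, map_mul]
        congr 1 }
  haveI : Module.Flat A (AdicCompletion (maximalIdeal B) B) := Module.Flat.of_linearEquiv e.symm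
  haveI : Module.FaithfullyFlat B (AdicCompletion (maximalIdeal B) B) :=
    Module.FaithfullyFlat.of_flat_of_isLocalHom
  exact flat_of_faithfullyFlat_of_flat A B (AdicCompletion (maximalIdeal B) B)

end Flat

section Main

variable {A B : Type u} [CommRing A] [CommRing B] [IsLocalRing A] [IsLocalRing B] [Algebra A B]
  [IsLocalHom (algebraMap A B)]

theorem residue_surjective_iff :
    Function.Surjective (algebraMap (ResidueField A) (ResidueField B)) ↔
      ∀ b : B, ∃ a : A, b - algebraMap A B a ∈ maximalIdeal B := by
  constructor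
  · intro h b
    obtain ⟨r, hr⟩ := h (residue B b)
    obtain ⟨a, rfl⟩ := residue_surjective r
    refine ⟨a, ?_⟩
    rw [ResidueField.algebraMap_residue] at hr
    rw [← residue_eq_zero_iff, map_sub, hr, sub_self]
  · intro h y
    obtain ⟨b, rfl⟩ := residue_surjective y
    obtain ⟨a, ha⟩ := h b
    refine ⟨residue A a, ?_⟩
    rw [ResidueField.algebraMap_residue]
    rw [← residue_eq_zero_iff, map_sub, sub_eq_zero] at ha
    exact ha.symm

theorem finite_and_isSeparable_of_surjective
    (h : Function.Surjective (algebraMap (ResidueField A) (ResidueField B))) :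
    Module.Finite (ResidueField A) (ResidueField B) ∧
      Algebra.IsSeparable (ResidueField A) (ResidueField B) := by
  refine ⟨Module.Finite.of_surjective (Algebra.linearMap (ResidueField A) (ResidueField B)) h, ?_⟩
  refine ⟨fun x => ?_⟩
  obtain ⟨a, rfl⟩ := h x
  exact isSeparable_algebraMap a

/-- Finite-level criterion for an unramified local homomorphism with trivial residue field
extension. -/
theorem unramified_conditions_iff_levels [IsNoetherianRing B]
    (hk : Function.Surjective (algebraMap (ResidueField A) (ResidueField B)) ∨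
      IsSepClosed (ResidueField A)) :
    ((maximalIdeal A).map (algebraMap A B) = maximalIdeal B ∧
        Module.Finite (ResidueField A) (ResidueField B) ∧
        Algebra.IsSeparable (ResidueField A) (ResidueField B)) ↔
      ∀ k : ℕ, Function.Surjective
        ((Ideal.Quotient.mk (maximalIdeal B ^ k)).comp (algebraMap A B)) := by
  constructor
  · rintro ⟨hmax, hfin, hsep⟩ k
    have hres : Function.Surjective (algebraMap (ResidueField A) (ResidueField B)) := by
      rcases hk with h | h
      · exact h
      · exact IsSepClosed.algebraMap_surjective _ _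
    rw [surjective_mk_comp_iff]
    exact exists_sub_mem_pow_of_map_maximalIdeal hmax (residue_surjective_iff.mp hres) k
  · intro h
    have h1 : ∀ b : B, ∃ a : A, b - algebraMap A B a ∈ maximalIdeal B := by
      have := (surjective_mk_comp_iff (A := A) (B := B) 1).mp (h 1)
      simpa using this
    have h2 := (surjective_mk_comp_iff (A := A) (B := B) 2).mp (h 2)
    have hres := residue_surjective_iff.mpr h1
    exact ⟨map_maximalIdeal_eq_of_surjective_sq (IsNoetherian.noetherian _) h2,
      finite_and_isSeparable_of_surjective hres⟩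

/-- Finite-level criterion for an étale local homomorphism with trivial residue field
extension. -/
theorem etale_conditions_iff_levels [IsNoetherianRing A] [IsNoetherianRing B]
    (hk : Function.Surjective (algebraMap (ResidueField A) (ResidueField B)) ∨
      IsAlgClosed (ResidueField A)) :
    (Module.Flat A B ∧ (maximalIdeal A).map (algebraMap A B) = maximalIdeal B ∧
        Module.Finite (ResidueField A) (ResidueField B) ∧
        Algebra.IsSeparable (ResidueField A) (ResidueField B)) ↔
      ∀ k : ℕ, Function.Surjective
          ((Ideal.Quotient.mk (maximalIdeal B ^ k)).comp (algebraMap A B)) ∧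
        RingHom.ker ((Ideal.Quotient.mk (maximalIdeal B ^ k)).comp (algebraMap A B)) =
          maximalIdeal A ^ k := by
  constructor
  · rintro ⟨hflat, hmax, hfin, hsep⟩ k
    have hres : Function.Surjective (algebraMap (ResidueField A) (ResidueField B)) := by
      rcases hk with h | h
      · exact h
      · haveI : Algebra.IsIntegral (ResidueField A) (ResidueField B) := Algebra.IsIntegral.of_finite _ _
        exact IsAlgClosed.algebraMap_bijective_of_isIntegral.2
    refine ⟨?_, ker_mk_comp_eq_pow_of_flat hmax k⟩
    rw [surjective_mk_comp_iff]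
    exact exists_sub_mem_pow_of_map_maximalIdeal hmax (residue_surjective_iff.mp hres) k
  · intro h
    have hs : ∀ k, ∀ b : B, ∃ a : A, b - algebraMap A B a ∈ maximalIdeal B ^ k :=
      fun k => (surjective_mk_comp_iff k).mp (h k).1
    have h1 : ∀ b : B, ∃ a : A, b - algebraMap A B a ∈ maximalIdeal B := by
      simpa using hs 1
    have hres := residue_surjective_iff.mpr h1
    exact ⟨flat_of_levels hs (fun k => (h k).2),
      map_maximalIdeal_eq_of_surjective_sq (IsNoetherian.noetherian _) (hs 2),
      finite_and_isSeparable_of_surjective hres⟩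

end Main

end Groth.Agent.H20
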