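import Groth.Agent.H20.RadicialFibre
import Groth.Agent.H51.TopIrred

/-!
# `RadPt.IsBirational` is stable under flat base change
-/

set_option autoImplicit false
universe u

open CategoryTheory CategoryTheory.Limits AlgebraicGeometry Topology

namespace Groth.Agent.H20.BiratBC

open Groth.Agent.H20.RadicialFibre

/-- A continuous generalizing map sends maximal points to maximal points. -/
lemma map_mem_genericPoints {S T : Type*} [TopologicalSpace S] [TopologicalSpace T]
    [QuasiSober S] [QuasiSober T] {h : S → T} (hh : GeneralizingMap h) (hc : Continuous h)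
    {s : S} (hs : s ∈ genericPoints S) : h s ∈ genericPoints T := by
  rw [Groth.Agent.H51.mem_genericPoints_iff] at hs ⊢
  intro t ht
  obtain ⟨s', hs', rfl⟩ := hh ht
  exact (hs s' hs').map hc

lemma bij_of_comp_bij {A B C : Type*} [Field A] [Field B] [Field C] (a : A →+* B) (b : B →+* C)
    (h : Function.Bijective (b.comp a)) : Function.Bijective a := by
  refine ⟨a.injective, fun y => ?_⟩
  obtain ⟨x, hx⟩ := h.2 (b y)
  exact ⟨x, b.injective hx⟩

variable {X Y X' Y' : Scheme.{u}}

/-- The section of `f` over `Spec κ(f x)` through `x` when the residue field map at `x` is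
bijective. -/
noncomputable def sec (f : X ⟶ Y) (x : X) (hx : Function.Bijective (f.residueFieldMap x).hom) :
    Spec (Y.residueField (f x)) ⟶ X :=
  haveI : IsIso (f.residueFieldMap x) := (ConcreteCategory.isIso_iff_bijective _).mpr hx
  inv (Spec.map (f.residueFieldMap x)) ≫ X.fromSpecResidueField x

lemma sec_comp (f : X ⟶ Y) (x : X) (hx : Function.Bijective (f.residueFieldMap x).hom) :
    sec f x hx ≫ f = Y.fromSpecResidueField (f x) := by
  haveI : IsIso (f.residueFieldMap x) := (ConcreteCategory.isIso_iff_bijective _).mpr hx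
  rw [sec, Category.assoc, ← Scheme.Hom.SpecMap_residueFieldMap_fromSpecResidueField,
    IsIso.inv_hom_id_assoc]

lemma bijective_rfm_of_comp {W : Scheme.{u}} (σ : W ⟶ X) (f : X ⟶ Y) (z : W)
    (h : Function.Bijective ((σ ≫ f).residueFieldMap z).hom) :
    Function.Bijective (f.residueFieldMap (σ z)).hom := by
  have e : ((σ ≫ f).residueFieldMap z).hom =
      (σ.residueFieldMap z).hom.comp (f.residueFieldMap (σ z)).hom := by
    rw [Scheme.residueFieldMap_comp]; rfl
  exact bij_of_comp_bij _ _ (e ▸ h)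

theorem isBirational_of_isPullback {f : X ⟶ Y} {g : Y' ⟶ Y} [Flat g] {f' : X' ⟶ Y'}
    {g' : X' ⟶ X} (sq : IsPullback g' f' f g) (hf : RadPt.IsBirational f) :
    RadPt.IsBirational f' := by
  obtain ⟨hbij, hB⟩ := hf
  haveI : Flat g' := MorphismProperty.of_isPullback sq.flip inferInstance
  have key : ∀ y' : Y', g y' ∈ genericPoints Y →
      RadPt.IsRadicialAt f' y' ∧
      ∃ (W : Scheme.{u}) (σ : W ⟶ X') (ι : W ⟶ Y'), σ ≫ f' = ι ∧ IsPreimmersion ι ∧
        Set.range ι = g ⁻¹' {g y'} := by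
    intro y' hy'
    obtain ⟨x, hx, hxy⟩ := hbij.surjOn hy'
    have hBx := hB _ hy'
    refine ⟨?_, ?_⟩
    · rw [← isRadicialAt_iff_of_isPullback sq y']
      exact ⟨hBx.1, fun x hx => pi_of_bijective _ (hBx.2 x hx)⟩
    · have hbx : Function.Bijective (f.residueFieldMap x).hom := hBx.2 x hxy
      rw [← hxy]
      refine ⟨g.fiber (f x), sq.lift (g.fiberToSpecResidueField (f x) ≫ sec f x hbx)
        (g.fiberι (f x)) ?_, g.fiberι (f x), sq.lift_snd _ _ _, inferInstance,
        g.range_fiberι (f x)⟩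
      rw [Category.assoc, sec_comp, g.fiber_fac]
  have hgenY : ∀ y' ∈ genericPoints Y', g y' ∈ genericPoints Y := fun y' hy' =>
    map_mem_genericPoints (Flat.generalizingMap g) g.continuous hy'
  have hmaps : ∀ x' ∈ genericPoints X', f' x' ∈ genericPoints Y' := by
    intro x' hx'
    have hx : g' x' ∈ genericPoints X :=
      map_mem_genericPoints (Flat.generalizingMap g') g'.continuous hx'
    have hy : f (g' x') ∈ genericPoints Y := hbij.mapsTo hx
    have hcomm : g (f' x') = f (g' x') := by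
      rw [← Scheme.Hom.comp_apply, ← sq.w]; rfl
    rw [← hcomm] at hy
    obtain ⟨hrad, W, σ, ι, hσ, hι, hrange⟩ := key (f' x') hy
    rw [Groth.Agent.H51.mem_genericPoints_iff] at hx' ⊢
    intro y'' hy''
    have h1 : g y'' ⤳ g (f' x') := hy''.map g.continuous
    have h2 : g (f' x') ⤳ g y'' := (Groth.Agent.H51.mem_genericPoints_iff _).mp hy _ h1
    have h3 : g y'' = g (f' x') := (h1.antisymm h2).eq
    obtain ⟨z'', hz''⟩ : y'' ∈ Set.range ι := by rw [hrange]; exact h3
    obtain ⟨z', hz'⟩ : f' x' ∈ Set.range ι := by rw [hrange]; rfl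
    have hzz : z'' ⤳ z' := by
      rw [← ι.isEmbedding.isInducing.specializes_iff, hz'', hz']; exact hy''
    have hσz' : σ z' = x' := hrad.1 _ _ (by rw [← Scheme.Hom.comp_apply, hσ, hz']) rfl
    have h4 : σ z'' ⤳ x' := hσz' ▸ hzz.map σ.continuous
    have h5 := (hx' _ h4).map f'.continuous
    have h6 : f' (σ z'') = y'' := by rw [← Scheme.Hom.comp_apply, hσ, hz'']
    rwa [h6] at h5
  refine ⟨⟨hmaps, ?_, ?_⟩, ?_⟩
  · intro x₁ h₁ x₂ h₂ h
    exact (key (f' x₁) (hgenY _ (hmaps _ h₁))).1.1 x₁ x₂ rfl h.symm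
  · intro y' hy'
    obtain ⟨hrad, W, σ, ι, hσ, hι, hrange⟩ := key y' (hgenY y' hy')
    obtain ⟨z', hz'⟩ : y' ∈ Set.range ι := by rw [hrange]; rfl
    have h6 : f' (σ z') = y' := by rw [← Scheme.Hom.comp_apply, hσ, hz']
    refine ⟨σ z', ?_, h6⟩
    rw [Groth.Agent.H51.mem_genericPoints_iff] at hy' ⊢
    intro x'' hx''
    have h1 : f' x'' ⤳ y' := h6 ▸ hx''.map f'.continuous
    have h2 : f' x'' = y' := (h1.antisymm (hy' _ h1)).eq
    rw [hrad.1 x'' (σ z') h2 h6]
  · intro y' hy'
    obtain ⟨hrad, W, σ, ι, hσ, hι, hrange⟩ := key y' (hgenY y' hy')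
    refine ⟨hrad.1, fun x' hx' => ?_⟩
    obtain ⟨z', hz'⟩ : y' ∈ Set.range ι := by rw [hrange]; rfl
    have h6 : f' (σ z') = y' := by rw [← Scheme.Hom.comp_apply, hσ, hz']
    obtain rfl : σ z' = x' := hrad.1 _ _ h6 hx'
    apply bijective_rfm_of_comp
    rw [Scheme.Hom.residueFieldMap_congr hσ z', CommRingCat.hom_comp]
    exact (bijective_residueFieldMap ι z').comp (ConcreteCategory.bijective_of_isIso _)

end Groth.Agent.H20.BiratBC
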