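import Groth.Prelude
import Mathlib

/-!
# Radicial at a point via the fibre

`IsRadicialAt f y ↔ UniversallyInjective (f.fiberToSpecResidueField y)`.
-/

set_option autoImplicit false
universe u

open CategoryTheory CategoryTheory.Limits AlgebraicGeometry

namespace Groth.Agent.H20.RadicialFibre

lemma pi_of_comp_top {F E K : Type*} [Field F] [Field E] [Field K] {f : F →+* E} {g : E →+* K}
    (h : (g.comp f).IsPurelyInseparable) : g.IsPurelyInseparable := by
  algebraize [f, g, g.comp f]
  exact IsPurelyInseparable.tower_top F E K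

lemma pi_of_comp_bot {F E K : Type*} [Field F] [Field E] [Field K] {f : F →+* E} {g : E →+* K}
    (h : (g.comp f).IsPurelyInseparable) : f.IsPurelyInseparable := by
  algebraize [f, g, g.comp f]
  exact IsPurelyInseparable.tower_bot F E K

lemma pi_of_bijective {F E : Type*} [Field F] [Field E] (e : F →+* E)
    (he : Function.Bijective e) : e.IsPurelyInseparable := by
  algebraize [e]
  change IsPurelyInseparable F E
  rw [isPurelyInseparable_iff]
  intro x
  obtain ⟨y, rfl⟩ := he.2 x
  exact ⟨isIntegral_algebraMap, fun _ => ⟨y, rfl⟩⟩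

/-- Pure inseparability transfers across a commutative square whose other two sides are
bijective. -/
lemma pi_iff_of_comm_sq {A B C D : Type*} [Field A] [Field B] [Field C] [Field D]
    (a : A →+* B) (e₁ : B →+* D) (e₂ : A →+* C) (c : C →+* D)
    (hcomm : e₁.comp a = c.comp e₂) (h₁ : Function.Bijective e₁) (h₂ : Function.Bijective e₂) :
    a.IsPurelyInseparable ↔ c.IsPurelyInseparable := by
  constructor
  · intro ha
    have : (e₁.comp a).IsPurelyInseparable := ha.comp (pi_of_bijective e₁ h₁)
    rw [hcomm] at this
    exact pi_of_comp_top this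
  · intro hc
    have : (c.comp e₂).IsPurelyInseparable := (pi_of_bijective e₂ h₂).comp hc
    rw [← hcomm] at this
    exact pi_of_comp_bot this

/-- The residue field map of a morphism that is surjective on stalks is bijective. -/
lemma bijective_residueFieldMap {X Y : Scheme.{u}} (f : X ⟶ Y) [SurjectiveOnStalks f] (x : X) :
    Function.Bijective (f.residueFieldMap x).hom := by
  refine ⟨(f.residueFieldMap x).hom.injective, ?_⟩
  intro b
  obtain ⟨s, rfl⟩ := X.residue_surjective x b
  obtain ⟨t, rfl⟩ := f.stalkMap_surjective x s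
  refine ⟨Y.residue (f x) t, ?_⟩
  have := congr($(Scheme.residue_residueFieldMap f x) t)
  simpa using this

lemma fiberι_mem {X Y : Scheme.{u}} (f : X ⟶ Y) (y : Y) (z : f.fiber y) :
    f (f.fiberι y z) = y := by
  have : f.fiberι y z ∈ Set.range (f.fiberι y) := ⟨z, rfl⟩
  rw [f.range_fiberι] at this
  exact this

lemma pi_fiber_iff {X Y : Scheme.{u}} (f : X ⟶ Y) (y : Y) (z : f.fiber y) :
    (f.residueFieldMap (f.fiberι y z)).hom.IsPurelyInseparable ↔
      ((f.fiberToSpecResidueField y).residueFieldMap z).hom.IsPurelyInseparable := by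
  have h1 := Scheme.Hom.residueFieldMap_congr (f.fiber_fac y) z
  rw [Scheme.residueFieldMap_comp, Scheme.residueFieldMap_comp] at h1
  refine pi_iff_of_comm_sq (f.residueFieldMap (f.fiberι y z)).hom
    ((f.fiberι y).residueFieldMap z).hom
    ((Y.residueFieldCongr (by rw [← Scheme.Hom.comp_apply, f.fiber_fac y]; rfl)).hom ≫
      (Y.fromSpecResidueField y).residueFieldMap (f.fiberToSpecResidueField y z)).hom
    ((f.fiberToSpecResidueField y).residueFieldMap z).hom ?_
    (bijective_residueFieldMap _ z) ?_
  · rw [← CommRingCat.hom_comp, ← CommRingCat.hom_comp]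
    congr 1
  · rw [CommRingCat.hom_comp]
    exact (bijective_residueFieldMap _ _).comp
      (ConcreteCategory.bijective_of_isIso (Y.residueFieldCongr _).hom)

/-- `f` is radicial at `y` iff the fibre over `y` is universally injective over `Spec κ(y)`. -/
theorem isRadicialAt_iff {X Y : Scheme.{u}} (f : X ⟶ Y) (y : Y) :
    RadPt.IsRadicialAt f y ↔ UniversallyInjective (f.fiberToSpecResidueField y) := by
  have tfae : UniversallyInjective (f.fiberToSpecResidueField y) ↔
      Function.Injective (f.fiberToSpecResidueField y) ∧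
        ∀ x, ((f.fiberToSpecResidueField y).residueFieldMap x).hom.IsPurelyInseparable :=
    (tfae_universallyInjective (f.fiberToSpecResidueField y)).out 0 2
  rw [tfae]
  constructor
  · rintro ⟨h1, h2⟩
    refine ⟨?_, fun z => (pi_fiber_iff f y z).mp (h2 _ (fiberι_mem f y z))⟩
    intro z z' _
    apply (f.fiberι y).isEmbedding.injective
    exact h1 _ _ (fiberι_mem f y z) (fiberι_mem f y z')
  · rintro ⟨h1, h2⟩
    refine ⟨?_, ?_⟩
    · intro x x' hx hx'
      obtain ⟨z, rfl⟩ : x ∈ Set.range (f.fiberι y) := by rw [f.range_fiberι]; exact hx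
      obtain ⟨z', rfl⟩ : x' ∈ Set.range (f.fiberι y) := by rw [f.range_fiberι]; exact hx'
      exact congrArg _ (h1 (Subsingleton.elim _ _))
    · intro x hx
      obtain ⟨z, rfl⟩ : x ∈ Set.range (f.fiberι y) := by rw [f.range_fiberι]; exact hx
      exact (pi_fiber_iff f y z).mpr (h2 z)

/-- Radicial at a point is invariant under base change. -/
theorem isRadicialAt_iff_of_isPullback {X Y X' Y' : Scheme.{u}} {f : X ⟶ Y} {h : Y' ⟶ Y}
    {f' : X' ⟶ Y'} {h' : X' ⟶ X} (sq : IsPullback h' f' f h) (y' : Y') :
    RadPt.IsRadicialAt f (h y') ↔ RadPt.IsRadicialAt f' y' := by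
  rw [isRadicialAt_iff, isRadicialAt_iff]
  have key := isPullback_fiberToSpecResidueField_of_isPullback sq y'
  constructor
  · intro hf
    exact MorphismProperty.of_isPullback (P := @UniversallyInjective) key hf
  · intro hf'
    refine MorphismProperty.of_isPullback_of_descendsAlong (P := @UniversallyInjective)
      (Q := @Surjective ⊓ @Flat ⊓ @QuasiCompact) key.flip ?_ hf'
    refine ⟨⟨?_, ?_⟩, ?_⟩
    · exact ⟨fun x => ⟨default, Subsingleton.elim _ _⟩⟩
    · rw [HasRingHomProperty.Spec_iff (P := @Flat)]
      algebraize [(h.residueFieldMap y').hom]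
      change Module.Flat _ _
      infer_instance
    · infer_instance

end Groth.Agent.H20.RadicialFibre
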