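import Groth.Agent.H20.EtaleAtFlat
import Mathlib.AlgebraicGeometry.Morphisms.Etale
import Mathlib.AlgebraicGeometry.Morphisms.Smooth
import Mathlib.AlgebraicGeometry.Morphisms.Flat
import Mathlib.AlgebraicGeometry.Morphisms.FormallyUnramified
import Mathlib.AlgebraicGeometry.Noetherian

set_option autoImplicit false
universe u

namespace Groth.Agent.H20

open AlgebraicGeometry CategoryTheory IsLocalRing

variable {X Y : Scheme.{u}} (f : X ⟶ Y)

set_option backward.defeqAttrib.useBackward true in
set_option backward.isDefEq.respectTransparency false in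
/-- If `f` is locally of finite presentation and the stalk map at `x` is flat and formally
unramified, then `f` is étale on an affine neighbourhood of `x`. -/
theorem exists_etale_appLE_of_flat_of_formallyUnramified_stalkMap
    [LocallyOfFinitePresentation f] (x : X)
    (hflat : (f.stalkMap x).hom.Flat) (hunr : (f.stalkMap x).hom.FormallyUnramified) :
    ∃ (U : Y.Opens) (_ : IsAffineOpen U) (V : X.Opens) (_ : IsAffineOpen V) (hVU : V ≤ f ⁻¹ᵁ U),
      x ∈ V ∧ (f.appLE U V hVU).hom.Etale := by
  obtain ⟨_, ⟨U, hU, rfl⟩, hxU, -⟩ :=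
    Y.isBasis_affineOpens.exists_subset_of_mem_open (Set.mem_univ (f x)) isOpen_univ
  obtain ⟨_, ⟨V, hV, rfl⟩, hxV, hVU⟩ :=
    X.isBasis_affineOpens.exists_subset_of_mem_open hxU (U.2.preimage f.continuous)
  have := f.finitePresentation_appLE hU hV hVU
  algebraize [(f.appLE U V hVU).hom]
  let p := (hU.primeIdealOf ⟨f x, hVU hxV⟩).asIdeal
  let q := (hV.primeIdealOf ⟨x, hxV⟩).asIdeal
  have : q.LiesOver p :=
    ⟨congr($(IsAffineOpen.comap_primeIdealOf_appLE U hU V hV hVU hxV).1).symm⟩
  let := Localization.AtPrime.algebraOfLiesOver p q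
  have hflat' : Module.Flat (Localization.AtPrime p) (Localization.AtPrime q) := by
    rw [← RingHom.flat_algebraMap_iff]
    exact (RingHom.Flat.respectsIso.arrow_mk_iso_iff
      (IsAffineOpen.arrowStalkMapIso f U hU V hV hVU hxV)).mp hflat
  have hunr' : Algebra.FormallyUnramified (Localization.AtPrime p) (Localization.AtPrime q) := by
    rw [← RingHom.formallyUnramified_algebraMap]
    exact (RingHom.FormallyUnramified.respectsIso.arrow_mk_iso_iff
      (IsAffineOpen.arrowStalkMapIso f U hU V hV hVU hxV)).mp hunr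
  have : Module.Flat Γ(Y, U) (Localization.AtPrime q) :=
    Module.Flat.trans Γ(Y, U) (Localization.AtPrime p) _
  have : Algebra.IsUnramifiedAt Γ(Y, U) q :=
    Algebra.FormallyUnramified.comp _ (Localization.AtPrime p) _
  have : Algebra.IsEtaleAt Γ(Y, U) q := isEtaleAt_of_flat_of_isUnramifiedAt q
  obtain ⟨r, hrx, hr⟩ := Algebra.exists_etale_of_isEtaleAt (R := Γ(Y, U)) q
  refine ⟨_, hU, _, hV.basicOpen r, (X.basicOpen_le r).trans hVU, ?_, ?_⟩
  · rwa [← PrimeSpectrum.mem_basicOpen, IsAffineOpen.primeIdealOf,
      ← hV.fromSpec_preimage_basicOpen, Scheme.Hom.mem_preimage, ← Scheme.Hom.comp_apply,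
      IsAffineOpen.isoSpec_hom, IsAffineOpen.toSpecΓ_fromSpec] at hrx
  · have := hV.isLocalization_basicOpen r
    rw [← RingHom.etale_algebraMap] at hr
    convert!
      RingHom.Etale.propertyIsLocal.respectsIso.1 _
        (IsLocalization.algEquiv (.powers r) _ Γ(X, X.basicOpen r)).toRingEquiv hr
    ext
    dsimp
    simp only [IsScalarTower.algebraMap_apply Γ(Y, U) Γ(X, V) (Localization _),
      IsLocalization.map_eq]
    simp only [RingHom.algebraMap_toAlgebra, RingHomCompTriple.comp_apply,
      ← ConcreteCategory.comp_apply, Scheme.Hom.appLE_map]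

/-- If `f` is locally of finite presentation and the stalk map at `x` is flat and formally
unramified, then `f` is étale on an open neighbourhood of `x`. -/
theorem exists_etale_nhd_of_flat_of_formallyUnramified_stalkMap
    [LocallyOfFinitePresentation f] (x : X)
    (hflat : (f.stalkMap x).hom.Flat) (hunr : (f.stalkMap x).hom.FormallyUnramified) :
    ∃ V : X.Opens, x ∈ V ∧ Etale (V.ι ≫ f) := by
  obtain ⟨U, hU, V, hV, hVU, hxV, H⟩ :=
    exists_etale_appLE_of_flat_of_formallyUnramified_stalkMap f x hflat hunr
  refine ⟨V, hxV, ?_⟩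
  rw [← Scheme.Hom.resLE_comp_ι f hVU]
  have : IsAffine _ := hU
  have : IsAffine _ := hV
  have : Etale (f.resLE U V hVU) := by
    rw [HasRingHomProperty.iff_of_isAffine (P := @Etale)]
    exact (RingHom.Etale.propertyIsLocal.respectsIso.arrow_mk_iso_iff
      (arrowResLEAppIso f U V hVU)).mpr H
  infer_instance


/-- The algebra structure on residue fields induced by `f.residueFieldMap x` agrees with the
instance coming from the local homomorphism `f.stalkMap x`. -/
theorem residueFieldMap_toAlgebra_eq (x : X) :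
    letI := (f.stalkMap x).hom.toAlgebra
    haveI : IsLocalHom (algebraMap (Y.presheaf.stalk (f x)) (X.presheaf.stalk x)) :=
      inferInstanceAs <| IsLocalHom (f.stalkMap x).hom
    (f.residueFieldMap x).hom.toAlgebra =
      (inferInstance : Algebra (ResidueField (Y.presheaf.stalk (f x)))
        (ResidueField (X.presheaf.stalk x))) := by
  letI := (f.stalkMap x).hom.toAlgebra
  haveI : IsLocalHom (algebraMap (Y.presheaf.stalk (f x)) (X.presheaf.stalk x)) :=
      inferInstanceAs <| IsLocalHom (f.stalkMap x).hom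
  apply Algebra.algebra_ext
  intro r
  obtain ⟨a, rfl⟩ := IsLocalRing.residue_surjective r
  rfl

theorem finite_and_isSeparable_congr {K L : Type*} [CommRing K] [Ring L] (A1 A2 : Algebra K L)
    (h : A1 = A2) :
    (@Module.Finite K L _ _ A1.toModule ∧ @Algebra.IsSeparable K L _ _ A1) ↔
      (@Module.Finite K L _ _ A2.toModule ∧ @Algebra.IsSeparable K L _ _ A2) := by
  subst h; rfl

/-- Characterisation of étaleness near a point through the local homomorphism on stalks. -/
theorem exists_etale_nhd_iff_stalkMap [LocallyOfFiniteType f] [IsLocallyNoetherian Y] (x : X) :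
    (∃ U : X.Opens, x ∈ U ∧ Etale (U.ι ≫ f)) ↔
      ((f.stalkMap x).hom.Flat ∧
        (IsLocalRing.maximalIdeal (Y.presheaf.stalk (f.base x))).map (f.stalkMap x).hom =
          IsLocalRing.maximalIdeal (X.presheaf.stalk x) ∧
        letI := (f.residueFieldMap x).hom.toAlgebra
        Module.Finite (Y.residueField (f.base x)) (X.residueField x) ∧
          Algebra.IsSeparable (Y.residueField (f.base x)) (X.residueField x)) := by
  have hess0 : (f.stalkMap x).hom.EssFiniteType := LocallyOfFiniteType.stalkMap f x
  constructor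
  · rintro ⟨U, hxU, hEt⟩
    obtain ⟨x', rfl⟩ : ∃ x' : U, U.ι x' = x := ⟨⟨x, hxU⟩, rfl⟩
    have hfl : (f.stalkMap (U.ι x')).hom.Flat := by
      refine (RingHom.Flat.respectsIso.cancel_right_isIso _ (U.ι.stalkMap x')).symm.mpr ?_
      rw [← CommRingCat.hom_comp, ← Scheme.Hom.stalkMap_comp]
      exact Flat.stalkMap (U.ι ≫ f) x'
    have hun : (f.stalkMap (U.ι x')).hom.FormallyUnramified := by
      refine (RingHom.FormallyUnramified.respectsIso.cancel_right_isIso _
        (U.ι.stalkMap x')).symm.mpr ?_
      rw [← CommRingCat.hom_comp, ← Scheme.Hom.stalkMap_comp]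
      exact FormallyUnramified.stalkMap (U.ι ≫ f) x'
    algebraize [(f.stalkMap (U.ι x')).hom]
    have hloc : IsLocalHom (algebraMap (Y.presheaf.stalk (f (U.ι x')))
        (X.presheaf.stalk (U.ι x'))) :=
      inferInstanceAs <| IsLocalHom (f.stalkMap (U.ι x')).hom
    refine ⟨hfl, Algebra.FormallyUnramified.map_maximalIdeal, ?_⟩
    have h1 : Module.Finite (ResidueField (Y.presheaf.stalk (f (U.ι x'))))
        (ResidueField (X.presheaf.stalk (U.ι x'))) := inferInstance
    have h2 : Algebra.IsSeparable (ResidueField (Y.presheaf.stalk (f (U.ι x'))))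
        (ResidueField (X.presheaf.stalk (U.ι x'))) := inferInstance
    exact (finite_and_isSeparable_congr _ _ (residueFieldMap_toAlgebra_eq f (U.ι x'))).mpr
      ⟨h1, h2⟩
  · rintro ⟨hfl, hmax, hfs⟩
    apply exists_etale_nhd_of_flat_of_formallyUnramified_stalkMap f x hfl
    algebraize [(f.stalkMap x).hom]
    have hloc : IsLocalHom (algebraMap (Y.presheaf.stalk (f x)) (X.presheaf.stalk x)) :=
      inferInstanceAs <| IsLocalHom (f.stalkMap x).hom
    obtain ⟨-, hsep'⟩ :=
      (finite_and_isSeparable_congr _ _ (residueFieldMap_toAlgebra_eq f x)).mp hfs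
    haveI : Algebra.IsSeparable (ResidueField (Y.presheaf.stalk (f x)))
        (ResidueField (X.presheaf.stalk x)) := hsep'
    exact Algebra.FormallyUnramified.of_map_maximalIdeal hmax

end Groth.Agent.H20
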