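import Mathlib.AlgebraicGeometry.Stalk
import Mathlib.AlgebraicGeometry.Limits
import Mathlib.AlgebraicGeometry.Morphisms.Preimmersion
import Mathlib.AlgebraicGeometry.Properties
import Mathlib.AlgebraicGeometry.PullbackCarrier

set_option autoImplicit false
universe u

namespace Groth.Agent.H20

open AlgebraicGeometry CategoryTheory CategoryTheory.Limits TopologicalSpace IsLocalRing

/-- The generic point of an irreducible component has no proper generizations. -/
theorem eq_of_specializes_of_mem_irreducibleComponents {T : Type*} [TopologicalSpace T]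
    [T0Space T] {y y' : T} (hy : closure {y} ∈ irreducibleComponents T) (h : y' ⤳ y) : y' = y := by
  have h1 : closure {y} ⊆ closure {y'} := h.closure_subset
  have h2 : IsIrreducible (closure {y'}) := isIrreducible_singleton.closure
  have h3 : closure {y'} ⊆ closure {y} := hy.2 h2 h1
  have h4 : y ⤳ y' := specializes_iff_closure_subset.mpr h3
  exact (h.antisymm h4).eq

/-- Every point of a quasi-sober space is a specialization of the generic point of an irreducible
component. -/
theorem exists_generic_specializes {T : Type*} [TopologicalSpace T] [QuasiSober T] (x : T) :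
    ∃ x₂ : T, closure {x₂} ∈ irreducibleComponents T ∧ x₂ ⤳ x := by
  obtain ⟨Z, hZ, hxZ⟩ := exists_mem_irreducibleComponents_subset_of_isIrreducible {x}
    isIrreducible_singleton
  have hZc : IsClosed Z := isClosed_of_mem_irreducibleComponents Z hZ
  obtain ⟨x₂, hx₂⟩ := QuasiSober.sober hZ.1 hZc
  refine ⟨x₂, ?_, ?_⟩
  · rw [hx₂.def]; exact hZ
  · rw [specializes_iff_mem_closure, hx₂.def]
    exact hxZ rfl

section Scheme

variable {X Y : Scheme.{u}} (f : X ⟶ Y)

/-- If `x₁ ⤳ x`, `f x₁ = f x` and the stalk map at `x₁` is an isomorphism, then `x = x₁`. -/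
theorem eq_of_specializes_of_isIso_stalkMap {x x₁ : X} (h : x₁ ⤳ x) (hf : f x₁ = f x)
    [IsIso (f.stalkMap x₁)] : x = x₁ := by
  refine ((Specializes.antisymm ?_ h).eq)
  -- the specialization map on stalks is surjective
  have hcomp := f.stalkSpecializes_stalkMap x₁ x h
  haveI : IsIso (Y.presheaf.stalkSpecializes (f.base.hom.map_specializes h)) := by
    change IsIso (Y.presheaf.stalkCongr (Inseparable.of_eq hf.symm)).hom
    infer_instance
  have hsurj : Function.Surjective (X.presheaf.stalkSpecializes h).hom := by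
    intro b
    refine ⟨(f.stalkMap x).hom ((inv (Y.presheaf.stalkSpecializes (f.base.hom.map_specializes h) ≫
      f.stalkMap x₁)).hom b), ?_⟩
    have h1 : inv (Y.presheaf.stalkSpecializes (f.base.hom.map_specializes h) ≫ f.stalkMap x₁) ≫
        f.stalkMap x ≫ X.presheaf.stalkSpecializes h = 𝟙 _ := by
      rw [← hcomp, IsIso.inv_hom_id]
    exact congrArg (fun φ => φ.hom b) h1
  rw [specializes_iff_forall_open]
  intro W hW hx₁W
  obtain ⟨U, hU, hxU, -⟩ := exists_isAffineOpen_mem_and_subset (x := x) (U := ⊤) trivial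
  have hx₁U : x₁ ∈ U := h.mem_open U.isOpen hxU
  obtain ⟨a, haW, hx₁a⟩ := hU.exists_basicOpen_le (V := ⟨W, hW⟩) ⟨x₁, hx₁W⟩ hx₁U
  suffices hxa : x ∈ X.basicOpen a from haW hxa
  rw [Scheme.mem_basicOpen X a x hxU]
  by_contra hnu
  have hu₁ : IsUnit (X.presheaf.germ U x₁ hx₁U a) := (Scheme.mem_basicOpen X a x₁ hx₁U).mp hx₁a
  obtain ⟨w, hw⟩ := hu₁.exists_left_inv
  obtain ⟨u, hu⟩ := hsurj w
  have hS : (X.presheaf.stalkSpecializes h).hom (X.presheaf.germ U x hxU a) =
      X.presheaf.germ U x₁ hx₁U a :=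
    congrArg (fun φ => φ.hom a) (X.presheaf.germ_stalkSpecializes hxU h)
  have hz : u * X.presheaf.germ U x hxU a ∈ maximalIdeal (X.presheaf.stalk x) :=
    Ideal.mul_mem_left _ _ hnu
  have h1 : IsUnit (1 - u * X.presheaf.germ U x hxU a) :=
    IsLocalRing.isUnit_one_sub_self_of_mem_nonunits _ hz
  have h2 : (X.presheaf.stalkSpecializes h).hom (1 - u * X.presheaf.germ U x hxU a) = 0 := by
    rw [map_sub, map_one, map_mul, hS, hu, hw, sub_self]
  have h3 := h1.map (X.presheaf.stalkSpecializes h).hom
  rw [h2] at h3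
  exact not_isUnit_zero h3

/-- A ring whose prime spectrum is a singleton is local. -/
theorem isLocalRing_of_subsingleton_primeSpectrum (R : Type*) [CommRing R]
    [Subsingleton (PrimeSpectrum R)] [Nonempty (PrimeSpectrum R)] : IsLocalRing R := by
  haveI : Nontrivial R := by
    obtain ⟨p⟩ := ‹Nonempty (PrimeSpectrum R)›
    exact ⟨⟨0, 1, fun h => p.2.ne_top ((Ideal.eq_top_iff_one _).mpr (h ▸ p.asIdeal.zero_mem))⟩⟩
  obtain ⟨m, hm⟩ := Ideal.exists_maximal R
  refine IsLocalRing.of_unique_max_ideal ⟨m, hm, fun m' hm' => ?_⟩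
  have : (⟨m', hm'.isPrime⟩ : PrimeSpectrum R) = ⟨m, hm.isPrime⟩ := Subsingleton.elim _ _
  exact congrArg PrimeSpectrum.asIdeal this

/-- For a birational morphism (in the sense of a bijection on generic points of irreducible
components inducing isomorphisms of local rings there), the base change to the local ring of a
generic point of an irreducible component of the target is an isomorphism. -/
theorem isIso_pullback_snd_fromSpecStalk_of_birational
    (hbij : Set.BijOn (fun x : X => f.base x) {x : X | closure {x} ∈ irreducibleComponents ↥X}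
      {y : Y | closure {y} ∈ irreducibleComponents ↥Y})
    (hiso : ∀ x : X, closure {x} ∈ irreducibleComponents ↥X → IsIso (f.stalkMap x))
    (y : Y) (hy : closure {y} ∈ irreducibleComponents ↥Y) :
    IsIso (pullback.snd f (Y.fromSpecStalk y)) := by
  obtain ⟨x₁, hx₁, hfx₁⟩ := hbij.surjOn hy
  have hfx₁' : f x₁ = y := hfx₁
  haveI := hiso x₁ hx₁
  have hsp : f x₁ ⤳ y := specializes_of_eq hfx₁'
  haveI : IsIso (Y.presheaf.stalkSpecializes hsp) := by
    change IsIso (Y.presheaf.stalkCongr (Inseparable.of_eq hfx₁'.symm)).hom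
    infer_instance
  let e : Y.presheaf.stalk y ⟶ X.presheaf.stalk x₁ :=
    Y.presheaf.stalkSpecializes hsp ≫ f.stalkMap x₁
  haveI : IsIso e := inferInstanceAs (IsIso (Y.presheaf.stalkSpecializes hsp ≫ f.stalkMap x₁))
  have comm : X.fromSpecStalk x₁ ≫ f = Spec.map e ≫ Y.fromSpecStalk y := by
    rw [Spec.map_comp, Category.assoc, Scheme.SpecMap_stalkSpecializes_fromSpecStalk,
      Scheme.SpecMap_stalkMap_fromSpecStalk]
  let ℓ : Spec (X.presheaf.stalk x₁) ⟶ pullback f (Y.fromSpecStalk y) := pullback.lift _ _ comm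
  -- all points of the pullback map to `x₁`
  have hpts : ∀ t : ↥(pullback f (Y.fromSpecStalk y)),
      pullback.fst f (Y.fromSpecStalk y) t = x₁ := by
    intro t
    set x := pullback.fst f (Y.fromSpecStalk y) t with hxdef
    have hfx : f x = y := by
      have h1 : f x = Y.fromSpecStalk y (pullback.snd f (Y.fromSpecStalk y) t) := by
        rw [hxdef, ← Scheme.Hom.comp_apply, ← Scheme.Hom.comp_apply, pullback.condition]
      have h2 : Y.fromSpecStalk y (pullback.snd f (Y.fromSpecStalk y) t) ⤳ y := by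
        have : Y.fromSpecStalk y (pullback.snd f (Y.fromSpecStalk y) t) ∈
            Set.range (Y.fromSpecStalk y) := ⟨_, rfl⟩
        rwa [Scheme.range_fromSpecStalk] at this
      rw [h1]
      exact eq_of_specializes_of_mem_irreducibleComponents hy h2
    obtain ⟨x₂, hx₂, hx₂x⟩ := exists_generic_specializes x
    have hfx₂ : f x₂ = y := by
      have h3 : f x₂ ⤳ f x := f.base.hom.map_specializes hx₂x
      rw [hfx] at h3
      exact eq_of_specializes_of_mem_irreducibleComponents hy h3
    have h21 : x₂ = x₁ := hbij.injOn hx₂ hx₁ (hfx₂.trans hfx₁'.symm)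
    subst h21
    exact eq_of_specializes_of_isIso_stalkMap f hx₂x (hfx₂.trans hfx.symm)
  have hinj : Function.Injective (pullback.fst f (Y.fromSpecStalk y)) :=
    (pullback.fst f (Y.fromSpecStalk y)).isEmbedding.injective
  haveI : Subsingleton ↥(pullback f (Y.fromSpecStalk y)) :=
    ⟨fun a b => hinj ((hpts a).trans (hpts b).symm)⟩
  haveI : Nonempty ↥(pullback f (Y.fromSpecStalk y)) := ⟨ℓ (closedPoint _)⟩
  -- the pullback is the spectrum of a local ring
  haveI : Subsingleton (PrimeSpectrum Γ(pullback f (Y.fromSpecStalk y), ⊤)) :=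
    (pullback f (Y.fromSpecStalk y)).isoSpec.inv.homeomorph.injective.subsingleton
  haveI : Nonempty (PrimeSpectrum Γ(pullback f (Y.fromSpecStalk y), ⊤)) :=
    ⟨(pullback f (Y.fromSpecStalk y)).isoSpec.hom (ℓ (closedPoint _))⟩
  haveI : IsLocalRing Γ(pullback f (Y.fromSpecStalk y), ⊤) :=
    isLocalRing_of_subsingleton_primeSpectrum _
  let g : Spec Γ(pullback f (Y.fromSpecStalk y), ⊤) ⟶ X :=
    (pullback f (Y.fromSpecStalk y)).isoSpec.inv ≫ pullback.fst f (Y.fromSpecStalk y)
  have hg : g (closedPoint _) = x₁ := by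
    change ((pullback f (Y.fromSpecStalk y)).isoSpec.inv ≫ pullback.fst f (Y.fromSpecStalk y))
      (closedPoint _) = x₁
    rw [Scheme.Hom.comp_apply]
    exact hpts _
  have hsp' : g (closedPoint _) ⤳ x₁ := specializes_of_eq hg
  let q : pullback f (Y.fromSpecStalk y) ⟶ Spec (X.presheaf.stalk x₁) :=
    (pullback f (Y.fromSpecStalk y)).isoSpec.hom ≫ Spec.map (Scheme.stalkClosedPointTo g) ≫
      Spec.map (X.presheaf.stalkSpecializes hsp')
  have hq : q ≫ X.fromSpecStalk x₁ = pullback.fst f (Y.fromSpecStalk y) := by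
    change ((pullback f (Y.fromSpecStalk y)).isoSpec.hom ≫ Spec.map (Scheme.stalkClosedPointTo g) ≫
      Spec.map (X.presheaf.stalkSpecializes hsp')) ≫ X.fromSpecStalk x₁ = _
    rw [Category.assoc, Category.assoc, Scheme.SpecMap_stalkSpecializes_fromSpecStalk,
      Scheme.Spec_stalkClosedPointTo_fromSpecStalk]
    change (pullback f (Y.fromSpecStalk y)).isoSpec.hom ≫
      (pullback f (Y.fromSpecStalk y)).isoSpec.inv ≫ pullback.fst f (Y.fromSpecStalk y) = _
    rw [Iso.hom_inv_id_assoc]
  have hq2 : q ≫ Spec.map e = pullback.snd f (Y.fromSpecStalk y) := by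
    rw [← cancel_mono (Y.fromSpecStalk y), Category.assoc, ← comm, ← Category.assoc, hq,
      pullback.condition]
  have hℓq : ℓ ≫ q = 𝟙 _ := by
    rw [← cancel_mono (X.fromSpecStalk x₁), Category.assoc, hq, Category.id_comp]
    exact pullback.lift_fst _ _ comm
  have hqℓ : q ≫ ℓ = 𝟙 _ := by
    apply pullback.hom_ext
    · rw [Category.assoc, Category.id_comp]
      change q ≫ pullback.lift _ _ comm ≫ pullback.fst f (Y.fromSpecStalk y) = _
      rw [pullback.lift_fst, hq]
    · rw [Category.assoc, Category.id_comp]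
      change q ≫ pullback.lift _ _ comm ≫ pullback.snd f (Y.fromSpecStalk y) = _
      rw [pullback.lift_snd, hq2]
  haveI : IsIso q := ⟨ℓ, hqℓ, hℓq⟩
  rw [← hq2]
  infer_instance

end Scheme

end Groth.Agent.H20
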