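import Groth.Agent.H20.DVROpenConn
import Mathlib.RingTheory.Flat.TorsionFree
import Mathlib.RingTheory.RingHom.Flat
import Mathlib.AlgebraicGeometry.FunctionField

set_option autoImplicit false
universe u

namespace Groth.Agent.H20

open IsLocalRing AlgebraicGeometry CategoryTheory TopologicalSpace

section Algebra

/-- A module over a DVR on which a uniformizer acts injectively is flat. -/
theorem flat_of_isSMulRegular_irreducible {R : Type*} [CommRing R] [IsDomain R]
    [IsDiscreteValuationRing R] {M : Type*} [AddCommGroup M] [Module R M] {π : R}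
    (hπ : Irreducible π) (hreg : IsSMulRegular M π) : Module.Flat R M := by
  haveI : Module.IsTorsionFree R M := by
    refine ⟨fun r hr => ?_⟩
    have hr0 : r ≠ 0 := hr.ne_zero
    obtain ⟨n, u, rfl⟩ := IsDiscreteValuationRing.eq_unit_mul_pow_irreducible hr0 hπ
    have h1 : IsSMulRegular M (π ^ n) := hreg.pow n
    have h2 : IsSMulRegular M (u : R) := u.isUnit.isSMulRegular M
    exact h2.mul h1
  infer_instance

end Algebra

section Scheme

variable {R : Type u} [CommRing R] [IsDomain R] [IsDiscreteValuationRing R]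
variable {X : Scheme.{u}} (f : X ⟶ Spec (CommRingCat.of R))

/-- If the generic fibre of `f : X → Spec R` is dense, then on affine opens multiplication by a
uniformizer reflects nilpotency. -/
theorem isNilpotent_of_isNilpotent_mul_pullbackUniformizer_of_dense
    (hdense : Dense (f ⁻¹' {(⟨⊥, Ideal.isPrime_bot⟩ : PrimeSpectrum R)}))
    {π : R} (hπ : Irreducible π) (U : X.Opens) (hU : IsAffineOpen U) (g : Γ(X, U))
    (hg : IsNilpotent
      (g * X.presheaf.map (homOfLE (le_top : U ≤ ⊤)).op (pullbackUniformizer f π))) :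
    IsNilpotent g := by
  set t := pullbackUniformizer f π with ht
  set tU : Γ(X, U) := X.presheaf.map (homOfLE (le_top : U ≤ ⊤)).op t with htU
  have hpre := preimage_generic_eq_basicOpen f hπ
  have hempty : (X.basicOpen g : Set X) = ∅ := by
    by_contra hne
    obtain ⟨x, hx, hxt⟩ := hdense.inter_open_nonempty _ (X.basicOpen g).2
      (Set.nonempty_iff_ne_empty.mpr hne)
    have hxU : x ∈ U := X.basicOpen_le g hx
    rw [hpre] at hxt
    have h1 : IsUnit ((X.presheaf.germ U x hxU).hom g) := (Scheme.mem_basicOpen X g x hxU).mp hx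
    have hgt : (X.presheaf.germ U x hxU).hom tU = (X.presheaf.germ ⊤ x trivial).hom t :=
      TopCat.Presheaf.germ_res_apply X.presheaf (homOfLE (le_top : U ≤ ⊤)) x hxU t
    have h2 : IsUnit ((X.presheaf.germ U x hxU).hom tU) := by
      rw [hgt]
      exact (Scheme.mem_basicOpen_top X t x).mp hxt
    have h3 : IsUnit ((X.presheaf.germ U x hxU).hom (g * tU)) := by
      rw [map_mul]
      exact h1.mul h2
    have h4 : IsNilpotent ((X.presheaf.germ U x hxU).hom (g * tU)) := hg.map _
    exact (h4.not_isUnit h3)
  have hbot : X.basicOpen g = ⊥ := Opens.ext hempty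
  rw [← PrimeSpectrum.basicOpen_eq_bot_iff, ← hU.fromSpec_preimage_basicOpen, hbot]
  rfl

/-- A locally Noetherian scheme over a DVR with reduced special fibre and dense generic fibre is
flat. -/
theorem flat_of_dense_generic_of_specialFibre [IsLocallyNoetherian X]
    [AlgebraicGeometry.IsReduced (f.fiber (closedPoint R))]
    (hdense : Dense (f ⁻¹' {(⟨⊥, Ideal.isPrime_bot⟩ : PrimeSpectrum R)})) : Flat f := by
  obtain ⟨π, hπ⟩ := IsDiscreteValuationRing.exists_irreducible R
  refine HasRingHomProperty.of_iSup_eq_top (P := @Flat) (fun U : X.affineOpens => U)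
    (iSup_affineOpens_eq_top X) ?_
  rintro ⟨U, hU⟩
  haveI : IsNoetherianRing Γ(X, U) := IsLocallyNoetherian.component_noetherian ⟨U, hU⟩
  have hreg : X.presheaf.map (homOfLE (le_top : U ≤ ⊤)).op (pullbackUniformizer f π) ∈
      nonZeroDivisors Γ(X, U) :=
    mem_nonZeroDivisors_of_radical_of_nilpotent_cancel _
      (mem_span_pullbackUniformizer_of_mul_self_mem f hπ U hU)
      (isNilpotent_of_isNilpotent_mul_pullbackUniformizer_of_dense f hdense hπ U hU)
  have hbij : Function.Bijective (Scheme.ΓSpecIso (CommRingCat.of R)).inv.hom :=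
    ((Scheme.ΓSpecIso (CommRingCat.of R)).symm.commRingCatIsoToRingEquiv).bijective
  change (f.appLE ⊤ U le_top).hom.Flat
  rw [← RingHom.Flat.comp_iff_of_bijective_right hbij]
  set φ : R →+* Γ(X, U) :=
    (f.appLE ⊤ U le_top).hom.comp (Scheme.ΓSpecIso (CommRingCat.of R)).inv.hom with hφ
  have hφπ : φ π = X.presheaf.map (homOfLE (le_top : U ≤ ⊤)).op (pullbackUniformizer f π) := rfl
  algebraize [φ]
  have hsm : IsSMulRegular Γ(X, U) π := by
    intro a b hab
    have hab' : φ π * a = φ π * b := hab
    rw [hφπ] at hab'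
    have h0 : (a - b) * X.presheaf.map (homOfLE (le_top : U ≤ ⊤)).op (pullbackUniformizer f π)
        = 0 := by
      rw [sub_mul, mul_comm a, mul_comm b, hab', sub_self]
    have := (mem_nonZeroDivisors_iff_right.mp hreg) _ h0
    exact sub_eq_zero.mp this
  exact flat_of_isSMulRegular_irreducible hπ hsm

/-- Variant of `flat_of_dense_generic_of_specialFibre` phrased with `genericPoint`. -/
theorem flat_of_dense_genericPoint_of_specialFibre [IsLocallyNoetherian X]
    [AlgebraicGeometry.IsReduced (f.fiber (closedPoint R))]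
    (hdense : Dense (f ⁻¹' {genericPoint (Spec (CommRingCat.of R))})) : Flat f := by
  apply flat_of_dense_generic_of_specialFibre f
  have h : genericPoint (Spec (CommRingCat.of R)) = (⟨⊥, Ideal.isPrime_bot⟩ : PrimeSpectrum R) :=
    genericPoint_eq_bot_of_affine (CommRingCat.of R)
  rw [← h]
  exact hdense

end Scheme

end Groth.Agent.H20
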