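import Mathlib.AlgebraicGeometry.Morphisms.Affine
import Mathlib.AlgebraicGeometry.Morphisms.Immersion
import Mathlib.AlgebraicGeometry.Morphisms.ClosedImmersion

set_option autoImplicit false
universe u

namespace Groth.Agent.H20

open AlgebraicGeometry CategoryTheory TopologicalSpace Opposite

/-- A finite set of points of an open subset `W` of `Spec A` lies in a basic open contained in
`W` (prime avoidance). -/
theorem exists_basicOpen_of_finite_subset_isOpen {A : Type*} [CommRing A]
    (W : Set (PrimeSpectrum A)) (hW : IsOpen W) (E : Set (PrimeSpectrum A)) (hE : E.Finite)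
    (hEW : E ⊆ W) :
    ∃ g : A, E ⊆ (PrimeSpectrum.basicOpen g : Set (PrimeSpectrum A)) ∧
      (PrimeSpectrum.basicOpen g : Set (PrimeSpectrum A)) ⊆ W := by
  classical
  rcases E.eq_empty_or_nonempty with hEe | ⟨p₀, hp₀⟩
  · refine ⟨0, by rw [hEe]; exact Set.empty_subset _, ?_⟩
    rw [PrimeSpectrum.basicOpen_zero]
    exact Set.empty_subset _
  set J : Ideal A := PrimeSpectrum.vanishingIdeal Wᶜ with hJ
  have hzl : PrimeSpectrum.zeroLocus (J : Set A) = Wᶜ := by
    rw [hJ, PrimeSpectrum.zeroLocus_vanishingIdeal_eq_closure, hW.isClosed_compl.closure_eq]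
  have hnot : ¬ ((J : Set A) ⊆ ⋃ p ∈ (↑hE.toFinset : Set (PrimeSpectrum A)), (p.asIdeal : Set A)) := by
    intro h
    rw [Ideal.subset_union_prime (f := fun p : PrimeSpectrum A => p.asIdeal)
      p₀ p₀ (fun p _ _ _ => p.2)] at h
    · obtain ⟨p, hp, hle⟩ := h
      have hpE : p ∈ E := hE.mem_toFinset.mp hp
      have : p ∈ PrimeSpectrum.zeroLocus (J : Set A) := hle
      rw [hzl] at this
      exact this (hEW hpE)
  rw [Set.not_subset] at hnot
  obtain ⟨g, hgJ, hg⟩ := hnot
  refine ⟨g, ?_, ?_⟩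
  · intro p hp
    change g ∉ p.asIdeal
    intro hgp
    apply hg
    simp only [Set.mem_iUnion]
    exact ⟨p, by simpa using hp, hgp⟩
  · intro p hp
    by_contra hpW
    have : p ∈ PrimeSpectrum.zeroLocus (J : Set A) := by rw [hzl]; exact hpW
    exact hp (this hgJ)

/-- For an immersion `ι : X → Y` and an affine open `V` of `Y` contained in the coborder of the
range of `ι` (i.e. `ι(X) ∩ V` is closed in `V`), the preimage `ι⁻¹(V)` is affine. -/
theorem isAffineOpen_preimage_of_le_coborderRange {X Y : Scheme.{u}} (ι : X ⟶ Y) [IsImmersion ι]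
    (V : Y.Opens) (hV : IsAffineOpen V) (hle : V ≤ ι.coborderRange) :
    IsAffineOpen (ι ⁻¹ᵁ V) := by
  haveI : IsAffine V := hV
  have hrange : IsClosed (Set.range ⇑(ι ∣_ V)) := by
    have hr : Set.range ⇑(ι ∣_ V) = Subtype.val ⁻¹' (closure (Set.range ⇑ι)) := by
      ext ⟨p, hp⟩
      constructor
      · rintro ⟨x, hx⟩
        have : (ι x.1 : Y) = p := by
          have := congrArg Subtype.val hx
          rwa [morphismRestrict_base_coe] at this
        change p ∈ closure (Set.range ⇑ι)
        rw [← this]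
        exact subset_closure (Set.mem_range_self _)
      · intro hpc
        have hpc' : p ∈ closure (Set.range ⇑ι) := hpc
        have hpcob : p ∈ coborder (Set.range ⇑ι) := hle hp
        have hpr : p ∈ Set.range ⇑ι := by
          by_contra hnr
          exact hpcob ⟨hpc', hnr⟩
        obtain ⟨x, rfl⟩ := hpr
        refine ⟨⟨x, hp⟩, ?_⟩
        apply Subtype.ext
        rw [morphismRestrict_base_coe]
    rw [hr]
    exact isClosed_closure.preimage continuous_subtype_val
  haveI : IsClosedImmersion (ι ∣_ V) := IsClosedImmersion.of_isPreimmersion _ hrange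
  exact isAffine_of_isAffineHom (ι ∣_ V)

/-- If `X` admits an immersion into an affine scheme then any finite set of points of `X` is
contained in an affine open. -/
theorem exists_isAffineOpen_of_finite_of_immersion {X Y : Scheme.{u}} [IsAffine Y] (ι : X ⟶ Y)
    [IsImmersion ι] (E : Set X) (hE : E.Finite) :
    ∃ U : X.Opens, IsAffineOpen U ∧ E ⊆ U := by
  -- transport to `Spec Γ(Y, ⊤)`
  let e : Y ⟶ Spec Γ(Y, ⊤) := Y.toSpecΓ
  haveI : IsIso e := inferInstanceAs (IsIso Y.toSpecΓ)
  let he : Y ≃ₜ Spec Γ(Y, ⊤) := Scheme.homeoOfIso (asIso e)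
  have hecoe : ∀ y : Y, he y = e y := fun y => rfl
  set W : Set (PrimeSpectrum Γ(Y, ⊤)) := he '' (ι.coborderRange : Set Y) with hW
  have hWo : IsOpen W := he.isOpenMap _ ι.coborderRange.2
  set E' : Set (PrimeSpectrum Γ(Y, ⊤)) := he '' (ι '' E) with hE'
  have hE'fin : E'.Finite := (hE.image _).image _
  have hE'W : E' ⊆ W := by
    apply Set.image_mono
    rintro _ ⟨x, -, rfl⟩
    exact subset_coborder (Set.mem_range_self x)
  obtain ⟨g, hg1, hg2⟩ := exists_basicOpen_of_finite_subset_isOpen W hWo E' hE'fin hE'W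
  have hbo : e ⁻¹ᵁ (PrimeSpectrum.basicOpen g) = Y.basicOpen g :=
    Scheme.toSpecΓ_preimage_basicOpen Y g
  have hmem : ∀ y : Y, y ∈ Y.basicOpen g ↔
      he y ∈ (PrimeSpectrum.basicOpen g : Set (PrimeSpectrum Γ(Y, ⊤))) := by
    intro y
    rw [← hbo]
    exact Iff.rfl
  refine ⟨ι ⁻¹ᵁ (Y.basicOpen g), ?_, ?_⟩
  · apply isAffineOpen_preimage_of_le_coborderRange ι _ ((isAffineOpen_top Y).basicOpen g)
    intro y hy
    have h1 := hg2 ((hmem y).mp hy)
    obtain ⟨y', hy', hyy'⟩ := h1
    rw [he.injective hyy'] at hy'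
    exact hy'
  · intro x hx
    change ι x ∈ Y.basicOpen g
    rw [hmem]
    exact hg1 ⟨ι x, ⟨x, hx, rfl⟩, rfl⟩

end Groth.Agent.H20
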