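import Mathlib.AlgebraicGeometry.IdealSheaf.Functorial
import Mathlib.AlgebraicGeometry.Pullbacks
import Mathlib.AlgebraicGeometry.Morphisms.ClosedImmersion
import Mathlib.RingTheory.Ideal.Quotient.Operations
import Mathlib.RingTheory.Ideal.Maps

set_option autoImplicit false
universe u

open CategoryTheory CategoryTheory.Limits AlgebraicGeometry

namespace Groth.Agent.H20

/-- The square `B → A`, `B → B ⧸ 𝔟`, `A → A ⧸ 𝔟A`, `B ⧸ 𝔟 → A ⧸ 𝔟A` is a pushout of commutative rings. -/
lemma isPushout_quotient {A B : Type u} [CommRing A] [CommRing B] (φ : B →+* A) (𝔟 : Ideal B) :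
    IsPushout (CommRingCat.ofHom φ) (CommRingCat.ofHom (Ideal.Quotient.mk 𝔟))
      (CommRingCat.ofHom (Ideal.Quotient.mk (𝔟.map φ)))
      (CommRingCat.ofHom (Ideal.quotientMap (𝔟.map φ) φ Ideal.le_comap_map)) := by
  have w : CommRingCat.ofHom φ ≫ CommRingCat.ofHom (Ideal.Quotient.mk (𝔟.map φ)) =
      CommRingCat.ofHom (Ideal.Quotient.mk 𝔟) ≫
        CommRingCat.ofHom (Ideal.quotientMap (𝔟.map φ) φ Ideal.le_comap_map) := by
    ext x
    simp
  refine IsPushout.of_isColimit' ⟨w⟩ ?_
  have key : ∀ s : PushoutCocone (CommRingCat.ofHom φ) (CommRingCat.ofHom (Ideal.Quotient.mk 𝔟)),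
      ∀ a ∈ 𝔟.map φ, s.inl.hom a = 0 := by
    intro s a ha
    have h1 : 𝔟.map φ ≤ RingHom.ker s.inl.hom := by
      rw [Ideal.map_le_iff_le_comap]
      intro x hx
      rw [Ideal.mem_comap, RingHom.mem_ker]
      have h2 := congrArg (fun k => k.hom x) s.condition
      simp only [CommRingCat.hom_comp, CommRingCat.hom_ofHom, RingHom.coe_comp,
        Function.comp_apply] at h2
      rw [h2, Ideal.Quotient.eq_zero_iff_mem.mpr hx, map_zero]
    exact h1 ha
  refine PushoutCocone.IsColimit.mk _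
    (fun s => CommRingCat.ofHom (Ideal.Quotient.lift (𝔟.map φ) s.inl.hom (key s))) ?_ ?_ ?_
  · intro s
    ext x
    simp
  · intro s
    ext y
    have h2 := congrArg (fun k => k.hom y) s.condition
    simp only [CommRingCat.hom_comp, CommRingCat.hom_ofHom, RingHom.coe_comp,
      Function.comp_apply] at h2
    simpa using h2
  · intro s m h1 _
    ext y
    have h2 := congrArg (fun k => k.hom y) h1
    simpa using h2

/-- The inverse image of the ideal sheaf of `𝔟` under `Spec φ` is the ideal sheaf of `𝔟A`. -/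
lemma comap_ker_SpecMap_quotient {A B : Type u} [CommRing A] [CommRing B] (φ : B →+* A)
    (𝔟 : Ideal B) :
    (Spec.map (CommRingCat.ofHom (Ideal.Quotient.mk 𝔟))).ker.comap (Spec.map (CommRingCat.ofHom φ)) =
      (Spec.map (CommRingCat.ofHom (Ideal.Quotient.mk (𝔟.map φ)))).ker := by
  have h := isPullback_SpecMap_of_isPushout _ _ _ _ (isPushout_quotient φ 𝔟)
  have : IsClosedImmersion (Spec.map (CommRingCat.ofHom (Ideal.Quotient.mk 𝔟))) :=
    IsClosedImmersion.spec_of_surjective _ Ideal.Quotient.mk_surjective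
  rw [← Scheme.IdealSheafData.ker_fst_of_isClosedImmersion, ← h.isoPullback_hom_fst,
    Scheme.Hom.ker_comp_of_isIso]

end Groth.Agent.H20
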