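import Mathlib.AlgebraicGeometry.IdealSheaf.Functorial
import Mathlib.AlgebraicGeometry.Pullbacks
import Mathlib.AlgebraicGeometry.Morphisms.ClosedImmersion
import Mathlib.RingTheory.Ideal.Quotient.Operations
import Mathlib.RingTheory.Ideal.Maps
import Groth.Agent.H20.QuotPushout

set_option autoImplicit false
universe u

open CategoryTheory CategoryTheory.Limits AlgebraicGeometry

namespace Groth.Agent.H20

lemma ideal_comap_mul_of_bijective {R S : Type*} [CommRing R] [CommRing S] (f : R →+* S)
    (hf : Function.Bijective f) (a b : Ideal S) :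
    (a * b).comap f = a.comap f * b.comap f := by
  have h1 : ∀ c : Ideal S, (c.comap f).map f = c :=
    fun c => Ideal.map_comap_of_surjective f hf.2 c
  conv_lhs => rw [← h1 a, ← h1 b, ← Ideal.map_mul, Ideal.comap_map_of_bijective f hf]

variable {X Y : Scheme.{u}}

/-- Inverse image of ideal sheaves along an open immersion is multiplicative. -/
lemma comap_mul_of_isOpenImmersion (I J : Y.IdealSheafData) (f : X ⟶ Y) [IsOpenImmersion f] :
    (I * J).comap f = I.comap f * J.comap f := by
  apply Scheme.IdealSheafData.ext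
  funext U
  rw [Scheme.IdealSheafData.ideal_comap_of_isOpenImmersion, Scheme.IdealSheafData.ideal_mul,
    Pi.mul_apply, Scheme.IdealSheafData.ideal_mul, Pi.mul_apply,
    Scheme.IdealSheafData.ideal_comap_of_isOpenImmersion,
    Scheme.IdealSheafData.ideal_comap_of_isOpenImmersion]
  exact ideal_comap_mul_of_bijective _
    (ConcreteCategory.bijective_of_isIso (f.appIso U).inv) _ _

end Groth.Agent.H20

namespace Groth.Agent.H20

section SpecCase

variable (A : Type u) [CommRing A]

/-- The ideal sheaf on `Spec A` of an ideal of `A`. -/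
noncomputable def specIdeal (K : Ideal A) : (Spec (CommRingCat.of A)).IdealSheafData :=
  (Spec.map (CommRingCat.ofHom (Ideal.Quotient.mk K))).ker

lemma specIdeal_eq (K : Ideal A) :
    specIdeal A K = Scheme.IdealSheafData.ofIdealTop
      (K.comap (Scheme.ΓSpecIso (CommRingCat.of A)).hom.hom) := by
  rw [specIdeal, Scheme.ker_of_isAffine]
  congr 1
  ext x
  simp only [RingHom.mem_ker, Ideal.mem_comap]
  have h := Scheme.ΓSpecIso_naturality (CommRingCat.ofHom (Ideal.Quotient.mk K))
  have h2 : (Scheme.ΓSpecIso (CommRingCat.of (A ⧸ K))).hom.hom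
      ((Spec.map (CommRingCat.ofHom (Ideal.Quotient.mk K))).appTop.hom x) =
      (Ideal.Quotient.mk K) ((Scheme.ΓSpecIso (CommRingCat.of A)).hom.hom x) := by
    have := congrArg (fun g => g.hom x) h
    exact this
  rw [← Ideal.Quotient.eq_zero_iff_mem, ← h2]
  constructor
  · intro hx; rw [hx, map_zero]
  · intro hx
    have hinj : Function.Injective (Scheme.ΓSpecIso (CommRingCat.of (A ⧸ K))).hom.hom :=
      (ConcreteCategory.bijective_of_isIso (Scheme.ΓSpecIso (CommRingCat.of (A ⧸ K))).hom).1
    exact hinj (by rw [hx, map_zero])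

lemma specIdeal_mul (K L : Ideal A) : specIdeal A (K * L) = specIdeal A K * specIdeal A L := by
  rw [specIdeal_eq, specIdeal_eq, specIdeal_eq,
    ideal_comap_mul_of_bijective _
      (ConcreteCategory.bijective_of_isIso (Scheme.ΓSpecIso (CommRingCat.of A)).hom)]
  exact map_mul (Scheme.IdealSheafData.equivOfIsAffine (X := Spec (CommRingCat.of A))).symm _ _

lemma exists_eq_specIdeal (I : (Spec (CommRingCat.of A)).IdealSheafData) :
    ∃ K : Ideal A, I = specIdeal A K := by
  refine ⟨(I.ideal ⟨⊤, isAffineOpen_top _⟩).comap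
    (Scheme.ΓSpecIso (CommRingCat.of A)).inv.hom, ?_⟩
  rw [specIdeal_eq, Ideal.comap_comap, ← CommRingCat.hom_comp, Iso.hom_inv_id]
  exact ((Scheme.IdealSheafData.equivOfIsAffine
    (X := Spec (CommRingCat.of A))).left_inv I).symm

variable {A} {B : Type u} [CommRing B]

lemma comap_specIdeal (φ : B →+* A) (K : Ideal B) :
    (specIdeal B K).comap (Spec.map (CommRingCat.ofHom φ)) = specIdeal A (K.map φ) :=
  comap_ker_SpecMap_quotient φ K

lemma comap_mul_SpecMap (φ : B →+* A) (I J : (Spec (CommRingCat.of B)).IdealSheafData) :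
    (I * J).comap (Spec.map (CommRingCat.ofHom φ)) =
      I.comap (Spec.map (CommRingCat.ofHom φ)) * J.comap (Spec.map (CommRingCat.ofHom φ)) := by
  obtain ⟨K, rfl⟩ := exists_eq_specIdeal B I
  obtain ⟨L, rfl⟩ := exists_eq_specIdeal B J
  rw [← specIdeal_mul, comap_specIdeal, comap_specIdeal, comap_specIdeal, Ideal.map_mul,
    specIdeal_mul]

end SpecCase

end Groth.Agent.H20

namespace Groth.Agent.H20

lemma comap_mul_SpecMap' {R S : CommRingCat.{u}} (φ : R ⟶ S) (I J : (Spec R).IdealSheafData) :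
    (I * J).comap (Spec.map φ) = I.comap (Spec.map φ) * J.comap (Spec.map φ) :=
  comap_mul_SpecMap φ.hom I J

variable {X Y : Scheme.{u}}

/-- Inverse image of ideal sheaves is multiplicative for morphisms of affine schemes. -/
lemma comap_mul_of_isAffine [IsAffine X] [IsAffine Y] (f : X ⟶ Y) (I J : Y.IdealSheafData) :
    (I * J).comap f = I.comap f * J.comap f := by
  have hf : f = X.isoSpec.hom ≫ Spec.map f.appTop ≫ Y.isoSpec.inv := by
    rw [← Category.assoc, Scheme.isoSpec_hom_naturality, Category.assoc, Iso.hom_inv_id,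
      Category.comp_id]
  rw [hf]
  simp only [Scheme.IdealSheafData.comap_comp]
  rw [comap_mul_of_isOpenImmersion, comap_mul_SpecMap', comap_mul_of_isOpenImmersion]

end Groth.Agent.H20

namespace Groth.Agent.H20

variable {X Y : Scheme.{u}}

/-- Ideal sheaves agreeing after restriction to the members of an affine open cover agree. -/
lemma idealSheaf_ext_of_comap_ι {ι : Type*} (U : ι → X.affineOpens) (hU : ⨆ i, (U i).1 = ⊤)
    (K K' : X.IdealSheafData) (H : ∀ i, K.comap (U i).1.ι = K'.comap (U i).1.ι) : K = K' := by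
  have hA : ∀ i, IsAffine ↑(U i).1 := fun i => (U i).2
  let U' : ι → X.affineOpens := fun i =>
    ⟨(U i).1.ι ''ᵁ ⊤, (isAffineOpen_top _).image_of_isOpenImmersion _⟩
  have hU' : ⨆ i, (U' i).1 = ⊤ := by
    rw [← hU]
    congr 1
    funext i
    exact Scheme.Opens.ι_image_top _
  refine Scheme.IdealSheafData.ext_of_iSup_eq_top U' hU' fun i => ?_
  have h1 := Scheme.IdealSheafData.ideal_comap_of_isOpenImmersion K (U i).1.ι
    ⟨⊤, isAffineOpen_top _⟩
  have h2 := Scheme.IdealSheafData.ideal_comap_of_isOpenImmersion K' (U i).1.ι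
    ⟨⊤, isAffineOpen_top _⟩
  rw [H i, h2] at h1
  exact (Ideal.comap_injective_of_surjective _
    (ConcreteCategory.bijective_of_isIso ((U i).1.ι.appIso ⊤).inv).2 h1).symm

/-- Inverse image of ideal sheaves is multiplicative. -/
theorem comap_mul (f : X ⟶ Y) (I J : Y.IdealSheafData) :
    (I * J).comap f = I.comap f * J.comap f := by
  have key : ∀ x : X, ∃ (V : Y.affineOpens) (U : X.affineOpens), x ∈ U.1 ∧ U.1 ≤ f ⁻¹ᵁ V.1 := by
    intro x
    obtain ⟨_, ⟨V, hV, rfl⟩, hxV, -⟩ :=
      Y.isBasis_affineOpens.exists_subset_of_mem_open (Set.mem_univ (f x)) isOpen_univ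
    obtain ⟨_, ⟨U, hU, rfl⟩, hxU, hUV⟩ :=
      X.isBasis_affineOpens.exists_subset_of_mem_open (a := x)
        (show x ∈ ((f ⁻¹ᵁ V : X.Opens) : Set X) from hxV) (f ⁻¹ᵁ V).2
    exact ⟨⟨V, hV⟩, ⟨U, hU⟩, hxU, hUV⟩
  choose V U hxU hUV using key
  have hcov : ⨆ x, (U x).1 = ⊤ := by
    rw [eq_top_iff]
    intro x _
    exact TopologicalSpace.Opens.mem_iSup.mpr ⟨x, hxU x⟩
  refine idealSheaf_ext_of_comap_ι U hcov _ _ fun x => ?_
  have hA : IsAffine ↑(U x).1 := (U x).2
  have hB : IsAffine ↑(V x).1 := (V x).2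
  have hres := Scheme.Hom.resLE_comp_ι f (hUV x)
  have hc : ∀ K : Y.IdealSheafData, (K.comap f).comap (U x).1.ι =
      (K.comap (V x).1.ι).comap (f.resLE (V x).1 (U x).1 (hUV x)) := by
    intro K
    rw [← Scheme.IdealSheafData.comap_comp, ← Scheme.IdealSheafData.comap_comp, hres]
  rw [comap_mul_of_isOpenImmersion (I.comap f) (J.comap f) (U x).1.ι, hc, hc, hc,
    comap_mul_of_isOpenImmersion I J (V x).1.ι, comap_mul_of_isAffine]

/-- Inverse image of ideal sheaves commutes with powers. -/
theorem comap_pow (f : X ⟶ Y) (I : Y.IdealSheafData) (n : ℕ) :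
    (I ^ n).comap f = (I.comap f) ^ n := by
  induction n with
  | zero =>
    rw [pow_zero, pow_zero, Scheme.IdealSheafData.one_eq_top, Scheme.IdealSheafData.one_eq_top,
      Scheme.IdealSheafData.comap_top]
  | succ n ih => rw [pow_succ, pow_succ, comap_mul, ih]

end Groth.Agent.H20
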