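import Mathlib
import Groth.Prelude.Def_W4c6modpairsegaMP
import Groth.Agent.H19.ComapAff

/-!
# The interior of a modulus pair with locally principal ideal

Complement of the support of a locally principal ideal sheaf: locally a basic open, so its
inclusion is an affine morphism; consequences for scheme-theoretic density.
-/

set_option autoImplicit false
universe u

open CategoryTheory CategoryTheory.Limits AlgebraicGeometry TopologicalSpace Opposite

namespace Groth.Agent.H20.EffCartierInterior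

variable {X : Scheme.{u}}

/-- On an affine open where `I` is generated by `a`, the interior is `D(a)`. -/
lemma interior_inf_eq_basicOpen (I : X.IdealSheafData) (U : X.affineOpens) (a : Γ(X, U.1))
    (h : I.ideal U = Ideal.span {a}) : ModPair.interior I ⊓ U.1 = X.basicOpen a := by
  ext x
  constructor
  · rintro ⟨hxI, hxU⟩
    have hns : ¬ x ∈ I.support := hxI
    rw [Scheme.IdealSheafData.mem_support_iff_of_mem hxU, h, Scheme.mem_zeroLocus_iff] at hns
    push Not at hns
    obtain ⟨b, hb, hxb⟩ := hns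
    obtain ⟨c, rfl⟩ := Ideal.mem_span_singleton'.mp hb
    rw [Scheme.basicOpen_mul] at hxb
    exact hxb.2
  · intro hx
    have hxU : x ∈ U.1 := X.basicOpen_le a hx
    refine ⟨?_, hxU⟩
    change ¬ x ∈ I.support
    rw [Scheme.IdealSheafData.mem_support_iff_of_mem hxU, h, Scheme.mem_zeroLocus_iff]
    push Not
    exact ⟨a, Ideal.mem_span_singleton_self a, hx⟩

/-- Preimage version. -/
lemma preimage_interior_inf_eq_basicOpen {X' : Scheme.{u}} (f : X' ⟶ X) (I : X.IdealSheafData)
    (U : X.affineOpens) (a : Γ(X, U.1)) (h : I.ideal U = Ideal.span {a}) (U' : X'.Opens)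
    (e : U' ≤ f ⁻¹ᵁ U.1) :
    f ⁻¹ᵁ ModPair.interior I ⊓ U' = X'.basicOpen (f.appLE U.1 U' e a) := by
  have h1 : f ⁻¹ᵁ ModPair.interior I ⊓ U' = f ⁻¹ᵁ (ModPair.interior I ⊓ U.1) ⊓ U' := by
    ext x
    constructor
    · rintro ⟨h1, h2⟩
      exact ⟨⟨h1, e h2⟩, h2⟩
    · rintro ⟨⟨h1, -⟩, h2⟩
      exact ⟨h1, h2⟩
  rw [h1, interior_inf_eq_basicOpen I U a h, Scheme.preimage_basicOpen, Scheme.Hom.appLE,
    CommRingCat.comp_apply, Scheme.basicOpen_res, inf_comm]

/-- The inclusion of an open that is locally a basic open is an affine morphism. -/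
lemma isAffineHom_ι_of_locally_basicOpen (V : X.Opens)
    (h : ∀ x : X, ∃ U : X.Opens, x ∈ U ∧ IsAffineOpen U ∧ ∃ a : Γ(X, U), V ⊓ U = X.basicOpen a) :
    IsAffineHom V.ι := by
  apply isAffineHom_of_forall_exists_isAffineOpen
  intro x
  obtain ⟨U, hxU, hU, a, ha⟩ := h x
  refine ⟨U, hxU, hU, ?_⟩
  rw [← V.ι.isAffineOpen_iff_of_isOpenImmersion, Scheme.Hom.image_preimage_eq_opensRange_inf,
    Scheme.Opens.opensRange_ι, ha]
  exact hU.basicOpen a

/-- Local data at a point of `X'` for the pullback of an effective Cartier ideal. -/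
lemma exists_local_data {X' : Scheme.{u}} (I : X.IdealSheafData)
    (hI : BlowUp.IsEffCartierIdeal I) (f : X' ⟶ X) (x' : X') :
    ∃ (U' : X'.affineOpens) (a' : Γ(X', U'.1)), x' ∈ U'.1 ∧
      f ⁻¹ᵁ ModPair.interior I ⊓ U'.1 = X'.basicOpen a' ∧
      (I.comap f).ideal U' = Ideal.span {a'} := by
  obtain ⟨U, hxU, a, -, hIU⟩ := hI (f x')
  obtain ⟨_, ⟨U', hU', rfl⟩, hxU', hle⟩ :=
    X'.isBasis_affineOpens.exists_subset_of_mem_open
      (show x' ∈ ((f ⁻¹ᵁ U.1 : X'.Opens) : Set X') from hxU) (f ⁻¹ᵁ U.1).isOpen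
  refine ⟨⟨U', hU'⟩, f.appLE U.1 U' hle a, hxU', ?_, ?_⟩
  · exact preimage_interior_inf_eq_basicOpen f I U a hIU U' hle
  · rw [Groth.Agent.H19.ComapAff.ideal_comap_appLE f I U ⟨U', hU'⟩ hle, hIU, Ideal.map_span,
      Set.image_singleton]

/-- The preimage of the interior of an effective Cartier ideal has affine inclusion. -/
lemma isAffineHom_preimage_interior_ι {X' : Scheme.{u}} (I : X.IdealSheafData)
    (hI : BlowUp.IsEffCartierIdeal I) (f : X' ⟶ X) :
    IsAffineHom (f ⁻¹ᵁ ModPair.interior I).ι := by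
  apply isAffineHom_ι_of_locally_basicOpen
  intro x'
  obtain ⟨U', a', hx', h1, -⟩ := exists_local_data I hI f x'
  exact ⟨U'.1, hx', U'.2, a', h1⟩

/-- If `D(a)` is scheme-theoretically dense (through a quasi-compact scheme-theoretically
dominant open `V` with `V ⊓ U = D(a)`), then `a` is a nonzerodivisor. -/
lemma mem_nonZeroDivisors_of_dominant (V : X.Opens) [IsSchemeTheoreticallyDominant V.ι]
    [QuasiCompact V.ι] (U : X.Opens) (a : Γ(X, U)) (h : V ⊓ U = X.basicOpen a) :
    a ∈ nonZeroDivisors Γ(X, U) := by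
  have hinj : Function.Injective (X.presheaf.map (homOfLE (X.basicOpen_le a)).op) := by
    intro s t hst
    apply V.ι.app_injective U
    have hle : V.ι ''ᵁ V.ι ⁻¹ᵁ U ≤ X.basicOpen a := by
      rw [Scheme.Hom.image_preimage_eq_opensRange_inf, Scheme.Opens.opensRange_ι, h]
    have key : ∀ s : Γ(X, U), V.ι.app U s = X.presheaf.map (homOfLE hle).op
        (X.presheaf.map (homOfLE (X.basicOpen_le a)).op s) := by
      intro s
      rw [← CommRingCat.comp_apply, ← Functor.map_comp]
      rfl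
    rw [key, key, hst]
  rw [mem_nonZeroDivisors_iff_right]
  intro z hz
  apply hinj
  have hu : IsUnit (X.presheaf.map (homOfLE (X.basicOpen_le a)).op a) :=
    X.toRingedSpace.isUnit_res_basicOpen a
  have h0 : X.presheaf.map (homOfLE (X.basicOpen_le a)).op z *
      X.presheaf.map (homOfLE (X.basicOpen_le a)).op a = 0 := by
    rw [← map_mul, hz, map_zero]
  rw [map_zero]
  exact (hu.mul_left_eq_zero).mp h0

/-- **Main theorem**: scheme-theoretic density and effective Cartier pullback. -/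
theorem main {X' : Scheme.{u}} (I : X.IdealSheafData) (hI : BlowUp.IsEffCartierIdeal I)
    (f : X' ⟶ X) [IsSchemeTheoreticallyDominant (f ⁻¹ᵁ ModPair.interior I).ι] :
    (∀ W : X'.Opens, IsSchemeTheoreticallyDominant
        (X'.homOfLE (inf_le_right : f ⁻¹ᵁ ModPair.interior I ⊓ W ≤ W))) ∧
      BlowUp.IsEffCartierIdeal (I.comap f) := by
  have haff : IsAffineHom (f ⁻¹ᵁ ModPair.interior I).ι := isAffineHom_preimage_interior_ι I hI f
  refine ⟨fun W => ?_, fun x' => ?_⟩
  · exact IsSchemeTheoreticallyDominant.of_isPullback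
      (isPullback_opens_inf (f ⁻¹ᵁ ModPair.interior I) W)
  · obtain ⟨U', a', hx', h1, h2⟩ := exists_local_data I hI f x'
    exact ⟨U', hx', a', mem_nonZeroDivisors_of_dominant _ U'.1 a' h1, h2⟩

end Groth.Agent.H20.EffCartierInterior
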