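import Mathlib
import Groth.Prelude.Def_W4c6modpairsegaMP
import Groth.Agent.H20.EffCartierInterior

/-!
# Flat minimal base change of modulus pairs
-/

set_option autoImplicit false
universe u

open CategoryTheory CategoryTheory.Limits AlgebraicGeometry TopologicalSpace Opposite

namespace Groth.Agent.H20.ModPairFlat

open Groth.Agent.H20.EffCartierInterior

variable {X : Scheme.{u}}

/-- The complement of an effective Cartier divisor is scheme-theoretically dense. -/
lemma isSchemeTheoreticallyDominant_interior_ι (I : X.IdealSheafData)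
    (hI : BlowUp.IsEffCartierIdeal I) :
    IsSchemeTheoreticallyDominant (ModPair.interior I).ι := by
  have haff : IsAffineHom (ModPair.interior I).ι := by
    apply isAffineHom_ι_of_locally_basicOpen
    intro x
    obtain ⟨U, hxU, a, -, hIU⟩ := hI x
    exact ⟨U.1, hxU, U.2, a, interior_inf_eq_basicOpen I U a hIU⟩
  rw [isSchemeTheoreticallyDominant_iff]
  choose U hxU a ha hIU using hI
  refine Scheme.IdealSheafData.ext_of_iSup_eq_top U ?_ ?_
  · exact top_le_iff.mp (fun x _ ↦ by simpa using ⟨x, hxU x⟩)
  · intro x
    rw [Scheme.Hom.ker_apply, Scheme.IdealSheafData.ideal_bot, Pi.bot_apply,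
      ← RingHom.injective_iff_ker_eq_bot]
    have hD : ModPair.interior I ⊓ (U x).1 = X.basicOpen (a x) :=
      interior_inf_eq_basicOpen I (U x) (a x) (hIU x)
    have hge : X.basicOpen (a x) ≤
        (ModPair.interior I).ι ''ᵁ (ModPair.interior I).ι ⁻¹ᵁ (U x).1 := by
      rw [Scheme.Hom.image_preimage_eq_opensRange_inf, Scheme.Opens.opensRange_ι, hD]
    have hle' : (ModPair.interior I).ι ''ᵁ (ModPair.interior I).ι ⁻¹ᵁ (U x).1 ≤ (U x).1 :=
      Set.image_preimage_subset _ _
    have key : ∀ s : Γ(X, (U x).1), X.presheaf.map (homOfLE (X.basicOpen_le (a x))).op s =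
        X.presheaf.map (homOfLE hge).op (X.presheaf.map (homOfLE hle').op s) := by
      intro s
      rw [← CommRingCat.comp_apply, ← Functor.map_comp]
      rfl
    have hloc : Function.Injective (X.presheaf.map (homOfLE (X.basicOpen_le (a x))).op) := by
      let _ := (X.presheaf.map (homOfLE (X.basicOpen_le (a x))).op).hom.toAlgebra
      have := (U x).2.isLocalization_basicOpen (a x)
      exact IsLocalization.injective Γ(X, X.basicOpen (a x))
        (Submonoid.powers_le.mpr (ha x))
    intro s t hst
    have hst' : X.presheaf.map (homOfLE hle').op s = X.presheaf.map (homOfLE hle').op t := hst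
    apply hloc
    rw [key, key, hst']

/-- The inclusion of the interior of an effective Cartier ideal is affine. -/
lemma isAffineHom_interior_ι (I : X.IdealSheafData) (hI : BlowUp.IsEffCartierIdeal I) :
    IsAffineHom (ModPair.interior I).ι := by
  apply isAffineHom_ι_of_locally_basicOpen
  intro x
  obtain ⟨U, hxU, a, -, hIU⟩ := hI x
  exact ⟨U.1, hxU, U.2, a, interior_inf_eq_basicOpen I U a hIU⟩

/-- **Flat minimal base change of modulus pairs.** -/
theorem main {S T : Scheme.{u}} (IS : S.IdealSheafData)
    (IT : T.IdealSheafData) (IX : X.IdealSheafData) (hX : BlowUp.IsEffCartierIdeal IX)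
    (p : X ⟶ S) (hp : ModPair.IsAmbient IX IS p) (f : T ⟶ S) (hf : ModPair.IsMinimal IT IS f)
    [Flat f] :
    IsSchemeTheoreticallyDominant (ModPair.prodInterior p f IX IT).ι ∧
      IsIso (ModPair.mprodι p f IX IT) ∧
      BlowUp.IsEffCartierIdeal (IX.comap (pullback.fst p f)) := by
  have heq : ModPair.prodInterior p f IX IT = pullback.fst p f ⁻¹ᵁ ModPair.interior IX := by
    apply inf_eq_left.mpr
    intro x hx
    have hx' : pullback.fst p f x ∉ IX.support := hx
    change pullback.snd p f x ∉ IT.support
    rw [hf, Scheme.IdealSheafData.support_comap]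
    intro hmem
    apply hx'
    have hmem' : f (pullback.snd p f x) ∈ IS.support := hmem
    have h2 : pullback.fst p f x ∈ (IS.comap p).support := by
      rw [Scheme.IdealSheafData.support_comap]
      change p (pullback.fst p f x) ∈ IS.support
      rw [← Scheme.Hom.comp_apply, pullback.condition, Scheme.Hom.comp_apply]
      exact hmem'
    exact Scheme.IdealSheafData.support_antitone hp h2
  have hdomX := isSchemeTheoreticallyDominant_interior_ι IX hX
  have haffX := isAffineHom_interior_ι IX hX
  have hdom1 : IsSchemeTheoreticallyDominant (pullback.fst p f ⁻¹ᵁ ModPair.interior IX).ι :=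
    IsSchemeTheoreticallyDominant.of_isPullback
      (isPullback_morphismRestrict (pullback.fst p f) (ModPair.interior IX))
  have hdom : IsSchemeTheoreticallyDominant (ModPair.prodInterior p f IX IT).ι := heq ▸ hdom1
  refine ⟨hdom, ?_, ?_⟩
  · exact (Scheme.isIso_subschemeι_iff_eq_bot _).mpr
      (ModPair.prodInterior p f IX IT).ι.ker_eq_bot
  · exact (Groth.Agent.H20.EffCartierInterior.main IX hX (pullback.fst p f)).2

end Groth.Agent.H20.ModPairFlat
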