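import Mathlib
import Groth.Prelude.Def_W4c6modpairsegaMP
import Groth.Agent.H20.ModPairFlat
import Groth.Agent.S18731

/-!
# Box products of modulus pairs whose pulled-back moduli stay effective Cartier
-/

set_option autoImplicit false
universe u

open CategoryTheory CategoryTheory.Limits AlgebraicGeometry TopologicalSpace Opposite

namespace Groth.Agent.H20.ModPairBox

open Groth.Agent.H20.EffCartierInterior Groth.Agent.H20.ModPairFlat

variable {X : Scheme.{u}}

/-- The interior of a pulled-back ideal sheaf is the preimage of the interior. -/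
lemma interior_comap {Y : Scheme.{u}} (f : X ⟶ Y) (I : Y.IdealSheafData) :
    ModPair.interior (I.comap f) = f ⁻¹ᵁ ModPair.interior I := by
  ext x
  change x ∉ (I.comap f).support ↔ f x ∉ I.support
  rw [Scheme.IdealSheafData.support_comap]
  rfl

/-- The intersection of the interiors of two effective Cartier ideals is scheme-theoretically
dense. -/
lemma isSchemeTheoreticallyDominant_inf_interior_ι (I₁ I₂ : X.IdealSheafData)
    (h₁ : BlowUp.IsEffCartierIdeal I₁) (h₂ : BlowUp.IsEffCartierIdeal I₂) :
    IsSchemeTheoreticallyDominant (ModPair.interior I₁ ⊓ ModPair.interior I₂).ι := by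
  have hd1 := isSchemeTheoreticallyDominant_interior_ι I₁ h₁
  have hd2 := isSchemeTheoreticallyDominant_interior_ι I₂ h₂
  have ha1 := isAffineHom_interior_ι I₁ h₁
  have ha2 := isAffineHom_interior_ι I₂ h₂
  have h3 : IsSchemeTheoreticallyDominant
      (X.homOfLE (inf_le_left : ModPair.interior I₁ ⊓ ModPair.interior I₂ ≤ ModPair.interior I₁)) :=
    IsSchemeTheoreticallyDominant.of_isPullback
      (isPullback_opens_inf (ModPair.interior I₁) (ModPair.interior I₂)).flip
  rw [← Scheme.homOfLE_ι X (inf_le_left : ModPair.interior I₁ ⊓ ModPair.interior I₂ ≤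
    ModPair.interior I₁)]
  infer_instance

/-- **Box product with effective Cartier pulled-back moduli.** -/
theorem main {T S : Scheme.{u}}
    (IS : S.IdealSheafData) (IX : X.IdealSheafData) (IT : T.IdealSheafData)
    (hS : BlowUp.IsEffCartierIdeal IS) (f : X ⟶ S) (g : T ⟶ S)
    (hf : ModPair.IsAmbient IX IS f)
    (h₁ : BlowUp.IsEffCartierIdeal (IX.comap (pullback.fst f g)))
    (h₂ : BlowUp.IsEffCartierIdeal (IT.comap (pullback.snd f g))) :
    BlowUp.IsEffCartierIdeal (IS.comap (pullback.fst f g ≫ f)) ∧
      IsIso (ModPair.mprodι f g IX IT) := by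
  constructor
  · refine Groth.Agent.S18731.result (IX.comap (pullback.fst f g)) IS h₁ hS (pullback.fst f g ≫ f) ?_
    change IX.comap (pullback.fst f g) ≤ IS.comap (pullback.fst f g ≫ f)
    rw [Scheme.IdealSheafData.comap_comp]
    exact Scheme.IdealSheafData.comap_mono _ hf
  · have heq : ModPair.prodInterior f g IX IT =
        ModPair.interior (IX.comap (pullback.fst f g)) ⊓
          ModPair.interior (IT.comap (pullback.snd f g)) := by
      rw [interior_comap, interior_comap]
      rfl
    have hdom : IsSchemeTheoreticallyDominant (ModPair.prodInterior f g IX IT).ι :=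
      heq ▸ isSchemeTheoreticallyDominant_inf_interior_ι _ _ h₁ h₂
    exact (Scheme.isIso_subschemeι_iff_eq_bot _).mpr (ModPair.prodInterior f g IX IT).ι.ker_eq_bot

end Groth.Agent.H20.ModPairBox
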