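import Mathlib

/-!
# Scheme-theoretic images of open subschemes

General lemmas on scheme-theoretically dominant morphisms and scheme-theoretic images.
-/

set_option autoImplicit false
universe u

open CategoryTheory CategoryTheory.Limits AlgebraicGeometry TopologicalSpace Opposite

namespace Groth.Agent.H20.SchImage

variable {X Y Z : Scheme.{u}}

/-- If `f ≫ g` is scheme-theoretically dominant then so is `g`. -/
lemma of_comp (f : X ⟶ Y) (g : Y ⟶ Z) [IsSchemeTheoreticallyDominant (f ≫ g)] :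
    IsSchemeTheoreticallyDominant g := by
  rw [isSchemeTheoreticallyDominant_iff, eq_bot_iff]
  exact (f.le_ker_comp g).trans (f ≫ g).ker_eq_bot.le

/-- A bigger open than a scheme-theoretically dense open is scheme-theoretically dense. -/
lemma of_le {V₀ V : X.Opens} (h : V₀ ≤ V) [IsSchemeTheoreticallyDominant V₀.ι] :
    IsSchemeTheoreticallyDominant V.ι := by
  have : IsSchemeTheoreticallyDominant (X.homOfLE h ≫ V.ι) := by
    rw [Scheme.homOfLE_ι]; infer_instance
  exact of_comp (X.homOfLE h) V.ι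

/-- The canonical morphism to the scheme-theoretic image is scheme-theoretically dominant. -/
instance isSchemeTheoreticallyDominant_toImage (f : X ⟶ Y) [QuasiCompact f] :
    IsSchemeTheoreticallyDominant f.toImage := by
  rw [isSchemeTheoreticallyDominant_iff]
  refine Scheme.IdealSheafData.ext_of_iSup_eq_top (ι := Y.affineOpens)
    (fun U => ⟨f.imageι ⁻¹ᵁ U.1, U.2.preimage f.imageι⟩) ?_ ?_
  · rw [eq_top_iff]
    intro x _
    have hx : f.imageι x ∈ (⊤ : Y.Opens) := trivial
    rw [← iSup_affineOpens_eq_top Y] at hx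
    obtain ⟨U, hU⟩ := Opens.mem_iSup.mp hx
    exact Opens.mem_iSup.mpr ⟨U, hU⟩
  · intro U
    rw [Scheme.Hom.ker_apply, Scheme.IdealSheafData.ideal_bot, Pi.bot_apply,
      ← RingHom.injective_iff_ker_eq_bot]
    exact f.toImage_app_injective U

/-- Any open of the scheme-theoretic image containing the range of `toImage` is
scheme-theoretically dense. -/
lemma isSchemeTheoreticallyDominant_ι_of_range_le (f : X ⟶ Y) [QuasiCompact f]
    (O : f.image.Opens) (hO : Set.range f.toImage ⊆ (O : Set f.image)) :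
    IsSchemeTheoreticallyDominant O.ι := by
  have hO' : Set.range f.toImage ⊆ Set.range O.ι := by
    rw [Scheme.Opens.range_ι]; exact hO
  have : IsSchemeTheoreticallyDominant (IsOpenImmersion.lift O.ι f.toImage hO' ≫ O.ι) := by
    rw [IsOpenImmersion.lift_fac]; infer_instance
  exact of_comp (IsOpenImmersion.lift O.ι f.toImage hO') O.ι

/-- The preimage of an open `V` in its own scheme-theoretic image is scheme-theoretically dense. -/
lemma isSchemeTheoreticallyDominant_preimage_ι (V : X.Opens) [QuasiCompact V.ι] :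
    IsSchemeTheoreticallyDominant (V.ι.imageι ⁻¹ᵁ V).ι := by
  apply isSchemeTheoreticallyDominant_ι_of_range_le
  rintro _ ⟨x, rfl⟩
  change V.ι.imageι (V.ι.toImage x) ∈ V
  rw [← Scheme.Hom.comp_apply, Scheme.Hom.toImage_imageι]
  exact x.2

/-- The scheme-theoretic image of an open `V`, restricted over `V`, is `V`. -/
lemma isIso_imageι_restrict (V : X.Opens) : IsIso (V.ι.imageι ∣_ V) := by
  have hO' : Set.range V.ι.toImage ⊆ Set.range (V.ι.imageι ⁻¹ᵁ V).ι := by
    rw [Scheme.Opens.range_ι]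
    rintro _ ⟨x, rfl⟩
    change V.ι.imageι (V.ι.toImage x) ∈ V
    rw [← Scheme.Hom.comp_apply, Scheme.Hom.toImage_imageι]
    exact x.2
  let σ : (V : Scheme.{u}) ⟶ (V.ι.imageι ⁻¹ᵁ V : Scheme.{u}) :=
    IsOpenImmersion.lift (V.ι.imageι ⁻¹ᵁ V).ι V.ι.toImage hO'
  have hσ : σ ≫ (V.ι.imageι ∣_ V) = 𝟙 _ := by
    rw [← cancel_mono V.ι, Category.assoc, morphismRestrict_ι, IsOpenImmersion.lift_fac_assoc,
      Scheme.Hom.toImage_imageι, Category.id_comp]
  have hmono : Mono (V.ι.imageι ∣_ V) := by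
    have : Mono ((V.ι.imageι ∣_ V) ≫ V.ι) := by
      rw [morphismRestrict_ι]; infer_instance
    exact mono_of_mono _ V.ι
  have : IsSplitEpi (V.ι.imageι ∣_ V) := IsSplitEpi.mk' ⟨σ, hσ⟩
  exact isIso_of_mono_of_isSplitEpi _

/-- Factorisation criterion through the scheme-theoretic image of an open `V`: a morphism `h`
that maps a scheme-theoretically dense open into `V` kills the ideal of the image. -/
lemma ker_le_ker_of_dominant (V : X.Opens) {W : Scheme.{u}} (h : W ⟶ X) (W₀ : W.Opens)
    [IsSchemeTheoreticallyDominant W₀.ι] (hW₀ : W₀ ≤ h ⁻¹ᵁ V) : V.ι.ker ≤ h.ker := by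
  rw [← Scheme.IdealSheafData.map_bot h, Scheme.IdealSheafData.le_map_iff_comap_le]
  have hrange : Set.range (W₀.ι ≫ h) ⊆ Set.range V.ι := by
    rw [Scheme.Opens.range_ι]
    rintro _ ⟨x, rfl⟩
    exact hW₀ x.2
  have h1 : ((V.ι.ker).comap h).comap W₀.ι = ⊥ := by
    rw [← Scheme.IdealSheafData.comap_comp, ← IsOpenImmersion.lift_fac V.ι (W₀.ι ≫ h) hrange,
      Scheme.IdealSheafData.comap_comp, eq_bot_iff]
    have h2 : (V.ι.ker).comap V.ι ≤ ⊥ := by
      rw [← Scheme.IdealSheafData.map_bot V.ι]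
      exact Scheme.IdealSheafData.comap_map_le _ _
    exact (Scheme.IdealSheafData.comap_mono _ h2).trans (by simp)
  calc (V.ι.ker).comap h ≤ (((V.ι.ker).comap h).comap W₀.ι).map W₀.ι :=
        Scheme.IdealSheafData.le_map_comap _ _
    _ = ⊥ := by rw [h1, Scheme.IdealSheafData.map_bot, W₀.ι.ker_eq_bot]

/-- The lift through the scheme-theoretic image of `V`. -/
noncomputable def liftImage (V : X.Opens) {W : Scheme.{u}} (h : W ⟶ X) (W₀ : W.Opens)
    [IsSchemeTheoreticallyDominant W₀.ι] (hW₀ : W₀ ≤ h ⁻¹ᵁ V) : W ⟶ V.ι.image :=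
  IsClosedImmersion.lift V.ι.imageι h (by
    rw [Scheme.IdealSheafData.ker_subschemeι]; exact ker_le_ker_of_dominant V h W₀ hW₀)

@[reassoc (attr := simp)]
lemma liftImage_imageι (V : X.Opens) {W : Scheme.{u}} (h : W ⟶ X) (W₀ : W.Opens)
    [IsSchemeTheoreticallyDominant W₀.ι] (hW₀ : W₀ ≤ h ⁻¹ᵁ V) :
    liftImage V h W₀ hW₀ ≫ V.ι.imageι = h :=
  IsClosedImmersion.lift_fac _ _ _

end Groth.Agent.H20.SchImage
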