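import Mathlib
import Groth.Prelude.Def_W4c6modpairsegaMP
import Groth.Agent.H20.ModPairBox
import Groth.Agent.H20.SchImage
import Groth.Agent.H20.LimFT

/-!
# Morphisms between admissible blow-ups are scheme-theoretically dominant
-/

set_option autoImplicit false
universe u

open CategoryTheory CategoryTheory.Limits AlgebraicGeometry TopologicalSpace Opposite

namespace Groth.Agent.H20.AdmBlowupLimit

open Groth.Agent.H20.ModPairFlat Groth.Agent.H20.ModPairBox

/-- A morphism over `Y` between two `Y`-schemes which are isomorphisms over the interior of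
`(Y, IY)`, the target having effective Cartier pulled-back modulus, is scheme-theoretically
dominant. -/
lemma isSchemeTheoreticallyDominant_of_isIso_restrict {Y A B : Scheme.{u}}
    (IY : Y.IdealSheafData) (a : A ⟶ Y) (b : B ⟶ Y) (t : A ⟶ B) (h : t ≫ b = a)
    (ha : IsIso (a ∣_ ModPair.interior IY)) (hb : IsIso (b ∣_ ModPair.interior IY))
    (hB : BlowUp.IsEffCartierIdeal (IY.comap b)) : IsSchemeTheoreticallyDominant t := by
  subst h
  have hdense : IsSchemeTheoreticallyDominant (b ⁻¹ᵁ ModPair.interior IY).ι := by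
    have := isSchemeTheoreticallyDominant_interior_ι _ hB
    rwa [interior_comap] at this
  have hcomp : (t ≫ b) ∣_ ModPair.interior IY =
      t ∣_ (b ⁻¹ᵁ ModPair.interior IY) ≫ b ∣_ ModPair.interior IY :=
    morphismRestrict_comp t b _
  have hiso : IsIso (t ∣_ (b ⁻¹ᵁ ModPair.interior IY)) := by
    have ha' : IsIso (t ∣_ (b ⁻¹ᵁ ModPair.interior IY) ≫ b ∣_ ModPair.interior IY) := hcomp ▸ ha
    exact IsIso.of_isIso_comp_right _ (b ∣_ ModPair.interior IY)
  have : IsSchemeTheoreticallyDominant ((t ⁻¹ᵁ (b ⁻¹ᵁ ModPair.interior IY)).ι ≫ t) := by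
    rw [← morphismRestrict_ι]
    infer_instance
  exact Groth.Agent.H20.SchImage.of_comp (t ⁻¹ᵁ (b ⁻¹ᵁ ModPair.interior IY)).ι t

end Groth.Agent.H20.AdmBlowupLimit
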