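import Mathlib.AlgebraicGeometry.Morphisms.QuasiSeparated
import Mathlib.AlgebraicGeometry.Morphisms.Affine
import Mathlib.AlgebraicGeometry.Morphisms.Immersion
import Mathlib.AlgebraicGeometry.Morphisms.ClosedImmersion

set_option autoImplicit false
universe u

namespace Groth.Agent.H20

open AlgebraicGeometry CategoryTheory TopologicalSpace Opposite

/-- On a qcqs scheme, if `X_s ⊆ X_t` then a power of `s` is a multiple of `t`. -/
theorem exists_pow_mem_span_of_basicOpen_le {X : Scheme.{u}} [CompactSpace X]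
    [QuasiSeparatedSpace X] (s t : Γ(X, ⊤)) (h : X.basicOpen s ≤ X.basicOpen t) :
    ∃ n : ℕ, s ^ n ∈ Ideal.span {t} := by
  -- `t` restricted to `X_s` is a unit
  have hunit : IsUnit (X.presheaf.map (homOfLE (le_top : X.basicOpen s ≤ ⊤)).op t) := by
    have h1 : IsUnit (X.presheaf.map (homOfLE (X.basicOpen_le t)).op t) :=
      RingedSpace.isUnit_res_basicOpen X.toRingedSpace t
    have h2 := h1.map (X.presheaf.map (homOfLE h).op).hom
    have h3 : (X.presheaf.map (homOfLE h).op).hom ((X.presheaf.map (homOfLE (X.basicOpen_le t)).op) t)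
        = X.presheaf.map (homOfLE (le_top : X.basicOpen s ≤ ⊤)).op t := by
      rw [← CommRingCat.comp_apply, ← Functor.map_comp]
      rfl
    rw [h3] at h2
    exact h2
  obtain ⟨z, hz⟩ := hunit.exists_right_inv
  obtain ⟨n, y, hy⟩ := exists_eq_pow_mul_of_isCompact_of_isQuasiSeparated X ⊤
    CompactSpace.isCompact_univ isQuasiSeparated_univ s z
  have hres : (t * y) |_ X.basicOpen s = (s ^ n) |_ X.basicOpen s := by
    change X.presheaf.map (homOfLE _).op (t * y) = X.presheaf.map (homOfLE _).op (s ^ n)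
    change X.presheaf.map (homOfLE _).op y = (X.presheaf.map (homOfLE _).op s) ^ n * z at hy
    rw [map_mul, map_pow, hy]
    calc X.presheaf.map (homOfLE _).op t * ((X.presheaf.map (homOfLE _).op s) ^ n * z)
        = (X.presheaf.map (homOfLE _).op s) ^ n * (X.presheaf.map (homOfLE _).op t * z) := by ring
      _ = (X.presheaf.map (homOfLE _).op s) ^ n := by rw [hz, mul_one]
  obtain ⟨m, hm⟩ := exists_of_res_eq_of_qcqs_of_top hres
  refine ⟨m + n, ?_⟩
  rw [Ideal.mem_span_singleton']
  refine ⟨s ^ m * y, ?_⟩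
  rw [pow_add, ← hm]
  ring

/-- Two disjoint closed subsets of `Spec A` are separated by a decomposition `a + b = 1`. -/
theorem exists_add_eq_one_of_disjoint_closed {A : Type*} [CommRing A]
    (W T : Set (PrimeSpectrum A)) (hW : IsClosed W) (hT : IsClosed T) (hWT : W ∩ T = ∅) :
    ∃ a b : A, (∀ p ∈ W, a ∈ p.asIdeal) ∧ (∀ p ∈ T, b ∈ p.asIdeal) ∧ a + b = 1 := by
  have htop : PrimeSpectrum.vanishingIdeal W ⊔ PrimeSpectrum.vanishingIdeal T = ⊤ := by
    rw [← PrimeSpectrum.zeroLocus_empty_iff_eq_top, PrimeSpectrum.zeroLocus_sup,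
      PrimeSpectrum.zeroLocus_vanishingIdeal_eq_closure,
      PrimeSpectrum.zeroLocus_vanishingIdeal_eq_closure, hW.closure_eq, hT.closure_eq, hWT]
  have h1 : (1 : A) ∈ PrimeSpectrum.vanishingIdeal W ⊔ PrimeSpectrum.vanishingIdeal T := by
    rw [htop]
    trivial
  obtain ⟨a, ha, b, hb, hab⟩ := Submodule.mem_sup.mp h1
  refine ⟨a, b, ?_, ?_, hab⟩
  · exact (PrimeSpectrum.mem_vanishingIdeal W a).mp ha
  · exact (PrimeSpectrum.mem_vanishingIdeal T b).mp hb

/-- Let `j : V → Spec A` be a quasi-compact immersion and `f ∈ A` such that `j⁻¹(D(f))` is affine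
and `j(V) ∩ V(f)` is closed in `Spec A`.  Then `V` is affine. -/
theorem isAffine_of_immersion_of_isAffineOpen_basicOpen (A : Type u) [CommRing A] (V : Scheme.{u})
    (j : V ⟶ Spec (CommRingCat.of A)) [IsImmersion j] [QuasiCompact j] (f : A)
    (haff : IsAffineOpen (j ⁻¹ᵁ PrimeSpectrum.basicOpen f))
    (hcl : IsClosed (Set.range ⇑j ∩ PrimeSpectrum.zeroLocus {f})) : IsAffine V := by
  haveI : CompactSpace V := QuasiCompact.compactSpace_of_compactSpace j
  haveI : QuasiSeparatedSpace V := quasiSeparatedSpace_of_quasiSeparated j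
  let φ : A →+* Γ(V, ⊤) := j.appTop.hom.comp (Scheme.ΓSpecIso (CommRingCat.of A)).inv.hom
  have hφ : ∀ a : A, V.basicOpen (φ a) = j ⁻¹ᵁ PrimeSpectrum.basicOpen a := by
    intro a
    rw [← basicOpen_eq_of_affine (R := CommRingCat.of A) a, Scheme.preimage_basicOpen_top]
    rfl
  have hmem : ∀ (a : A) (x : V), x ∈ V.basicOpen (φ a) ↔ a ∉ (j x : PrimeSpectrum A).asIdeal := by
    intro a x
    rw [hφ a]
    exact Iff.rfl
  -- the two closed sets
  set W : Set (PrimeSpectrum A) := Set.range ⇑j ∩ PrimeSpectrum.zeroLocus {f} with hW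
  set T : Set (PrimeSpectrum A) := (coborder (Set.range ⇑j : Set (PrimeSpectrum A)))ᶜ with hT
  have hTcl : IsClosed T := by
    have h1 : IsOpen (coborder (Set.range ⇑j : Set (PrimeSpectrum A))) :=
      j.isLocallyClosed_range.isOpen_coborder
    exact h1.isClosed_compl
  have hWT : W ∩ T = ∅ := by
    ext p
    simp only [Set.mem_inter_iff, Set.mem_empty_iff_false, iff_false, not_and]
    rintro ⟨hp, -⟩ hpT
    exact hpT (subset_coborder hp)
  obtain ⟨a, b, ha, hb, hab⟩ := exists_add_eq_one_of_disjoint_closed W T hcl hTcl hWT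
  -- `V_f` is affine
  have h1 : IsAffineOpen (V.basicOpen (φ f)) := by
    rw [hφ f]
    exact haff
  -- `V_b` is affine
  have h2 : IsAffineOpen (V.basicOpen (φ b)) := by
    rw [hφ b]
    set U : (Spec (CommRingCat.of A)).Opens := PrimeSpectrum.basicOpen b with hU
    have hUaff : IsAffineOpen U := by
      rw [hU, ← basicOpen_eq_of_affine (R := CommRingCat.of A) b]
      exact (isAffineOpen_top (Spec (CommRingCat.of A))).basicOpen _
    haveI : IsAffine U := hUaff
    have hrange : IsClosed (Set.range ⇑(j ∣_ U)) := by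
      have hr : Set.range ⇑(j ∣_ U) = Subtype.val ⁻¹' (closure (Set.range ⇑j)) := by
        ext ⟨p, hp⟩
        constructor
        · rintro ⟨x, hx⟩
          have : (j x.1 : Spec (CommRingCat.of A)) = p := by
            have := congrArg Subtype.val hx
            rwa [morphismRestrict_base_coe] at this
          change p ∈ closure (Set.range ⇑j)
          rw [← this]
          exact subset_closure (Set.mem_range_self _)
        · intro hpc
          have hpc' : p ∈ closure (Set.range ⇑j) := hpc
          -- `p ∉ T` since `b ∉ p`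
          have hpT : p ∉ T := fun hpT => hp (hb p hpT)
          have hpcob : p ∈ coborder (Set.range ⇑j : Set (PrimeSpectrum A)) := by
            by_contra hc
            exact hpT hc
          have hpr : p ∈ Set.range ⇑j := by
            by_contra hnr
            apply hpcob
            exact ⟨hpc', hnr⟩
          obtain ⟨x, rfl⟩ := hpr
          refine ⟨⟨x, hp⟩, ?_⟩
          apply Subtype.ext
          rw [morphismRestrict_base_coe]
      rw [hr]
      exact isClosed_closure.preimage continuous_subtype_val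
    haveI : IsClosedImmersion (j ∣_ U) := IsClosedImmersion.of_isPreimmersion _ hrange
    exact isAffine_of_isAffineHom (j ∣_ U)
  -- `f` and `b` generate the unit ideal of `Γ(V, ⊤)`
  have hle : V.basicOpen (φ a) ≤ V.basicOpen (φ f) := by
    intro x hx
    rw [hmem] at hx ⊢
    intro hf
    apply hx
    apply ha
    refine ⟨Set.mem_range_self x, ?_⟩
    rw [PrimeSpectrum.mem_zeroLocus, Set.singleton_subset_iff]
    exact hf
  obtain ⟨N, hN⟩ := exists_pow_mem_span_of_basicOpen_le (φ a) (φ f) hle
  have hspan : Ideal.span ({φ f, φ b} : Set Γ(V, ⊤)) = ⊤ := by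
    rw [Ideal.eq_top_iff_one]
    have hb1 : b = 1 - a := by rw [← hab]; ring
    have hdvd : b ∣ 1 - a ^ N := by
      rw [hb1]
      simpa using sub_dvd_pow_sub_pow (1 : A) a N
    obtain ⟨c, hc⟩ := hdvd
    have h3 : (1 : Γ(V, ⊤)) = φ a ^ N + φ b * φ c := by
      rw [← map_pow, ← map_mul, ← map_add, ← hc]
      simp
    rw [h3]
    apply Ideal.add_mem
    · exact Ideal.span_mono (by simp) hN
    · exact Ideal.mul_mem_right _ _ (Ideal.subset_span (by simp))
  refine isAffine_of_isAffineOpen_basicOpen ({φ f, φ b} : Set Γ(V, ⊤)) hspan ?_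
  intro i hi
  rcases hi with rfl | rfl
  · exact h1
  · exact h2

end Groth.Agent.H20
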