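import Groth.Agent.H20.IdemLift
import Mathlib.AlgebraicGeometry.AffineScheme
import Mathlib.Topology.Connected.Clopen

set_option autoImplicit false
universe u

namespace Groth.Agent.H20

open AlgebraicGeometry CategoryTheory TopologicalSpace Opposite

variable {X : Scheme.{u}} (t : Γ(X, ⊤))

/-- Let `t` be a global function on a scheme `X` which restricts to a nonzerodivisor `t_U` on every
affine open `U`, with `Γ(U)/t_U` reduced (weak form).  If `X` is preconnected then so is the
non-vanishing locus `D(t)`. -/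
theorem isPreconnected_basicOpen [PreconnectedSpace X]
    (hreg : ∀ U : X.Opens, IsAffineOpen U →
      X.presheaf.map (homOfLE (le_top : U ≤ ⊤)).op t ∈ nonZeroDivisors Γ(X, U))
    (hred : ∀ U : X.Opens, IsAffineOpen U → ∀ a : Γ(X, U),
      a * a ∈ Ideal.span {(X.presheaf.map (homOfLE (le_top : U ≤ ⊤)).op t : Γ(X, U))} →
        a ∈ Ideal.span {(X.presheaf.map (homOfLE (le_top : U ≤ ⊤)).op t : Γ(X, U))}) :
    _root_.IsPreconnected (X.basicOpen t : Set X) := by
  set G : Set X := (X.basicOpen t : Set X) with hG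
  have hGo : IsOpen G := (X.basicOpen t).2
  have key : ∀ Z : Set X, Z ⊆ G → IsOpen Z → IsOpen (G \ Z) → Z = ∅ ∨ Z = G := by
    intro Z hZG hZ hZc
    have hZ'G : closure Z ∩ G = Z := by
      apply Set.Subset.antisymm
      · rintro x ⟨hxcl, hxG⟩
        by_contra hxZ
        have hx : x ∈ G \ Z := ⟨hxG, hxZ⟩
        obtain ⟨y, hy1, hy2⟩ := mem_closure_iff.mp hxcl _ hZc hx
        exact hy1.2 hy2
      · exact fun x hx => ⟨subset_closure hx, hZG hx⟩
    have hopen : IsOpen (closure Z) := by
      rw [isOpen_iff_forall_mem_open]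
      intro x hx
      obtain ⟨U, hU, hxU, -⟩ := exists_isAffineOpen_mem_and_subset (x := x) (U := ⊤) trivial
      let ψ := hU.fromSpec
      have hψo : Topology.IsOpenEmbedding ψ := ψ.isOpenEmbedding
      set tU : Γ(X, U) := X.presheaf.map (homOfLE (le_top : U ≤ ⊤)).op t with htU
      have hrange : Set.range ψ = U := hU.range_fromSpec
      have hGpre : ∀ y : Spec Γ(X, U), ψ y ∈ G ↔
          y ∈ (PrimeSpectrum.basicOpen tU : Set (PrimeSpectrum Γ(X, U))) := by
        intro y
        have h1 := hU.fromSpec_preimage_basicOpen tU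
        have h2 : X.basicOpen tU = U ⊓ X.basicOpen t := Scheme.basicOpen_res _ _ _
        have h3 : y ∈ ψ ⁻¹ᵁ X.basicOpen tU ↔
            y ∈ (PrimeSpectrum.basicOpen tU : Set (PrimeSpectrum Γ(X, U))) := by
          rw [h1]
          exact Iff.rfl
        rw [← h3, h2]
        change ψ y ∈ G ↔ ψ y ∈ U ∧ ψ y ∈ G
        have : ψ y ∈ Set.range ψ := Set.mem_range_self y
        rw [hrange] at this
        exact ⟨fun h => ⟨this, h⟩, fun h => h.2⟩
      let Z₁ : Set (PrimeSpectrum Γ(X, U)) := ψ ⁻¹' Z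
      have hcl : IsOpen (closure Z₁) := by
        apply isOpen_closure_of_relClopen_basicOpen tU (hreg U hU) (hred U hU) Z₁
        · intro y hy
          exact (hGpre y).mp (hZG hy)
        · exact hZ.preimage ψ.continuous
        · have : ((PrimeSpectrum.basicOpen tU : Set (PrimeSpectrum Γ(X, U))) \ Z₁) =
              ψ ⁻¹' (G \ Z) := by
            ext y
            constructor
            · rintro ⟨h1, h2⟩
              exact ⟨(hGpre y).mpr h1, h2⟩
            · rintro ⟨h1, h2⟩
              exact ⟨(hGpre y).mp h1, h2⟩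
          rw [this]
          exact hZc.preimage ψ.continuous
      have hcl' : closure Z₁ = ψ ⁻¹' closure Z :=
        (hψo.isOpenMap.preimage_closure_eq_closure_preimage ψ.continuous Z).symm
      rw [hcl'] at hcl
      refine ⟨ψ '' (ψ ⁻¹' closure Z), ?_, hψo.isOpenMap _ hcl, ?_⟩
      · rintro _ ⟨y, hy, rfl⟩
        exact hy
      · have hxr : x ∈ Set.range ψ := by rw [hrange]; exact hxU
        obtain ⟨y, rfl⟩ := hxr
        exact ⟨y, hx, rfl⟩
    have hclopen : IsClopen (closure Z) := ⟨isClosed_closure, hopen⟩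
    rcases isClopen_iff.mp hclopen with h | h
    · left
      rw [← hZ'G, h, Set.empty_inter]
    · right
      rw [← hZ'G, h, Set.univ_inter]
  -- conclude
  intro u v hu hv hGuv hGu hGv
  by_contra hne
  rw [Set.not_nonempty_iff_eq_empty] at hne
  have hdiff : G \ (G ∩ u) = G ∩ v := by
    ext x
    simp only [Set.mem_sdiff, Set.mem_inter_iff, not_and]
    constructor
    · rintro ⟨hxG, hxu⟩
      rcases hGuv hxG with h | h
      · exact absurd h (hxu hxG)
      · exact ⟨hxG, h⟩
    · rintro ⟨hxG, hxv⟩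
      refine ⟨hxG, fun _ hxu => ?_⟩
      have : x ∈ G ∩ (u ∩ v) := ⟨hxG, hxu, hxv⟩
      rw [hne] at this
      exact this
  rcases key (G ∩ u) Set.inter_subset_left (hGo.inter hu) (hdiff ▸ hGo.inter hv) with h | h
  · rw [h] at hGu
    exact Set.not_nonempty_empty hGu
  · obtain ⟨x, hxG, hxv⟩ := hGv
    have hxu : x ∈ G ∩ u := by rw [h]; exact hxG
    have : x ∈ G ∩ (u ∩ v) := ⟨hxG, hxu.2, hxv⟩
    rw [hne] at this
    exact this

/-- Under the same hypotheses, `D(t)` is nonempty when `X` is. -/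
theorem nonempty_basicOpen [Nonempty X]
    (hreg : ∀ U : X.Opens, IsAffineOpen U →
      X.presheaf.map (homOfLE (le_top : U ≤ ⊤)).op t ∈ nonZeroDivisors Γ(X, U)) :
    (X.basicOpen t : Set X).Nonempty := by
  obtain ⟨x⟩ := (inferInstance : Nonempty X)
  obtain ⟨U, hU, hxU, -⟩ := exists_isAffineOpen_mem_and_subset (x := x) (U := ⊤) trivial
  set tU : Γ(X, U) := X.presheaf.map (homOfLE (le_top : U ≤ ⊤)).op t with htU
  have h2 : X.basicOpen tU = U ⊓ X.basicOpen t := Scheme.basicOpen_res _ _ _
  have hne : (X.basicOpen tU : Set X).Nonempty := by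
    rw [Set.nonempty_iff_ne_empty]
    intro hempty
    have hbot : X.basicOpen tU = ⊥ := Opens.ext hempty
    have hnil : IsNilpotent tU := by
      rw [← PrimeSpectrum.basicOpen_eq_bot_iff, ← hU.fromSpec_preimage_basicOpen, hbot]
      rfl
    obtain ⟨n, hn⟩ := hnil
    have h1 : (1 : Γ(X, U)) = 0 :=
      (mem_nonZeroDivisors_iff_right.mp (pow_mem (hreg U hU) n)) 1 (by rw [one_mul, hn])
    have hsub : Subsingleton Γ(X, U) := subsingleton_of_zero_eq_one h1.symm
    have hprime := hU.primeIdealOf ⟨x, hxU⟩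
    exact hprime.2.ne_top (Subsingleton.elim _ _)
  obtain ⟨y, hy⟩ := hne
  rw [h2] at hy
  exact ⟨y, hy.2⟩

end Groth.Agent.H20
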