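import Mathlib
import Groth.Prelude.Def_BlowUp2

/-!
# Division of a quasi-coherent ideal sheaf by an effective Cartier ideal sheaf

The colon ideal sheaf `(A : E)` for `E` of finite type, and `(A : E) * E = A` when `E` is
effective Cartier and `A ≤ E`.
-/

set_option autoImplicit false
universe u

open CategoryTheory AlgebraicGeometry TopologicalSpace Opposite

namespace Groth.Agent.H20.IdealDiv

section Algebra

variable {R S : Type*} [CommRing R] [CommRing S] [Algebra R S]

lemma exists_mul_mem_of_finset (M : Submonoid R) [IsLocalization M S] (N : Ideal R)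
    (s : Finset R) (r : R)
    (h : ∀ p ∈ s, algebraMap R S (r * p) ∈ N.map (algebraMap R S)) :
    ∃ m ∈ M, ∀ p ∈ s, m * r * p ∈ N := by
  classical
  induction s using Finset.induction_on with
  | empty => exact ⟨1, M.one_mem, by simp⟩
  | insert a s ha ih =>
    obtain ⟨m, hm, hms⟩ := ih (fun p hp => h p (Finset.mem_insert_of_mem hp))
    obtain ⟨m', hm', hma⟩ := (IsLocalization.algebraMap_mem_map_algebraMap_iff M S _ _).mp
      (h a (Finset.mem_insert_self a s))
    refine ⟨m' * m, M.mul_mem hm' hm, fun p hp => ?_⟩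
    rcases Finset.mem_insert.mp hp with rfl | hp
    · have : m' * m * r * p = m * (m' * (r * p)) := by ring
      rw [this]
      exact N.mul_mem_left _ hma
    · have : m' * m * r * p = m' * (m * r * p) := by ring
      rw [this]
      exact N.mul_mem_left _ (hms p hp)

/-- Colon ideals by finitely generated ideals commute with localization. -/
lemma map_colon (M : Submonoid R) [IsLocalization M S] (N P : Ideal R) (hP : P.FG) :
    (N.colon (P : Set R)).map (algebraMap R S) =
      (N.map (algebraMap R S)).colon ((P.map (algebraMap R S) : Ideal S) : Set S) := by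
  apply le_antisymm
  · rw [Ideal.map_le_iff_le_comap]
    intro r hr
    have hspan : P.map (algebraMap R S) = Ideal.span (algebraMap R S '' (P : Set R)) := rfl
    rw [Ideal.mem_comap, hspan, Ideal.colon_span, Submodule.mem_colon]
    rintro _ ⟨p, hp, rfl⟩
    rw [smul_eq_mul, ← map_mul]
    exact Ideal.mem_map_of_mem _ (Submodule.mem_colon.mp hr p hp)
  · intro x hx
    obtain ⟨r, m, rfl⟩ := IsLocalization.exists_mk'_eq M x
    obtain ⟨s, rfl⟩ := hP
    have h : ∀ p ∈ s, algebraMap R S (r * p) ∈ N.map (algebraMap R S) := by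
      intro p hp
      have h1 : IsLocalization.mk' S r m * algebraMap R S p ∈ N.map (algebraMap R S) :=
        Submodule.mem_colon.mp hx _ (Ideal.mem_map_of_mem _ (Ideal.subset_span hp))
      have h2 : algebraMap R S (r * p) =
          algebraMap R S m * (IsLocalization.mk' S r m * algebraMap R S p) := by
        rw [← mul_assoc, IsLocalization.mk'_spec', map_mul]
      rw [h2]
      exact Ideal.mul_mem_left _ _ h1
    obtain ⟨m', hm', hm's⟩ := exists_mul_mem_of_finset M N s r h
    rw [IsLocalization.mk'_mem_map_algebraMap_iff M]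
    refine ⟨m', hm', ?_⟩
    rw [Ideal.colon_span, Submodule.mem_colon]
    intro p hp
    exact hm's p hp

/-- Transfer of finite generation along an isomorphism of localizations. -/
lemma fg_map_away_of_fg_map (g : R) [IsLocalization.Away g S] {M : Ideal R}
    (h : (M.map (algebraMap R S)).FG) :
    (M.map (algebraMap R (Localization.Away g))).FG := by
  let e : S ≃ₐ[R] Localization.Away g :=
    IsLocalization.algEquiv (Submonoid.powers g) S (Localization.Away g)
  have h1 : (M.map (algebraMap R S)).map (e : S →+* Localization.Away g) =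
      M.map (algebraMap R (Localization.Away g)) := by
    rw [Ideal.map_map]
    congr 1
    ext r
    exact e.commutes r
  rw [← h1]
  exact h.map _

end Algebra

section Geometry

variable {X : Scheme.{u}}

/-- A locally principal ideal sheaf is of finite type. -/
lemma isFiniteTypeIdeal_of_locally_principal (E : X.IdealSheafData)
    (hE : ∀ x : X, ∃ U : X.affineOpens, x ∈ U.1 ∧ ∃ e : Γ(X, U.1), E.ideal U = Ideal.span {e}) :
    BlowUp.IsFiniteTypeIdeal E := by
  intro V
  let t : Set Γ(X, V.1) := {r | ∃ (U : X.affineOpens) (_ : X.basicOpen r ≤ U.1) (e : Γ(X, U.1)),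
    E.ideal U = Ideal.span {e}}
  have ht : Ideal.span t = ⊤ := by
    rw [← V.2.iSup_basicOpen_eq_self_iff]
    apply le_antisymm
    · exact iSup_le fun r => X.basicOpen_le r.1
    · intro x hx
      obtain ⟨U, hxU, e, he⟩ := hE x
      obtain ⟨r, hr, hxr⟩ := V.2.exists_basicOpen_le (V := V.1 ⊓ U.1) ⟨x, ⟨hx, hxU⟩⟩ hx
      exact Opens.mem_iSup.mpr ⟨⟨r, ⟨U, hr.trans inf_le_right, e, he⟩⟩, hxr⟩
  refine Ideal.fg_of_localizationSpan t ht ?_
  rintro ⟨g, U, hgU, e, he⟩
  let _ : Algebra Γ(X, V.1) Γ(X, X.basicOpen g) :=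
    (X.presheaf.map (homOfLE (X.basicOpen_le g)).op).hom.toAlgebra
  have hloc : IsLocalization.Away g Γ(X, X.basicOpen g) := V.2.isLocalization_basicOpen g
  apply fg_map_away_of_fg_map (S := Γ(X, X.basicOpen g)) g
  have h1 : (E.ideal V).map (algebraMap Γ(X, V.1) Γ(X, X.basicOpen g)) =
      E.ideal (X.affineBasicOpen g) := E.map_ideal_basicOpen V g
  rw [h1, ← E.map_ideal (U := X.affineBasicOpen g) (V := U) hgU, he, Ideal.map_span,
    Set.image_singleton]
  exact Submodule.fg_span_singleton _

lemma isFiniteTypeIdeal_of_isEffCartier (E : X.IdealSheafData)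
    (hE : BlowUp.IsEffCartierIdeal E) : BlowUp.IsFiniteTypeIdeal E :=
  isFiniteTypeIdeal_of_locally_principal E fun x => by
    obtain ⟨U, hxU, e, -, he⟩ := hE x
    exact ⟨U, hxU, e, he⟩

/-- The colon ideal sheaf `(A : E)` for `E` of finite type. -/
def colon (A E : X.IdealSheafData) (hE : BlowUp.IsFiniteTypeIdeal E) : X.IdealSheafData where
  ideal U := (A.ideal U).colon ((E.ideal U : Ideal Γ(X, U.1)) : Set Γ(X, U.1))
  map_ideal_basicOpen U f := by
    have inst := U.2.isLocalization_basicOpen f
    have : (X.presheaf.map (homOfLE (X.basicOpen_le f)).op).hom = algebraMap _ _ := rfl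
    rw [← A.map_ideal_basicOpen U f, ← E.map_ideal_basicOpen U f, this]
    exact map_colon (Submonoid.powers f) (A.ideal U) (E.ideal U) (hE U)

@[simp]
lemma ideal_colon (A E : X.IdealSheafData) (hE : BlowUp.IsFiniteTypeIdeal E) (U : X.affineOpens) :
    (colon A E hE).ideal U = (A.ideal U).colon ((E.ideal U : Ideal Γ(X, U.1)) : Set Γ(X, U.1)) :=
  rfl

lemma colon_mul_le (A E : X.IdealSheafData) (hE : BlowUp.IsFiniteTypeIdeal E) :
    colon A E hE * E ≤ A := by
  intro U
  change (A.ideal U).colon ((E.ideal U : Ideal Γ(X, U.1)) : Set Γ(X, U.1)) * E.ideal U ≤ A.ideal U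
  rw [Ideal.mul_le]
  intro r hr s hs
  exact Submodule.mem_colon.mp hr s hs

/-- Division by a locally principal ideal sheaf. -/
lemma colon_mul_eq (A E : X.IdealSheafData) (hE : BlowUp.IsFiniteTypeIdeal E)
    (hE' : ∀ x : X, ∃ U : X.affineOpens, x ∈ U.1 ∧ ∃ e : Γ(X, U.1), E.ideal U = Ideal.span {e})
    (hAE : A ≤ E) : colon A E hE * E = A := by
  apply le_antisymm (colon_mul_le A E hE)
  choose U hxU e he using hE'
  refine Scheme.IdealSheafData.le_of_iSup_eq_top U
    (top_le_iff.mp (fun x _ ↦ by simpa using ⟨x, hxU x⟩)) ?_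
  intro x a ha
  have hae : a ∈ Ideal.span {e x} := he x ▸ hAE (U x) ha
  obtain ⟨a', rfl⟩ := Ideal.mem_span_singleton'.mp hae
  change a' * e x ∈ (A.ideal (U x)).colon ((E.ideal (U x) : Ideal Γ(X, (U x).1)) : Set _) *
    E.ideal (U x)
  refine Ideal.mul_mem_mul ?_ (he x ▸ Ideal.mem_span_singleton_self (e x))
  rw [he x, Ideal.colon_span, Submodule.mem_colon]
  intro s hs
  rw [Set.mem_singleton_iff.mp hs]
  exact ha

end Geometry

end Groth.Agent.H20.IdealDiv
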