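import Mathlib
import Groth.Prelude.Def_BlowUp2
import Groth.Agent.H20.IdealDiv

/-!
# Differences of effective Cartier divisors by their intersection

If `D₁`, `D₂` and `E = D₁ ∩ D₂` are effective Cartier, then `D₁ - E` and `D₂ - E` are effective
Cartier and disjoint, and `D₁ + D₂ - E` is the smallest divisor containing `D₁` and `D₂`.
-/

set_option autoImplicit false
universe u

open CategoryTheory AlgebraicGeometry TopologicalSpace Opposite

namespace Groth.Agent.H20.CartierDiff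

open Groth.Agent.H20.IdealDiv

section Algebra

variable {R : Type*} [CommRing R]

lemma colon_span_singleton_mul (a' e : R) (he : e ∈ nonZeroDivisors R) :
    (Ideal.span {a' * e}).colon ((Ideal.span {e} : Ideal R) : Set R) = Ideal.span {a'} := by
  ext r
  rw [Ideal.colon_span, Submodule.mem_colon]
  constructor
  · intro h
    have h1 : r * e ∈ Ideal.span {a' * e} := h e rfl
    obtain ⟨s, hs⟩ := Ideal.mem_span_singleton'.mp h1
    rw [← mul_assoc] at hs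
    have h2 := (mul_cancel_right_mem_nonZeroDivisors he).mp hs
    rw [← h2]
    exact Ideal.mul_mem_left _ _ (Ideal.mem_span_singleton_self a')
  · intro h s hs
    rw [Set.mem_singleton_iff.mp hs]
    obtain ⟨c, rfl⟩ := Ideal.mem_span_singleton'.mp h
    rw [smul_eq_mul, mul_assoc]
    exact Ideal.mul_mem_left _ _ (Ideal.mem_span_singleton_self _)

lemma local_structure (e a b : R) (he : e ∈ nonZeroDivisors R) (ha : a ∈ nonZeroDivisors R)
    (hb : b ∈ nonZeroDivisors R)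
    (hsup : Ideal.span {e} = Ideal.span {a} ⊔ Ideal.span {b}) :
    ∃ a' b' : R, a' ∈ nonZeroDivisors R ∧ b' ∈ nonZeroDivisors R ∧
      (Ideal.span {a}).colon ((Ideal.span {e} : Ideal R) : Set R) = Ideal.span {a'} ∧
      (Ideal.span {b}).colon ((Ideal.span {e} : Ideal R) : Set R) = Ideal.span {b'} ∧
      Ideal.span {a'} ⊔ Ideal.span {b'} = ⊤ ∧
      Ideal.span {a} ⊓ Ideal.span {b} ≤ Ideal.span {a'} * Ideal.span {b'} * Ideal.span {e} := by
  have ha' : a ∈ Ideal.span {e} := by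
    rw [hsup]; exact Ideal.mem_sup_left (Ideal.mem_span_singleton_self a)
  have hb' : b ∈ Ideal.span {e} := by
    rw [hsup]; exact Ideal.mem_sup_right (Ideal.mem_span_singleton_self b)
  obtain ⟨a', rfl⟩ := Ideal.mem_span_singleton'.mp ha'
  obtain ⟨b', rfl⟩ := Ideal.mem_span_singleton'.mp hb'
  have hane : a' ∈ nonZeroDivisors R := (mul_mem_nonZeroDivisors.mp ha).1
  have hbne : b' ∈ nonZeroDivisors R := (mul_mem_nonZeroDivisors.mp hb).1
  have hmem : e ∈ Ideal.span {a' * e} ⊔ Ideal.span {b' * e} := by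
    rw [← hsup]; exact Ideal.mem_span_singleton_self e
  obtain ⟨u, hu, v, hv, huv⟩ := Submodule.mem_sup.mp hmem
  obtain ⟨s, rfl⟩ := Ideal.mem_span_singleton'.mp hu
  obtain ⟨t, rfl⟩ := Ideal.mem_span_singleton'.mp hv
  have hst : s * a' + t * b' = 1 := by
    have h1 : (s * a' + t * b') * e = 1 * e := by linear_combination huv
    exact (mul_cancel_right_mem_nonZeroDivisors he).mp h1
  refine ⟨a', b', hane, hbne, colon_span_singleton_mul a' e he, colon_span_singleton_mul b' e he,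
    ?_, ?_⟩
  · rw [Ideal.eq_top_iff_one, ← hst]
    exact Ideal.add_mem _
      (Ideal.mem_sup_left (Ideal.mul_mem_left _ _ (Ideal.mem_span_singleton_self a')))
      (Ideal.mem_sup_right (Ideal.mul_mem_left _ _ (Ideal.mem_span_singleton_self b')))
  · rintro d ⟨hd1, hd2⟩
    obtain ⟨x, rfl⟩ := Ideal.mem_span_singleton'.mp hd1
    obtain ⟨y, hy⟩ := Ideal.mem_span_singleton'.mp hd2
    have hxy : y * b' = x * a' := by
      apply (mul_cancel_right_mem_nonZeroDivisors he).mp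
      rw [mul_assoc, hy, mul_assoc]
    have hx : x = (s * y + t * x) * b' := by
      calc x = x * (s * a' + t * b') := by rw [hst, mul_one]
        _ = s * (x * a') + t * x * b' := by ring
        _ = s * (y * b') + t * x * b' := by rw [hxy]
        _ = (s * y + t * x) * b' := by ring
    rw [Ideal.span_singleton_mul_span_singleton, Ideal.span_singleton_mul_span_singleton,
      Ideal.mem_span_singleton']
    refine ⟨s * y + t * x, ?_⟩
    calc (s * y + t * x) * (a' * b' * e) = ((s * y + t * x) * b') * (a' * e) := by ring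
      _ = x * (a' * e) := by rw [← hx]

end Algebra

section Geometry

variable {X : Scheme.{u}}

/-- `L` is generated by a nonzerodivisor on the affine open `W`. -/
def LocPrin (L : X.IdealSheafData) (W : X.affineOpens) : Prop :=
  ∃ a : Γ(X, W.1), a ∈ nonZeroDivisors Γ(X, W.1) ∧ L.ideal W = Ideal.span {a}

lemma LocPrin.basicOpen {L : X.IdealSheafData} {U : X.affineOpens} (h : LocPrin L U)
    (f : Γ(X, U.1)) : LocPrin L (X.affineBasicOpen f) := by
  obtain ⟨a, ha, hL⟩ := h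
  refine ⟨(X.presheaf.map (homOfLE <| X.basicOpen_le f).op).hom a, ?_, ?_⟩
  · let _ := (X.presheaf.map (homOfLE <| X.basicOpen_le f).op).hom.toAlgebra
    have := U.2.isLocalization_basicOpen f
    exact IsLocalization.map_nonZeroDivisors_le (Submonoid.powers f) Γ(X, X.basicOpen f)
      (Submonoid.mem_map_of_mem _ ha)
  · rw [← L.map_ideal_basicOpen U f, hL, Ideal.map_span, Set.image_singleton]
    rfl

/-- A common affine neighbourhood which is a basic open in two given affine opens. -/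
lemma exists_common (U₁ U₂ : X.affineOpens) (x : X) (hx₁ : x ∈ U₁.1) (hx₂ : x ∈ U₂.1) :
    ∃ W : X.affineOpens, x ∈ W.1 ∧ (∀ L : X.IdealSheafData, LocPrin L U₁ → LocPrin L W) ∧
      (∀ L : X.IdealSheafData, LocPrin L U₂ → LocPrin L W) := by
  obtain ⟨f, g, hfg, hxf⟩ := exists_basicOpen_le_affine_inter U₁.2 U₂.2 x ⟨hx₁, hx₂⟩
  have heq : X.affineBasicOpen f = X.affineBasicOpen g := Subtype.ext hfg
  refine ⟨X.affineBasicOpen f, hxf, fun L h => h.basicOpen f, fun L h => ?_⟩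
  rw [heq]
  exact h.basicOpen g

lemma exists_common₃ (L₁ L₂ L₃ : X.IdealSheafData) (h₁ : BlowUp.IsEffCartierIdeal L₁)
    (h₂ : BlowUp.IsEffCartierIdeal L₂) (h₃ : BlowUp.IsEffCartierIdeal L₃) (x : X) :
    ∃ W : X.affineOpens, x ∈ W.1 ∧ LocPrin L₁ W ∧ LocPrin L₂ W ∧ LocPrin L₃ W := by
  obtain ⟨U₁, hx₁, p₁⟩ := h₁ x
  obtain ⟨U₂, hx₂, p₂⟩ := h₂ x
  obtain ⟨U₃, hx₃, p₃⟩ := h₃ x
  obtain ⟨W₁₂, hx₁₂, q₁, q₂⟩ := exists_common U₁ U₂ x hx₁ hx₂
  obtain ⟨W, hxW, r₁, r₂⟩ := exists_common W₁₂ U₃ x hx₁₂ hx₃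
  exact ⟨W, hxW, r₁ _ (q₁ _ p₁), r₁ _ (q₂ _ p₂), r₂ _ p₃⟩

/-- **Differences of effective Cartier divisors by their (Cartier) intersection.** -/
theorem main (I₁ I₂ : X.IdealSheafData)
    (h₁ : BlowUp.IsEffCartierIdeal I₁) (h₂ : BlowUp.IsEffCartierIdeal I₂)
    (hE : BlowUp.IsEffCartierIdeal (I₁ ⊔ I₂)) :
    ∃ I₁' I₂' : X.IdealSheafData, BlowUp.IsEffCartierIdeal I₁' ∧ BlowUp.IsEffCartierIdeal I₂' ∧
      I₁ = I₁' * (I₁ ⊔ I₂) ∧ I₂ = I₂' * (I₁ ⊔ I₂) ∧ I₁' ⊔ I₂' = ⊤ ∧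
      ∀ D : X.IdealSheafData, BlowUp.IsEffCartierIdeal D → D ≤ I₁ → D ≤ I₂ →
        D ≤ I₁' * I₂' * (I₁ ⊔ I₂) := by
  have hft := isFiniteTypeIdeal_of_isEffCartier _ hE
  have hprin : ∀ x : X, ∃ U : X.affineOpens, x ∈ U.1 ∧ ∃ e : Γ(X, U.1),
      (I₁ ⊔ I₂).ideal U = Ideal.span {e} := fun x => by
    obtain ⟨U, hxU, e, -, he⟩ := hE x
    exact ⟨U, hxU, e, he⟩
  have hloc : ∀ x : X, ∃ W : X.affineOpens, x ∈ W.1 ∧ ∃ e a b a' b' : Γ(X, W.1),
      (I₁ ⊔ I₂).ideal W = Ideal.span {e} ∧ I₁.ideal W = Ideal.span {a} ∧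
      I₂.ideal W = Ideal.span {b} ∧
      a' ∈ nonZeroDivisors Γ(X, W.1) ∧ b' ∈ nonZeroDivisors Γ(X, W.1) ∧
      (colon I₁ (I₁ ⊔ I₂) hft).ideal W = Ideal.span {a'} ∧
      (colon I₂ (I₁ ⊔ I₂) hft).ideal W = Ideal.span {b'} ∧
      Ideal.span {a'} ⊔ Ideal.span {b'} = ⊤ ∧
      Ideal.span {a} ⊓ Ideal.span {b} ≤ Ideal.span {a'} * Ideal.span {b'} * Ideal.span {e} := by
    intro x
    obtain ⟨W, hxW, ⟨e, he, hEe⟩, ⟨a, ha, hIa⟩, ⟨b, hb, hIb⟩⟩ :=
      exists_common₃ (I₁ ⊔ I₂) I₁ I₂ hE h₁ h₂ x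
    have hsup : Ideal.span {e} = Ideal.span {a} ⊔ Ideal.span {b} := by
      rw [← hEe, ← hIa, ← hIb]; rfl
    obtain ⟨a', b', ha', hb', hca, hcb, htop, hinf⟩ := local_structure e a b he ha hb hsup
    refine ⟨W, hxW, e, a, b, a', b', hEe, hIa, hIb, ha', hb', ?_, ?_, htop, hinf⟩
    · rw [ideal_colon, hEe, hIa, hca]
    · rw [ideal_colon, hEe, hIb, hcb]
  choose W hxW e a b a' b' hEe hIa hIb ha' hb' hca hcb htop hinf using hloc
  have hcov : ⨆ x, (W x).1 = ⊤ := top_le_iff.mp (fun x _ ↦ by simpa using ⟨x, hxW x⟩)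
  refine ⟨colon I₁ (I₁ ⊔ I₂) hft, colon I₂ (I₁ ⊔ I₂) hft,
    fun x => ⟨W x, hxW x, a' x, ha' x, hca x⟩, fun x => ⟨W x, hxW x, b' x, hb' x, hcb x⟩,
    (colon_mul_eq _ _ hft hprin le_sup_left).symm, (colon_mul_eq _ _ hft hprin le_sup_right).symm,
    ?_, ?_⟩
  · rw [eq_top_iff]
    refine Scheme.IdealSheafData.le_of_iSup_eq_top W hcov fun x => ?_
    change _ ≤ (colon I₁ (I₁ ⊔ I₂) hft).ideal (W x) ⊔ (colon I₂ (I₁ ⊔ I₂) hft).ideal (W x)
    rw [hca, hcb, htop x]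
    exact le_top
  · intro D _ hD₁ hD₂
    refine Scheme.IdealSheafData.le_of_iSup_eq_top W hcov fun x => ?_
    change _ ≤ (colon I₁ (I₁ ⊔ I₂) hft).ideal (W x) * (colon I₂ (I₁ ⊔ I₂) hft).ideal (W x) *
      (I₁ ⊔ I₂).ideal (W x)
    rw [hca, hcb, hEe]
    refine le_trans (le_inf ?_ ?_) (hinf x)
    · rw [← hIa]; exact hD₁ (W x)
    · rw [← hIb]; exact hD₂ (W x)

end Geometry

end Groth.Agent.H20.CartierDiff
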