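import Groth.Agent.H20.MaxPointFibre
import Mathlib.AlgebraicGeometry.Limits
import Mathlib.AlgebraicGeometry.Morphisms.QuasiSeparated

set_option autoImplicit false
universe u v

namespace Groth.Agent.H20

open AlgebraicGeometry CategoryTheory CategoryTheory.Limits TopologicalSpace Opposite

/-- A finite pairwise disjoint union of affine opens is affine. -/
theorem isAffineOpen_iSup_of_pairwise_disjoint {X : Scheme.{u}} {σ : Type v} [Finite σ]
    [Small.{u} σ] (U : σ → X.Opens) (hU : ∀ i, IsAffineOpen (U i))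
    (hdisj : ∀ i j, i ≠ j → Disjoint (U i) (U j)) : IsAffineOpen (⨆ i, U i) := by
  let f : ∀ i, (U i : Scheme.{u}) ⟶ ((⨆ i, U i : X.Opens) : Scheme.{u}) :=
    fun i => X.homOfLE (le_iSup U i)
  haveI : ∀ i, IsAffine (U i : Scheme.{u}) := hU
  have hrange : ∀ i, Set.range ⇑(f i) = {z : ((⨆ i, U i : X.Opens) : Scheme.{u}) | z.1 ∈ U i} := by
    intro i
    ext z
    constructor
    · rintro ⟨y, rfl⟩
      change (X.homOfLE (le_iSup U i) y).1 ∈ U i
      rw [Scheme.homOfLE_apply]
      exact y.2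
    · intro hz
      refine ⟨⟨z.1, hz⟩, ?_⟩
      apply Subtype.ext
      change (X.homOfLE (le_iSup U i) _).1 = z.1
      rw [Scheme.homOfLE_apply]
  haveI : IsOpenImmersion (Sigma.desc f) := by
    refine isOpenImmersion_sigmaDesc _ _ (fun i j hij => ?_)
    change Disjoint (Set.range ⇑(f i)) (Set.range ⇑(f j))
    rw [hrange i, hrange j, Set.disjoint_left]
    intro z hzi hzj
    have := (hdisj i j hij).le_bot ⟨hzi, hzj⟩
    exact this
  haveI : IsIso (Sigma.desc f) := by
    apply isIso_of_isOpenImmersion_of_opensRange_eq_top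
    rw [eq_top_iff]
    rintro ⟨z, hz⟩ -
    have hz' : z ∈ (⨆ i, U i : X.Opens) := hz
    rw [Opens.mem_iSup] at hz'
    obtain ⟨i, hzi⟩ := hz'
    have hzr : (⟨z, hz⟩ : ((⨆ i, U i : X.Opens) : Scheme.{u})) ∈ Set.range ⇑(f i) := by
      rw [hrange i]; exact hzi
    obtain ⟨y, hy⟩ := hzr
    refine ⟨Sigma.ι (fun i => (U i : Scheme.{u})) i y, ?_⟩
    rw [← Scheme.Hom.comp_apply, Sigma.ι_desc]
    exact hy
  exact IsAffine.of_isIso (inv (Sigma.desc f))

/-- Let `η` be the generic point of an irreducible component, `V` an affine open containing `η`,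
and `g` a section over `V` vanishing at `η`.  Then `D(g)` is disjoint from a neighbourhood of
`η`. -/
theorem exists_open_nhds_disjoint_basicOpen {X : Scheme.{u}} (η : X)
    (hη : closure {η} ∈ irreducibleComponents X) (V : X.Opens) (hηV : η ∈ V) (g : Γ(X, V))
    (hg : η ∉ X.basicOpen g) :
    ∃ W : X.Opens, η ∈ W ∧ W ≤ V ∧ Disjoint W (X.basicOpen g) := by
  have hmax : (X.presheaf.germ V η hηV).hom g ∈
      IsLocalRing.maximalIdeal (X.presheaf.stalk η) := by
    rw [IsLocalRing.mem_maximalIdeal, mem_nonunits_iff]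
    intro hu
    exact hg ((Scheme.mem_basicOpen X g η hηV).mpr hu)
  obtain ⟨n, hn⟩ := isNilpotent_of_mem_maximalIdeal_stalk_of_isGenericPoint η (closure {η}) hη
    isGenericPoint_closure _ hmax
  have hs' : (X.presheaf.germ V η hηV).hom (g ^ n) = (X.presheaf.germ V η hηV).hom 0 := by
    rw [map_zero, map_pow]; exact hn
  obtain ⟨W, hηW, iU, iV, hW⟩ := TopCat.Presheaf.germ_eq X.presheaf η hηV hηV (g ^ n) 0 hs'
  rw [map_zero] at hW
  refine ⟨W, hηW, iU.le, ?_⟩
  rw [disjoint_iff, eq_bot_iff]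
  rintro z ⟨hzW, hz⟩
  exfalso
  have hzV : z ∈ V := iU.le hzW
  have h1 : IsUnit ((X.presheaf.germ V z hzV).hom g) := (Scheme.mem_basicOpen X g z hzV).mp hz
  have h2 : (X.presheaf.germ V z hzV).hom (g ^ n) = 0 := by
    have := TopCat.Presheaf.germ_res_apply X.presheaf iU z hzW (g ^ n)
    rw [← this, hW, map_zero]
  rw [map_pow] at h2
  have h3 : IsUnit ((X.presheaf.germ V z hzV).hom g ^ n) := h1.pow n
  rw [h2] at h3
  exact not_isUnit_zero h3

/-- Let `η` be the generic point of an irreducible component of a scheme `X`, `V` an affine open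
containing `η` and `O` an open not containing `η` with `O ⊓ V` quasi-compact.  Then `η` has an
open neighbourhood in `V` disjoint from `O`. -/
theorem exists_open_nhds_disjoint_of_generic {X : Scheme.{u}} (η : X)
    (hη : closure {η} ∈ irreducibleComponents X) (V : X.Opens) (hV : IsAffineOpen V) (hηV : η ∈ V)
    (O : X.Opens) (hO : IsCompact ((O ⊓ V : X.Opens) : Set X)) (hηO : η ∉ O) :
    ∃ N : X.Opens, η ∈ N ∧ N ≤ V ∧ Disjoint N O := by
  classical
  have hex : ∀ z : (O ⊓ V : X.Opens), ∃ g : Γ(X, V), X.basicOpen g ≤ (O ⊓ V : X.Opens) ∧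
      z.1 ∈ X.basicOpen g := fun z => hV.exists_basicOpen_le z z.2.2
  choose g hg1 hg2 using hex
  obtain ⟨t, ht⟩ := hO.elim_finite_subcover (fun z : (O ⊓ V : X.Opens) => (X.basicOpen (g z) : Set X))
    (fun z => (X.basicOpen (g z)).2) (fun z hz => Set.mem_iUnion.mpr ⟨⟨z, hz⟩, hg2 ⟨z, hz⟩⟩)
  have hW : ∀ z : (O ⊓ V : X.Opens), ∃ W : X.Opens, η ∈ W ∧ W ≤ V ∧
      Disjoint W (X.basicOpen (g z)) := by
    intro z
    apply exists_open_nhds_disjoint_basicOpen η hη V hηV (g z)
    intro h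
    exact hηO (hg1 z h).1
  choose W hW1 hW2 hW3 using hW
  refine ⟨V ⊓ t.inf W, ⟨hηV, ?_⟩, inf_le_left, ?_⟩
  · change η ∈ ((t.inf W : X.Opens) : Set X)
    rw [Opens.coe_finset_inf, Finset.inf_set_eq_iInter]
    simp only [Set.mem_iInter]
    intro z _
    exact hW1 z
  · rw [disjoint_iff, eq_bot_iff]
    rintro y ⟨⟨hyV, hyW⟩, hyO⟩
    exfalso
    have hy : y ∈ ((O ⊓ V : X.Opens) : Set X) := ⟨hyO, hyV⟩
    have := ht hy
    simp only [Set.mem_iUnion] at this
    obtain ⟨z, hzt, hyz⟩ := this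
    have hyWz : y ∈ W z := by
      have hyW' : y ∈ ((t.inf W : X.Opens) : Set X) := hyW
      rw [Opens.coe_finset_inf, Finset.inf_set_eq_iInter] at hyW'
      simp only [Set.mem_iInter] at hyW'
      exact hyW' z hzt
    exact (hW3 z).le_bot ⟨hyWz, hyz⟩

/-- Distinct generic points of irreducible components do not specialize to each other. -/
theorem not_mem_closure_of_generic_ne {X : Scheme.{u}} {η₁ η₂ : X}
    (h₁ : closure {η₁} ∈ irreducibleComponents X) (hne : η₁ ≠ η₂) : η₁ ∉ closure {η₂} := by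
  intro h
  have h12 : η₂ ⤳ η₁ := specializes_iff_mem_closure.mpr h
  have hsub : closure {η₁} ⊆ closure {η₂} := specializes_iff_closure_subset.mp h12
  have hsub' : closure {η₂} ⊆ closure {η₁} := h₁.2 isIrreducible_singleton.closure hsub
  have h21 : η₁ ⤳ η₂ := specializes_iff_mem_closure.mpr (hsub' (subset_closure rfl))
  exact hne (h21.antisymm h12).eq

/-- Around finitely many generic points of irreducible components of a quasi-separated scheme,
all outside a quasi-compact open `O`, there are pairwise disjoint affine opens disjoint from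
`O`. -/
theorem exists_disjoint_affine_nhds_of_generic {X : Scheme.{u}} [QuasiSeparatedSpace X]
    (P : Finset X) (hP : ∀ p ∈ P, closure {p} ∈ irreducibleComponents X)
    (O : X.Opens) (hOc : IsCompact (O : Set X)) (hPO : ∀ p ∈ P, p ∉ O) :
    ∃ U : {p // p ∈ P} → X.Opens, (∀ p, IsAffineOpen (U p) ∧ p.1 ∈ U p ∧ Disjoint (U p) O) ∧
      ∀ p q, p ≠ q → Disjoint (U p) (U q) := by
  classical
  -- step 1: affine opens `V p ∋ p` avoiding the other points
  have h1 : ∀ p : {p // p ∈ P}, ∃ V : X.Opens, IsAffineOpen V ∧ p.1 ∈ V ∧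
      ∀ q : {p // p ∈ P}, q ≠ p → q.1 ∉ V := by
    intro p
    set T : Set X := ⋃ q ∈ {q : X | q ∈ P ∧ q ≠ p.1}, closure {q} with hT
    have hTcl : IsClosed T := by
      apply Set.Finite.isClosed_biUnion
      · exact P.finite_toSet.subset (fun q hq => hq.1)
      · intro q _
        exact isClosed_closure
    have hpT : p.1 ∉ T := by
      intro h
      simp only [hT, Set.mem_iUnion] at h
      obtain ⟨q, ⟨hqP, hqp⟩, hpq⟩ := h
      exact not_mem_closure_of_generic_ne (hP p.1 p.2) (Ne.symm hqp) hpq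
    obtain ⟨V, hV, hpV, hVT⟩ := exists_isAffineOpen_mem_and_subset (x := p.1)
      (U := ⟨Tᶜ, hTcl.isOpen_compl⟩) hpT
    refine ⟨V, hV, hpV, ?_⟩
    intro q hqp hqV
    apply hVT hqV
    simp only [hT, Set.mem_iUnion]
    exact ⟨q.1, ⟨q.2, fun h => hqp (Subtype.ext h)⟩, subset_closure rfl⟩
  choose V hV1 hV2 hV3 using h1
  -- step 2: neighbourhoods `N p` of `p` in `V p` disjoint from `O` and the other `V q`
  have h2 : ∀ p : {p // p ∈ P}, ∃ N : X.Opens, p.1 ∈ N ∧ N ≤ V p ∧
      Disjoint N (O ⊔ ⨆ q : {q : {p // p ∈ P} // q ≠ p}, V q.1) := by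
    intro p
    set O' : X.Opens := O ⊔ ⨆ q : {q : {p // p ∈ P} // q ≠ p}, V q.1 with hO'
    have hO'c : IsCompact (O' : Set X) := by
      rw [hO', Opens.coe_sup, Opens.coe_iSup]
      exact hOc.union (isCompact_iUnion fun q => (hV1 q.1).isCompact)
    have hpO' : p.1 ∉ O' := by
      intro h
      rcases h with h | h
      · exact hPO p.1 p.2 h
      · have h' : p.1 ∈ (⨆ q : {q : {p // p ∈ P} // q ≠ p}, V q.1 : X.Opens) := h
        rw [Opens.mem_iSup] at h'
        obtain ⟨q, hq⟩ := h'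
        exact hV3 q.1 p (Ne.symm q.2) hq
    have hcomp : IsCompact ((O' ⊓ V p : X.Opens) : Set X) :=
      QuasiSeparatedSpace.inter_isCompact _ _ O'.2 hO'c (V p).2 (hV1 p).isCompact
    exact exists_open_nhds_disjoint_of_generic p.1 (hP p.1 p.2) (V p) (hV1 p) (hV2 p) O' hcomp hpO'
  choose N hN1 hN2 hN3 using h2
  -- step 3: affine opens inside `N p`
  have h3 : ∀ p : {p // p ∈ P}, ∃ U : X.Opens, IsAffineOpen U ∧ p.1 ∈ U ∧ U ≤ N p := by
    intro p
    obtain ⟨U, hU, hpU, hUN⟩ := exists_isAffineOpen_mem_and_subset (x := p.1) (U := N p) (hN1 p)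
    exact ⟨U, hU, hpU, hUN⟩
  choose U hU1 hU2 hU3 using h3
  refine ⟨U, fun p => ⟨hU1 p, hU2 p, ?_⟩, ?_⟩
  · exact ((hN3 p).mono_right le_sup_left).mono_left (hU3 p)
  · intro p q hpq
    have hq : U q ≤ O ⊔ ⨆ q : {q : {p // p ∈ P} // q ≠ p}, V q.1 := by
      refine le_trans ((hU3 q).trans (hN2 q)) (le_trans ?_ le_sup_right)
      exact le_iSup (fun q : {q : {p // p ∈ P} // q ≠ p} => V q.1) ⟨q, Ne.symm hpq⟩
    exact ((hN3 p).mono_right hq).mono_left (hU3 p)

/-- Pairwise distinct generic points of irreducible components of a quasi-separated scheme have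
pairwise disjoint affine open neighbourhoods whose union is affine. -/
theorem exists_disjoint_affine_of_generic_points (X : Scheme.{u}) [QuasiSeparatedSpace X] {n : ℕ}
    (η : Fin n → X) (hη : ∀ i, closure ({η i} : Set X) ∈ irreducibleComponents (X : Type u))
    (hinj : Function.Injective η) :
    ∃ U : Fin n → X.Opens, (∀ i, IsAffineOpen (U i) ∧ η i ∈ U i) ∧
      (∀ i j, i ≠ j → Disjoint (U i) (U j)) ∧ IsAffineOpen (⨆ i, U i) := by
  classical
  set P : Finset X := Finset.univ.image η with hP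
  have hmem : ∀ i, η i ∈ P := fun i => Finset.mem_image_of_mem η (Finset.mem_univ i)
  have hPirr : ∀ p ∈ P, closure {p} ∈ irreducibleComponents X := by
    intro p hp
    obtain ⟨i, -, rfl⟩ := Finset.mem_image.mp hp
    exact hη i
  obtain ⟨U', hU'1, hU'2⟩ := exists_disjoint_affine_nhds_of_generic P hPirr ⊥
    (by simp) (fun p _ h => h)
  have hdisj : ∀ i j, i ≠ j → Disjoint (U' ⟨η i, hmem i⟩) (U' ⟨η j, hmem j⟩) := by
    intro i j hij
    apply hU'2
    intro h
    exact hij (hinj (congrArg Subtype.val h))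
  refine ⟨fun i => U' ⟨η i, hmem i⟩, fun i => ⟨(hU'1 _).1, (hU'1 _).2.1⟩, hdisj, ?_⟩
  exact isAffineOpen_iSup_of_pairwise_disjoint _ (fun i => (hU'1 _).1) hdisj

/-- In a quasi-separated scheme, finitely many generic points of irreducible components and one
further point lie in a common affine open. -/
theorem exists_affine_of_generic_points_and_point (X : Scheme.{u}) [QuasiSeparatedSpace X] {n : ℕ}
    (η : Fin n → X) (hη : ∀ i, closure ({η i} : Set X) ∈ irreducibleComponents (X : Type u))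
    (x : X) : ∃ U : X.Opens, IsAffineOpen U ∧ x ∈ U ∧ ∀ i, η i ∈ U := by
  classical
  obtain ⟨V, hV, hxV, -⟩ := exists_isAffineOpen_mem_and_subset (x := x) (U := ⊤) trivial
  set P : Finset X := (Finset.univ.image η).filter (fun p => p ∉ V) with hP
  have hPirr : ∀ p ∈ P, closure {p} ∈ irreducibleComponents X := by
    intro p hp
    obtain ⟨i, -, rfl⟩ := Finset.mem_image.mp (Finset.mem_filter.mp hp).1
    exact hη i
  obtain ⟨U', hU'1, hU'2⟩ := exists_disjoint_affine_nhds_of_generic P hPirr V hV.isCompact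
    (fun p hp => (Finset.mem_filter.mp hp).2)
  let W : Option {p // p ∈ P} → X.Opens := fun o => o.elim V U'
  have hWaff : ∀ o, IsAffineOpen (W o) := by
    rintro (_ | p)
    · exact hV
    · exact (hU'1 p).1
  have hWdisj : ∀ o o', o ≠ o' → Disjoint (W o) (W o') := by
    rintro (_ | p) (_ | q) h
    · exact absurd rfl h
    · exact (hU'1 q).2.2.symm
    · exact (hU'1 p).2.2
    · exact hU'2 p q (fun h' => h (congrArg some h'))
  refine ⟨⨆ o, W o, isAffineOpen_iSup_of_pairwise_disjoint W hWaff hWdisj, ?_, ?_⟩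
  · exact (le_iSup W none) hxV
  · intro i
    by_cases hi : η i ∈ V
    · exact (le_iSup W none) hi
    · have hiP : η i ∈ P :=
        Finset.mem_filter.mpr ⟨Finset.mem_image_of_mem η (Finset.mem_univ i), hi⟩
      exact (le_iSup W (some ⟨η i, hiP⟩)) (hU'1 ⟨η i, hiP⟩).2.1

end Groth.Agent.H20
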