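import Mathlib

/-!
# Finite type ideal sheaves and closed immersions of finite presentation
-/

set_option autoImplicit false
universe u
open CategoryTheory AlgebraicGeometry

namespace Groth.Agent.H20.IdealFP

/-- A surjective ring map of finite presentation has finitely generated kernel. -/
theorem ker_fg_of_surjective_of_finitePresentation {A B : Type*} [CommRing A] [CommRing B]
    (φ : A →+* B) (hs : Function.Surjective φ) (hφ : φ.FinitePresentation) :
    (RingHom.ker φ).FG := by
  let _ : Algebra A B := φ.toAlgebra
  have : Algebra.FinitePresentation A B := hφ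
  exact Algebra.FinitePresentation.ker_fG_of_surjective (Algebra.ofId A B) hs

/-- The closed immersion defined by an ideal sheaf of finite type is locally of finite
presentation. -/
theorem locallyOfFinitePresentation_subschemeι {X : Scheme.{u}} (J : X.IdealSheafData)
    (hJ : ∀ U : X.affineOpens, (J.ideal U).FG) : LocallyOfFinitePresentation J.subschemeι := by
  rw [HasRingHomProperty.iff_exists_appLE (P := @LocallyOfFinitePresentation)
    (RingHom.finitePresentation_stableUnderComposition.stableUnderCompositionWithLocalizationAway
      RingHom.finitePresentation_holdsForLocalizationAway).left]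
  intro x
  obtain ⟨_, ⟨U, hU, rfl⟩, hxU, -⟩ := (X.isBasis_affineOpens).exists_subset_of_mem_open
    (Set.mem_univ (J.subschemeι x)) isOpen_univ
  refine ⟨⟨U, hU⟩, ⟨J.subschemeι ⁻¹ᵁ U, hU.preimage J.subschemeι⟩, hxU, le_rfl, ?_⟩
  rw [Scheme.Hom.appLE_eq_app]
  apply RingHom.FinitePresentation.of_surjective
  · exact J.subschemeι.app_surjective U hU
  · have := J.ker_subschemeι_app ⟨U, hU⟩
    rw [this]
    exact hJ ⟨U, hU⟩

/-- The kernel of a closed immersion locally of finite presentation is of finite type. -/
theorem ker_ideal_fg {Z X : Scheme.{u}} (f : Z ⟶ X) [IsClosedImmersion f]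
    [LocallyOfFinitePresentation f] (U : X.affineOpens) : (f.ker.ideal U).FG := by
  rw [Scheme.Hom.ker_apply]
  have h1 : (f.appLE U.1 (f ⁻¹ᵁ U.1) le_rfl).hom.FinitePresentation :=
    HasRingHomProperty.appLE (P := @LocallyOfFinitePresentation) f inferInstance U
      ⟨f ⁻¹ᵁ U.1, U.2.preimage f⟩ le_rfl
  rw [Scheme.Hom.appLE_eq_app] at h1
  exact ker_fg_of_surjective_of_finitePresentation _ (f.app_surjective U.1 U.2) h1

end Groth.Agent.H20.IdealFP
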