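import Groth.Agent.H20.IdealDirected
import Groth.Agent.H20.IdealFP

/-!
# A closed subscheme of a qcqs scheme is the limit of finitely presented closed subschemes
-/

set_option autoImplicit false
set_option linter.unusedSectionVars false
universe u
open CategoryTheory CategoryTheory.Limits AlgebraicGeometry TopologicalSpace Opposite

namespace Groth.Agent.H20.ClosedLimit

open Scheme.IdealSheafData Groth.Agent.H20.IdealDirected

variable {X Y : Scheme.{u}} (ι : X ⟶ Y)

/-- The index set: finite type ideal sheaves contained in the kernel of `ι`. -/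
abbrev Idx : Type u := {I : Y.IdealSheafData // I ≤ ι.ker ∧ IsFT I}

instance : Nonempty (Idx ι) := ⟨⟨⊥, bot_le, isFT_bot⟩⟩

instance : IsDirected (Idx ι) (fun a b => a ≤ b) :=
  ⟨fun a b => ⟨⟨a.1 ⊔ b.1, sup_le a.2.1 b.2.1, isFT_sup a.2.2 b.2.2⟩,
    (le_sup_left : a.1 ≤ a.1 ⊔ b.1), (le_sup_right : b.1 ≤ a.1 ⊔ b.1)⟩⟩

/-- The objects of the inverse system. -/
noncomputable def dobj (i : Idx ι) : Over Y := Over.mk i.1.subschemeι

/-- The transition maps of the inverse system. -/
noncomputable def dmap {i j : Idx ι} (h : j ≤ i) : dobj ι i ⟶ dobj ι j :=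
  Over.homMk (U := Over.mk i.1.subschemeι) (V := Over.mk j.1.subschemeι)
    (inclusion (show j.1 ≤ i.1 from h)) (inclusion_subschemeι _)

lemma dmap_left {i j : Idx ι} (h : j ≤ i) :
    (dmap ι h).left = inclusion (show j.1 ≤ i.1 from h) := rfl

/-- The inverse system of closed subschemes `V(I)`. -/
noncomputable def diagram : (Idx ι)ᵒᵖ ⥤ Over Y where
  obj i := dobj ι i.unop
  map {i j} f := dmap ι (leOfHom f.unop)
  map_id i := by
    ext1
    exact inclusion_id _
  map_comp f g := by
    ext1
    exact (inclusion_comp _ _).symm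

variable [IsClosedImmersion ι]

/-- The projection `X ⟶ V(I)`. -/
noncomputable def toSub (i : Idx ι) : X ⟶ i.1.subscheme :=
  IsClosedImmersion.lift i.1.subschemeι ι (by rw [ker_subschemeι]; exact i.2.1)

@[reassoc (attr := simp)]
lemma toSub_ι (i : Idx ι) : toSub ι i ≫ i.1.subschemeι = ι :=
  IsClosedImmersion.lift_fac _ _ _

/-- The projection `X ⟶ V(I)` over `Y`. -/
noncomputable def toObj (i : Idx ι) : Over.mk ι ⟶ dobj ι i :=
  Over.homMk (U := Over.mk ι) (V := Over.mk i.1.subschemeι) (toSub ι i) (toSub_ι ι i)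

lemma toObj_left (i : Idx ι) : (toObj ι i).left = toSub ι i := rfl

/-- The cone with vertex `X`. -/
noncomputable def cone : Cone (diagram ι) where
  pt := Over.mk ι
  π :=
    { app := fun i => toObj ι i.unop
      naturality := fun i j f => by
        ext1
        change (𝟙 (Over.mk ι) ≫ toObj ι j.unop).left =
          (toObj ι i.unop ≫ dmap ι (leOfHom f.unop)).left
        rw [Category.id_comp, Over.comp_left, toObj_left, toObj_left, dmap_left]
        change (toSub ι (unop j) : X ⟶ (unop j).1.subscheme) =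
          toSub ι (unop i) ≫ inclusion (show (unop j).1 ≤ (unop i).1 from leOfHom f.unop)
        rw [← cancel_mono j.unop.1.subschemeι]
        simp only [Category.assoc, inclusion_subschemeι, toSub_ι] }

variable [CompactSpace Y] [QuasiSeparatedSpace Y]

lemma ker_le_of_cone (s : Cone (diagram ι)) : ι.ker ≤ s.pt.hom.ker := by
  apply le_of_forall_fg_le
  intro I hI hfg
  let g : s.pt.left ⟶ I.subscheme := (s.π.app (op ⟨I, hI, hfg⟩)).left
  have h1 : g ≫ I.subschemeι = s.pt.hom := Over.w (s.π.app (op ⟨I, hI, hfg⟩))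
  rw [← h1]
  have h2 : I.subschemeι.ker ≤ (g ≫ I.subschemeι).ker := Scheme.Hom.le_ker_comp g I.subschemeι
  rw [ker_subschemeι] at h2
  exact h2

/-- The lift of a cone. -/
noncomputable def liftHom (s : Cone (diagram ι)) : s.pt ⟶ Over.mk ι :=
  Over.homMk (V := Over.mk ι) (IsClosedImmersion.lift ι s.pt.hom (ker_le_of_cone ι s))
    (IsClosedImmersion.lift_fac _ _ _)

lemma liftHom_left (s : Cone (diagram ι)) :
    (liftHom ι s).left = IsClosedImmersion.lift ι s.pt.hom (ker_le_of_cone ι s) := rfl

/-- `X` is the limit of the finitely presented closed subschemes of `Y` containing it. -/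
noncomputable def isLimitCone : IsLimit (cone ι) where
  lift s := liftHom ι s
  fac s i := by
    ext1
    change (liftHom ι s ≫ toObj ι i.unop).left = _
    rw [Over.comp_left, liftHom_left, toObj_left]
    let g : s.pt.left ⟶ i.unop.1.subscheme := (s.π.app i).left
    have h1 : g ≫ i.unop.1.subschemeι = s.pt.hom := Over.w (s.π.app i)
    change (IsClosedImmersion.lift ι s.pt.hom (ker_le_of_cone ι s) ≫ toSub ι (unop i) :
      s.pt.left ⟶ i.unop.1.subscheme) = g
    rw [← cancel_mono i.unop.1.subschemeι]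
    rw [Category.assoc, toSub_ι, IsClosedImmersion.lift_fac, h1]
  uniq s m hm := by
    ext1
    rw [liftHom_left]
    let g : s.pt.left ⟶ X := m.left
    have h1 : g ≫ ι = s.pt.hom := Over.w m
    change g = IsClosedImmersion.lift ι s.pt.hom (ker_le_of_cone ι s)
    rw [← cancel_mono ι, IsClosedImmersion.lift_fac, h1]

theorem main : ∃ (I : Type u) (_ : Preorder I) (_ : IsDirected I (fun a b => a ≤ b))
    (_ : Nonempty I) (D : Iᵒᵖ ⥤ Over Y) (c : Limits.Cone D) (_ : Limits.IsLimit c),
    (∀ i, IsClosedImmersion (D.obj i).hom ∧ LocallyOfFinitePresentation (D.obj i).hom) ∧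
      Nonempty (c.pt ≅ Over.mk ι) :=
  ⟨Idx ι, inferInstance, inferInstance, inferInstance, diagram ι, cone ι, isLimitCone ι,
    fun i => ⟨inferInstanceAs (IsClosedImmersion i.unop.1.subschemeι),
      Groth.Agent.H20.IdealFP.locallyOfFinitePresentation_subschemeι _ i.unop.2.2⟩,
    ⟨Iso.refl _⟩⟩

end Groth.Agent.H20.ClosedLimit
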