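import Groth.Agent.H20.ComplBij
import Groth.Agent.H20.AdicQuot
import Groth.Agent.H20.ComplNoeth2
import Mathlib.RingTheory.RingHom.Flat
import Mathlib.RingTheory.Flat.Localization
import Mathlib.RingTheory.Localization.LocalizationLocalization
import Mathlib.RingTheory.Localization.Submodule
import Mathlib.RingTheory.AdicCompletion.AsTensorProduct

set_option autoImplicit false
universe u

namespace Groth.Agent.H20

section A5

variable {L' C : Type u} [CommRing L'] [CommRing C] (I' : Ideal L') (K : Ideal C)
  (φ : AdicCompletion I' L' →+* C)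

/-- A ring map out of a completion induces on completions the obvious map. -/
lemma complMap_comp_of_eq (hI' : I'.FG)
    (h : I'.map (φ.comp (algebraMap L' (AdicCompletion I' L'))) ≤ K)
    (x : AdicCompletion I' L') :
    FSch.complMap I' K (φ.comp (algebraMap L' (AdicCompletion I' L'))) h x =
      algebraMap C (AdicCompletion K C) (φ x) := by
  apply AdicCompletion.ext_evalₐ
  intro k
  rw [evalₐ_complMap]
  obtain ⟨ℓ, hℓ⟩ := Ideal.Quotient.mk_surjective (AdicCompletion.evalₐ I' k x)
  rw [← hℓ, Ideal.quotientMap_mk]
  change _ = AdicCompletion.evalₐ K k (AdicCompletion.of K C (φ x))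
  rw [AdicCompletion.evalₐ_of, Ideal.Quotient.eq, RingHom.comp_apply, ← map_sub]
  have hx : algebraMap L' (AdicCompletion I' L') ℓ - x ∈
      (I' ^ k).map (algebraMap L' (AdicCompletion I' L')) := by
    rw [← ker_evalₐ_eq_map I' hI' k, RingHom.mem_ker, map_sub]
    change AdicCompletion.evalₐ I' k (AdicCompletion.of I' L' ℓ) - _ = 0
    rw [AdicCompletion.evalₐ_of, hℓ]
    exact sub_self _
  have h2 : (I' ^ k).map (algebraMap L' (AdicCompletion I' L')) ≤ (K ^ k).comap φ := by
    rw [Ideal.map_le_iff_le_comap, Ideal.comap_comap]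
    exact FSch.pow_le_comap_pow_of_map_le I' K _ h k
  exact h2 hx

end A5

section Loc

variable {L' L : Type u} [CommRing L'] [CommRing L] (I' : Ideal L')
  (T : Submonoid L') [Algebra L' L] [IsLocalization T L]

/-- The image of `T` in the completion. -/
noncomputable def TB : Submonoid (AdicCompletion I' L') := T.map (algebraMap L' (AdicCompletion I' L'))

/-- The localization of the completion at the image of `T`. -/
abbrev CC : Type u := Localization (TB I' T)

/-- The map `L' → B → C`. -/
noncomputable def toC : L' →+* CC I' T :=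
  (algebraMap (AdicCompletion I' L') (CC I' T)).comp (algebraMap L' (AdicCompletion I' L'))

/-- The induced map of localizations `L → C`. -/
noncomputable def psi : L →+* CC I' T :=
  IsLocalization.map (M := T) (T := TB I' T) (CC I' T) (algebraMap L' (AdicCompletion I' L'))
    (Submonoid.le_comap_map T)

lemma psi_comp : (psi (L := L) I' T).comp (algebraMap L' L) = toC I' T := by
  apply RingHom.ext
  intro x
  simp [psi, toC]

lemma psi_mk' (ℓ : L') (t : T) :
    psi (L := L) I' T (IsLocalization.mk' L ℓ t) =
      IsLocalization.mk' (CC I' T) (algebraMap L' (AdicCompletion I' L') ℓ)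
        (⟨algebraMap L' (AdicCompletion I' L') t, Submonoid.mem_map_of_mem _ t.2⟩ : TB I' T) := by
  rw [psi, IsLocalization.map_mk']

/-- The ideal of definition of `C`. -/
noncomputable def IC : Ideal (CC I' T) := I'.map (toC I' T)

lemma IC_pow (k : ℕ) : IC I' T ^ k =
    ((I' ^ k).map (algebraMap L' (AdicCompletion I' L'))).map
      (algebraMap (AdicCompletion I' L') (CC I' T)) := by
  rw [IC, ← Ideal.map_pow, toC, ← Ideal.map_map]

lemma map_psi_le : (I'.map (algebraMap L' L)).map (psi (L := L) I' T) ≤ IC I' T := by
  rw [Ideal.map_map, psi_comp, IC]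

lemma of_mul_mem_iff (hI' : I'.FG) (k : ℕ) (ℓ : L') :
    algebraMap L' (AdicCompletion I' L') ℓ ∈
      (I' ^ k).map (algebraMap L' (AdicCompletion I' L')) ↔ ℓ ∈ I' ^ k := by
  rw [← ker_evalₐ_eq_map I' hI' k, RingHom.mem_ker]
  change AdicCompletion.evalₐ I' k (AdicCompletion.of I' L' ℓ) = 0 ↔ _
  rw [AdicCompletion.evalₐ_of, Ideal.Quotient.eq_zero_iff_mem]

lemma quotientMap_psi_bijective (hI' : I'.FG) (k : ℕ) :
    Function.Bijective (Ideal.quotientMap (IC I' T ^ k) (psi (L := L) I' T)
      (FSch.pow_le_comap_pow_of_map_le _ _ _ (map_psi_le I' T) k)) := by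
  constructor
  · rw [injective_iff_map_eq_zero]
    intro y hy
    obtain ⟨x, rfl⟩ := Ideal.Quotient.mk_surjective y
    rw [Ideal.quotientMap_mk, Ideal.Quotient.eq_zero_iff_mem] at hy
    rw [Ideal.Quotient.eq_zero_iff_mem, ← Ideal.map_pow]
    obtain ⟨ℓ, t, rfl⟩ := IsLocalization.exists_mk'_eq T x
    rw [psi_mk', IC_pow, IsLocalization.mk'_mem_map_algebraMap_iff (TB I' T)] at hy
    obtain ⟨s', hs', hmem⟩ := hy
    obtain ⟨t₁, ht₁, rfl⟩ := Submonoid.mem_map.mp hs'
    rw [IsLocalization.mk'_mem_map_algebraMap_iff T]
    refine ⟨t₁, ht₁, ?_⟩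
    rw [← of_mul_mem_iff I' hI', map_mul]
    exact hmem
  · intro y
    obtain ⟨c, rfl⟩ := Ideal.Quotient.mk_surjective y
    obtain ⟨β, τ, rfl⟩ := IsLocalization.exists_mk'_eq (TB I' T) c
    obtain ⟨t, ht, hτ⟩ := Submonoid.mem_map.mp τ.2
    obtain ⟨ℓ, hℓ⟩ := Ideal.Quotient.mk_surjective (AdicCompletion.evalₐ I' k β)
    refine ⟨Ideal.Quotient.mk _ (IsLocalization.mk' L ℓ ⟨t, ht⟩), ?_⟩
    rw [Ideal.quotientMap_mk, psi_mk', Ideal.Quotient.eq]
    have hτ' : (⟨algebraMap L' (AdicCompletion I' L') ((⟨t, ht⟩ : T) : L'),
        Submonoid.mem_map_of_mem _ ht⟩ : TB I' T) = τ := Subtype.ext hτ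
    rw [hτ', ← IsLocalization.mk'_sub, IC_pow,
      IsLocalization.mk'_mem_map_algebraMap_iff (TB I' T)]
    refine ⟨1, Submonoid.one_mem _, ?_⟩
    rw [one_mul, ← ker_evalₐ_eq_map I' hI' k, RingHom.mem_ker, ← sub_mul, map_mul, map_sub]
    have h0 : (AdicCompletion.evalₐ I' k : AdicCompletion I' L' →+* L' ⧸ I' ^ k)
        (algebraMap L' (AdicCompletion I' L') ℓ) = AdicCompletion.evalₐ I' k β := by
      change AdicCompletion.evalₐ I' k (AdicCompletion.of I' L' ℓ) = _
      rw [AdicCompletion.evalₐ_of, hℓ]
    rw [h0]
    exact mul_eq_zero_of_left (sub_self _) _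

include T in
/-- The completion of a localization of a Noetherian ring is flat over the completion of the
ring. -/
theorem flat_complMap_of_isLocalization [IsNoetherianRing L'] :
    (FSch.complMap I' (I'.map (algebraMap L' L)) (algebraMap L' L) le_rfl).Flat := by
  have hI' : I'.FG := IsNoetherian.noetherian I'
  have hNB : IsNoetherianRing (AdicCompletion I' L') := isNoetherianRing_adicCompletion I'
  have hNC : IsNoetherianRing (CC I' T) := IsLocalization.isNoetherianRing (TB I' T) _ hNB
  -- the comparison isomorphism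
  have hbij := complMap_bijective (I'.map (algebraMap L' L)) (IC I' T) (psi (L := L) I' T)
    (map_psi_le I' T) (quotientMap_psi_bijective I' T hI')
  -- the flat composite
  have hθ : ((algebraMap (CC I' T) (AdicCompletion (IC I' T) (CC I' T))).comp
      (algebraMap (AdicCompletion I' L') (CC I' T))).Flat := by
    refine RingHom.Flat.comp ?_ ?_
    · exact RingHom.flat_algebraMap_iff.mpr (IsLocalization.flat _ (TB I' T))
    · exact RingHom.flat_algebraMap_iff.mpr inferInstance
  have hcomp : ∀ x, FSch.complMap (I'.map (algebraMap L' L)) (IC I' T) (psi (L := L) I' T)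
      (map_psi_le I' T)
      (FSch.complMap I' (I'.map (algebraMap L' L)) (algebraMap L' L) le_rfl x) =
      ((algebraMap (CC I' T) (AdicCompletion (IC I' T) (CC I' T))).comp
        (algebraMap (AdicCompletion I' L') (CC I' T))) x := by
    intro x
    rw [complMap_comp_eq I' (I'.map (algebraMap L' L)) (IC I' T) (algebraMap L' L)
      (psi (L := L) I' T) (toC I' T) (psi_comp I' T) le_rfl (map_psi_le I' T) le_rfl x]
    exact complMap_comp_of_eq I' (IC I' T) (algebraMap (AdicCompletion I' L') (CC I' T)) hI'
      le_rfl x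
  let e := RingEquiv.ofBijective _ hbij
  have hfac : FSch.complMap I' (I'.map (algebraMap L' L)) (algebraMap L' L) le_rfl =
      (e.symm : _ →+* _).comp
        ((algebraMap (CC I' T) (AdicCompletion (IC I' T) (CC I' T))).comp
          (algebraMap (AdicCompletion I' L') (CC I' T))) := by
    apply RingHom.ext
    intro x
    rw [RingHom.comp_apply, ← hcomp x]
    exact (e.symm_apply_apply _).symm
  rw [hfac]
  exact RingHom.Flat.comp hθ (RingHom.Flat.of_bijective e.symm.bijective)

end Loc

/-- Variant of `flat_complMap_of_isLocalization` for a bare ring homomorphism. -/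
theorem flat_complMap_of_isLocalization' {L' L : Type u} [CommRing L'] [CommRing L]
    [IsNoetherianRing L'] (I' : Ideal L') (K : Ideal L) (g : L' →+* L) (T : Submonoid L')
    (hloc : @IsLocalization L' _ T L _ g.toAlgebra) (hK : K = I'.map g) (h : I'.map g ≤ K) :
    (FSch.complMap I' K g h).Flat := by
  subst hK
  letI := g.toAlgebra
  exact flat_complMap_of_isLocalization I' T

/-- Flatness of the map between completed rings of fractions `A{S'⁻¹} → A{S⁻¹}`, `S' ≤ S`. -/
theorem flat_complMap_localization_of_le (A : Type u) [CommRing A] [IsNoetherianRing A]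
    (J : Ideal A) (S' S : Submonoid A) (hS : S' ≤ S)
    (g : Localization S' →+* Localization S)
    (hg : g.comp (algebraMap A (Localization S')) = algebraMap A (Localization S))
    (hJ : (J.map (algebraMap A (Localization S'))).map g ≤ J.map (algebraMap A (Localization S))) :
    (FSch.complMap (J.map (algebraMap A (Localization S'))) (J.map (algebraMap A (Localization S)))
      g hJ).Flat := by
  have hN : IsNoetherianRing (Localization S') :=
    IsLocalization.isNoetherianRing S' _ inferInstance
  letI := g.toAlgebra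
  have htower : IsScalarTower A (Localization S') (Localization S) :=
    IsScalarTower.of_algebraMap_eq' hg.symm
  have hloc : IsLocalization (S.map (algebraMap A (Localization S'))) (Localization S) :=
    IsLocalization.isLocalization_of_submonoid_le (Localization S') (Localization S) S' S hS
  refine flat_complMap_of_isLocalization' _ _ g (S.map (algebraMap A (Localization S'))) hloc ?_ hJ
  rw [Ideal.map_map, hg]

end Groth.Agent.H20
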