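import Mathlib.AlgebraicTopology.SimplicialObject.ChainHomotopy
import Mathlib.AlgebraicTopology.AlternatingFaceMapComplex
import Mathlib.Algebra.Homology.Homotopy

set_option autoImplicit false
universe v u v' u'

open CategoryTheory CategoryTheory.Limits Opposite AlgebraicTopology Simplicial

namespace Groth.Agent.H20

section

variable {𝒞 : Type u} [Category.{v} 𝒞] {A : Type u'} [Category.{v'} A] [Preadditive A]
variable {K L : SimplicialObject 𝒞} (E : 𝒞ᵒᵖ ⥤ A)

/-- The cosimplicial object obtained from a simplicial object by a contravariant functor. -/
abbrev cosimpObj (M : SimplicialObject 𝒞) : CosimplicialObject A :=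
  ((Functor.whiskeringLeft _ _ _).obj M.rightOp).obj E

/-- The cosimplicial map induced by `f : L ⟶ K` after applying the contravariant functor `E`. -/
abbrev cosimpMap (f : L ⟶ K) : cosimpObj E K ⟶ cosimpObj E L :=
  ((Functor.whiskeringLeft _ _ _).map (NatTrans.rightOp f)).app E

/-- The chain homotopy (in the opposite category) attached to a simplicial homotopy. -/
noncomputable abbrev opChainHomotopy {a b : L ⟶ K} (H : SimplicialObject.Homotopy a b) :=
  (H.whiskerRight E.rightOp).toChainHomotopy

lemma unop_d_eq (M : SimplicialObject 𝒞) (n : ℕ) :
    (((alternatingFaceMapComplex Aᵒᵖ).obj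
      (((SimplicialObject.whiskering 𝒞 Aᵒᵖ).obj E.rightOp).obj M)).d (n + 1) n).unop =
      ((alternatingCofaceMapComplex A).obj (cosimpObj E M)).d n (n + 1) := by
  simp only [alternatingFaceMapComplex_obj_d, AlternatingFaceMapComplex.objD, unop_sum, unop_zsmul]
  refine Eq.trans ?_ (CochainComplex.of_d _ (AlternatingCofaceMapComplex.objD (cosimpObj E M))
    n).symm
  rfl

/-- A simplicial homotopy induces a cochain homotopy between the induced maps of
alternating coface map complexes. -/
noncomputable def cochainHomotopy {a b : L ⟶ K} (H : SimplicialObject.Homotopy a b) :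
    Homotopy ((alternatingCofaceMapComplex A).map (cosimpMap E a))
      ((alternatingCofaceMapComplex A).map (cosimpMap E b)) where
  hom i j := ((opChainHomotopy E H).hom j i).unop
  zero i j hij := by
    have : (opChainHomotopy E H).hom j i = 0 := (opChainHomotopy E H).zero j i hij
    rw [this]
    rfl
  comm n := by
    cases n with
    | zero =>
      erw [Homotopy.prevD_zero_cochainComplex, Homotopy.dNext_cochainComplex, add_zero]
      have h := (opChainHomotopy E H).comm 0
      rw [Homotopy.dNext_zero_chainComplex, Homotopy.prevD_chainComplex, zero_add] at h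
      have h' := congrArg Quiver.Hom.unop h
      rw [unop_add, unop_comp, unop_d_eq] at h'
      exact h'
    | succ n =>
      erw [Homotopy.prevD_succ_cochainComplex, Homotopy.dNext_cochainComplex]
      have h := (opChainHomotopy E H).comm (n + 1)
      rw [Homotopy.dNext_succ_chainComplex, Homotopy.prevD_chainComplex] at h
      have h' := congrArg Quiver.Hom.unop h
      rw [unop_add, unop_add, unop_comp, unop_comp, unop_d_eq, unop_d_eq] at h'
      exact h'.trans (congrArg (· + _) (add_comm _ _))

end

end Groth.Agent.H20
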