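import Groth.Agent.H20.MaxPointFibre
import Groth.Agent.H49.FibreStalk
import Mathlib.RingTheory.Filtration
import Mathlib.RingTheory.DiscreteValuationRing.Basic
import Mathlib.AlgebraicGeometry.Morphisms.Proper
import Mathlib.AlgebraicGeometry.Noetherian

set_option autoImplicit false
universe u

namespace Groth.Agent.H20

open IsLocalRing

section Algebra

/-- A Noetherian local ring `B` with a nonzerodivisor `t` in the maximal ideal such that `B/tB` is
reduced is reduced (Krull intersection). -/
theorem isReduced_of_isReduced_quotient_span_singleton {B : Type*} [CommRing B] [IsLocalRing B]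
    [IsNoetherianRing B] (t : B) (ht : t ∈ maximalIdeal B) (hreg : t ∈ nonZeroDivisors B)
    [IsReduced (B ⧸ Ideal.span {t})] : IsReduced B := by
  constructor
  intro a ha
  have step : ∀ b : B, IsNilpotent b → ∃ c, IsNilpotent c ∧ b = t * c := by
    intro b hb
    have h1 : IsNilpotent (Ideal.Quotient.mk (Ideal.span {t}) b) := hb.map _
    have h2 : Ideal.Quotient.mk (Ideal.span {t}) b = 0 := h1.eq_zero
    rw [Ideal.Quotient.eq_zero_iff_mem, Ideal.mem_span_singleton'] at h2
    obtain ⟨c, hc⟩ := h2
    refine ⟨c, ?_, by rw [← hc, mul_comm]⟩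
    obtain ⟨n, hn⟩ := hb
    refine ⟨n, ?_⟩
    rw [← hc, mul_pow] at hn
    exact (mem_nonZeroDivisors_iff_right.mp (pow_mem hreg n)) _ hn
  have key : ∀ k : ℕ, ∀ b : B, IsNilpotent b → b ∈ Ideal.span {t} ^ k := by
    intro k
    induction k with
    | zero => intro b _; simp
    | succ k ih =>
      intro b hb
      obtain ⟨c, hc, rfl⟩ := step b hb
      rw [pow_succ']
      exact Ideal.mul_mem_mul (Ideal.mem_span_singleton_self t) (ih c hc)
  have hmem : a ∈ ⨅ k, Ideal.span {t} ^ k := by
    rw [Ideal.mem_iInf]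
    exact fun k => key k a ha
  have hne : Ideal.span {t} ≠ (⊤ : Ideal B) := by
    intro h
    have : (1 : B) ∈ maximalIdeal B := by
      have h1 : (1 : B) ∈ Ideal.span {t} := h ▸ Submodule.mem_top
      exact (Ideal.span_singleton_le_iff_mem (I := maximalIdeal B)).mpr ht h1
    exact (Ideal.ne_top_iff_one _).mp (maximalIdeal.isMaximal B).ne_top this
  rw [Ideal.iInf_pow_eq_bot_of_isLocalRing _ hne] at hmem
  exact hmem

/-- Reducedness passes from the localization at a prime to the localization at a smaller prime. -/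
theorem isReduced_of_isLocalization_atPrime_le {C A₀ A : Type*} [CommRing C] [CommRing A₀]
    [CommRing A] [Algebra C A₀] [Algebra C A] (p₀ p : Ideal C) [p₀.IsPrime] [p.IsPrime]
    [IsLocalization.AtPrime A₀ p₀] [IsLocalization.AtPrime A p] (hle : p ≤ p₀) [IsReduced A₀] :
    IsReduced A := by
  constructor
  intro z hz
  obtain ⟨c, s, rfl⟩ := IsLocalization.exists_mk'_eq p.primeCompl z
  have hc : IsNilpotent (algebraMap C A c) := by
    rw [← IsLocalization.mk'_spec A c s]
    exact Commute.isNilpotent_mul_right (Commute.all _ _) hz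
  obtain ⟨n, hn⟩ := hc
  rw [← map_pow, IsLocalization.map_eq_zero_iff p.primeCompl A] at hn
  obtain ⟨t, ht⟩ := hn
  have h1 : IsNilpotent ((t : C) * c) := by
    refine ⟨n + 1, ?_⟩
    rw [mul_pow, pow_succ, pow_succ]
    calc (t : C) ^ n * t * (c ^ n * c) = (t : C) ^ n * c * ((t : C) * c ^ n) := by ring
      _ = 0 := by rw [ht, mul_zero]
  have h2 : algebraMap C A₀ ((t : C) * c) = 0 := (h1.map (algebraMap C A₀)).eq_zero
  rw [IsLocalization.map_eq_zero_iff p₀.primeCompl A₀] at h2
  obtain ⟨u, hu⟩ := h2
  have hu' : (u : C) ∈ p.primeCompl := fun h => u.2 (hle h)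
  have h3 : algebraMap C A c = 0 := by
    rw [IsLocalization.map_eq_zero_iff p.primeCompl A]
    exact ⟨⟨u, hu'⟩ * t, by rw [Submonoid.coe_mul, mul_assoc]; exact hu⟩
  rw [IsLocalization.mk'_eq_zero_iff]
  rw [IsLocalization.map_eq_zero_iff p.primeCompl A] at h3
  exact h3

end Algebra

section Scheme

open AlgebraicGeometry CategoryTheory TopologicalSpace

variable {R : Type u} [CommRing R] [IsDomain R] [IsDiscreteValuationRing R]

/-- The local ring of `Spec R` at the closed point of a DVR has principal maximal ideal generated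
by a regular element. -/
theorem exists_regular_generator_maximalIdeal_stalk (y : Spec (CommRingCat.of R))
    (hy : y = closedPoint R) :
    ∃ ϖ : (Spec (CommRingCat.of R)).presheaf.stalk y,
      maximalIdeal ((Spec (CommRingCat.of R)).presheaf.stalk y) = Ideal.span {ϖ} ∧
        IsSMulRegular ((Spec (CommRingCat.of R)).presheaf.stalk y) ϖ := by
  subst hy
  let e : (Spec (CommRingCat.of R)).presheaf.stalk (closedPoint R) ≃+* R :=
    (stalkClosedPointIso (CommRingCat.of R)).commRingCatIsoToRingEquiv
  obtain ⟨π, hπ⟩ := IsDiscreteValuationRing.exists_irreducible R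
  refine ⟨e.symm π, ?_, ?_⟩
  · ext a
    rw [Ideal.mem_span_singleton', mem_maximalIdeal, mem_nonunits_iff]
    have h1 : ¬ IsUnit a ↔ e a ∈ maximalIdeal R := by
      rw [mem_maximalIdeal, mem_nonunits_iff, not_iff_not]
      exact ⟨fun h => h.map e, fun h => by simpa using h.map e.symm⟩
    rw [h1, hπ.maximalIdeal_eq, Ideal.mem_span_singleton']
    constructor
    · rintro ⟨r, hr⟩
      refine ⟨e.symm r, ?_⟩
      apply e.injective
      rw [map_mul, e.apply_symm_apply, e.apply_symm_apply, hr]
    · rintro ⟨b, hb⟩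
      refine ⟨e b, ?_⟩
      rw [← hb, map_mul, e.apply_symm_apply]
  · intro a b hab
    have hab' : e.symm π * a = e.symm π * b := hab
    have := congrArg e hab'
    rw [map_mul, map_mul, e.apply_symm_apply] at this
    exact e.injective (mul_left_cancel₀ hπ.ne_zero this)

variable {X : Scheme.{u}} (f : X ⟶ Spec (CommRingCat.of R))

/-- Local rings at points of a reduced special fibre of a flat, locally finite type scheme over a
DVR are reduced. -/
theorem isReduced_stalk_of_specialFibre [LocallyOfFiniteType f] [Flat f]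
    [AlgebraicGeometry.IsReduced (f.fiber (closedPoint R))] (x' : f.fiber (closedPoint R)) :
    _root_.IsReduced (X.presheaf.stalk (f.fiberι (closedPoint R) x')) := by
  set x := f.fiberι (closedPoint R) x' with hx
  have hfx : f x = closedPoint R := by
    have : x ∈ Set.range (f.fiberι (closedPoint R)) := Set.mem_range_self x'
    rw [Scheme.Hom.range_fiberι] at this
    exact this
  haveI : IsLocallyNoetherian (Spec (CommRingCat.of R)) := by
    rw [isLocallyNoetherian_Spec]
    infer_instance
  haveI : IsLocallyNoetherian X := LocallyOfFiniteType.isLocallyNoetherian f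
  obtain ⟨ϖ, hϖ, hreg⟩ := exists_regular_generator_maximalIdeal_stalk (f x) hfx
  have hflat := Flat.stalkMap f x
  algebraize [(f.stalkMap x).hom]
  have hreg' : IsSMulRegular (X.presheaf.stalk x) ((f.stalkMap x).hom ϖ) :=
    IsSMulRegular.of_flat hreg
  set t := (f.stalkMap x).hom ϖ with ht
  have htm : t ∈ maximalIdeal (X.presheaf.stalk x) := by
    have hϖm : ϖ ∈ maximalIdeal _ := hϖ ▸ Ideal.mem_span_singleton_self ϖ
    rw [mem_maximalIdeal, mem_nonunits_iff] at hϖm ⊢
    exact fun h => hϖm (isUnit_of_map_unit (f.stalkMap x).hom ϖ h)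
  have htreg : t ∈ nonZeroDivisors (X.presheaf.stalk x) := by
    rw [mem_nonZeroDivisors_iff_right]
    intro b hb
    apply hreg'
    change t * b = t * 0
    rw [mul_zero, mul_comm, hb]
  have hideal : Groth.Agent.H49.FibreStalk.fibreIdeal f x = Ideal.span {t} := by
    rw [Groth.Agent.H49.FibreStalk.fibreIdeal, hϖ, Ideal.map_span, Set.image_singleton]
  let e1 := Groth.Agent.H49.FibreStalk.quotientEquivStalkFiber f (closedPoint R) x'
  let e2 := Ideal.quotEquivOfEq hideal
  haveI : _root_.IsReduced (X.presheaf.stalk x ⧸ Ideal.span {t}) :=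
    isReduced_of_injective (e2.symm.trans e1).toRingHom (e2.symm.trans e1).injective
  exact isReduced_of_isReduced_quotient_span_singleton t htm htreg

/-- A proper flat scheme over a DVR with reduced special fibre is reduced. -/
theorem isReduced_of_proper_flat_of_specialFibre [IsProper f] [Flat f]
    [AlgebraicGeometry.IsReduced (f.fiber (closedPoint R))] : AlgebraicGeometry.IsReduced X := by
  haveI : ∀ x : X, _root_.IsReduced (X.presheaf.stalk x) := by
    intro x
    -- find a specialization in the special fibre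
    have hcl : IsClosed (f '' closure {x}) := f.isClosedMap _ isClosed_closure
    have hmem : closedPoint R ∈ f '' closure {x} :=
      (IsLocalRing.specializes_closedPoint (f x)).mem_closed hcl
        ⟨x, subset_closure rfl, rfl⟩
    obtain ⟨x₀, hx₀, hfx₀⟩ := hmem
    have hspec : x ⤳ x₀ := specializes_iff_mem_closure.mpr hx₀
    have hx₀r : x₀ ∈ Set.range (f.fiberι (closedPoint R)) := by
      rw [Scheme.Hom.range_fiberι]
      exact hfx₀
    obtain ⟨x', rfl⟩ := hx₀r
    haveI := isReduced_stalk_of_specialFibre f x'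
    obtain ⟨U, hU, hx₀U, -⟩ := exists_isAffineOpen_mem_and_subset
      (x := f.fiberι (closedPoint R) x') (U := ⊤) trivial
    have hxU : x ∈ U := hspec.mem_open U.2 hx₀U
    let := X.presheaf.algebra_section_stalk ⟨x, hxU⟩
    have := hU.isLocalization_stalk ⟨x, hxU⟩
    let := X.presheaf.algebra_section_stalk ⟨f.fiberι (closedPoint R) x', hx₀U⟩
    have := hU.isLocalization_stalk ⟨f.fiberι (closedPoint R) x', hx₀U⟩
    have hle : (hU.primeIdealOf ⟨x, hxU⟩).asIdeal ≤
        (hU.primeIdealOf ⟨f.fiberι (closedPoint R) x', hx₀U⟩).asIdeal := by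
      change hU.primeIdealOf ⟨x, hxU⟩ ≤ hU.primeIdealOf ⟨f.fiberι (closedPoint R) x', hx₀U⟩
      rw [PrimeSpectrum.le_iff_specializes]
      have h1 : (⟨x, hxU⟩ : U) ⤳ ⟨f.fiberι (closedPoint R) x', hx₀U⟩ :=
        (subtype_specializes_iff _ _).mpr hspec
      exact h1.map hU.isoSpec.hom.continuous
    exact isReduced_of_isLocalization_atPrime_le (C := Γ(X, U))
      (A₀ := X.presheaf.stalk (f.fiberι (closedPoint R) x')) (A := X.presheaf.stalk x)
      (hU.primeIdealOf ⟨f.fiberι (closedPoint R) x', hx₀U⟩).asIdeal
      (hU.primeIdealOf ⟨x, hxU⟩).asIdeal hle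
  exact isReduced_of_isReduced_stalk X

/-- The generic fibre of a proper flat scheme over a DVR with reduced special fibre is reduced. -/
theorem isReduced_genericFibre_of_proper_flat_of_specialFibre [IsProper f] [Flat f]
    [AlgebraicGeometry.IsReduced (f.fiber (closedPoint R))] :
    AlgebraicGeometry.IsReduced (f.fiber (⟨⊥, Ideal.isPrime_bot⟩ : PrimeSpectrum R)) := by
  haveI := isReduced_of_proper_flat_of_specialFibre f
  haveI : IrreducibleSpace (Spec (CommRingCat.of R)) :=
    inferInstanceAs (IrreducibleSpace (PrimeSpectrum R))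
  refine isReduced_fiber_of_isGenericPoint f _ Set.univ ?_ ?_
  · rw [irreducibleComponents_eq_singleton]
    rfl
  · change closure {(⟨⊥, Ideal.isPrime_bot⟩ : PrimeSpectrum R)} = Set.univ
    rw [PrimeSpectrum.closure_singleton]
    simp

end Scheme

end Groth.Agent.H20
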