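import Groth.Agent.H20.BasicOpenConn
import Groth.Agent.H20.DVRReduced
import Mathlib.AlgebraicGeometry.Morphisms.Flat
import Mathlib.RingTheory.PrincipalIdealDomain

set_option autoImplicit false
universe u

namespace Groth.Agent.H20

open IsLocalRing AlgebraicGeometry CategoryTheory TopologicalSpace

variable {R : Type u} [CommRing R] [IsDomain R] [IsDiscreteValuationRing R]

/-- The maximal ideal of the local ring of `Spec R` (`R` a DVR) at the closed point is generated
by the germ of a uniformizer. -/
theorem maximalIdeal_stalk_eq_span_germ {π : R} (hπ : Irreducible π)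
    (y : Spec (CommRingCat.of R)) (hy : y = closedPoint R) :
    maximalIdeal ((Spec (CommRingCat.of R)).presheaf.stalk y) =
      Ideal.span {((Spec (CommRingCat.of R)).presheaf.germ ⊤ y trivial).hom
        ((Scheme.ΓSpecIso (CommRingCat.of R)).inv.hom π)} := by
  subst hy
  let e : (Spec (CommRingCat.of R)).presheaf.stalk (closedPoint R) ≃+* R :=
    (stalkClosedPointIso (CommRingCat.of R)).commRingCatIsoToRingEquiv
  have hgerm : ((Spec (CommRingCat.of R)).presheaf.germ ⊤ (closedPoint R) trivial).hom
        ((Scheme.ΓSpecIso (CommRingCat.of R)).inv.hom π) = e.symm π := by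
    have h := ΓSpecIso_hom_stalkClosedPointIso_inv (CommRingCat.of R)
    have h2 := congrArg (fun φ => φ.hom ((Scheme.ΓSpecIso (CommRingCat.of R)).inv.hom π)) h
    simp only [CommRingCat.hom_comp, RingHom.coe_comp, Function.comp_apply] at h2
    rw [← h2]
    have h3 : (Scheme.ΓSpecIso (CommRingCat.of R)).hom.hom
        ((Scheme.ΓSpecIso (CommRingCat.of R)).inv.hom π) = π :=
      Iso.inv_hom_id_apply (Scheme.ΓSpecIso (CommRingCat.of R)) π
    rw [h3]
    rfl
  rw [hgerm]
  ext a
  rw [Ideal.mem_span_singleton', mem_maximalIdeal, mem_nonunits_iff]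
  have h1 : ¬ IsUnit a ↔ e a ∈ maximalIdeal R := by
    rw [mem_maximalIdeal, mem_nonunits_iff, not_iff_not]
    exact ⟨fun h => h.map e, fun h => by simpa using h.map e.symm⟩
  rw [h1, hπ.maximalIdeal_eq, Ideal.mem_span_singleton']
  constructor
  · rintro ⟨r, hr⟩
    refine ⟨e.symm r, ?_⟩
    apply e.injective
    rw [map_mul, e.apply_symm_apply, e.apply_symm_apply, hr]
  · rintro ⟨b, hb⟩
    refine ⟨e b, ?_⟩
    rw [← hb, map_mul, e.apply_symm_apply]

/-- In `Spec R` for `R` a DVR with uniformizer `π`, `D(π)` is the generic point. -/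
theorem basicOpen_irreducible_eq {π : R} (hπ : Irreducible π) :
    (PrimeSpectrum.basicOpen π : Set (PrimeSpectrum R)) =
      {(⟨⊥, Ideal.isPrime_bot⟩ : PrimeSpectrum R)} := by
  ext p
  rw [Set.mem_singleton_iff]
  change π ∉ p.asIdeal ↔ _
  constructor
  · intro h
    by_contra hne
    have hbot : p.asIdeal ≠ ⊥ := fun hb => hne (PrimeSpectrum.ext hb)
    have hmax : p.asIdeal.IsMaximal := IsPrime.to_maximal_ideal hbot
    have : p.asIdeal = maximalIdeal R := IsLocalRing.eq_maximalIdeal hmax
    rw [this, hπ.maximalIdeal_eq] at h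
    exact h (Ideal.mem_span_singleton_self π)
  · rintro rfl
    change π ∉ (⊥ : Ideal R)
    rw [Ideal.mem_bot]
    exact hπ.ne_zero


/-- A point of `Spec R` (`R` a DVR) which is not the generic point is the closed point. -/
theorem eq_closedPoint_of_ne_generic (p : PrimeSpectrum R)
    (hp : p ≠ (⟨⊥, Ideal.isPrime_bot⟩ : PrimeSpectrum R)) : p = closedPoint R := by
  have hbot : p.asIdeal ≠ ⊥ := fun hb => hp (PrimeSpectrum.ext hb)
  have hmax : p.asIdeal.IsMaximal := IsPrime.to_maximal_ideal hbot
  have : p.asIdeal = maximalIdeal R := IsLocalRing.eq_maximalIdeal hmax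
  exact PrimeSpectrum.ext this

variable {X : Scheme.{u}} (f : X ⟶ Spec (CommRingCat.of R))

/-- The pull-back to `X` of a uniformizer `π` of the DVR `R`. -/
noncomputable def pullbackUniformizer (π : R) : Γ(X, ⊤) :=
  f.appTop.hom ((Scheme.ΓSpecIso (CommRingCat.of R)).inv.hom π)

/-- The generic fibre of `X → Spec R` is the non-vanishing locus of a uniformizer. -/
theorem preimage_generic_eq_basicOpen {π : R} (hπ : Irreducible π) :
    f ⁻¹' {(⟨⊥, Ideal.isPrime_bot⟩ : PrimeSpectrum R)} =
      (X.basicOpen (pullbackUniformizer f π) : Set X) := by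
  have h1 : f ⁻¹ᵁ (Spec (CommRingCat.of R)).basicOpen
      ((Scheme.ΓSpecIso (CommRingCat.of R)).inv.hom π) = X.basicOpen (pullbackUniformizer f π) :=
    Scheme.preimage_basicOpen_top f _
  have h2 : (Spec (CommRingCat.of R)).basicOpen ((Scheme.ΓSpecIso (CommRingCat.of R)).inv.hom π) =
      PrimeSpectrum.basicOpen π :=
    basicOpen_eq_of_affine (R := CommRingCat.of R) π
  rw [← h1, h2]
  ext x
  change f x ∈ ({(⟨⊥, Ideal.isPrime_bot⟩ : PrimeSpectrum R)} : Set (PrimeSpectrum R)) ↔
    f x ∈ (PrimeSpectrum.basicOpen π : Set (PrimeSpectrum R))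
  rw [basicOpen_irreducible_eq hπ]

/-- If the special fibre of `X → Spec R` is reduced, then on every affine open the ideal generated
by a uniformizer is radical (in the weak form `a² ∈ (π) → a ∈ (π)`). -/
theorem mem_span_pullbackUniformizer_of_mul_self_mem
    [AlgebraicGeometry.IsReduced (f.fiber (closedPoint R))] {π : R} (hπ : Irreducible π)
    (U : X.Opens) (hU : IsAffineOpen U) (a : Γ(X, U))
    (ha : a * a ∈ Ideal.span
      {(X.presheaf.map (homOfLE (le_top : U ≤ ⊤)).op (pullbackUniformizer f π) : Γ(X, U))}) :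
    a ∈ Ideal.span
      {(X.presheaf.map (homOfLE (le_top : U ≤ ⊤)).op (pullbackUniformizer f π) : Γ(X, U))} := by
  set t := pullbackUniformizer f π with ht
  have hpre := preimage_generic_eq_basicOpen f hπ
  rw [hU.mem_ideal_iff]
  intro x hxU
  rw [Ideal.map_span, Set.image_singleton]
  have hgt : (X.presheaf.germ U x hxU).hom (X.presheaf.map (homOfLE (le_top : U ≤ ⊤)).op t) =
      (X.presheaf.germ ⊤ x trivial).hom t :=
    TopCat.Presheaf.germ_res_apply X.presheaf (homOfLE (le_top : U ≤ ⊤)) x hxU t
  rw [hgt]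
  have ha' : (X.presheaf.germ U x hxU).hom a * (X.presheaf.germ U x hxU).hom a ∈
      Ideal.span {(X.presheaf.germ ⊤ x trivial).hom t} := by
    rw [← map_mul, ← hgt]
    have := Ideal.mem_map_of_mem (X.presheaf.germ U x hxU).hom ha
    rwa [Ideal.map_span, Set.image_singleton] at this
  by_cases hx : x ∈ X.basicOpen t
  · have hunit : IsUnit ((X.presheaf.germ ⊤ x trivial).hom t) :=
      (Scheme.mem_basicOpen_top X t x).mp hx
    rw [Ideal.span_singleton_eq_top.mpr hunit]
    trivial
  · have hfx : f x = closedPoint R := by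
      apply eq_closedPoint_of_ne_generic
      intro h
      apply hx
      have : x ∈ f ⁻¹' {(⟨⊥, Ideal.isPrime_bot⟩ : PrimeSpectrum R)} := h
      rw [hpre] at this
      exact this
    have hxr : x ∈ Set.range (f.fiberι (closedPoint R)) := by
      rw [Scheme.Hom.range_fiberι]
      exact hfx
    obtain ⟨x', rfl⟩ := hxr
    have hideal : Groth.Agent.H49.FibreStalk.fibreIdeal f (f.fiberι (closedPoint R) x') =
        Ideal.span {(X.presheaf.germ ⊤ (f.fiberι (closedPoint R) x') trivial).hom t} := by
      rw [Groth.Agent.H49.FibreStalk.fibreIdeal, maximalIdeal_stalk_eq_span_germ hπ _ hfx,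
        Ideal.map_span, Set.image_singleton]
      congr 2
      exact Scheme.Hom.germ_stalkMap_apply f ⊤ (f.fiberι (closedPoint R) x') trivial _
    let e1 := Groth.Agent.H49.FibreStalk.quotientEquivStalkFiber f (closedPoint R) x'
    let e2 := Ideal.quotEquivOfEq hideal
    haveI : _root_.IsReduced (X.presheaf.stalk (f.fiberι (closedPoint R) x') ⧸
        Ideal.span {(X.presheaf.germ ⊤ (f.fiberι (closedPoint R) x') trivial).hom t}) :=
      isReduced_of_injective (e2.symm.trans e1).toRingHom (e2.symm.trans e1).injective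
    rw [← Ideal.Quotient.eq_zero_iff_mem] at ha' ⊢
    rw [map_mul] at ha'
    exact IsReduced.eq_zero _ ⟨2, by rw [pow_two]; exact ha'⟩

/-- If `X` is preconnected, the special fibre of `X → Spec R` is reduced and a uniformizer is a
nonzerodivisor on every affine open of `X`, then the generic fibre is preconnected. -/
theorem isPreconnected_preimage_generic_of_regular [PreconnectedSpace X]
    [AlgebraicGeometry.IsReduced (f.fiber (closedPoint R))] {π : R} (hπ : Irreducible π)
    (hreg : ∀ U : X.Opens, IsAffineOpen U →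
      X.presheaf.map (homOfLE (le_top : U ≤ ⊤)).op (pullbackUniformizer f π) ∈
        nonZeroDivisors Γ(X, U)) :
    _root_.IsPreconnected (f ⁻¹' {(⟨⊥, Ideal.isPrime_bot⟩ : PrimeSpectrum R)}) := by
  rw [preimage_generic_eq_basicOpen f hπ]
  exact isPreconnected_basicOpen _ hreg
    (fun U hU a ha => mem_span_pullbackUniformizer_of_mul_self_mem f hπ U hU a ha)

/-- A uniformizer pulls back to a nonzerodivisor on every affine open of a flat `R`-scheme. -/
theorem pullbackUniformizer_mem_nonZeroDivisors_of_flat [Flat f] {π : R} (hπ : Irreducible π)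
    (U : X.Opens) (hU : IsAffineOpen U) :
    X.presheaf.map (homOfLE (le_top : U ≤ ⊤)).op (pullbackUniformizer f π) ∈
      nonZeroDivisors Γ(X, U) := by
  set ϖ : Γ(Spec (CommRingCat.of R), ⊤) := (Scheme.ΓSpecIso (CommRingCat.of R)).inv.hom π with hϖ
  have htU : X.presheaf.map (homOfLE (le_top : U ≤ ⊤)).op (pullbackUniformizer f π) =
      (f.appLE ⊤ U le_top).hom ϖ := rfl
  rw [htU]
  have hflat : (f.appLE ⊤ U le_top).hom.Flat :=
    HasRingHomProperty.appLE (P := @Flat) f inferInstance ⟨⊤, isAffineOpen_top _⟩ ⟨U, hU⟩ _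
  algebraize [(f.appLE ⊤ U le_top).hom]
  have hϖreg : IsSMulRegular Γ(Spec (CommRingCat.of R), ⊤) ϖ := by
    intro a b hab
    have hab' : ϖ * a = ϖ * b := hab
    have h3 := congrArg (Scheme.ΓSpecIso (CommRingCat.of R)).hom.hom hab'
    rw [map_mul, map_mul] at h3
    have h4 : (Scheme.ΓSpecIso (CommRingCat.of R)).hom.hom ϖ = π :=
      Iso.inv_hom_id_apply (Scheme.ΓSpecIso (CommRingCat.of R)) π
    rw [h4] at h3
    have h5 := mul_left_cancel₀ hπ.ne_zero h3
    exact ((Scheme.ΓSpecIso (CommRingCat.of R)).commRingCatIsoToRingEquiv).injective h5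
  have h6 : IsSMulRegular Γ(X, U) ((f.appLE ⊤ U le_top).hom ϖ) :=
    IsSMulRegular.of_flat hϖreg
  rw [mem_nonZeroDivisors_iff_right]
  intro b hb
  apply h6
  change (f.appLE ⊤ U le_top).hom ϖ * b = (f.appLE ⊤ U le_top).hom ϖ * 0
  rw [mul_zero, mul_comm, hb]

/-- For a flat morphism from a connected scheme to the spectrum of a DVR with reduced special
fibre, the generic fibre is connected. -/
theorem connectedSpace_genericFibre_of_flat_of_specialFibre [Flat f] [ConnectedSpace X]
    [AlgebraicGeometry.IsReduced (f.fiber (closedPoint R))] :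
    ConnectedSpace (f.fiber (⟨⊥, Ideal.isPrime_bot⟩ : PrimeSpectrum R)) := by
  obtain ⟨π, hπ⟩ := IsDiscreteValuationRing.exists_irreducible R
  have hreg := pullbackUniformizer_mem_nonZeroDivisors_of_flat f hπ
  have hconn := isPreconnected_preimage_generic_of_regular f hπ hreg
  have hne : (X.basicOpen (pullbackUniformizer f π) : Set X).Nonempty :=
    nonempty_basicOpen _ hreg
  rw [← preimage_generic_eq_basicOpen f hπ] at hne
  have h1 : ConnectedSpace (f ⁻¹' {(⟨⊥, Ideal.isPrime_bot⟩ : PrimeSpectrum R)}) :=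
    isConnected_iff_connectedSpace.mp ⟨hne, hconn⟩
  exact (f.fiberHomeo (⟨⊥, Ideal.isPrime_bot⟩ : PrimeSpectrum R)).symm.surjective.connectedSpace
    (f.fiberHomeo _).symm.continuous

end Groth.Agent.H20
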