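import Groth.Agent.H20.DVRConn
import Mathlib.RingTheory.Finiteness.Nakayama
import Mathlib.RingTheory.Nilpotent.Lemmas
import Mathlib.AlgebraicGeometry.Noetherian
import Mathlib.AlgebraicGeometry.Morphisms.FiniteType

set_option autoImplicit false
universe u

namespace Groth.Agent.H20

open IsLocalRing AlgebraicGeometry CategoryTheory TopologicalSpace

section Algebra

/-- In a Noetherian ring `C`, if `(t)` is radical (weak form) and multiplication by `t` reflects
nilpotency, then `t` is a nonzerodivisor. -/
theorem mem_nonZeroDivisors_of_radical_of_nilpotent_cancel {C : Type*} [CommRing C]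
    [IsNoetherianRing C] (t : C)
    (hrad : ∀ a : C, a * a ∈ Ideal.span {t} → a ∈ Ideal.span {t})
    (hnil : ∀ g : C, IsNilpotent (g * t) → IsNilpotent g) : t ∈ nonZeroDivisors C := by
  have hrad' : (Ideal.span {t}).IsRadical := by
    rw [Ideal.isRadical_iff_pow_one_lt 2 (by norm_num)]
    intro r hr
    rw [pow_two] at hr
    exact hrad r hr
  have hle : nilradical C ≤ Ideal.span {t} • nilradical C := by
    intro n hn
    have hn' : IsNilpotent n := mem_nilradical.mp hn
    have h1 : n ∈ Ideal.span {t} := by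
      obtain ⟨k, hk⟩ := hn'
      exact hrad' ⟨k, by rw [hk]; exact Ideal.zero_mem _⟩
    rw [Ideal.mem_span_singleton'] at h1
    obtain ⟨n₁, rfl⟩ := h1
    have h2 : IsNilpotent n₁ := hnil n₁ hn'
    rw [smul_eq_mul, mul_comm n₁ t]
    exact Ideal.mul_mem_mul (Ideal.mem_span_singleton_self t) (mem_nilradical.mpr h2)
  obtain ⟨r, hr, hrN⟩ := Submodule.exists_mem_and_smul_eq_self_of_fg_of_le_smul
    (Ideal.span {t}) (nilradical C) (IsNoetherian.noetherian _) hle
  rw [mem_nonZeroDivisors_iff_right]
  intro s hs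
  have hsn : IsNilpotent s := hnil s (by rw [hs]; exact IsNilpotent.zero)
  have h3 : r • s = s := hrN s (mem_nilradical.mpr hsn)
  rw [Ideal.mem_span_singleton'] at hr
  obtain ⟨c, rfl⟩ := hr
  rw [smul_eq_mul] at h3
  rw [← h3]
  calc c * t * s = c * (s * t) := by ring
    _ = 0 := by rw [hs, mul_zero]

end Algebra

section Scheme

variable {R : Type u} [CommRing R] [IsDomain R] [IsDiscreteValuationRing R]
variable {X : Scheme.{u}} (f : X ⟶ Spec (CommRingCat.of R))

/-- If `f : X → Spec R` is an open map, then on affine opens multiplication by a uniformizer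
reflects nilpotency. -/
theorem isNilpotent_of_isNilpotent_mul_pullbackUniformizer (hopen : IsOpenMap f)
    {π : R} (hπ : Irreducible π) (U : X.Opens) (hU : IsAffineOpen U) (g : Γ(X, U))
    (hg : IsNilpotent
      (g * X.presheaf.map (homOfLE (le_top : U ≤ ⊤)).op (pullbackUniformizer f π))) :
    IsNilpotent g := by
  set t := pullbackUniformizer f π with ht
  set tU : Γ(X, U) := X.presheaf.map (homOfLE (le_top : U ≤ ⊤)).op t with htU
  have hpre := preimage_generic_eq_basicOpen f hπ
  have hsub : ∀ y ∈ f '' (X.basicOpen g : Set X), y = closedPoint R := by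
    rintro _ ⟨x, hx, rfl⟩
    have hxU : x ∈ U := X.basicOpen_le g hx
    apply eq_closedPoint_of_ne_generic
    intro h
    have hxt : x ∈ f ⁻¹' {(⟨⊥, Ideal.isPrime_bot⟩ : PrimeSpectrum R)} := h
    rw [hpre] at hxt
    have h1 : IsUnit ((X.presheaf.germ U x hxU).hom g) := (Scheme.mem_basicOpen X g x hxU).mp hx
    have hgt : (X.presheaf.germ U x hxU).hom tU = (X.presheaf.germ ⊤ x trivial).hom t :=
      TopCat.Presheaf.germ_res_apply X.presheaf (homOfLE (le_top : U ≤ ⊤)) x hxU t
    have h2 : IsUnit ((X.presheaf.germ U x hxU).hom tU) := by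
      rw [hgt]
      exact (Scheme.mem_basicOpen_top X t x).mp hxt
    have h3 : IsUnit ((X.presheaf.germ U x hxU).hom (g * tU)) := by
      rw [map_mul]
      exact h1.mul h2
    have h4 : IsNilpotent ((X.presheaf.germ U x hxU).hom (g * tU)) := hg.map _
    exact (h4.not_isUnit h3)
  have hop : IsOpen (f '' (X.basicOpen g : Set X)) := hopen _ (X.basicOpen g).2
  have hempty : (X.basicOpen g : Set X) = ∅ := by
    by_contra hne
    obtain ⟨x, hx⟩ := Set.nonempty_iff_ne_empty.mpr hne
    have hc : closedPoint R ∈ f '' (X.basicOpen g : Set X) := by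
      have := hsub _ (Set.mem_image_of_mem f hx)
      rw [← this]
      exact Set.mem_image_of_mem f hx
    have hη : (⟨⊥, Ideal.isPrime_bot⟩ : PrimeSpectrum R) ∈ f '' (X.basicOpen g : Set X) :=
      (IsLocalRing.specializes_closedPoint (⟨⊥, Ideal.isPrime_bot⟩ : PrimeSpectrum R)).mem_open
        hop hc
    have := hsub _ hη
    have h5 : (⊥ : Ideal R) = maximalIdeal R := congrArg PrimeSpectrum.asIdeal this
    exact IsDiscreteValuationRing.not_a_field R h5.symm
  have hbot : X.basicOpen g = ⊥ := Opens.ext hempty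
  rw [← PrimeSpectrum.basicOpen_eq_bot_iff, ← hU.fromSpec_preimage_basicOpen, hbot]
  rfl

/-- For a morphism locally of finite type from a preconnected scheme to the spectrum of a DVR which
is open and has reduced special fibre, the generic fibre is preconnected. -/
theorem preconnectedSpace_fiber_of_isOpenMap [LocallyOfFiniteType f] (hopen : IsOpenMap f)
    [PreconnectedSpace X] (a b : Spec (CommRingCat.of R))
    (ha : IsClosed ({a} : Set (Spec (CommRingCat.of R))))
    (hb : ∀ z : Spec (CommRingCat.of R), b ⤳ z)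
    [hred : AlgebraicGeometry.IsReduced (f.fiber a)] : PreconnectedSpace (f.fiber b) := by
  have ha' : a = closedPoint R := by
    have h1 : IsClosed ({(a : PrimeSpectrum R)} : Set (PrimeSpectrum R)) := ha
    have h2 := (PrimeSpectrum.isClosed_singleton_iff_isMaximal (a : PrimeSpectrum R)).mp h1
    exact PrimeSpectrum.ext (IsLocalRing.eq_maximalIdeal h2)
  have hb' : b = (⟨⊥, Ideal.isPrime_bot⟩ : PrimeSpectrum R) := by
    have h1 : (b : PrimeSpectrum R) ⤳ (⟨⊥, Ideal.isPrime_bot⟩ : PrimeSpectrum R) := hb _
    have h2 := (PrimeSpectrum.le_iff_specializes (b : PrimeSpectrum R) ⟨⊥, Ideal.isPrime_bot⟩).mpr h1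
    exact PrimeSpectrum.ext (le_bot_iff.mp h2)
  subst ha' hb'
  obtain ⟨π, hπ⟩ := IsDiscreteValuationRing.exists_irreducible R
  haveI : IsLocallyNoetherian (Spec (CommRingCat.of R)) := by
    rw [isLocallyNoetherian_Spec]
    infer_instance
  haveI : IsLocallyNoetherian X := LocallyOfFiniteType.isLocallyNoetherian f
  have hreg : ∀ U : X.Opens, IsAffineOpen U →
      X.presheaf.map (homOfLE (le_top : U ≤ ⊤)).op (pullbackUniformizer f π) ∈
        nonZeroDivisors Γ(X, U) := by
    intro U hU
    haveI : IsNoetherianRing Γ(X, U) := IsLocallyNoetherian.component_noetherian ⟨U, hU⟩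
    exact mem_nonZeroDivisors_of_radical_of_nilpotent_cancel _
      (mem_span_pullbackUniformizer_of_mul_self_mem f hπ U hU)
      (isNilpotent_of_isNilpotent_mul_pullbackUniformizer f hopen hπ U hU)
  have hconn := isPreconnected_preimage_generic_of_regular f hπ hreg
  haveI : PreconnectedSpace (f ⁻¹' {(⟨⊥, Ideal.isPrime_bot⟩ : PrimeSpectrum R)}) :=
    isPreconnected_iff_preconnectedSpace.mp hconn
  exact (f.fiberHomeo (⟨⊥, Ideal.isPrime_bot⟩ : PrimeSpectrum R)).symm.surjective.denseRange.preconnectedSpace
    (f.fiberHomeo _).symm.continuous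

end Scheme

end Groth.Agent.H20
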