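import Groth.Agent.H20.DisjointAffine
import Mathlib.AlgebraicGeometry.Morphisms.Separated

set_option autoImplicit false
universe u v

namespace Groth.Agent.H20

open AlgebraicGeometry CategoryTheory CategoryTheory.Limits TopologicalSpace Opposite

/-- A finite pairwise disjoint union of opens, each contained in an affine open, is a separated
scheme. -/
theorem isSeparated_iSup_of_pairwise_disjoint_of_le_affine {X : Scheme.{u}} {σ : Type v} [Finite σ]
    [Small.{u} σ] (W U : σ → X.Opens) (hU : ∀ i, IsAffineOpen (U i)) (hWU : ∀ i, W i ≤ U i)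
    (hdisj : ∀ i j, i ≠ j → Disjoint (W i) (W j)) :
    ((⨆ i, W i : X.Opens) : Scheme.{u}).IsSeparated := by
  let f : ∀ i, (W i : Scheme.{u}) ⟶ ((⨆ i, W i : X.Opens) : Scheme.{u}) :=
    fun i => X.homOfLE (le_iSup W i)
  haveI : ∀ i, IsAffine (U i : Scheme.{u}) := hU
  have hrange : ∀ i, Set.range ⇑(f i) = {z : ((⨆ i, W i : X.Opens) : Scheme.{u}) | z.1 ∈ W i} := by
    intro i
    ext z
    constructor
    · rintro ⟨y, rfl⟩
      change (X.homOfLE (le_iSup W i) y).1 ∈ W i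
      rw [Scheme.homOfLE_apply]
      exact y.2
    · intro hz
      refine ⟨⟨z.1, hz⟩, ?_⟩
      apply Subtype.ext
      change (X.homOfLE (le_iSup W i) _).1 = z.1
      rw [Scheme.homOfLE_apply]
  haveI : IsOpenImmersion (Sigma.desc f) := by
    refine isOpenImmersion_sigmaDesc _ _ (fun i j hij => ?_)
    change Disjoint (Set.range ⇑(f i)) (Set.range ⇑(f j))
    rw [hrange i, hrange j, Set.disjoint_left]
    intro z hzi hzj
    exact (hdisj i j hij).le_bot ⟨hzi, hzj⟩
  haveI : IsIso (Sigma.desc f) := by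
    apply isIso_of_isOpenImmersion_of_opensRange_eq_top
    rw [eq_top_iff]
    rintro ⟨z, hz⟩ -
    have hz' : z ∈ (⨆ i, W i : X.Opens) := hz
    rw [Opens.mem_iSup] at hz'
    obtain ⟨i, hzi⟩ := hz'
    have hzr : (⟨z, hz⟩ : ((⨆ i, W i : X.Opens) : Scheme.{u})) ∈ Set.range ⇑(f i) := by
      rw [hrange i]; exact hzi
    obtain ⟨y, hy⟩ := hzr
    refine ⟨Sigma.ι (fun i => (W i : Scheme.{u})) i y, ?_⟩
    rw [← Scheme.Hom.comp_apply, Sigma.ι_desc]
    exact hy
  -- the open immersion `∐ W i ⟶ ∐ U i`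
  let g : ∀ i, (W i : Scheme.{u}) ⟶ ∐ (fun i => (U i : Scheme.{u})) :=
    fun i => X.homOfLE (hWU i) ≫ Sigma.ι (fun i => (U i : Scheme.{u})) i
  haveI : IsOpenImmersion (Sigma.desc g) := by
    refine isOpenImmersion_sigmaDesc _ _ (fun i j hij => ?_)
    change Disjoint (Set.range ⇑(g i)) (Set.range ⇑(g j))
    have h1 := disjoint_opensRange_sigmaι (fun i => (U i : Scheme.{u})) i j hij
    have h2 : ∀ k, Set.range ⇑(g k) ⊆
        ((Sigma.ι (fun i => (U i : Scheme.{u})) k).opensRange : Set _) := by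
      intro k
      rintro _ ⟨y, rfl⟩
      exact ⟨X.homOfLE (hWU k) y, rfl⟩
    exact Set.disjoint_of_subset (h2 i) (h2 j) (Opens.coe_disjoint.mpr h1)
  let j : ((⨆ i, W i : X.Opens) : Scheme.{u}) ⟶ ∐ (fun i => (U i : Scheme.{u})) :=
    inv (Sigma.desc f) ≫ Sigma.desc g
  haveI : IsOpenImmersion j := inferInstanceAs (IsOpenImmersion (inv (Sigma.desc f) ≫ Sigma.desc g))
  refine ⟨?_⟩
  rw [← terminal.comp_from j]
  infer_instance

/-- A quasi-compact scheme has a finite affine open cover indexed by `Fin n`. -/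
theorem exists_fin_affine_cover (X : Scheme.{u}) [CompactSpace X] :
    ∃ (n : ℕ) (U : Fin n → X.Opens), (∀ i, IsAffineOpen (U i)) ∧ ∀ x : X, ∃ i, x ∈ U i := by
  classical
  obtain ⟨t, ht⟩ := isCompact_univ.elim_finite_subcover
    (fun U : X.affineOpens => ((U : X.Opens) : Set X)) (fun U => U.1.2)
    (fun x _ => by
      obtain ⟨U, hU, hxU, -⟩ := exists_isAffineOpen_mem_and_subset (x := x) (U := ⊤) trivial
      exact Set.mem_iUnion.mpr ⟨⟨U, hU⟩, hxU⟩)
  refine ⟨t.card, fun i => ((t.equivFin.symm i).1 : X.Opens), fun i => (t.equivFin.symm i).1.2, ?_⟩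
  intro x
  have := ht (Set.mem_univ x)
  simp only [Set.mem_iUnion] at this
  obtain ⟨U, hUt, hxU⟩ := this
  refine ⟨t.equivFin ⟨U, hUt⟩, ?_⟩
  change x ∈ ((t.equivFin.symm (t.equivFin ⟨U, hUt⟩)).1 : X.Opens)
  rw [Equiv.symm_apply_apply]
  exact hxU

/-- A quasi-compact scheme has a dense open subscheme which is separated. -/
theorem exists_dense_open_isSeparated (X : Scheme.{u}) [CompactSpace X] :
    ∃ V : X.Opens, Dense (V : Set X) ∧ (V : Scheme.{u}).IsSeparated := by
  classical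
  obtain ⟨n, U, hU, hcov⟩ := exists_fin_affine_cover X
  -- `B i` is the closure of the union of the earlier `U j`
  let B : Fin n → Set X := fun i => closure (⋃ j : {j : Fin n // j < i}, (U j.1 : Set X))
  let W : Fin n → X.Opens := fun i => U i ⊓ ⟨(B i)ᶜ, isClosed_closure.isOpen_compl⟩
  have hWU : ∀ i, W i ≤ U i := fun i => inf_le_left
  have hdisj : ∀ i j, i ≠ j → Disjoint (W i) (W j) := by
    have key : ∀ i j : Fin n, j < i → Disjoint (W i) (W j) := by
      intro i j hji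
      rw [disjoint_iff, eq_bot_iff]
      rintro x ⟨⟨-, hxB⟩, ⟨hxUj, -⟩⟩
      exact hxB (subset_closure (Set.mem_iUnion.mpr ⟨⟨j, hji⟩, hxUj⟩))
    intro i j hij
    rcases lt_or_gt_of_ne hij with h | h
    · exact (key j i h).symm
    · exact key i j h
  refine ⟨⨆ i, W i, ?_, isSeparated_iSup_of_pairwise_disjoint_of_le_affine W U hU hWU hdisj⟩
  rw [dense_iff_inter_open]
  intro G hG hGne
  -- the least index `i` with `G ∩ U i` nonempty
  have hex : ∃ k : ℕ, ∃ hk : k < n, (G ∩ (U ⟨k, hk⟩ : Set X)).Nonempty := by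
    obtain ⟨x, hx⟩ := hGne
    obtain ⟨i, hi⟩ := hcov x
    exact ⟨i.1, i.2, x, hx, hi⟩
  obtain ⟨hk, x, hxG, hxU⟩ := Nat.find_spec hex
  set k := Nat.find hex with hkdef
  have hmin : ∀ j : Fin n, j < ⟨k, hk⟩ → G ∩ (U j : Set X) = ∅ := by
    intro j hj
    by_contra hne
    have : (G ∩ (U j : Set X)).Nonempty := Set.nonempty_iff_ne_empty.mpr hne
    exact Nat.find_min hex (show j.1 < k from hj) ⟨j.2, this⟩
  have hGB : Disjoint G (B ⟨k, hk⟩) := by
    apply Disjoint.closure_right _ hG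
    rw [Set.disjoint_iUnion_right]
    intro j
    rw [Set.disjoint_iff_inter_eq_empty]
    exact hmin j.1 j.2
  refine ⟨x, hxG, ?_⟩
  have hxW : x ∈ W ⟨k, hk⟩ := ⟨hxU, fun hxB => (Set.disjoint_left.mp hGB) hxG hxB⟩
  exact (le_iSup W ⟨k, hk⟩) hxW

end Groth.Agent.H20
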