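import Mathlib

/-!
# Local rings of dimension one at closed points and irreducible closed subsets
-/

set_option autoImplicit false
set_option linter.style.haveILetI false
set_option linter.unusedSectionVars false
universe u

open CategoryTheory CategoryTheory.Limits AlgebraicGeometry TopologicalSpace

namespace Groth.Agent.H20.DimOne

variable {X : Scheme.{u}}

/-- The data extracted from `Spec 𝒪_{X,x} ⟶ X`. -/
lemma stalk_spec_facts (x : X) :
    ∃ φ : PrimeSpectrum (X.presheaf.stalk x) → X,
      (∀ p q, p ≤ q ↔ φ p ⤳ φ q) ∧ Function.Injective φ ∧ (∀ y, y ⤳ x ↔ ∃ p, φ p = y) ∧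
        φ (IsLocalRing.closedPoint (X.presheaf.stalk x)) = x := by
  refine ⟨(X.fromSpecStalk x), ?_, (X.fromSpecStalk x).isEmbedding.injective, ?_,
    Scheme.fromSpecStalk_closedPoint⟩
  · intro p q
    rw [PrimeSpectrum.le_iff_specializes]
    exact ((X.fromSpecStalk x).isEmbedding.isInducing.specializes_iff).symm
  · intro y
    have := Scheme.range_fromSpecStalk (x := x)
    constructor
    · intro hy
      have : y ∈ Set.range (X.fromSpecStalk x) := by rw [this]; exact hy
      exact this
    · rintro ⟨p, rfl⟩
      have h : (X.fromSpecStalk x) p ∈ Set.range (X.fromSpecStalk x) := Set.mem_range_self p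
      rw [this] at h
      exact h

theorem dim_one_iff [CompactSpace X] :
    (∀ x : X, IsClosed ({x} : Set X) → ringKrullDim (X.presheaf.stalk x) = 1) ↔
      ((∀ F : Set X, IsClosed F → IsIrreducible F → F ∉ irreducibleComponents (X : Type u) →
          ∃ x : X, IsClosed ({x} : Set X) ∧ F = {x}) ∧
        ∀ x : X, IsClosed ({x} : Set X) → ({x} : Set X) ∉ irreducibleComponents (X : Type u)) := by
  constructor
  · intro h
    refine ⟨?_, ?_⟩
    · intro F hFc hFi hFn
      obtain ⟨x, hxF, hxc⟩ := hFc.exists_closed_singleton hFi.1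
      refine ⟨x, hxc, ?_⟩
      obtain ⟨φ, hle, hinj, hgen, hcl⟩ := stalk_spec_facts x
      have hdim := h x hxc
      obtain ⟨ξ, hξ⟩ := QuasiSober.sober hFi hFc
      have hξx : ξ ⤳ x := by rw [specializes_iff_mem_closure, hξ.def]; exact hxF
      obtain ⟨p, hp⟩ := (hgen ξ).mp hξx
      let F' := irreducibleComponent ξ
      have hF'mem : F' ∈ irreducibleComponents (X : Type u) :=
        irreducibleComponent_mem_irreducibleComponents ξ
      have hF'c : IsClosed F' := isClosed_irreducibleComponent
      obtain ⟨ξ', hξ'⟩ := QuasiSober.sober hF'mem.1 hF'c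
      have hξ'ξ : ξ' ⤳ ξ := by
        rw [specializes_iff_mem_closure, hξ'.def]; exact mem_irreducibleComponent
      obtain ⟨p', hp'⟩ := (hgen ξ').mp (hξ'ξ.trans hξx)
      have hne : ξ' ≠ ξ := by
        rintro rfl
        apply hFn
        rw [← hξ.def, hξ'.def]
        exact hF'mem
      have hlt : p' < p := by
        refine lt_of_le_of_ne ((hle p' p).mpr (by rw [hp, hp']; exact hξ'ξ)) ?_
        rintro rfl
        exact hne (hp'.symm.trans hp)
      have hmm : IsMin p ∨ IsMax p := by
        have : Order.krullDim (PrimeSpectrum (X.presheaf.stalk x)) ≤ 1 := hdim.le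
        exact Order.krullDim_le_one_iff.mp this p
      have hmax : IsMax p := by
        rcases hmm with hmin | hmax
        · exact absurd (hmin hlt.le) (not_le_of_gt hlt)
        · exact hmax
      have hpe : p = IsLocalRing.closedPoint (X.presheaf.stalk x) := by
        have hple : p ≤ IsLocalRing.closedPoint (X.presheaf.stalk x) :=
          IsLocalRing.le_maximalIdeal p.2.ne_top
        exact le_antisymm hple (hmax hple)
      have hξeq : ξ = x := by rw [← hp, hpe, hcl]
      rw [← hξ.def, hξeq, hxc.closure_eq]
    · intro x hxc hmem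
      obtain ⟨φ, hle, hinj, hgen, hcl⟩ := stalk_spec_facts x
      have hdim := h x hxc
      have : (1 : WithBot ℕ∞) ≤ Order.krullDim (PrimeSpectrum (X.presheaf.stalk x)) := hdim.ge
      obtain ⟨p, q, hpq⟩ := Order.one_le_krullDim_iff.mp this
      have hpx : φ p ⤳ x := (hgen _).mpr ⟨p, rfl⟩
      have hqx : φ q ⤳ x := (hgen _).mpr ⟨q, rfl⟩
      have hsub : ({x} : Set X) ⊆ closure {φ p} := by
        rw [Set.singleton_subset_iff]; exact hpx.mem_closure
      have hcp : closure {φ p} ⊆ {x} := hmem.2 isIrreducible_singleton.closure hsub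
      have h1 : φ p = x := hcp (subset_closure rfl)
      have h2 : φ q = x := hcp ((hle p q).mp hpq.le).mem_closure
      exact hpq.ne (hinj (h1.trans h2.symm))
  · rintro ⟨hF, hx⟩ x hxc
    obtain ⟨φ, hle, hinj, hgen, hcl⟩ := stalk_spec_facts x
    apply le_antisymm
    · change Order.krullDim (PrimeSpectrum (X.presheaf.stalk x)) ≤ 1
      rw [Order.krullDim_le_one_iff]
      intro p
      by_cases hmin : IsMin p
      · exact Or.inl hmin
      right
      rw [not_isMin_iff] at hmin
      obtain ⟨p', hp'⟩ := hmin
      have hy'y : φ p' ⤳ φ p := (hle _ _).mp hp'.le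
      have hyne : φ p' ≠ φ p := fun h => hp'.ne (hinj h)
      have hFn : closure {φ p} ∉ irreducibleComponents (X : Type u) := by
        intro hmem
        have hsub : closure {φ p} ⊆ closure {φ p'} :=
          closure_minimal (Set.singleton_subset_iff.mpr hy'y.mem_closure) isClosed_closure
        have := hmem.2 isIrreducible_singleton.closure hsub
        have hyy' : φ p ⤳ φ p' := by
          rw [specializes_iff_mem_closure]; exact this (subset_closure rfl)
        exact hyne (hy'y.antisymm hyy').eq
      obtain ⟨x', hx'c, hx'⟩ := hF _ isClosed_closure isIrreducible_singleton.closure hFn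
      have hyx : φ p ⤳ x := (hgen _).mpr ⟨p, rfl⟩
      have h1 : φ p = x' := by
        have : φ p ∈ closure {φ p} := subset_closure rfl
        rw [hx'] at this; exact this
      have h2 : x = x' := by
        have : x ∈ closure {φ p} := hyx.mem_closure
        rw [hx'] at this; exact this
      have hpe : p = IsLocalRing.closedPoint (X.presheaf.stalk x) :=
        hinj (by rw [hcl, h1, h2])
      rw [hpe]
      intro q _
      exact IsLocalRing.le_maximalIdeal q.2.ne_top
    · change (1 : WithBot ℕ∞) ≤ Order.krullDim (PrimeSpectrum (X.presheaf.stalk x))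
      rw [Order.one_le_krullDim_iff]
      have hxn := hx x hxc
      let F' := irreducibleComponent x
      have hF'mem : F' ∈ irreducibleComponents (X : Type u) :=
        irreducibleComponent_mem_irreducibleComponents x
      obtain ⟨ξ', hξ'⟩ := QuasiSober.sober hF'mem.1 isClosed_irreducibleComponent
      have hξ'x : ξ' ⤳ x := by
        rw [specializes_iff_mem_closure, hξ'.def]; exact mem_irreducibleComponent
      obtain ⟨p', hp'⟩ := (hgen ξ').mp hξ'x
      refine ⟨p', IsLocalRing.closedPoint _, lt_of_le_of_ne
        (IsLocalRing.le_maximalIdeal p'.2.ne_top) ?_⟩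
      rintro rfl
      apply hxn
      rw [hcl] at hp'
      rw [← hxc.closure_eq, hp', hξ'.def]
      exact hF'mem

end Groth.Agent.H20.DimOne
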