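import Mathlib.RingTheory.Smooth.Fiber
import Mathlib.RingTheory.Etale.Locus
import Mathlib.RingTheory.Etale.Field
import Mathlib.RingTheory.Unramified.LocalRing
import Mathlib.RingTheory.Flat.Localization

set_option autoImplicit false

namespace Groth.Agent.H20

open TensorProduct IsLocalRing Algebra

section

variable {R S : Type*} [CommRing R] [CommRing S] [Algebra R S]

/-- If `S` is a finitely presented `R`-algebra, `q` a prime of `S` over `p` such that `S_q` is flat
over `R` and `S` is unramified at `q`, then `S` is smooth at `q`. -/
theorem isSmoothAt_of_flat_of_isUnramifiedAt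
    [Algebra.FinitePresentation R S] (p : Ideal R) (q : Ideal S)
    [p.IsPrime] [q.IsPrime] [q.LiesOver p] [Module.Flat R (Localization.AtPrime q)]
    [Algebra.IsUnramifiedAt R q] :
    Algebra.IsSmoothAt R q := by
  let Rp := Localization.AtPrime p
  let Sp := Localization (algebraMapSubmonoid S p.primeCompl)
  let Sq := Localization.AtPrime q
  let := Localization.AtPrime.algebraOfLiesOver p q
  let f : Sp →ₐ[S] Sq := IsLocalization.liftAlgHom (M := algebraMapSubmonoid S p.primeCompl)
        (f := Algebra.ofId _ _) (by
      rintro ⟨_, x, hx, rfl⟩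
      simpa using! IsLocalization.map_units (M := q.primeCompl) Sq ⟨algebraMap _ _ x,
        by simp_all [q.over_def p]⟩)
  algebraize [f.toRingHom]
  have : IsScalarTower R Sp Sq := .to₁₃₄ _ S _ _
  have : IsScalarTower Rp Sp Sq := .of_algebraMap_eq' <| by
    apply IsLocalization.ringHom_ext p.primeCompl
    simp only [RingHom.comp_assoc, ← IsScalarTower.algebraMap_eq]
  have : IsLocalization (algebraMapSubmonoid Sp q.primeCompl) Sq :=
    .isLocalization_of_submonoid_le _ _ (algebraMapSubmonoid S p.primeCompl) _
    (by rintro _ ⟨x, hx, rfl⟩; simp_all [q.over_def p])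
  have : FinitePresentation Rp Sp := by
    have : Algebra.IsPushout R Rp S Sp :=
      .symm <| Algebra.isPushout_of_isLocalization p.primeCompl _ _ _
    exact .equiv (Algebra.IsPushout.equiv R Rp S Sp)
  have hflat : Module.Flat Rp Sq := (Module.flat_iff_of_isLocalization Rp p.primeCompl Sq).mpr
    inferInstance
  have hunr : FormallyUnramified Rp Sq := .of_restrictScalars R _ _
  have : EssFiniteType Rp Sq := .of_comp R _ _
  have : FormallySmooth (ResidueField Rp) ((ResidueField Rp) ⊗[Rp] Sq) := by
    have : FormallyEtale (ResidueField Rp) ((ResidueField Rp) ⊗[Rp] Sq) :=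
      FormallyEtale.of_formallyUnramified_of_field _ _
    infer_instance
  have := FormallySmooth.of_formallySmooth_residueField_tensor
    (R := Rp) (S := Sq) (P := Sp) (algebraMapSubmonoid _ q.primeCompl)
  exact .comp R Rp Sq

/-- If `S` is a finitely presented `R`-algebra, `q` a prime of `S` such that `S_q` is flat
over `R` and `S` is unramified at `q`, then `S` is étale at `q`. -/
theorem isEtaleAt_of_flat_of_isUnramifiedAt
    [Algebra.FinitePresentation R S] (q : Ideal S) [q.IsPrime]
    [Module.Flat R (Localization.AtPrime q)] [Algebra.IsUnramifiedAt R q] :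
    Algebra.IsEtaleAt R q := by
  have : q.LiesOver (q.under R) := ⟨rfl⟩
  have h1 : Algebra.IsSmoothAt R q := isSmoothAt_of_flat_of_isUnramifiedAt (q.under R) q
  have h2 : Algebra.FormallySmooth R (Localization.AtPrime q) := h1
  have h3 : Algebra.FormallyUnramified R (Localization.AtPrime q) := ‹Algebra.IsUnramifiedAt R q›
  exact Algebra.FormallyEtale.of_formallyUnramified_and_formallySmooth
end

end Groth.Agent.H20
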