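import Mathlib
import Groth.Agent.H7.StrictHenselSection
import Groth.Agent.H46.SpreadFP
import Groth.Agent.H69.NilHensel

/-!
# Étale morphisms over schemes whose local rings are separably closed fields are Zariski-locally
trivial
-/

set_option autoImplicit false
set_option linter.style.haveILetI false
set_option linter.unusedSectionVars false
universe u

open CategoryTheory CategoryTheory.Limits AlgebraicGeometry TopologicalSpace

namespace Groth.Agent.H20.EtaleFieldStalks

/-- If the local ring at `f y` is strictly henselian, the étale morphism `f` has a section on a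
Zariski neighbourhood of `f y` through `y`. -/
theorem exists_section_of_strictlyHenselian_stalk {X Y : Scheme.{u}} (f : Y ⟶ X) [Etale f] (y : Y)
    [HenselianLocalRing (X.presheaf.stalk (f y))]
    [IsSepClosed (IsLocalRing.ResidueField (X.presheaf.stalk (f y)))] :
    ∃ (V : X.Opens) (s : (V : Scheme.{u}) ⟶ Y), f y ∈ V ∧ s ≫ f = V.ι ∧ y ∈ Set.range s := by
  let x := f y
  have hsec := (Groth.Agent.H7.henselian_and_isSepClosed_iff_etale_sections
    (X.presheaf.stalk x)).1 ⟨inferInstance, inferInstance⟩
  obtain ⟨x', hx'1, hx'2⟩ := Scheme.Pullback.exists_preimage_pullback (f := f)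
    (g := X.fromSpecStalk x) y (IsLocalRing.closedPoint (X.presheaf.stalk x))
    (Scheme.fromSpecStalk_closedPoint.symm)
  obtain ⟨σ, hσ, hσ'⟩ := hsec (pullback f (X.fromSpecStalk x)) (pullback.snd _ _)
    inferInstance x' hx'2
  have hφ : (σ ≫ pullback.fst f (X.fromSpecStalk x)) ≫ f = X.fromSpecStalk x ≫ 𝟙 X := by
    rw [Category.assoc, pullback.condition, ← Category.assoc, hσ]
    simp
  obtain ⟨V, hxV, g, hg1, hg⟩ := Groth.Agent.H46.spread_out_of_locallyOfFinitePresentation'
    (𝟙 X) f (σ ≫ pullback.fst f (X.fromSpecStalk x)) hφ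
  refine ⟨V, g, hxV, by simpa using hg, ?_⟩
  refine ⟨⟨x, hxV⟩, ?_⟩
  let cp : ↥(Spec (X.presheaf.stalk x)) := IsLocalRing.closedPoint (X.presheaf.stalk x)
  have h1 : (pullback.fst f (X.fromSpecStalk x)).base (σ.base cp) =
      g.base ((V.fromSpecStalkOfMem x hxV).base cp) := by
    change (σ ≫ pullback.fst f (X.fromSpecStalk x)).base cp =
      (V.fromSpecStalkOfMem x hxV ≫ g).base cp
    rw [hg1]
  have h2 : σ.base cp = x' := hσ'
  have h3 : (pullback.fst f (X.fromSpecStalk x)).base x' = y := hx'1
  have h4 : (V.fromSpecStalkOfMem x hxV).base cp = ⟨x, hxV⟩ := by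
    apply V.ι.injective
    change (V.fromSpecStalkOfMem x hxV ≫ V.ι).base cp = x
    rw [Scheme.Opens.fromSpecStalkOfMem_ι]
    exact Scheme.fromSpecStalk_closedPoint
  rw [h2, h3, h4] at h1
  exact h1.symm

end Groth.Agent.H20.EtaleFieldStalks
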