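import Groth.Agent.H20.EtaleStalk
import Groth.Agent.H24.ReducedAscent
import Mathlib.RingTheory.Unramified.Field
import Mathlib.RingTheory.Ideal.MinimalPrime.Noetherian

set_option autoImplicit false
universe u

namespace Groth.Agent.H20

open IsLocalRing TensorProduct

section Algebra

variable {A B : Type u} [CommRing A] [CommRing B] [Algebra A B]

/-- A flat, essentially of finite type, formally unramified algebra over a reduced Noetherian
ring is reduced. -/
theorem isReduced_of_flat_of_formallyUnramified [IsNoetherianRing A] [IsReduced A]
    [Module.Flat A B] [Algebra.EssFiniteType A B] [Algebra.FormallyUnramified A B] :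
    IsReduced B := by
  refine Groth.Agent.H24.isReduced_of_flat_of_fibres_minimalPrimes A B
    (minimalPrimes.finite_of_isNoetherianRing A) ?_
  intro Q hQ
  haveI : Q.IsPrime := hQ.1.1
  haveI : IsReduced (Q.ResidueField ⊗[A] B) :=
    Algebra.FormallyUnramified.isReduced_of_field Q.ResidueField (Q.ResidueField ⊗[A] B)
  exact isReduced_of_injective (Algebra.TensorProduct.comm A B Q.ResidueField).toRingHom
    (Algebra.TensorProduct.comm A B Q.ResidueField).injective

end Algebra

section Scheme

open AlgebraicGeometry CategoryTheory

variable {X Y : Scheme.{u}} (f : X ⟶ Y)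

theorem isReduced_stalk_iff_of_etale [Etale f] [IsLocallyNoetherian Y] (x : X) :
    _root_.IsReduced (X.presheaf.stalk x) ↔ _root_.IsReduced (Y.presheaf.stalk (f x)) := by
  letI := (f.stalkMap x).hom.toAlgebra
  obtain ⟨h1, h2, h3, h4, h5, h6⟩ := etale_stalkMap_package f x
  constructor
  · intro hB
    haveI : Module.FaithfullyFlat (Y.presheaf.stalk (f x)) (X.presheaf.stalk x) :=
      Module.FaithfullyFlat.of_flat_of_isLocalHom
    exact isReduced_of_injective (algebraMap (Y.presheaf.stalk (f x)) (X.presheaf.stalk x))
      (FaithfulSMul.algebraMap_injective _ _)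
  · intro hA
    exact isReduced_of_flat_of_formallyUnramified (A := Y.presheaf.stalk (f x))

end Scheme

end Groth.Agent.H20
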