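import Mathlib.AlgebraicGeometry.Morphisms.Etale
import Mathlib.AlgebraicGeometry.Morphisms.FormallyUnramified
import Mathlib.AlgebraicGeometry.Morphisms.Flat
import Mathlib.AlgebraicGeometry.Noetherian
import Mathlib.RingTheory.Unramified.LocalRing
import Mathlib.RingTheory.Ideal.KrullsHeightTheorem
import Mathlib.RingTheory.Ideal.GoingDown
import Mathlib.RingTheory.EssentialFiniteness
import Mathlib.RingTheory.RegularLocalRing.Defs

set_option autoImplicit false
universe u

namespace Groth.Agent.H20

open IsLocalRing

section Algebra

variable {A B : Type*} [CommRing A] [CommRing B] [Algebra A B]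

/-- An algebra essentially of finite type over a Noetherian ring is Noetherian. -/
theorem isNoetherianRing_of_essFiniteType [IsNoetherianRing A] [Algebra.EssFiniteType A B] :
    IsNoetherianRing B := by
  haveI : IsNoetherianRing (Algebra.EssFiniteType.subalgebra A B) :=
    Algebra.FiniteType.isNoetherianRing A _
  exact IsLocalization.isNoetherianRing (Algebra.EssFiniteType.submonoid A B) B inferInstance

variable [IsLocalRing A] [IsLocalRing B] [IsLocalHom (algebraMap A B)]

/-- For a flat local homomorphism `A → B` with `B` Noetherian and `𝔪_A B = 𝔪_B`, we have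
`dim B = dim A`. -/
theorem ringKrullDim_eq_of_flat_of_map_maximalIdeal [IsNoetherianRing A] [IsNoetherianRing B]
    [Module.Flat A B]
    (h : (maximalIdeal A).map (algebraMap A B) = maximalIdeal B) :
    ringKrullDim B = ringKrullDim A := by
  rw [← IsLocalRing.maximalIdeal_height_eq_ringKrullDim,
    ← IsLocalRing.maximalIdeal_height_eq_ringKrullDim,
    Ideal.height_eq_height_add_of_liesOver_of_hasGoingDown (maximalIdeal A) (maximalIdeal B)]
  have : (maximalIdeal B).map (Ideal.Quotient.mk ((maximalIdeal A).map (algebraMap A B))) = ⊥ := by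
    rw [h, Ideal.map_quotient_self]
  rw [this]
  haveI : Nontrivial (B ⧸ (maximalIdeal A).map (algebraMap A B)) := by
    rw [h]; infer_instance
  rw [Ideal.height_bot, add_zero]

end Algebra

section Scheme

open AlgebraicGeometry CategoryTheory

variable {X Y : Scheme.{u}} (f : X ⟶ Y)

/-- The package of facts on the stalk map of an étale morphism to a locally Noetherian scheme:
it is a flat local homomorphism of Noetherian local rings, essentially of finite type and formally
unramified, with `𝔪_y 𝒪_x = 𝔪_x`. -/
theorem etale_stalkMap_package [Etale f] [IsLocallyNoetherian Y] (x : X) :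
    letI := (f.stalkMap x).hom.toAlgebra
    IsNoetherianRing (X.presheaf.stalk x) ∧
      Module.Flat (Y.presheaf.stalk (f x)) (X.presheaf.stalk x) ∧
      IsLocalHom (algebraMap (Y.presheaf.stalk (f x)) (X.presheaf.stalk x)) ∧
      Algebra.EssFiniteType (Y.presheaf.stalk (f x)) (X.presheaf.stalk x) ∧
      Algebra.FormallyUnramified (Y.presheaf.stalk (f x)) (X.presheaf.stalk x) ∧
      (maximalIdeal (Y.presheaf.stalk (f x))).map
        (algebraMap (Y.presheaf.stalk (f x)) (X.presheaf.stalk x)) =
          maximalIdeal (X.presheaf.stalk x) := by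
  algebraize [(f.stalkMap x).hom]
  have hloc : IsLocalHom (algebraMap (Y.presheaf.stalk (f x)) (X.presheaf.stalk x)) :=
    inferInstanceAs <| IsLocalHom (f.stalkMap x).hom
  have hess : Algebra.EssFiniteType (Y.presheaf.stalk (f x)) (X.presheaf.stalk x) := by
    rw [← RingHom.essFiniteType_algebraMap, RingHom.algebraMap_toAlgebra]
    exact LocallyOfFiniteType.stalkMap f x
  have hunr : Algebra.FormallyUnramified (Y.presheaf.stalk (f x)) (X.presheaf.stalk x) := by
    rw [← RingHom.formallyUnramified_algebraMap, RingHom.algebraMap_toAlgebra]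
    exact FormallyUnramified.stalkMap f x
  have hflat : Module.Flat (Y.presheaf.stalk (f x)) (X.presheaf.stalk x) := by
    have := Flat.stalkMap f x
    rwa [RingHom.flat_algebraMap_iff.symm, RingHom.algebraMap_toAlgebra]
  exact ⟨isNoetherianRing_of_essFiniteType (A := Y.presheaf.stalk (f x)), hflat, hloc, hess, hunr,
    Algebra.FormallyUnramified.map_maximalIdeal⟩

/-- Étale morphisms to locally Noetherian schemes preserve the dimension of local rings. -/
theorem ringKrullDim_stalk_eq_of_etale [Etale f] [IsLocallyNoetherian Y] (x : X) :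
    ringKrullDim (X.presheaf.stalk x) = ringKrullDim (Y.presheaf.stalk (f x)) := by
  letI := (f.stalkMap x).hom.toAlgebra
  obtain ⟨h1, h2, h3, -, -, h6⟩ := etale_stalkMap_package f x
  exact ringKrullDim_eq_of_flat_of_map_maximalIdeal h6

end Scheme

end Groth.Agent.H20
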