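import Mathlib

/-!
# Stalks on schemes with finitely many points near `x`
-/

set_option autoImplicit false
universe u

open CategoryTheory CategoryTheory.Limits AlgebraicGeometry TopologicalSpace

namespace Groth.Agent.H20.FiniteSpecStalk

/-- In a ring with finite spectrum, every prime has a basic open neighbourhood contained in all
basic open neighbourhoods. -/
lemma exists_basicOpen_le {B : Type*} [CommRing B] [Finite (PrimeSpectrum B)]
    (p : PrimeSpectrum B) :
    ∃ g : B, g ∉ p.asIdeal ∧ ∀ s : B, s ∉ p.asIdeal →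
      PrimeSpectrum.basicOpen g ≤ PrimeSpectrum.basicOpen s := by
  have hopen : IsOpen (nhdsKer ({p} : Set (PrimeSpectrum B))) := isOpen_nhdsKer
  have hp : p ∈ nhdsKer ({p} : Set (PrimeSpectrum B)) := subset_nhdsKer (Set.mem_singleton p)
  obtain ⟨_, ⟨g, rfl⟩, hpg, hg⟩ :=
    PrimeSpectrum.isTopologicalBasis_basic_opens.exists_subset_of_mem_open hp hopen
  refine ⟨g, hpg, fun s hs => ?_⟩
  intro q hq
  have h1 : nhdsKer ({p} : Set (PrimeSpectrum B)) ⊆ (PrimeSpectrum.basicOpen s : Set _) :=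
    (PrimeSpectrum.basicOpen s).isOpen.nhdsKer_subset.mpr (Set.singleton_subset_iff.mpr hs)
  exact h1 (hg hq)

/-- If `Γ(X, U)` has finite spectrum for an affine open `U ∋ x`, then `Spec 𝒪_{X,x} ⟶ X` is an
open immersion. -/
theorem isOpenImmersion_fromSpecStalk {X : Scheme.{u}} {U : X.Opens} (hU : IsAffineOpen U)
    [Finite (PrimeSpectrum Γ(X, U))] (x : X) (hxU : x ∈ U) :
    IsOpenImmersion (X.fromSpecStalk x) := by
  rw [← hU.fromSpecStalk_eq_fromSpecStalk hxU]
  dsimp [IsAffineOpen.fromSpecStalk]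
  have : IsOpenImmersion (Spec.map (X.presheaf.germ U x hxU)) := by
    let _ : Algebra Γ(X, U) (X.presheaf.stalk x) := (X.presheaf.germ U x hxU).hom.toAlgebra
    have := hU.isLocalization_stalk ⟨x, hxU⟩
    obtain ⟨g, hgp, hg⟩ := exists_basicOpen_le (hU.primeIdealOf ⟨x, hxU⟩)
    have h₁ : Submonoid.powers g ≤ (hU.primeIdealOf ⟨x, hxU⟩).asIdeal.primeCompl := by
      rw [Submonoid.powers_le]
      exact hgp
    have h₂ : ∀ n ∈ (hU.primeIdealOf ⟨x, hxU⟩).asIdeal.primeCompl,
        ∃ m ∈ Submonoid.powers g, n ∣ m := by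
      intro s hs
      have h3 := (PrimeSpectrum.basicOpen_le_basicOpen_iff g s).mp (hg s hs)
      obtain ⟨k, hk⟩ := h3
      exact ⟨g ^ k, ⟨k, rfl⟩, Ideal.mem_span_singleton.mp hk⟩
    have : IsLocalization.Away g (X.presheaf.stalk x) :=
      (IsLocalization.iff_of_le_of_exists_dvd (Submonoid.powers g) _ h₁ h₂).mpr inferInstance
    exact IsOpenImmersion.of_isLocalization (R := Γ(X, U)) (S := X.presheaf.stalk x) g
  infer_instance

end Groth.Agent.H20.FiniteSpecStalk
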