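import Groth.Agent.H20.FlatReduced
import Mathlib.AlgebraicGeometry.Morphisms.Flat
import Mathlib.AlgebraicGeometry.Fiber
import Mathlib.AlgebraicGeometry.Noetherian
import Mathlib.AlgebraicGeometry.Properties
import Mathlib.Algebra.Category.Ring.Constructions

set_option autoImplicit false
universe u

namespace Groth.Agent.H20

open TensorProduct CategoryTheory CategoryTheory.Limits AlgebraicGeometry TopologicalSpace

/-- In a pushout square of commutative rings with reduced corner, the tensor product is reduced. -/
lemma isReduced_tensor_of_isPushout {A B K C : CommRingCat.{u}} {φ : A ⟶ B} {ψ : A ⟶ K}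
    {ι : B ⟶ C} {π : K ⟶ C} (h : IsPushout φ ψ ι π) [_root_.IsReduced C] :
    letI := φ.hom.toAlgebra
    letI := ψ.hom.toAlgebra
    _root_.IsReduced (B ⊗[A] K) := by
  letI : Algebra A B := φ.hom.toAlgebra
  letI : Algebra A K := ψ.hom.toAlgebra
  have h0 := CommRingCat.isPushout_tensorProduct A B K
  have h' : IsPushout (CommRingCat.ofHom (algebraMap A B)) (CommRingCat.ofHom (algebraMap A K))
    ι π := h
  have hiso : Function.Injective (h0.isoIsPushout _ _ h').hom.hom := by
    intro x y hxy
    have := congrArg (h0.isoIsPushout _ _ h').inv.hom hxy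
    simpa using this
  exact isReduced_of_injective (h0.isoIsPushout _ _ h').hom.hom hiso

variable {X Y : Scheme.{u}} (f : X ⟶ Y)

/-- The fibre datum over a prime of an affine open of the target. -/
lemma exists_fibre_algebra [Flat f] (hfib : ∀ y : Y, AlgebraicGeometry.IsReduced (f.fiber y))
    {U : X.Opens} {V : Y.Opens} (hU : IsAffineOpen U) (hV : IsAffineOpen V) (e : U ≤ f ⁻¹ᵁ V)
    (P : Ideal Γ(Y, V)) (hP : P.IsPrime) :
    letI := (f.appLE V U e).hom.toAlgebra
    ∃ (K : Type u) (_ : CommRing K) (_ : Algebra Γ(Y, V) K),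
      RingHom.ker (algebraMap Γ(Y, V) K) ≤ P ∧ _root_.IsReduced (Γ(X, U) ⊗[Γ(Y, V)] K) := by
  letI := (f.appLE V U e).hom.toAlgebra
  let y' : Y := hV.fromSpec ⟨P, hP⟩
  have hy'V : y' ∈ V := by
    have : y' ∈ Set.range hV.fromSpec := Set.mem_range_self _
    rwa [hV.range_fromSpec] at this
  have hUST : (⊤ : (Spec (Y.residueField y')).Opens) ≤ (Y.fromSpecResidueField y') ⁻¹ᵁ V := by
    intro t _
    change (Y.fromSpecResidueField y') t ∈ V
    rw [Scheme.fromSpecResidueField_apply]
    exact hy'V
  have H : IsPullback (f.fiberι y') (f.fiberToSpecResidueField y') f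
      (Y.fromSpecResidueField y') := IsPullback.of_hasPullback _ _
  have hiso := isIso_pushoutSection_of_isAffineOpen H hUST e rfl hV (isAffineOpen_top _) hU
  have hPO := (isIso_pushoutSection_iff H hUST e rfl).mp hiso
  haveI := hfib y'
  refine ⟨Γ(Spec (Y.residueField y'), ⊤), inferInstance,
    ((Y.fromSpecResidueField y').appLE V ⊤ hUST).hom.toAlgebra, ?_, ?_⟩
  · intro a ha
    by_contra haP
    have ha0 : (Y.fromSpecResidueField y').appLE V ⊤ hUST a = 0 := ha
    have h1 := Scheme.basicOpen_appLE (Y.fromSpecResidueField y') ⊤ V hUST a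
    rw [ha0, Scheme.basicOpen_zero] at h1
    have hmem : y' ∈ Y.basicOpen a := by
      have : (⟨P, hP⟩ : PrimeSpectrum Γ(Y, V)) ∈ PrimeSpectrum.basicOpen a := haP
      rw [← hV.fromSpec_preimage_basicOpen] at this
      exact this
    have hne : Nonempty (Spec (Y.residueField y')) := inferInstance
    obtain ⟨t⟩ := hne
    have : t ∈ (⊤ : (Spec (Y.residueField y')).Opens) ⊓
        (Y.fromSpecResidueField y') ⁻¹ᵁ Y.basicOpen a := by
      refine ⟨trivial, ?_⟩
      change (Y.fromSpecResidueField y') t ∈ Y.basicOpen a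
      rw [Scheme.fromSpecResidueField_apply]
      exact hmem
    rw [← h1] at this
    exact this
  · exact isReduced_tensor_of_isPushout hPO

/-- For a flat morphism to a locally Noetherian scheme with reduced fibres, the local ring at a
point `x` is reduced as soon as the local ring of the target at `f x` is. -/
theorem isReduced_stalk_of_flat_of_reduced_fibres [IsLocallyNoetherian Y] [Flat f] (x : X)
    [_root_.IsReduced (Y.presheaf.stalk (f x))]
    (hfib : ∀ y : Y, AlgebraicGeometry.IsReduced (f.fiber y)) :
    _root_.IsReduced (X.presheaf.stalk x) := by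
  obtain ⟨V, hV, hxV, -⟩ := exists_isAffineOpen_mem_and_subset (x := f x) (U := ⊤) trivial
  obtain ⟨U, hU, hxU, hUV⟩ := exists_isAffineOpen_mem_and_subset (x := x) (U := f ⁻¹ᵁ V) hxV
  have hflat : (f.appLE V U hUV).hom.Flat :=
    HasRingHomProperty.appLE (P := @Flat) f inferInstance ⟨V, hV⟩ ⟨U, hU⟩ hUV
  algebraize [(f.appLE V U hUV).hom]
  let p := (hV.primeIdealOf ⟨f x, hUV hxU⟩).asIdeal
  let q := (hU.primeIdealOf ⟨x, hxU⟩).asIdeal
  have : q.LiesOver p :=
    ⟨congr($(IsAffineOpen.comap_primeIdealOf_appLE V hV U hU hUV hxU).1).symm⟩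
  let := Y.presheaf.algebra_section_stalk ⟨f x, hUV hxU⟩
  have := hV.isLocalization_stalk ⟨f x, hUV hxU⟩
  let := X.presheaf.algebra_section_stalk ⟨x, hxU⟩
  have := hU.isLocalization_stalk ⟨x, hxU⟩
  let eY := IsLocalization.algEquiv p.primeCompl (Y.presheaf.stalk (f x)) (Localization.AtPrime p)
  let eX := IsLocalization.algEquiv q.primeCompl (X.presheaf.stalk x) (Localization.AtPrime q)
  haveI : _root_.IsReduced (Localization.AtPrime p) :=
    isReduced_of_injective eY.symm.toRingEquiv.toRingHom eY.symm.injective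
  haveI : IsNoetherianRing Γ(Y, V) := IsLocallyNoetherian.component_noetherian ⟨V, hV⟩
  have hfin : (minimalPrimes (Localization.AtPrime p)).Finite :=
    minimalPrimes.finite_of_isNoetherianRing _
  haveI : _root_.IsReduced (Localization.AtPrime q) :=
    isReduced_localization_of_flat_of_fibres p q hfin
      (fun P hP => exists_fibre_algebra f hfib hU hV hUV P hP)
  exact isReduced_of_injective eX.toRingEquiv.toRingHom eX.injective

/-- A flat morphism to a locally Noetherian scheme with reduced fibres, such that the local rings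
of the target at all points of the image are reduced, has reduced source. -/
theorem isReduced_of_flat_of_reduced_fibres [IsLocallyNoetherian Y] [Flat f]
    (hY : ∀ x : X, _root_.IsReduced (Y.presheaf.stalk (f x)))
    (hfib : ∀ y : Y, AlgebraicGeometry.IsReduced (f.fiber y)) : AlgebraicGeometry.IsReduced X := by
  haveI : ∀ x : X, _root_.IsReduced (X.presheaf.stalk x) := fun x =>
    haveI := hY x
    isReduced_stalk_of_flat_of_reduced_fibres f x hfib
  exact isReduced_of_isReduced_stalk X

end Groth.Agent.H20
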