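import Mathlib

/-!
# Closure of the image of a closed set under a quasi-compact morphism

For a quasi-compact morphism `f : X ⟶ Y` and a closed subset `Z ⊆ X`, every point of the closure
of `f '' Z` is a specialization of a point of `f '' Z`.
-/

set_option autoImplicit false

universe u

open CategoryTheory AlgebraicGeometry TopologicalSpace

namespace Groth.Agent.H20

/-- ring-level version: a point of the closure of the image of `V(I)` is a specialization of a
point of the image. -/
theorem _root_.PrimeSpectrum.exists_specializes_of_mem_closure_image_comap {R S : Type*}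
    [CommRing R] [CommRing S] (φ : R →+* S) (I : Ideal S) {y : PrimeSpectrum R}
    (hy : y ∈ closure (PrimeSpectrum.comap φ '' PrimeSpectrum.zeroLocus (I : Set S))) :
    ∃ r ∈ PrimeSpectrum.zeroLocus (I : Set S), PrimeSpectrum.comap φ r ⤳ y := by
  rw [PrimeSpectrum.closure_image_comap_zeroLocus] at hy
  have hy' : I.comap φ ≤ y.asIdeal := hy
  obtain ⟨q, hq₁, hq₂⟩ := Ideal.exists_minimalPrimes_le hy'
  obtain ⟨p', hp', hp'', rfl⟩ := Ideal.exists_comap_eq_of_mem_minimalPrimes φ _ hq₁
  exact ⟨⟨p', hp'⟩, hp'', (PrimeSpectrum.le_iff_specializes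
      (PrimeSpectrum.comap φ ⟨p', hp'⟩) y).mp hq₂⟩

set_option backward.defeqAttrib.useBackward true in
set_option backward.isDefEq.respectTransparency false in
/-- For a quasi-compact morphism, points in the closure of the image of a closed set are
specializations of points in the image. -/
theorem exists_specializes_of_mem_closure_image {X Y : Scheme.{u}} (f : X ⟶ Y) [QuasiCompact f]
    {Z : Set X} (hZ : IsClosed Z) {y : Y} (hy : y ∈ closure (f '' Z)) :
    ∃ z ∈ Z, f z ⤳ y := by
  obtain ⟨_, ⟨V, hV, rfl⟩, hyV, -⟩ := Y.isBasis_affineOpens.exists_subset_of_mem_open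
    (Set.mem_univ y) isOpen_univ
  have hc : IsCompact ((f ⁻¹ᵁ V : X.Opens) : Set X) := f.isCompact_preimage hV.isCompact
  obtain ⟨R, g, hg⟩ := isCompact_iff_exists.mp hc
  have hrange : Set.range (g ≫ f) ⊆ Set.range hV.fromSpec := by
    rw [hV.range_fromSpec]
    rintro _ ⟨r, rfl⟩
    have : g r ∈ ((f ⁻¹ᵁ V : X.Opens) : Set X) := hg ▸ ⟨r, rfl⟩
    simpa using this
  let h : Spec R ⟶ Spec Γ(Y, V) := IsOpenImmersion.lift hV.fromSpec (g ≫ f) hrange
  have hfac : h ≫ hV.fromSpec = g ≫ f := IsOpenImmersion.lift_fac _ _ _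
  obtain ⟨φ, hφ⟩ := Spec.map_surjective h
  obtain ⟨y', rfl⟩ : ∃ y' : Spec Γ(Y, V), hV.fromSpec y' = y := by
    have : y ∈ Set.range hV.fromSpec := by rw [hV.range_fromSpec]; exact hyV
    exact this
  have hZ' : IsClosed (g ⁻¹' Z) := hZ.preimage g.continuous
  let I : Ideal R := PrimeSpectrum.vanishingIdeal (g ⁻¹' Z)
  have hI : PrimeSpectrum.zeroLocus (I : Set R) = g ⁻¹' Z := by
    rw [PrimeSpectrum.zeroLocus_vanishingIdeal_eq_closure, hZ'.closure_eq]
  have hy' : y' ∈ closure (PrimeSpectrum.comap φ.hom '' PrimeSpectrum.zeroLocus (I : Set R)) := by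
    rw [mem_closure_iff]
    intro O hO hyO
    have hO' : IsOpen (hV.fromSpec '' O) := hV.fromSpec.isOpenEmbedding.isOpenMap O hO
    obtain ⟨_, ⟨o, hoO, hoz⟩, ⟨z, hzZ, rfl⟩⟩ :=
      mem_closure_iff.mp hy _ hO' ⟨y', hyO, rfl⟩
    have hzV : z ∈ ((f ⁻¹ᵁ V : X.Opens) : Set X) := by
      have : f z ∈ Set.range hV.fromSpec := ⟨o, hoz⟩
      rw [hV.range_fromSpec] at this
      exact this
    rw [← hg] at hzV
    obtain ⟨r, rfl⟩ := hzV
    refine ⟨o, hoO, r, ?_, ?_⟩
    · rw [hI]; exact hzZ
    · apply hV.fromSpec.isOpenEmbedding.injective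
      rw [hoz]
      have := congr($(hfac) r)
      rw [← hφ] at this
      exact this
  obtain ⟨r, hr, hspec⟩ := PrimeSpectrum.exists_specializes_of_mem_closure_image_comap _ _ hy'
  refine ⟨g r, by rw [hI] at hr; exact hr, ?_⟩
  have h1 : hV.fromSpec (PrimeSpectrum.comap φ.hom r) = f (g r) := by
    have := congr($(hfac) r)
    rw [← hφ] at this
    exact this
  rw [← h1]
  exact hspec.map hV.fromSpec.continuous

end Groth.Agent.H20
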