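import Mathlib
import Groth.Agent.H20.BiratPullback
import Groth.Agent.H20.QCClosure

/-!
# Maximal points, finite fibres, and disjoint affine neighbourhoods
-/

set_option autoImplicit false

universe u

open CategoryTheory AlgebraicGeometry TopologicalSpace

namespace Groth.Agent.H20

variable {X Y : Scheme.{u}}

/-- In a finite fibre of a morphism locally of finite type there are no nontrivial
specializations. -/
theorem eq_of_specializes_of_finite_fiber (f : X ⟶ Y) [LocallyOfFiniteType f] {y : Y}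
    (hfin : (f ⁻¹' {y}).Finite) {x x' : X} (hx : f x = y) (hx' : f x' = y) (h : x' ⤳ x) :
    x' = x := by
  have : Finite (f.fiber y) := (f.fiberHomeo y).finite_iff.mpr hfin
  have : DiscreteTopology (f.fiber y) := inferInstance
  have hd : DiscreteTopology (f ⁻¹' {y}) := (f.fiberHomeo y).discreteTopology
  have h' : (⟨x', hx'⟩ : f ⁻¹' {y}) ⤳ ⟨x, hx⟩ :=
    (Topology.IsInducing.subtypeVal.specializes_iff).mp h
  exact congrArg Subtype.val h'.eq

/-- Points of a finite fibre over a maximal point are maximal points. -/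
theorem closure_mem_irreducibleComponents_of_finite_fiber (f : X ⟶ Y) [LocallyOfFiniteType f]
    {η : Y} (hη : closure {η} ∈ irreducibleComponents ↥Y) (hfin : (f ⁻¹' {η}).Finite)
    {x : X} (hx : f x = η) : closure {x} ∈ irreducibleComponents ↥X := by
  obtain ⟨x₂, hx₂, hsp⟩ := exists_generic_specializes x
  have h1 : f x₂ ⤳ f x := hsp.map f.continuous
  rw [hx] at h1
  have h2 : f x₂ = η := eq_of_specializes_of_mem_irreducibleComponents hη h1
  have h3 : x₂ = x := eq_of_specializes_of_finite_fiber f hfin hx h2 hsp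
  rwa [← h3]

/-- A maximal point of `X` lying in an affine open `U` but not in a quasi-compact open `T ≤ U`
is not in the closure of `T`. -/
theorem not_mem_closure_of_isCompact_of_maximal {U T : X.Opens} (hU : IsAffineOpen U)
    (hTU : T ≤ U) (hT : IsCompact (T : Set X)) {x : X}
    (hx : closure {x} ∈ irreducibleComponents ↥X) (hxU : x ∈ U) (hxT : x ∉ T) :
    x ∉ closure (T : Set X) := by
  intro hcl
  obtain ⟨R, g, hg⟩ := isCompact_iff_exists.mp hT
  have hrange : Set.range g ⊆ Set.range hU.fromSpec := by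
    rw [hU.range_fromSpec, hg]; exact hTU
  let g' : Spec R ⟶ Spec Γ(X, U) := IsOpenImmersion.lift hU.fromSpec g hrange
  have hfac : g' ≫ hU.fromSpec = g := IsOpenImmersion.lift_fac _ _ _
  obtain ⟨x', rfl⟩ : ∃ x' : Spec Γ(X, U), hU.fromSpec x' = x := by
    have : x ∈ Set.range hU.fromSpec := by rw [hU.range_fromSpec]; exact hxU
    exact this
  have hx' : x' ∈ closure (g' '' Set.univ) := by
    rw [Set.image_univ, hU.fromSpec.isOpenEmbedding.isInducing.closure_eq_preimage_closure_image,
      ← Set.range_comp]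
    have : (hU.fromSpec : _ → _) ∘ (g' : _ → _) = (g : _ → _) := by
      ext r; exact congr($(hfac) r)
    rw [this, hg]
    exact hcl
  obtain ⟨r, -, hr⟩ := exists_specializes_of_mem_closure_image g' isClosed_univ hx'
  have h1 : hU.fromSpec (g' r) ⤳ hU.fromSpec x' := hr.map hU.fromSpec.continuous
  have h2 : hU.fromSpec (g' r) = hU.fromSpec x' :=
    eq_of_specializes_of_mem_irreducibleComponents hx h1
  apply hxT
  have : g r ∈ Set.range g := ⟨r, rfl⟩
  rw [hg] at this
  have h3 : hU.fromSpec (g' r) = g r := congr($(hfac) r)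
  rw [← h2, h3]
  exact this

end Groth.Agent.H20

namespace Groth.Agent.H20

open CategoryTheory AlgebraicGeometry TopologicalSpace

variable {X Y : Scheme.{u}}

/-- Finitely many maximal points in a quasi-separated open subset have pairwise disjoint affine
open neighbourhoods (inside that open subset). -/
theorem exists_disjoint_affine_nhds (W : X.Opens) (hW : IsQuasiSeparated (W : Set X))
    (s : Set X) (hs : s.Finite) (hsW : s ⊆ W)
    (hmax : ∀ x ∈ s, closure {x} ∈ irreducibleComponents ↥X) :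
    ∃ U : X → X.Opens, (∀ x ∈ s, IsAffineOpen (U x) ∧ x ∈ U x ∧ U x ≤ W) ∧
      (∀ x ∈ s, ∀ x' ∈ s, x ≠ x' → Disjoint (U x) (U x')) := by
  classical
  -- Step 1
  have step1 : ∀ x : X, ∃ Wx : X.Opens, x ∈ s → (IsAffineOpen Wx ∧ x ∈ Wx ∧ Wx ≤ W ∧
      ∀ x' ∈ s, x' ≠ x → x' ∉ Wx) := by
    intro x
    by_cases hx : x ∈ s
    · let O : Set X := (W : Set X) ∩ ⋂ x' ∈ s \ {x}, (closure {x'})ᶜ
      have hO : IsOpen O := W.2.inter
        ((hs.subset Set.diff_subset).isOpen_biInter fun x' _ => isClosed_closure.isOpen_compl)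
      have hxO : x ∈ O := by
        refine ⟨hsW hx, ?_⟩
        simp only [Set.mem_iInter]
        intro x' hx' hcl
        have hsp : x' ⤳ x := specializes_iff_mem_closure.mpr hcl
        exact hx'.2 (eq_of_specializes_of_mem_irreducibleComponents (hmax x hx) hsp)
      obtain ⟨_, ⟨Wx, hWx, rfl⟩, hxWx, hsub⟩ :=
        X.isBasis_affineOpens.exists_subset_of_mem_open hxO hO
      refine ⟨Wx, fun _ => ⟨hWx, hxWx, fun z hz => (hsub hz).1, fun x' hx's hne hx'W => ?_⟩⟩
      have := (hsub hx'W).2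
      simp only [Set.mem_iInter] at this
      exact this x' ⟨hx's, hne⟩ (subset_closure rfl)
    · exact ⟨⊥, fun h => absurd h hx⟩
  choose Wf hWf using step1
  -- Step 2
  have step2 : ∀ x : X, ∃ Ux : X.Opens, x ∈ s → (IsAffineOpen Ux ∧ x ∈ Ux ∧ Ux ≤ Wf x ∧
      ∀ x' ∈ s, x' ≠ x → Disjoint (Ux : Set X) (closure ((Wf x ⊓ Wf x' : X.Opens) : Set X))) := by
    intro x
    by_cases hx : x ∈ s
    · obtain ⟨hWa, hxW, hWW, hWn⟩ := hWf x hx
      let O : Set X := (Wf x : Set X) ∩
        ⋂ x' ∈ s \ {x}, (closure ((Wf x ⊓ Wf x' : X.Opens) : Set X))ᶜ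
      have hO : IsOpen O := (Wf x).2.inter
        ((hs.subset Set.diff_subset).isOpen_biInter fun x' _ => isClosed_closure.isOpen_compl)
      have hxO : x ∈ O := by
        refine ⟨hxW, ?_⟩
        simp only [Set.mem_iInter]
        intro x' hx'
        obtain ⟨hWa', hxW', hWW', hWn'⟩ := hWf x' hx'.1
        have hc : IsCompact ((Wf x ⊓ Wf x' : X.Opens) : Set X) :=
          hW (Wf x) (Wf x') hWW (Wf x).2 hWa.isCompact hWW' (Wf x').2 hWa'.isCompact
        refine not_mem_closure_of_isCompact_of_maximal hWa inf_le_left hc (hmax x hx) hxW ?_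
        intro h
        exact hWn' x hx (fun h' => hx'.2 h'.symm) h.2
      obtain ⟨_, ⟨Ux, hUx, rfl⟩, hxUx, hsub⟩ :=
        X.isBasis_affineOpens.exists_subset_of_mem_open hxO hO
      refine ⟨Ux, fun _ => ⟨hUx, hxUx, fun z hz => (hsub hz).1, fun x' hx's hne => ?_⟩⟩
      rw [Set.disjoint_left]
      intro z hz hzc
      have := (hsub hz).2
      simp only [Set.mem_iInter] at this
      exact this x' ⟨hx's, hne⟩ hzc
    · exact ⟨⊥, fun h => absurd h hx⟩
  choose Uf hUf using step2
  refine ⟨Uf, fun x hx => ?_, fun x hx x' hx' hne => ?_⟩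
  · obtain ⟨h1, h2, h3, -⟩ := hUf x hx
    exact ⟨h1, h2, h3.trans (hWf x hx).2.2.1⟩
  · obtain ⟨-, -, h3, h4⟩ := hUf x hx
    obtain ⟨-, -, h3', -⟩ := hUf x' hx'
    rw [disjoint_iff, eq_bot_iff]
    intro z hz
    have hz1 : z ∈ ((Wf x ⊓ Wf x' : X.Opens) : Set X) := ⟨h3 hz.1, h3' hz.2⟩
    exact (Set.disjoint_left.mp (h4 x' hx' (Ne.symm hne)) hz.1 (subset_closure hz1)).elim

end Groth.Agent.H20
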