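import Mathlib
import Groth.Agent.H20.MaximalPoints
import Groth.Agent.H46.GenFinite

/-!
# Generic finiteness over a maximal point of the target
-/

set_option autoImplicit false

universe u

open CategoryTheory AlgebraicGeometry TopologicalSpace

namespace Groth.Agent.H20

variable {X Y : Scheme.{u}}

/-- If a closed subset `Z` of `X` misses the fibre over a maximal point `η` and `f` is
quasi-compact, then `Z` misses the preimage of an open neighbourhood of `η`. -/
theorem exists_open_nhd_forall_not_mem (f : X ⟶ Y) [QuasiCompact f] {Z : Set X} (hZ : IsClosed Z)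
    {η : Y} (hη : closure {η} ∈ irreducibleComponents ↥Y) (hZη : ∀ z ∈ Z, f z ≠ η) :
    ∃ V : Y.Opens, η ∈ V ∧ ∀ z ∈ Z, f z ∉ V := by
  refine ⟨⟨(closure (f '' Z))ᶜ, isClosed_closure.isOpen_compl⟩, ?_, ?_⟩
  · intro hcl
    obtain ⟨z, hz, hsp⟩ := exists_specializes_of_mem_closure_image f hZ hcl
    exact hZη z hz (eq_of_specializes_of_mem_irreducibleComponents hη hsp)
  · intro z hz hzV
    exact hzV (subset_closure ⟨z, hz, rfl⟩)

/-- the prime of a maximal point in an affine open is a minimal prime. -/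
theorem primeIdealOf_mem_minimalPrimes {V : Y.Opens} (hV : IsAffineOpen V) {η : Y}
    (hη : closure {η} ∈ irreducibleComponents ↥Y) (hηV : η ∈ V) :
    (hV.primeIdealOf ⟨η, hηV⟩).asIdeal ∈ minimalPrimes Γ(Y, V) := by
  rw [← PrimeSpectrum.vanishingIdeal_singleton, PrimeSpectrum.vanishingIdeal_mem_minimalPrimes]
  have h := preimage_mem_irreducibleComponents hη hV.fromSpec.isOpenEmbedding
    ⟨η, subset_closure rfl, hV.primeIdealOf ⟨η, hηV⟩, hV.fromSpec_primeIdealOf _⟩
  let y' : ↥(Spec Γ(Y, V)) := hV.primeIdealOf ⟨η, hηV⟩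
  have hy' : hV.fromSpec y' = η := hV.fromSpec_primeIdealOf _
  have h2 : closure ({y'} : Set ↥(Spec Γ(Y, V))) = hV.fromSpec ⁻¹' closure {η} := by
    rw [hV.fromSpec.isOpenEmbedding.isInducing.closure_eq_preimage_closure_image,
      Set.image_singleton, hy']
  have h3 : closure ({y'} : Set ↥(Spec Γ(Y, V))) ∈
      irreducibleComponents ↥(Spec Γ(Y, V)) := h2 ▸ h
  exact h3

set_option backward.defeqAttrib.useBackward true in
set_option backward.isDefEq.respectTransparency false in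
/-- Finiteness of the fibre gives finiteness of the set of primes over the prime of `η`. -/
theorem finite_primesOver_of_finite_fiber (f : X ⟶ Y) {V : Y.Opens} (hV : IsAffineOpen V)
    {U : X.Opens} (hU : IsAffineOpen U) (e : U ≤ f ⁻¹ᵁ V) {η : Y} (hηV : η ∈ V)
    (hfin : (f ⁻¹' {η}).Finite) :
    letI := (f.appLE V U e).hom.toAlgebra
    ((hV.primeIdealOf ⟨η, hηV⟩).asIdeal.primesOver Γ(X, U)).Finite := by
  letI := (f.appLE V U e).hom.toAlgebra
  set q := hV.primeIdealOf ⟨η, hηV⟩ with hq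
  let S' : Set (PrimeSpectrum Γ(X, U)) := {P | P.asIdeal.LiesOver q.asIdeal}
  have hS' : S'.Finite := by
    refine Set.Finite.of_injOn (f := fun P => hU.fromSpec P) (t := f ⁻¹' {η}) ?_ ?_ hfin
    · intro P hP
      have h1 : f (hU.fromSpec P) = hV.fromSpec (Spec.map (f.appLE V U e) P) :=
        congr($(hV.SpecMap_appLE_fromSpec f hU e) P).symm
      have h2 : Spec.map (f.appLE V U e) P = q := by
        apply PrimeSpectrum.ext
        exact (hP.over).symm
      show f (hU.fromSpec P) = η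
      rw [h1, h2, hq, hV.fromSpec_primeIdealOf]
    · intro P _ P' _ h
      exact hU.fromSpec.isOpenEmbedding.injective h
  refine (hS'.image PrimeSpectrum.asIdeal).subset ?_
  rintro P ⟨hP1, hP2⟩
  exact ⟨⟨P, hP1⟩, hP2, rfl⟩

/-- Finiteness of `Localization.awayMap` transports to any other model of the localizations. -/
theorem finite_away_map_of_finite_awayMap {R S : Type*} [CommRing R] [CommRing S] (φ : R →+* S)
    (g : R) (R' S' : Type*) [CommRing R'] [CommRing S'] [Algebra R R'] [Algebra S S']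
    [IsLocalization.Away g R'] [IsLocalization.Away (φ g) S']
    (h : (Localization.awayMap φ g).Finite) : (IsLocalization.Away.map R' S' φ g).Finite := by
  let e₁ : Localization.Away g ≃ₐ[R] R' := IsLocalization.algEquiv (Submonoid.powers g) _ _
  let e₂ : Localization.Away (φ g) ≃ₐ[S] S' := IsLocalization.algEquiv (Submonoid.powers (φ g)) _ _
  have key : IsLocalization.Away.map R' S' φ g =
      (e₂.toRingEquiv.toRingHom.comp (Localization.awayMap φ g)).comp
        e₁.symm.toRingEquiv.toRingHom := by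
    apply IsLocalization.ringHom_ext (Submonoid.powers g)
    ext x
    simp [IsLocalization.Away.map, e₁, e₂, Localization.awayMap]
  rw [key]
  refine RingHom.Finite.comp (RingHom.Finite.comp ?_ h) ?_
  · exact RingHom.Finite.of_surjective _ e₂.toRingEquiv.surjective
  · exact RingHom.Finite.of_surjective _ e₁.symm.toRingEquiv.surjective

set_option backward.isDefEq.respectTransparency.types false in
/-- criterion for finiteness of a restriction over an affine open. -/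
theorem isFinite_morphismRestrict_of_appLE (f : X ⟶ Y) {V : Y.Opens} (hV : IsAffineOpen V)
    {U : X.Opens} (hU : IsAffineOpen U) (hUV : U = f ⁻¹ᵁ V)
    (h : (f.appLE V U hUV.le).hom.Finite) : IsFinite (f ∣_ V) := by
  subst hUV
  haveI : IsAffine V := hV
  rw [HasAffineProperty.iff_of_isAffine (P := @IsFinite)]
  refine ⟨hU, ?_⟩
  rw [Scheme.Hom.appTop, morphismRestrict_app']
  have e1 : V.ι ''ᵁ ⊤ = V := V.ι_image_top
  have e2 : (f ⁻¹ᵁ V).ι ''ᵁ ((f ∣_ V) ⁻¹ᵁ ⊤) = f ⁻¹ᵁ V := by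
    rw [Scheme.Hom.preimage_top, Scheme.Opens.ι_image_top]
  exact (Scheme.Hom.appLE_congr f le_rfl e1.symm e2.symm (fun φ => φ.hom.Finite)).mp h

/-- membership in a basic open in terms of `primeIdealOf`. -/
theorem mem_basicOpen_iff_not_mem_primeIdealOf {V : Y.Opens} (hV : IsAffineOpen V) {η : Y}
    (hηV : η ∈ V) (g : Γ(Y, V)) :
    η ∈ Y.basicOpen g ↔ g ∉ (hV.primeIdealOf ⟨η, hηV⟩).asIdeal := by
  have h1 : hV.fromSpec (hV.primeIdealOf ⟨η, hηV⟩) = η := hV.fromSpec_primeIdealOf _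
  have h2 := hV.fromSpec_preimage_basicOpen g
  constructor
  · intro h
    have : hV.primeIdealOf ⟨η, hηV⟩ ∈ hV.fromSpec ⁻¹ᵁ Y.basicOpen g := by
      show hV.fromSpec (hV.primeIdealOf ⟨η, hηV⟩) ∈ Y.basicOpen g
      rw [h1]; exact h
    rw [h2] at this
    exact this
  · intro h
    have : hV.primeIdealOf ⟨η, hηV⟩ ∈ hV.fromSpec ⁻¹ᵁ Y.basicOpen g := by
      rw [h2]; exact h
    have h3 : hV.fromSpec (hV.primeIdealOf ⟨η, hηV⟩) ∈ Y.basicOpen g := this
    rwa [h1] at h3

/-- **Affine core of generic finiteness**: if `V` and `f ⁻¹ V` are affine, `f` is locally of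
finite type and the fibre over a maximal point `η ∈ V` is finite, then `f` is finite over a basic
open neighbourhood of `η`. -/
theorem exists_basicOpen_isFinite_of_isAffineOpen (f : X ⟶ Y) [LocallyOfFiniteType f]
    {V : Y.Opens} (hV : IsAffineOpen V) (hU : IsAffineOpen (f ⁻¹ᵁ V)) {η : Y}
    (hη : closure {η} ∈ irreducibleComponents ↥Y) (hηV : η ∈ V) (hfin : (f ⁻¹' {η}).Finite) :
    ∃ g : Γ(Y, V), η ∈ Y.basicOpen g ∧ IsFinite (f ∣_ Y.basicOpen g) := by
  letI := (f.appLE V (f ⁻¹ᵁ V) le_rfl).hom.toAlgebra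
  haveI : Algebra.FiniteType Γ(Y, V) Γ(X, f ⁻¹ᵁ V) :=
    HasRingHomProperty.appLE (P := @LocallyOfFiniteType) f inferInstance ⟨V, hV⟩ ⟨_, hU⟩ le_rfl
  obtain ⟨g, hgq, hgfin⟩ := Groth.Agent.H46.GenFinite.exists_finite_awayMap
    (hV.primeIdealOf ⟨η, hηV⟩).asIdeal (primeIdealOf_mem_minimalPrimes hV hη hηV)
    (finite_primesOver_of_finite_fiber f hV hU le_rfl hηV hfin)
  refine ⟨g, (mem_basicOpen_iff_not_mem_primeIdealOf hV hηV g).mpr hgq, ?_⟩
  have hpre : X.basicOpen (f.appLE V (f ⁻¹ᵁ V) le_rfl g) = f ⁻¹ᵁ (Y.basicOpen g) := by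
    rw [Scheme.basicOpen_appLE]
    exact inf_eq_right.mpr (f.preimage_mono (Y.basicOpen_le g))
  refine isFinite_morphismRestrict_of_appLE f (hV.basicOpen g) (hU.basicOpen _) hpre ?_
  haveI := hV.isLocalization_basicOpen g
  haveI := hU.isLocalization_basicOpen (f.appLE V (f ⁻¹ᵁ V) le_rfl g)
  rw [IsAffineOpen.appLE_eq_away_map f hV hU le_rfl g]
  exact finite_away_map_of_finite_awayMap _ g _ _ hgfin

/-- **Generic finiteness**: a quasi-compact quasi-separated morphism locally of finite type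
whose fibre over a maximal point `η` is finite is finite over an affine open neighbourhood of
`η` (which may be chosen inside any given neighbourhood). -/
theorem exists_isFinite_morphismRestrict_of_finite_fiber (f : X ⟶ Y) [LocallyOfFiniteType f]
    [QuasiCompact f] [QuasiSeparated f] {η : Y} (hη : closure {η} ∈ irreducibleComponents ↥Y)
    (hfin : (f ⁻¹' {η}).Finite) (V₀ : Y.Opens) (hηV₀ : η ∈ V₀) :
    ∃ V : Y.Opens, IsAffineOpen V ∧ η ∈ V ∧ V ≤ V₀ ∧ IsFinite (f ∣_ V) := by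
  obtain ⟨_, ⟨V₁, hV₁, rfl⟩, hηV₁, hV₁V₀⟩ :=
    Y.isBasis_affineOpens.exists_subset_of_mem_open hηV₀ V₀.2
  have hWqs : IsQuasiSeparated ((f ⁻¹ᵁ V₁ : X.Opens) : Set X) :=
    f.isQuasiSeparated_preimage hV₁.isQuasiSeparated
  have hsW : f ⁻¹' {η} ⊆ ((f ⁻¹ᵁ V₁ : X.Opens) : Set X) := by
    intro x hx
    have hx' : f x = η := hx
    show f x ∈ V₁
    rw [hx']; exact hηV₁
  have hmax : ∀ x ∈ f ⁻¹' {η}, closure {x} ∈ irreducibleComponents ↥X := fun x hx =>
    closure_mem_irreducibleComponents_of_finite_fiber f hη hfin hx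
  obtain ⟨Uf, hUf, hdisj⟩ := exists_disjoint_affine_nhds (f ⁻¹ᵁ V₁) hWqs _ hfin hsW hmax
  let U : X.Opens := ⨆ x ∈ f ⁻¹' {η}, Uf x
  have hU : IsAffineOpen U := IsAffineOpen.biSup_of_disjoint hfin (fun x hx => (hUf x hx).1)
    (fun x hx x' hx' hne => hdisj x hx x' hx' hne)
  have hUW : U ≤ f ⁻¹ᵁ V₁ := iSup₂_le fun x hx => (hUf x hx).2.2
  have hsU : f ⁻¹' {η} ⊆ (U : Set X) := fun x hx =>
    Opens.mem_iSup.mpr ⟨x, Opens.mem_iSup.mpr ⟨hx, (hUf x hx).2.1⟩⟩
  obtain ⟨V₂, hηV₂, hV₂⟩ := exists_open_nhd_forall_not_mem f (Z := (U : Set X)ᶜ)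
    U.2.isClosed_compl hη (fun z hz hzη => hz (hsU hzη))
  obtain ⟨g₁, hg₁le, hηg₁⟩ := hV₁.exists_basicOpen_le (V := V₂) ⟨η, hηV₂⟩ hηV₁
  have hV' : IsAffineOpen (Y.basicOpen g₁) := hV₁.basicOpen g₁
  have hV'V₁ : Y.basicOpen g₁ ≤ V₁ := Y.basicOpen_le g₁
  have hpreU : f ⁻¹ᵁ (Y.basicOpen g₁) ≤ U := fun z hz =>
    by_contra fun hzU => hV₂ z hzU (hg₁le hz)
  have hpre : X.basicOpen (f.appLE V₁ U hUW g₁) = f ⁻¹ᵁ (Y.basicOpen g₁) := by
    rw [Scheme.basicOpen_appLE]; exact inf_eq_right.mpr hpreU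
  have hU' : IsAffineOpen (f ⁻¹ᵁ (Y.basicOpen g₁)) := hpre ▸ hU.basicOpen _
  obtain ⟨g, hηg, hfinite⟩ := exists_basicOpen_isFinite_of_isAffineOpen f hV' hU' hη hηg₁ hfin
  exact ⟨Y.basicOpen g, hV'.basicOpen g, hηg,
    (Y.basicOpen_le g).trans (hV'V₁.trans hV₁V₀), hfinite⟩

/-- If `f` is finite over an open neighbourhood of `η` then the fibre over `η` is finite. -/
theorem finite_fiber_of_isFinite_morphismRestrict (f : X ⟶ Y) {V : Y.Opens} {η : Y}
    (hηV : η ∈ V) [IsFinite (f ∣_ V)] : (f ⁻¹' {η}).Finite := by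
  have h := (f ∣_ V).finite_preimage_singleton ⟨η, hηV⟩
  refine (h.image (f ⁻¹ᵁ V).ι).subset ?_
  intro x hx
  have hx' : f x = η := hx
  have hxV : x ∈ f ⁻¹ᵁ V := by show f x ∈ V; rw [hx']; exact hηV
  refine ⟨⟨x, hxV⟩, ?_, rfl⟩
  show (f ∣_ V) ⟨x, hxV⟩ = ⟨η, hηV⟩
  apply Subtype.ext
  rw [morphismRestrict_base_coe]
  exact hx'

end Groth.Agent.H20
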