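import Mathlib
import Groth.Agent.H20.GenericFinite
import Groth.Agent.H20.DenseSeparated

/-!
# Generic finiteness, second part: without quasi-separatedness; dense open version
-/

set_option autoImplicit false

universe u

open CategoryTheory AlgebraicGeometry TopologicalSpace

namespace Groth.Agent.H20

variable {X Y : Scheme.{u}}

/-- **Generic finiteness**, version with a quasi-separated open neighbourhood of the fibre in
place of quasi-separatedness of the morphism. -/
theorem exists_isFinite_morphismRestrict_of_finite_fiber' (f : X ⟶ Y) [LocallyOfFiniteType f]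
    [QuasiCompact f] {η : Y} (hη : closure {η} ∈ irreducibleComponents ↥Y)
    (hfin : (f ⁻¹' {η}).Finite) (D : X.Opens) (hD : IsQuasiSeparated (D : Set X))
    (hfD : f ⁻¹' {η} ⊆ (D : Set X)) (V₀ : Y.Opens) (hηV₀ : η ∈ V₀) :
    ∃ V : Y.Opens, IsAffineOpen V ∧ η ∈ V ∧ V ≤ V₀ ∧ IsFinite (f ∣_ V) := by
  obtain ⟨_, ⟨V₁, hV₁, rfl⟩, hηV₁, hV₁V₀⟩ :=
    Y.isBasis_affineOpens.exists_subset_of_mem_open hηV₀ V₀.2
  have hWqs : IsQuasiSeparated ((f ⁻¹ᵁ V₁ ⊓ D : X.Opens) : Set X) :=
    hD.of_subset (fun _ hx => hx.2)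
  have hsW : f ⁻¹' {η} ⊆ ((f ⁻¹ᵁ V₁ ⊓ D : X.Opens) : Set X) := by
    intro x hx
    have hx' : f x = η := hx
    refine ⟨?_, hfD hx⟩
    show f x ∈ V₁
    rw [hx']; exact hηV₁
  have hmax : ∀ x ∈ f ⁻¹' {η}, closure {x} ∈ irreducibleComponents ↥X := fun x hx =>
    closure_mem_irreducibleComponents_of_finite_fiber f hη hfin hx
  obtain ⟨Uf, hUf, hdisj⟩ := exists_disjoint_affine_nhds (f ⁻¹ᵁ V₁ ⊓ D) hWqs _ hfin hsW hmax
  let U : X.Opens := ⨆ x ∈ f ⁻¹' {η}, Uf x
  have hU : IsAffineOpen U := IsAffineOpen.biSup_of_disjoint hfin (fun x hx => (hUf x hx).1)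
    (fun x hx x' hx' hne => hdisj x hx x' hx' hne)
  have hUW : U ≤ f ⁻¹ᵁ V₁ := iSup₂_le fun x hx => (hUf x hx).2.2.trans inf_le_left
  have hsU : f ⁻¹' {η} ⊆ (U : Set X) := fun x hx =>
    Opens.mem_iSup.mpr ⟨x, Opens.mem_iSup.mpr ⟨hx, (hUf x hx).2.1⟩⟩
  obtain ⟨V₂, hηV₂, hV₂⟩ := exists_open_nhd_forall_not_mem f (Z := (U : Set X)ᶜ)
    U.2.isClosed_compl hη (fun z hz hzη => hz (hsU hzη))
  obtain ⟨g₁, hg₁le, hηg₁⟩ := hV₁.exists_basicOpen_le (V := V₂) ⟨η, hηV₂⟩ hηV₁
  have hV' : IsAffineOpen (Y.basicOpen g₁) := hV₁.basicOpen g₁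
  have hV'V₁ : Y.basicOpen g₁ ≤ V₁ := Y.basicOpen_le g₁
  have hpreU : f ⁻¹ᵁ (Y.basicOpen g₁) ≤ U := fun z hz =>
    by_contra fun hzU => hV₂ z hzU (hg₁le hz)
  have hpre : X.basicOpen (f.appLE V₁ U hUW g₁) = f ⁻¹ᵁ (Y.basicOpen g₁) := by
    rw [Scheme.basicOpen_appLE]; exact inf_eq_right.mpr hpreU
  have hU' : IsAffineOpen (f ⁻¹ᵁ (Y.basicOpen g₁)) := hpre ▸ hU.basicOpen _
  obtain ⟨g, hηg, hfinite⟩ := exists_basicOpen_isFinite_of_isAffineOpen f hV' hU' hη hηg₁ hfin
  exact ⟨Y.basicOpen g, hV'.basicOpen g, hηg,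
    (Y.basicOpen_le g).trans (hV'V₁.trans hV₁V₀), hfinite⟩

/-- Finiteness over each member of a family of opens gives finiteness over the union. -/
theorem isFinite_morphismRestrict_iSup {ι : Type*} (f : X ⟶ Y) (V : ι → Y.Opens)
    (h : ∀ i, IsFinite (f ∣_ V i)) : IsFinite (f ∣_ (⨆ i, V i)) := by
  refine IsZariskiLocalAtTarget.of_iSup_eq_top (P := @IsFinite)
    (fun i => (⨆ i, V i).ι ⁻¹ᵁ V i) ?_ (fun i => ?_)
  · rw [eq_top_iff]
    intro x _
    have hx : x.1 ∈ ⨆ i, V i := x.2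
    obtain ⟨i, hi⟩ := Opens.mem_iSup.mp hx
    exact Opens.mem_iSup.mpr ⟨i, hi⟩
  · refine (MorphismProperty.arrow_mk_iso_iff @IsFinite
      (morphismRestrictRestrict f (⨆ i, V i) _)).mpr ?_
    have e : (⨆ i, V i).ι ''ᵁ ((⨆ i, V i).ι ⁻¹ᵁ V i) = V i := by
      rw [Scheme.Hom.image_preimage_eq_opensRange_inf, Scheme.Opens.opensRange_ι]
      exact inf_eq_right.mpr (le_iSup V i)
    rw [e]
    exact h i

/-- A maximal point of a space with finitely many irreducible components lies in every open `D`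
whose closure contains an open neighbourhood of the point. -/
theorem mem_of_subset_closure_of_maximal {T : Type*} [TopologicalSpace T]
    (hT : (irreducibleComponents T).Finite) {W D : Set T} (hW : IsOpen W) (hD : IsOpen D)
    (hdense : W ⊆ closure D) {x : T} (hx : closure {x} ∈ irreducibleComponents T) (hxW : x ∈ W) :
    x ∈ D := by
  let O : Set T := (⋃₀ (irreducibleComponents T \ {closure {x}}))ᶜ
  have hO : IsOpen O := by
    refine isOpen_compl_iff.mpr ?_
    rw [Set.sUnion_eq_biUnion]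
    refine (hT.subset Set.sdiff_subset).isClosed_biUnion ?_
    intro C hC
    exact isClosed_of_mem_irreducibleComponents C hC.1
  have hxO : x ∈ O := by
    rintro ⟨C, ⟨hC, hCne⟩, hxC⟩
    apply hCne
    have hsub : closure {x} ⊆ C :=
      (isClosed_of_mem_irreducibleComponents C hC).closure_subset_iff.mpr (by simpa using hxC)
    exact (Set.Subset.antisymm hsub (hx.2 hC.1 hsub) : closure {x} = C).symm
  obtain ⟨d, ⟨hdO, hdW⟩, hdD⟩ := mem_closure_iff.mp (hdense hxW) (O ∩ W) (hO.inter hW) ⟨hxO, hxW⟩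
  have hdC : d ∈ closure {x} := by
    have : d ∈ ⋃₀ irreducibleComponents T := by rw [sUnion_irreducibleComponents]; trivial
    obtain ⟨C, hC, hdC⟩ := this
    by_cases hCx : C = closure {x}
    · rw [← hCx]; exact hdC
    · exact (hdO ⟨C, ⟨hC, hCx⟩, hdC⟩).elim
  have hsp : x ⤳ d := specializes_iff_mem_closure.mpr hdC
  exact hsp.mem_open hD hdD

end Groth.Agent.H20

namespace Groth.Agent.H20

open CategoryTheory AlgebraicGeometry TopologicalSpace

variable {X Y : Scheme.{u}}

/-- In a `T0` space with finitely many irreducible components there are finitely many maximal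
points. -/
theorem finite_setOf_closure_mem_irreducibleComponents {T : Type*} [TopologicalSpace T]
    [T0Space T] (hT : (irreducibleComponents T).Finite) :
    {x : T | closure {x} ∈ irreducibleComponents T}.Finite := by
  refine Set.Finite.of_injOn (f := fun x : T => closure {x}) (fun x hx => hx) ?_ hT
  intro x _ y _ h
  exact (inseparable_iff_closure_eq.mpr h).eq

/-- In a scheme with finitely many irreducible components, every quasi-compact open `W` contains a
quasi-separated open `D` containing all maximal points lying in `W`. -/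
theorem exists_isQuasiSeparated_open_of_isCompact (X : Scheme.{u})
    (hX : (irreducibleComponents ↥X).Finite) (W : X.Opens) (hW : IsCompact (W : Set X)) :
    ∃ D : X.Opens, D ≤ W ∧ IsQuasiSeparated (D : Set X) ∧
      ∀ x ∈ W, closure {x} ∈ irreducibleComponents ↥X → x ∈ D := by
  haveI : CompactSpace W.toScheme := isCompact_iff_compactSpace.mp hW
  obtain ⟨D₀, hdense, hsep⟩ := exists_dense_open_isSeparated W.toScheme
  refine ⟨W.ι ''ᵁ D₀, ?_, ?_, ?_⟩
  · rintro _ ⟨x, -, rfl⟩
    exact x.2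
  · haveI : QuasiSeparatedSpace D₀.toScheme := by
      rw [quasiSeparatedSpace_iff_quasiSeparated]
      infer_instance
    have h1 : IsQuasiSeparated (D₀ : Set W.toScheme) :=
      (isQuasiSeparated_iff_quasiSeparatedSpace _ D₀.isOpen).mpr this
    exact h1.image_of_isEmbedding W.ι.isOpenEmbedding.isEmbedding
  · intro x hxW hx
    refine mem_of_subset_closure_of_maximal hX W.2 (W.ι ''ᵁ D₀).2 ?_ hx hxW
    intro w hw
    have h1 : (⟨w, hw⟩ : W.toScheme) ∈ closure (D₀ : Set W.toScheme) := hdense _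
    have h2 := image_closure_subset_closure_image W.ι.continuous ⟨_, h1, rfl⟩
    exact h2

/-- **Generic finiteness over a dense open.** -/
theorem exists_dense_open_isFinite (f : X ⟶ Y) [LocallyOfFiniteType f] [QuasiCompact f]
    (hX : (irreducibleComponents ↥X).Finite)
    (hgen : ∀ x : X, closure {x} ∈ irreducibleComponents ↥X ↔
      closure {f x} ∈ irreducibleComponents ↥Y) :
    ∃ V : Y.Opens, Dense (V : Set Y) ∧ IsFinite (f ∣_ V) := by
  have key : ∀ η : Y, closure {η} ∈ irreducibleComponents ↥Y →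
      ∃ V : Y.Opens, η ∈ V ∧ IsFinite (f ∣_ V) := by
    intro η hη
    obtain ⟨_, ⟨V₀, hV₀, rfl⟩, hηV₀, -⟩ := Y.isBasis_affineOpens.exists_subset_of_mem_open
      (Set.mem_univ η) isOpen_univ
    have hW : IsCompact ((f ⁻¹ᵁ V₀ : X.Opens) : Set X) := f.isCompact_preimage hV₀.isCompact
    obtain ⟨D, -, hDqs, hDmax⟩ := exists_isQuasiSeparated_open_of_isCompact X hX _ hW
    have hmaxfib : ∀ x ∈ f ⁻¹' {η}, closure {x} ∈ irreducibleComponents ↥X := by
      intro x hx
      have hx' : f x = η := hx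
      exact (hgen x).mpr (hx' ▸ hη)
    have hfin : (f ⁻¹' {η}).Finite :=
      (finite_setOf_closure_mem_irreducibleComponents hX).subset hmaxfib
    have hfD : f ⁻¹' {η} ⊆ (D : Set X) := by
      intro x hx
      have hx' : f x = η := hx
      refine hDmax x ?_ (hmaxfib x hx)
      show f x ∈ V₀
      rw [hx']; exact hηV₀
    obtain ⟨V, -, hηV, -, hfinite⟩ :=
      exists_isFinite_morphismRestrict_of_finite_fiber' f hη hfin D hDqs hfD ⊤ trivial
    exact ⟨V, hηV, hfinite⟩
  choose Vf hVf using key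
  let V : Y.Opens := ⨆ η : {η : Y // closure {η} ∈ irreducibleComponents ↥Y}, Vf η.1 η.2
  refine ⟨V, ?_, isFinite_morphismRestrict_iSup f _ fun η => (hVf η.1 η.2).2⟩
  intro y
  obtain ⟨η, hη, hsp⟩ := exists_generic_specializes y
  have hηV : η ∈ (V : Set Y) := Opens.mem_iSup.mpr ⟨⟨η, hη⟩, (hVf η hη).1⟩
  exact closure_mono (Set.singleton_subset_iff.mpr hηV) (specializes_iff_mem_closure.mp hsp)

end Groth.Agent.H20
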