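import Mathlib
import Groth.Agent.H20.FlatReducedScheme
import Groth.Agent.H20.GenericFinite2
import Groth.Agent.H44.FlatGenFibre

/-!
# Flat morphisms with reduced generic fibres over a reduced base with finitely many components
-/

set_option autoImplicit false
universe u

namespace Groth.Agent.H20

open TensorProduct CategoryTheory CategoryTheory.Limits AlgebraicGeometry TopologicalSpace

variable {X Y : Scheme.{u}} (f : X ⟶ Y)

/-- The fibre datum over a prime of an affine open of the target (pointwise hypothesis). -/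
lemma exists_fibre_algebra_at [Flat f]
    {U : X.Opens} {V : Y.Opens} (hU : IsAffineOpen U) (hV : IsAffineOpen V) (e : U ≤ f ⁻¹ᵁ V)
    (P : Ideal Γ(Y, V)) (hP : P.IsPrime)
    (hfib : AlgebraicGeometry.IsReduced (f.fiber (hV.fromSpec ⟨P, hP⟩))) :
    letI := (f.appLE V U e).hom.toAlgebra
    ∃ (K : Type u) (_ : CommRing K) (_ : Algebra Γ(Y, V) K),
      RingHom.ker (algebraMap Γ(Y, V) K) ≤ P ∧ _root_.IsReduced (Γ(X, U) ⊗[Γ(Y, V)] K) := by
  letI := (f.appLE V U e).hom.toAlgebra
  let y' : Y := hV.fromSpec ⟨P, hP⟩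
  have hy'V : y' ∈ V := by
    have : y' ∈ Set.range hV.fromSpec := Set.mem_range_self _
    rwa [hV.range_fromSpec] at this
  have hUST : (⊤ : (Spec (Y.residueField y')).Opens) ≤ (Y.fromSpecResidueField y') ⁻¹ᵁ V := by
    intro t _
    change (Y.fromSpecResidueField y') t ∈ V
    rw [Scheme.fromSpecResidueField_apply]
    exact hy'V
  have H : IsPullback (f.fiberι y') (f.fiberToSpecResidueField y') f
      (Y.fromSpecResidueField y') := IsPullback.of_hasPullback _ _
  have hiso := isIso_pushoutSection_of_isAffineOpen H hUST e rfl hV (isAffineOpen_top _) hU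
  have hPO := (isIso_pushoutSection_iff H hUST e rfl).mp hiso
  haveI : AlgebraicGeometry.IsReduced (f.fiber y') := hfib
  refine ⟨Γ(Spec (Y.residueField y'), ⊤), inferInstance,
    ((Y.fromSpecResidueField y').appLE V ⊤ hUST).hom.toAlgebra, ?_, ?_⟩
  · intro a ha
    by_contra haP
    have ha0 : (Y.fromSpecResidueField y').appLE V ⊤ hUST a = 0 := ha
    have h1 := Scheme.basicOpen_appLE (Y.fromSpecResidueField y') ⊤ V hUST a
    rw [ha0, Scheme.basicOpen_zero] at h1
    have hmem : y' ∈ Y.basicOpen a := by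
      have : (⟨P, hP⟩ : PrimeSpectrum Γ(Y, V)) ∈ PrimeSpectrum.basicOpen a := haP
      rw [← hV.fromSpec_preimage_basicOpen] at this
      exact this
    have hne : Nonempty (Spec (Y.residueField y')) := inferInstance
    obtain ⟨t⟩ := hne
    have : t ∈ (⊤ : (Spec (Y.residueField y')).Opens) ⊓
        (Y.fromSpecResidueField y') ⁻¹ᵁ Y.basicOpen a := by
      refine ⟨trivial, ?_⟩
      change (Y.fromSpecResidueField y') t ∈ Y.basicOpen a
      rw [Scheme.fromSpecResidueField_apply]
      exact hmem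
    rw [← h1] at this
    exact this
  · exact isReduced_tensor_of_isPushout hPO

/-- The point of a minimal prime of an affine open is a maximal point of the scheme. -/
theorem closure_mem_irreducibleComponents_of_mem_minimalPrimes {V : Y.Opens}
    (hV : IsAffineOpen V) (P : Ideal Γ(Y, V)) (hP : P.IsPrime)
    (hPmin : P ∈ minimalPrimes Γ(Y, V)) :
    closure {hV.fromSpec ⟨P, hP⟩} ∈ irreducibleComponents ↥Y := by
  obtain ⟨x₂, hx₂, hsp⟩ := exists_generic_specializes (hV.fromSpec ⟨P, hP⟩)
  have hy'V : hV.fromSpec ⟨P, hP⟩ ∈ (V : Set Y) := by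
    have : hV.fromSpec ⟨P, hP⟩ ∈ Set.range hV.fromSpec := Set.mem_range_self _
    rwa [hV.range_fromSpec] at this
  have hx₂V : x₂ ∈ (V : Set Y) := hsp.mem_open V.2 hy'V
  obtain ⟨z, rfl⟩ : ∃ z : Spec Γ(Y, V), hV.fromSpec z = x₂ := by
    have : x₂ ∈ Set.range hV.fromSpec := by rw [hV.range_fromSpec]; exact hx₂V
    exact this
  have hsp' : z ⤳ (⟨P, hP⟩ : Spec Γ(Y, V)) :=
    (hV.fromSpec.isOpenEmbedding.isInducing.specializes_iff).mp hsp
  have hle : z.asIdeal ≤ P := (PrimeSpectrum.le_iff_specializes z ⟨P, hP⟩).mpr hsp'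
  have hge : P ≤ z.asIdeal := hPmin.2 ⟨z.2, bot_le⟩ hle
  have hz : z = ⟨P, hP⟩ := PrimeSpectrum.ext (le_antisymm hle hge)
  rw [← hz]
  exact hx₂

/-- **Reducedness from generic fibres**: a flat morphism to a reduced scheme with finitely many
irreducible components whose fibres over the maximal points are reduced has reduced source. -/
theorem isReduced_of_flat_of_reduced_generic_fibres [Flat f] [AlgebraicGeometry.IsReduced Y]
    (hfin : (irreducibleComponents ↥Y).Finite)
    (h : ∀ η : Y, closure {η} ∈ irreducibleComponents ↥Y → AlgebraicGeometry.IsReduced (f.fiber η)) :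
    AlgebraicGeometry.IsReduced X := by
  apply Groth.Agent.H44.isReduced_of_forall_exists_affine
  intro x
  obtain ⟨V, hV, hxV, -⟩ := exists_isAffineOpen_mem_and_subset (x := f x) (U := ⊤) trivial
  obtain ⟨U, hU, hxU, hUV⟩ := exists_isAffineOpen_mem_and_subset (x := x) (U := f ⁻¹ᵁ V) hxV
  refine ⟨U, hxU, hU, ?_⟩
  letI := (f.appLE V U hUV).hom.toAlgebra
  haveI : Module.Flat Γ(Y, V) Γ(X, U) :=
    HasRingHomProperty.appLE (P := @Flat) f inferInstance ⟨V, hV⟩ ⟨U, hU⟩ hUV
  have hminfin : (minimalPrimes Γ(Y, V)).Finite := by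
    classical
    refine Set.Finite.of_injOn (f := fun P : Ideal Γ(Y, V) =>
        if hP : P.IsPrime then hV.fromSpec ⟨P, hP⟩ else f x)
      (t := {y : Y | closure {y} ∈ irreducibleComponents ↥Y}) ?_ ?_
      (finite_setOf_closure_mem_irreducibleComponents hfin)
    · intro P hPmin
      have hP : P.IsPrime := hPmin.1.1
      simp only [dif_pos hP]
      exact closure_mem_irreducibleComponents_of_mem_minimalPrimes hV P hP hPmin
    · intro P hPmin Q hQmin hPQ
      have hP : P.IsPrime := hPmin.1.1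
      have hQ : Q.IsPrime := hQmin.1.1
      simp only [dif_pos hP, dif_pos hQ] at hPQ
      have := hV.fromSpec.isOpenEmbedding.injective hPQ
      exact congrArg PrimeSpectrum.asIdeal this
  haveI : Finite ↥(minimalPrimes Γ(Y, V)) := hminfin.to_subtype
  have hK : ∀ P : ↥(minimalPrimes Γ(Y, V)), ∃ (K : Type u) (_ : CommRing K)
      (_ : Algebra Γ(Y, V) K),
      RingHom.ker (algebraMap Γ(Y, V) K) ≤ P.1 ∧ _root_.IsReduced (Γ(X, U) ⊗[Γ(Y, V)] K) :=
    fun P => exists_fibre_algebra_at f hU hV hUV P.1 P.2.1.1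
      (h _ (closure_mem_irreducibleComponents_of_mem_minimalPrimes hV P.1 P.2.1.1 P.2))
  choose K instK algK hker hred using hK
  haveI : _root_.IsReduced Γ(Y, V) := inferInstance
  refine isReduced_of_flat_of_finite_family K ?_ hred
  intro a ha
  have ha0 : a = 0 := by
    have hnil : a ∈ nilradical Γ(Y, V) := by
      rw [nilradical_eq_sInf, Ideal.mem_sInf]
      intro p hp
      haveI : p.IsPrime := hp
      obtain ⟨q, hqmin, hqp⟩ := Ideal.exists_minimalPrimes_le (I := ⊥) (J := p) bot_le
      exact hqp (hker ⟨q, hqmin⟩ (ha ⟨q, hqmin⟩))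
    rw [nilradical_eq_zero] at hnil
    exact hnil
  rw [ha0, map_zero]

end Groth.Agent.H20
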