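import Mathlib
import Groth.Agent.H20.BiratPullback
import Groth.Agent.H20.FlatReducedGeneric

/-!
# A flat, separated, surjective, birational morphism of integral schemes is an isomorphism
(when affine or locally of finite presentation)
-/

set_option autoImplicit false
set_option linter.style.haveILetI false
set_option linter.unusedSectionVars false
universe u

open CategoryTheory CategoryTheory.Limits AlgebraicGeometry TopologicalSpace MorphismProperty

namespace Groth.Agent.H20.FlatBirat

/-- In an irreducible T0 quasi-sober space the only maximal point is the generic point. -/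
lemma closure_mem_irreducibleComponents_iff {T : Type*} [TopologicalSpace T] [IrreducibleSpace T]
    [QuasiSober T] [T0Space T] (x : T) :
    closure {x} ∈ irreducibleComponents T ↔ x = genericPoint T := by
  rw [irreducibleComponents_eq_singleton, Set.mem_singleton_iff]
  constructor
  · intro h
    have hg : IsGenericPoint x (Set.univ : Set T) := h
    exact hg.eq (genericPoint_spec T)
  · rintro rfl
    exact (genericPoint_spec T).def

variable {X' X : Scheme.{u}} (f : X' ⟶ X)

section

variable [IsIntegral X'] [IsIntegral X]

lemma map_genericPoint_of_surjective [Surjective f] : f (genericPoint ↥X') = genericPoint ↥X := by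
  have hg : IsGenericPoint (f (genericPoint ↥X')) (Set.univ : Set ↥X) := by
    rw [isGenericPoint_def]
    have h1 : f '' closure {genericPoint ↥X'} ⊆ closure {f (genericPoint ↥X')} :=
      (image_closure_subset_closure_image f.continuous).trans (by simp)
    rw [(genericPoint_spec ↥X').def, Set.image_univ, f.surjective.range_eq] at h1
    exact Set.eq_univ_of_univ_subset h1
  exact hg.eq (genericPoint_spec ↥X)

/-- The base change of `f` to the local ring of the generic point of the target is an
isomorphism. -/
lemma isIso_pullback_snd_generic [Surjective f] (hK : IsIso (f.stalkMap (genericPoint ↥X'))) :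
    IsIso (pullback.snd f (X.fromSpecStalk (f (genericPoint ↥X')))) := by
  apply Groth.Agent.H20.isIso_pullback_snd_fromSpecStalk_of_birational f
  · refine ⟨?_, ?_, ?_⟩
    · intro x hx
      rw [Set.mem_ofPred_eq, closure_mem_irreducibleComponents_iff] at hx ⊢
      rw [hx]; exact map_genericPoint_of_surjective f
    · intro x hx y hy _
      rw [Set.mem_ofPred_eq, closure_mem_irreducibleComponents_iff] at hx hy
      rw [hx, hy]
    · intro y hy
      rw [Set.mem_ofPred_eq, closure_mem_irreducibleComponents_iff] at hy
      refine ⟨genericPoint ↥X', ?_, ?_⟩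
      · rw [Set.mem_ofPred_eq, closure_mem_irreducibleComponents_iff]
      · rw [hy]; exact map_genericPoint_of_surjective f
  · intro x hx
    rw [closure_mem_irreducibleComponents_iff] at hx
    rw [hx]; exact hK
  · rw [closure_mem_irreducibleComponents_iff]
    exact map_genericPoint_of_surjective f

end

section

variable [IsIntegral X'] [IsIntegral X]

/-- Key: a flat, separated, surjective birational morphism of integral schemes is a
monomorphism. -/
theorem mono_of_flat_of_birational [Surjective f] [IsSeparated f] [Flat f]
    (hK : IsIso (f.stalkMap (genericPoint ↥X'))) : Mono f := by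
  let η' := genericPoint ↥X'
  let i := X.fromSpecStalk (f η')
  haveI hG : IsIso (pullback.snd f i) := isIso_pullback_snd_generic f hK
  let pr₁ := pullback.fst f f
  let pr₂ := pullback.snd f f
  let j' := X'.fromSpecResidueField η'
  let φ : X.presheaf.stalk (f η') ⟶ X'.residueField η' := f.stalkMap η' ≫ X'.residue η'
  have hjf : j' ≫ f = Spec.map φ ≫ i := by
    simp only [j', φ, i, Scheme.fromSpecResidueField, Spec.map_comp, Category.assoc,
      Scheme.SpecMap_stalkMap_fromSpecStalk]
  -- the generic fibre of `pr₂` is a point
  have hfib : IsIso (pr₂.fiberToSpecResidueField η') := by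
    have h1 : IsIso (pullback.snd f (Spec.map φ ≫ i)) := by
      have h0 : pullback.snd f (Spec.map φ ≫ i) = (pullbackLeftPullbackSndIso f i (Spec.map φ)).inv ≫
          pullback.snd (pullback.snd f i) (Spec.map φ) := by
        rw [Iso.eq_inv_comp]; exact pullbackLeftPullbackSndIso_hom_snd f i (Spec.map φ)
      rw [h0]
      infer_instance
    have h2 : IsIso (pullback.snd f (j' ≫ f)) := by rw [hjf]; exact h1
    change IsIso (pullback.snd (pullback.snd f f) j')
    rw [← pullbackLeftPullbackSndIso_hom_snd f f j']
    infer_instance
  haveI : AlgebraicGeometry.IsReduced (pr₂.fiber η') :=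
    isReduced_of_isOpenImmersion (pr₂.fiberToSpecResidueField η')
  -- `P` is reduced
  haveI hPred : AlgebraicGeometry.IsReduced (pullback f f) := by
    apply Groth.Agent.H20.isReduced_of_flat_of_reduced_generic_fibres pr₂
    · rw [irreducibleComponents_eq_singleton]; exact Set.finite_singleton _
    · intro η hη
      rw [closure_mem_irreducibleComponents_iff] at hη
      rw [hη]; infer_instance
  -- the generic fibre is dense
  haveI : IsDominant (pr₂.fiberι η') := by
    refine ⟨?_⟩
    rw [DenseRange, pr₂.range_fiberι η']
    intro w
    have hsp : η' ⤳ pr₂ w := genericPoint_specializes _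
    obtain ⟨w', hw'w, hw'⟩ := (Flat.generalizingMap pr₂) hsp
    have hmem : w' ∈ pr₂ ⁻¹' {η'} := hw'
    exact closure_mono (Set.singleton_subset_iff.mpr hmem) hw'w.mem_closure
  have hpr : pr₁ = pr₂ := by
    apply ext_of_isDominant_of_isSeparated f pullback.condition (pr₂.fiberι η')
    let c : pr₂.fiber η' ⟶ Spec (X.presheaf.stalk (f η')) :=
      pr₂.fiberToSpecResidueField η' ≫ Spec.map φ
    have hb : (pr₂.fiberι η' ≫ pr₂) ≫ f = c ≫ i := by
      have h0 : pr₂.fiberι η' ≫ pr₂ = pr₂.fiberToSpecResidueField η' ≫ j' := pullback.condition
      rw [h0, Category.assoc, hjf, Category.assoc]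
    have ha : (pr₂.fiberι η' ≫ pr₁) ≫ f = c ≫ i := by
      rw [Category.assoc, pullback.condition (f := f) (g := f), ← Category.assoc]; exact hb
    have h1 : pullback.lift (pr₂.fiberι η' ≫ pr₁) c ha =
        pullback.lift (pr₂.fiberι η' ≫ pr₂) c hb := by
      rw [← cancel_mono (pullback.snd f i), pullback.lift_snd, pullback.lift_snd]
    have h2 := congrArg (· ≫ pullback.fst f i) h1
    simp only [pullback.lift_fst] at h2
    exact h2
  refine ⟨fun {T} a b hab => ?_⟩
  have h1 : pullback.lift a b hab ≫ pr₁ = a := pullback.lift_fst ..
  have h2 : pullback.lift a b hab ≫ pr₂ = b := pullback.lift_snd ..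
  calc a = pullback.lift a b hab ≫ pr₁ := h1.symm
    _ = pullback.lift a b hab ≫ pr₂ := by rw [hpr]
    _ = b := h2

end

/-- A separated surjective birational morphism of integral schemes which is affine or locally of
finite presentation is flat iff it is an isomorphism. -/
theorem flat_iff_isIso [IsIntegral X'] [IsIntegral X] [Surjective f] [IsSeparated f]
    (hK : IsIso (f.stalkMap (genericPoint ↥X')))
    (h : IsAffineHom f ∨ LocallyOfFinitePresentation f) : Flat f ↔ IsIso f := by
  constructor
  · intro hfl
    haveI := mono_of_flat_of_birational f hK
    rcases h with h | h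
    · have hiso : (isomorphisms Scheme) f := by
        apply MorphismProperty.of_pullback_fst_of_descendsAlong (P := isomorphisms Scheme)
          (Q := @Surjective ⊓ @Flat ⊓ @QuasiCompact) (f := f) (g := f)
          ⟨⟨inferInstance, inferInstance⟩, inferInstance⟩
        exact (inferInstance : IsIso (pullback.fst f f))
      exact hiso
    · haveI := IsOpenImmersion.of_flat_of_mono f
      exact (isIso_iff_isOpenImmersion_and_surjective f).mpr ⟨inferInstance, inferInstance⟩
  · intro _
    infer_instance

end Groth.Agent.H20.FlatBirat
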