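import Mathlib.AlgebraicGeometry.IdealSheaf.Subscheme
import Mathlib.AlgebraicGeometry.Morphisms.Flat
import Mathlib.AlgebraicGeometry.Morphisms.ClosedImmersion
import Mathlib.RingTheory.Flat.TorsionFree
import Mathlib.RingTheory.Ideal.Colon

set_option autoImplicit false
universe u

namespace Groth.Agent.H20

open AlgebraicGeometry CategoryTheory TopologicalSpace

/-- Colon ideals by one element commute with localization. -/
theorem map_colon_singleton_of_isLocalization {B B' : Type*} [CommRing B] [CommRing B']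
    [Algebra B B'] (M : Submonoid B) [IsLocalization M B'] (I : Ideal B) (a : B) :
    (I.colon {a}).map (algebraMap B B') =
      (I.map (algebraMap B B')).colon {algebraMap B B' a} := by
  apply le_antisymm
  · rw [Ideal.map_le_iff_le_comap]
    intro b hb
    rw [Submodule.mem_colon_singleton] at hb
    rw [Ideal.mem_comap, Submodule.mem_colon_singleton, smul_eq_mul, ← map_mul]
    exact Ideal.mem_map_of_mem _ hb
  · intro x hx
    rw [Submodule.mem_colon_singleton, smul_eq_mul] at hx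
    obtain ⟨b, t, rfl⟩ := IsLocalization.exists_mk'_eq M x
    rw [mul_comm, IsLocalization.mul_mk'_eq_mk'_of_mul,
      IsLocalization.mk'_mem_map_algebraMap_iff] at hx
    obtain ⟨s, hs, hs'⟩ := hx
    rw [IsLocalization.mk'_mem_map_algebraMap_iff]
    refine ⟨s, hs, ?_⟩
    rw [Submodule.mem_colon_singleton, smul_eq_mul]
    convert hs' using 1
    ring

namespace Scheme

variable {X Y : Scheme.{u}}

/-- The colon ideal sheaf `(I : a)` of an ideal sheaf by a global section. -/
noncomputable def colonSection (I : Y.IdealSheafData) (a : Γ(Y, ⊤)) : Y.IdealSheafData where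
  ideal U := (I.ideal U).colon {(Y.presheaf.map (homOfLE (le_top : U.1 ≤ ⊤)).op).hom a}
  map_ideal_basicOpen U s := by
    have := U.2.isLocalization_basicOpen s
    have h1 := map_colon_singleton_of_isLocalization (B' := Γ(Y, Y.basicOpen s))
      (Submonoid.powers s) (I.ideal U) ((Y.presheaf.map (homOfLE (le_top : U.1 ≤ ⊤)).op).hom a)
    have h2 := I.map_ideal_basicOpen U s
    have h3 : algebraMap Γ(Y, U.1) Γ(Y, Y.basicOpen s) =
        (Y.presheaf.map (homOfLE (Y.basicOpen_le s)).op).hom := rfl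
    rw [h3] at h1
    rw [h1, h2]
    congr 2
    rw [← CommRingCat.comp_apply, ← Functor.map_comp]
    rfl

theorem mem_colonSection_ideal (I : Y.IdealSheafData) (a : Γ(Y, ⊤)) (U : Y.affineOpens)
    (b : Γ(Y, U.1)) : b ∈ (colonSection I a).ideal U ↔
      b * (Y.presheaf.map (homOfLE (le_top : U.1 ≤ ⊤)).op).hom a ∈ I.ideal U := by
  change b ∈ (I.ideal U).colon {(Y.presheaf.map (homOfLE (le_top : U.1 ≤ ⊤)).op).hom a} ↔ _
  rw [Submodule.mem_colon_singleton, smul_eq_mul]

/-- If a global section `a` of `Y` pulls back to a section of `X` acting injectively on all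
sections of `X` over opens, then the kernel ideal sheaf of `g : X ⟶ Y` is saturated with respect
to `a`. -/
theorem mem_ker_ideal_of_mul_mem (g : X ⟶ Y) (a : Γ(Y, ⊤))
    (hreg : ∀ (V : X.Opens) (c : Γ(X, V)),
      c * (X.presheaf.map (homOfLE (le_top : V ≤ ⊤)).op).hom (g.appTop.hom a) = 0 → c = 0)
    (U : Y.affineOpens) (b : Γ(Y, U.1))
    (hb : b * (Y.presheaf.map (homOfLE (le_top : U.1 ≤ ⊤)).op).hom a ∈ g.ker.ideal U) :
    b ∈ g.ker.ideal U := by
  have hle : colonSection g.ker a ≤ g.ker := by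
    unfold Scheme.Hom.ker
    rw [Scheme.IdealSheafData.le_ofIdeals_iff]
    intro V c hc
    rw [mem_colonSection_ideal] at hc
    have h1 := g.ideal_ker_le V hc
    rw [RingHom.mem_ker, map_mul] at h1
    rw [RingHom.mem_ker]
    apply hreg (g ⁻¹ᵁ V.1) _
    convert h1 using 2
    have := g.naturality (homOfLE (le_top : V.1 ≤ ⊤)).op
    exact (congrArg (fun φ => φ.hom a) this).symm
  exact hle U ((mem_colonSection_ideal _ _ _ _).mpr hb)

section Flat

variable {R : Type u} [CommRing R] [IsDomain R]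

/-- A nonzero element of a domain `R` is a nonzerodivisor on sections over affine opens of a flat
`R`-scheme. -/
theorem eq_zero_of_mul_eq_zero_of_flat_of_isAffineOpen (p : X ⟶ Spec (CommRingCat.of R)) [Flat p]
    {r : R} (hr : r ≠ 0) (U : X.Opens) (hU : IsAffineOpen U) (c : Γ(X, U))
    (hc : c * (X.presheaf.map (homOfLE (le_top : U ≤ ⊤)).op).hom
      (p.appTop.hom ((Scheme.ΓSpecIso (CommRingCat.of R)).inv.hom r)) = 0) : c = 0 := by
  set ϖ : Γ(Spec (CommRingCat.of R), ⊤) := (Scheme.ΓSpecIso (CommRingCat.of R)).inv.hom r with hϖ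
  have htU : (X.presheaf.map (homOfLE (le_top : U ≤ ⊤)).op).hom (p.appTop.hom ϖ) =
      (p.appLE ⊤ U le_top).hom ϖ := rfl
  rw [htU] at hc
  have hflat : (p.appLE ⊤ U le_top).hom.Flat :=
    HasRingHomProperty.appLE (P := @Flat) p inferInstance ⟨⊤, isAffineOpen_top _⟩ ⟨U, hU⟩ _
  algebraize [(p.appLE ⊤ U le_top).hom]
  have hϖreg : IsSMulRegular Γ(Spec (CommRingCat.of R), ⊤) ϖ := by
    intro a b hab
    have hab' : ϖ * a = ϖ * b := hab
    have h3 := congrArg (Scheme.ΓSpecIso (CommRingCat.of R)).hom.hom hab'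
    rw [map_mul, map_mul] at h3
    have h4 : (Scheme.ΓSpecIso (CommRingCat.of R)).hom.hom ϖ = r :=
      Iso.inv_hom_id_apply (Scheme.ΓSpecIso (CommRingCat.of R)) r
    rw [h4] at h3
    have h5 := mul_left_cancel₀ hr h3
    exact ((Scheme.ΓSpecIso (CommRingCat.of R)).commRingCatIsoToRingEquiv).injective h5
  have h6 : IsSMulRegular Γ(X, U) ((p.appLE ⊤ U le_top).hom ϖ) :=
    IsSMulRegular.of_flat hϖreg
  apply h6
  change (p.appLE ⊤ U le_top).hom ϖ * c = (p.appLE ⊤ U le_top).hom ϖ * 0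
  rw [mul_zero, mul_comm, hc]

/-- A nonzero element of a domain `R` is a nonzerodivisor on sections over any open of a flat
`R`-scheme. -/
theorem eq_zero_of_mul_eq_zero_of_flat (p : X ⟶ Spec (CommRingCat.of R)) [Flat p]
    {r : R} (hr : r ≠ 0) (V : X.Opens) (c : Γ(X, V))
    (hc : c * (X.presheaf.map (homOfLE (le_top : V ≤ ⊤)).op).hom
      (p.appTop.hom ((Scheme.ΓSpecIso (CommRingCat.of R)).inv.hom r)) = 0) : c = 0 := by
  apply TopCat.Presheaf.IsSheaf.section_ext X.IsSheaf (U := Opposite.op V)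
  intro x hx
  obtain ⟨W, hW, hxW, hWV⟩ := exists_isAffineOpen_mem_and_subset (x := x) (U := V) hx
  refine ⟨W, hWV, hxW, ?_⟩
  rw [map_zero]
  apply eq_zero_of_mul_eq_zero_of_flat_of_isAffineOpen p hr W hW
  have := congrArg (X.presheaf.map (homOfLE hWV).op).hom hc
  rw [map_mul, map_zero] at this
  have h2 : (X.presheaf.map (homOfLE hWV).op).hom
      ((X.presheaf.map (homOfLE (le_top : V ≤ ⊤)).op).hom
        (p.appTop.hom ((Scheme.ΓSpecIso (CommRingCat.of R)).inv.hom r))) =
      (X.presheaf.map (homOfLE (le_top : W ≤ ⊤)).op).hom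
        (p.appTop.hom ((Scheme.ΓSpecIso (CommRingCat.of R)).inv.hom r)) := by
    rw [← CommRingCat.comp_apply, ← Functor.map_comp]
    rfl
  rw [h2] at this
  exact this

end Flat

/-- The scheme-theoretic image of a flat scheme over a Dedekind domain is flat. -/
theorem flat_imageι_comp (R : Type u) [CommRing R] [IsDedekindDomain R]
    (p : X ⟶ Spec (CommRingCat.of R)) (q : Y ⟶ Spec (CommRingCat.of R))
    (f : X ⟶ Y) (w : f ≫ q = p) [Flat p] : Flat (f.imageι ≫ q) := by
  have haff : ∀ U : Y.affineOpens, IsAffineOpen (f.imageι ⁻¹ᵁ U.1) := fun U => U.2.preimage f.imageι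
  refine HasRingHomProperty.of_iSup_eq_top (P := @Flat)
    (fun U : Y.affineOpens => (⟨f.imageι ⁻¹ᵁ U.1, haff U⟩ : f.image.affineOpens)) ?_ ?_
  · rw [eq_top_iff]
    intro z _
    obtain ⟨U, hU, hzU, -⟩ := exists_isAffineOpen_mem_and_subset (x := f.imageι z) (U := ⊤) trivial
    exact Opens.mem_iSup.mpr ⟨⟨U, hU⟩, hzU⟩
  · intro U
    have hbij : Function.Bijective (Scheme.ΓSpecIso (CommRingCat.of R)).inv.hom :=
      ((Scheme.ΓSpecIso (CommRingCat.of R)).symm.commRingCatIsoToRingEquiv).bijective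
    change ((f.imageι ≫ q).appLE ⊤ (f.imageι ⁻¹ᵁ U.1) le_top).hom.Flat
    rw [← RingHom.Flat.comp_iff_of_bijective_right hbij]
    set φ : R →+* Γ(f.image, f.imageι ⁻¹ᵁ U.1) :=
      ((f.imageι ≫ q).appLE ⊤ (f.imageι ⁻¹ᵁ U.1) le_top).hom.comp
        (Scheme.ΓSpecIso (CommRingCat.of R)).inv.hom with hφ
    have hφr : ∀ r : R, φ r = (f.imageι.app U.1).hom
        ((Y.presheaf.map (homOfLE (le_top : U.1 ≤ ⊤)).op).hom
          (q.appTop.hom ((Scheme.ΓSpecIso (CommRingCat.of R)).inv.hom r))) := by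
      intro r
      have h1 := Scheme.Hom.appLE_comp_appLE f.imageι q ⊤ U.1 (f.imageι ⁻¹ᵁ U.1) le_top le_rfl
      have h2 : f.imageι.appLE U.1 (f.imageι ⁻¹ᵁ U.1) le_rfl = f.imageι.app U.1 :=
        (f.imageι.app_eq_appLE).symm
      rw [h2] at h1
      exact (congrArg (fun ψ => ψ.hom ((Scheme.ΓSpecIso (CommRingCat.of R)).inv.hom r)) h1).symm
    algebraize [φ]
    change Module.Flat R Γ(f.image, f.imageι ⁻¹ᵁ U.1)
    rw [IsDedekindDomain.flat_iff_torsion_eq_bot, Submodule.eq_bot_iff]
    intro z hz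
    rw [Submodule.mem_torsion_iff] at hz
    obtain ⟨⟨r, hr⟩, hrz⟩ := hz
    have hr0 : r ≠ 0 := nonZeroDivisors.ne_zero hr
    obtain ⟨b, rfl⟩ := f.ker.subschemeι_app_surjective U z
    change r • (f.imageι.app U.1).hom b = 0 at hrz
    rw [Algebra.smul_def] at hrz
    change φ r * (f.imageι.app U.1).hom b = 0 at hrz
    rw [hφr r, ← map_mul, ← RingHom.mem_ker, f.ker.ker_subschemeι_app U, mul_comm] at hrz
    have hb : b ∈ f.ker.ideal U := by
      refine mem_ker_ideal_of_mul_mem f _ ?_ U b hrz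
      intro V c hc
      apply eq_zero_of_mul_eq_zero_of_flat p hr0 V c
      convert hc using 4
      rw [← w]
      rfl
    change (f.imageι.app U.1).hom b = 0
    rw [← RingHom.mem_ker, f.ker.ker_subschemeι_app U]
    exact hb

end Scheme

end Groth.Agent.H20
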