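import Mathlib
import Groth.Agent.H20.ImageFlat

/-!
# The flat completion (closure of the generic fibre) over a Dedekind domain
-/

set_option autoImplicit false
set_option linter.style.haveILetI false
set_option linter.unusedSectionVars false
set_option linter.overlappingInstances false
universe u

open CategoryTheory CategoryTheory.Limits AlgebraicGeometry TopologicalSpace MorphismProperty

namespace Groth.Agent.H20.FlatCompletion

variable (A : Type u) [CommRing A] [IsDomain A]

/-- The generic point of `Spec A`, as a morphism from the spectrum of its residue field, is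
dominant. -/
lemma isDominant_fromSpecResidueField_generic (η : ↥(Spec (CommRingCat.of A)))
    (hη : η.asIdeal = ⊥) : IsDominant ((Spec (CommRingCat.of A)).fromSpecResidueField η) := by
  refine ⟨?_⟩
  rw [DenseRange, Scheme.range_fromSpecResidueField, dense_iff_closure_eq]
  let η' : PrimeSpectrum A := η
  have h : closure ({η'} : Set (PrimeSpectrum A)) = Set.univ := by
    rw [PrimeSpectrum.closure_singleton]
    change PrimeSpectrum.zeroLocus (η.asIdeal : Set A) = Set.univ
    rw [hη]
    exact PrimeSpectrum.zeroLocus_bot
  exact h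

/-- The generic point of the spectrum of a Dedekind domain, as a morphism from the spectrum of
its residue field, is flat. -/
lemma flat_fromSpecResidueField_generic [IsDedekindDomain A] (η : ↥(Spec (CommRingCat.of A)))
    (hη : η.asIdeal = ⊥) : Flat ((Spec (CommRingCat.of A)).fromSpecResidueField η) := by
  obtain ⟨φ, hφ⟩ := Spec.map_surjective ((Spec (CommRingCat.of A)).fromSpecResidueField η)
  rw [← hφ, HasRingHomProperty.Spec_iff (P := @Flat)]
  have hinj : Function.Injective φ.hom := by
    rw [RingHom.injective_iff_ker_eq_bot]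
    have h1 : (Spec.map φ) (IsLocalRing.closedPoint _) = η := by
      rw [hφ]; exact Scheme.fromSpecResidueField_apply _ _
    have h2 : ((Spec.map φ) (IsLocalRing.closedPoint _)).asIdeal = ⊥ :=
      (congrArg PrimeSpectrum.asIdeal h1).trans hη
    rw [← h2]
    change RingHom.ker φ.hom = Ideal.comap φ.hom (IsLocalRing.maximalIdeal _)
    rw [IsLocalRing.maximalIdeal_eq_bot]
    rfl
  algebraize [φ.hom]
  change Module.Flat A ((Spec (CommRingCat.of A)).residueField η)
  rw [IsDedekindDomain.flat_iff_torsion_eq_bot, Submodule.eq_bot_iff]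
  intro z hz
  rw [Submodule.mem_torsion_iff] at hz
  obtain ⟨⟨r, hr⟩, hrz⟩ := hz
  have hr0 : r ≠ 0 := nonZeroDivisors.ne_zero hr
  change r • z = 0 at hrz
  rw [Algebra.smul_def, mul_eq_zero] at hrz
  rcases hrz with h | h
  · exact absurd (hinj (h.trans (map_zero _).symm)) hr0
  · exact h

variable {A} [IsDedekindDomain A] {X : Scheme.{u}} (f : X ⟶ Spec (CommRingCat.of A))
  (η : ↥(Spec (CommRingCat.of A))) (hη : η.asIdeal = ⊥)

include hη in
/-- The flat completion is flat. -/
theorem flat_imageι_fiberι_comp : Flat ((f.fiberι η).imageι ≫ f) := by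
  haveI := flat_fromSpecResidueField_generic A η hη
  have hw : f.fiberι η ≫ f =
      f.fiberToSpecResidueField η ≫ (Spec (CommRingCat.of A)).fromSpecResidueField η :=
    pullback.condition
  haveI : Flat (f.fiberι η ≫ f) := by rw [hw]; infer_instance
  exact Groth.Agent.H20.Scheme.flat_imageι_comp A (f.fiberι η ≫ f) f (f.fiberι η) rfl

include hη in
/-- The flat completion is the largest flat closed subscheme. -/
theorem ker_fiberι_le_ker {Z : Scheme.{u}} (i : Z ⟶ X) [Flat (i ≫ f)] :
    (f.fiberι η).ker ≤ i.ker := by
  let j := (Spec (CommRingCat.of A)).fromSpecResidueField η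
  haveI := isDominant_fromSpecResidueField_generic A η hη
  haveI : IsSchemeTheoreticallyDominant j := IsSchemeTheoreticallyDominant.of_isDominant j
  let d := pullback.fst (i ≫ f) j
  haveI : IsSchemeTheoreticallyDominant d := inferInstance
  let t : pullback (i ≫ f) j ⟶ f.fiber η :=
    pullback.lift (d ≫ i) (pullback.snd (i ≫ f) j) (by
      rw [Category.assoc]; exact pullback.condition)
  have ht : t ≫ f.fiberι η = d ≫ i := pullback.lift_fst _ _ _
  calc (f.fiberι η).ker ≤ (t ≫ f.fiberι η).ker := t.le_ker_comp _
    _ = (d ≫ i).ker := by rw [ht]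
    _ = i.ker := by
      rw [Scheme.Hom.ker_comp, d.ker_eq_bot, Scheme.IdealSheafData.map_bot]

end Groth.Agent.H20.FlatCompletion
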