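import Groth.Agent.H24.ReducedAscent
import Mathlib.RingTheory.LocalProperties.Reduced
import Mathlib.RingTheory.Localization.BaseChange
import Mathlib.RingTheory.Localization.AtPrime.Basic
import Mathlib.RingTheory.Ideal.MinimalPrime.Noetherian
import Mathlib.RingTheory.Flat.Localization
import Mathlib.RingTheory.TensorProduct.Maps

set_option autoImplicit false
universe u

namespace Groth.Agent.H20

open TensorProduct

section General

variable {R T : Type*} [CommRing R] [CommRing T] [Algebra R T]

/-- A flat `R`-algebra `T` is reduced as soon as there is a finite family of `R`-algebras `K i` with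
`T ⊗ K i` reduced, such that every element of `R` killed in all `K i` is killed in `T`. -/
theorem isReduced_of_flat_of_finite_family [Module.Flat R T] {ι : Type*} [Finite ι]
    (K : ι → Type*) [∀ i, CommRing (K i)] [∀ i, Algebra R (K i)]
    (hker : ∀ a : R, (∀ i, algebraMap R (K i) a = 0) → algebraMap R T a = 0)
    (hred : ∀ i, IsReduced (T ⊗[R] K i)) : IsReduced T := by
  classical
  have := Fintype.ofFinite ι
  let ψ : R →ₗ[R] (∀ i, K i) := LinearMap.pi (fun i => Algebra.linearMap R (K i))
  let I : Submodule R R := LinearMap.ker ψ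
  have hexact : Function.Exact I.subtype ψ := by
    rw [LinearMap.exact_iff]
    exact (Submodule.range_subtype I).symm
  have hexact' := Module.Flat.lTensor_exact T hexact
  -- the multiplication map `T ⊗ R → T`
  let μ : T ⊗[R] R →ₗ[R] T := (TensorProduct.rid R T).toLinearMap
  have hμ : ∀ w : T ⊗[R] I, μ (I.subtype.lTensor T w) = 0 := by
    intro w
    induction w with
    | zero => simp
    | add x y hx hy => rw [map_add, map_add, hx, hy, add_zero]
    | tmul t a =>
      have ha : ∀ i, algebraMap R (K i) a.1 = 0 := by
        intro i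
        have := congrFun (LinearMap.mem_ker.mp a.2) i
        simpa [ψ] using this
      have h0 := hker a.1 ha
      simp only [LinearMap.lTensor_tmul, Submodule.subtype_apply, μ, LinearEquiv.coe_coe,
        TensorProduct.rid_tmul]
      rw [Algebra.smul_def, h0, zero_mul]
  let Ψ : T →+* (∀ i, T ⊗[R] K i) :=
    RingHom.pi (fun i =>
      (Algebra.TensorProduct.includeLeft : T →ₐ[R] T ⊗[R] K i).toRingHom)
  have hΨ : ∀ t, Ψ t = TensorProduct.piRight R R T (fun i => K i)
      (LinearMap.lTensor T ψ ((TensorProduct.rid R T).symm t)) := by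
    intro t
    funext i
    simp only [Ψ, ψ, RingHom.pi_apply, TensorProduct.rid_symm_apply, LinearMap.lTensor_tmul,
      TensorProduct.piRight_apply, TensorProduct.piRightHom_tmul, LinearMap.pi_apply,
      Algebra.linearMap_apply, map_one]
    rfl
  have hinj : Function.Injective Ψ := by
    rw [injective_iff_map_eq_zero]
    intro t ht
    rw [hΨ] at ht
    have h1 : LinearMap.lTensor T ψ ((TensorProduct.rid R T).symm t) = 0 := by
      apply (TensorProduct.piRight R R T (fun i => K i)).injective
      rw [ht, map_zero]
    obtain ⟨w, hw⟩ := (hexact' _).mp h1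
    have := hμ w
    rw [hw] at this
    simpa [μ] using this
  have := Groth.Agent.H24.isReduced_pi (fun i => T ⊗[R] K i)
  exact isReduced_of_injective Ψ hinj

end General

section Localization

variable {R S : Type u} [CommRing R] [CommRing S] [Algebra R S]

/-- If `S ⊗ K` is reduced then so is `S_q ⊗ K`. -/
theorem isReduced_localization_tensor (q : Ideal S) [q.IsPrime] (K : Type*) [CommRing K]
    [Algebra R K] [IsReduced (S ⊗[R] K)] : IsReduced (Localization.AtPrime q ⊗[R] K) := by
  let S' := S ⊗[R] K
  let Sq := Localization.AtPrime q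
  haveI : IsReduced (S' ⊗[S] Sq) :=
    isReduced_localizationPreserves (Algebra.algebraMapSubmonoid S' q.primeCompl) (S' ⊗[S] Sq)
      inferInstance
  let e1 : S' ⊗[S] Sq ≃ₐ[S] Sq ⊗[S] S' := Algebra.TensorProduct.comm S S' Sq
  let e2 : Sq ⊗[S] S' ≃ₐ[S] Sq ⊗[R] K := Algebra.TensorProduct.cancelBaseChange R S S Sq K
  let e := (e1.trans e2).symm
  exact isReduced_of_injective e.toRingEquiv.toRingHom e.injective

/-- The local ring `S_q` of a flat `R`-algebra `S` is reduced if `R_p` (`p = q ∩ R`) is reduced with
finitely many minimal primes and every prime `P` of `R` admits an `R`-algebra `K` with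
`ker (R → K) ≤ P` and `S ⊗ K` reduced (e.g. `K = κ(P)` when the fibre over `P` is reduced). -/
theorem isReduced_localization_of_flat_of_fibres [Module.Flat R S]
    (p : Ideal R) (q : Ideal S) [p.IsPrime] [q.IsPrime] [q.LiesOver p]
    [IsReduced (Localization.AtPrime p)] (hfin : (minimalPrimes (Localization.AtPrime p)).Finite)
    (hfib : ∀ P : Ideal R, P.IsPrime → ∃ (K : Type u) (_ : CommRing K) (_ : Algebra R K),
      RingHom.ker (algebraMap R K) ≤ P ∧ IsReduced (S ⊗[R] K)) :
    IsReduced (Localization.AtPrime q) := by
  let Rp := Localization.AtPrime p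
  let Sq := Localization.AtPrime q
  let := Localization.AtPrime.algebraOfLiesOver p q
  haveI : Module.Flat S Sq := IsLocalization.flat Sq q.primeCompl
  haveI : Module.Flat R Sq := Module.Flat.trans R S Sq
  let ι := {Q : Ideal Rp // Q ∈ minimalPrimes Rp}
  haveI : Finite ι := hfin
  have hprime : ∀ Q : ι, (Q.1.comap (algebraMap R Rp)).IsPrime := fun Q =>
    haveI : Q.1.IsPrime := Q.2.1.1
    Ideal.IsPrime.comap _
  choose K hK1 hK2 hker hred using fun Q : ι => hfib (Q.1.comap (algebraMap R Rp)) (hprime Q)
  letI := hK1
  letI := hK2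
  refine isReduced_of_flat_of_finite_family (R := R) (T := Sq) K ?_ ?_
  · intro a ha
    have h1 : algebraMap R Rp a ∈ sInf (minimalPrimes Rp) := by
      rw [Ideal.mem_sInf]
      intro Q hQ
      have : a ∈ RingHom.ker (algebraMap R (K ⟨Q, hQ⟩)) := ha ⟨Q, hQ⟩
      exact hker ⟨Q, hQ⟩ this
    have h2 : sInf (minimalPrimes Rp) = (⊥ : Ideal Rp) := by
      change sInf (⊥ : Ideal Rp).minimalPrimes = ⊥
      rw [Ideal.sInf_minimalPrimes]
      exact nilradical_eq_zero Rp
    rw [h2] at h1
    rw [IsScalarTower.algebraMap_apply R Rp Sq, (Ideal.mem_bot.mp h1), map_zero]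
  · intro Q
    haveI := hred Q
    exact isReduced_localization_tensor q (K Q)

end Localization

end Groth.Agent.H20
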