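import Mathlib
import Groth.Agent.H20.GenFibreImage

/-!
# The number of connected components of the fibres is generically at least that of the
generic fibre
-/

set_option autoImplicit false
set_option linter.style.haveILetI false
set_option linter.unusedSectionVars false
universe u

open TensorProduct CategoryTheory CategoryTheory.Limits AlgebraicGeometry TopologicalSpace

namespace Groth.Agent.H20.GenFibre

/-- A family of pairwise disjoint nonempty clopen subsets bounds the number of connected components
from below. -/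
lemma card_le_card_connectedComponents {F ι : Type*} [TopologicalSpace F] (D : ι → Set F)
    (hclopen : ∀ c, IsClopen (D c)) (hne : ∀ c, (D c).Nonempty)
    (hdisj : ∀ c c', c ≠ c' → Disjoint (D c) (D c')) :
    ENat.card ι ≤ ENat.card (_root_.ConnectedComponents F) := by
  choose z hz using hne
  apply ENat.card_le_card_of_injective (f := fun c => _root_.ConnectedComponents.mk (z c))
  intro c c' hcc
  by_contra hne
  have h1 : connectedComponent (z c) = connectedComponent (z c') :=
    _root_.ConnectedComponents.coe_eq_coe.mp hcc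
  have h2 : z c' ∈ connectedComponent (z c) := by rw [h1]; exact mem_connectedComponent
  have h3 : z c' ∈ D c := (hclopen c).connectedComponent_subset (hz c) h2
  exact Set.disjoint_left.mp (hdisj c c' hne) h3 (hz c')

variable {X Y : Scheme.{u}} (f : X ⟶ Y)

/-- Every nonempty open of an irreducible scheme contains the generic point; finite version. -/
lemma exists_open_le_of_finite [IrreducibleSpace ↥Y] {ι : Type*} [Finite ι] (V : ι → Y.Opens)
    (hV : ∀ i, ((V i : Y.Opens) : Set ↥Y).Nonempty) :
    ∃ W : Y.Opens, (W : Set ↥Y).Nonempty ∧ ∀ i, W ≤ V i := by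
  classical
  cases nonempty_fintype ι
  refine ⟨Finset.univ.inf V, ⟨genericPoint ↥Y, ?_⟩, fun i => Finset.inf_le (Finset.mem_univ i)⟩
  have : ∀ s : Finset ι, genericPoint ↥Y ∈ s.inf V := by
    intro s
    induction s using Finset.induction_on with
    | empty => simp
    | insert i s _ ih =>
      rw [Finset.inf_insert]
      exact ⟨genericPoint_mem_of_nonempty (hV i), ih⟩
  exact this _

/-- The image of a closed subset whose trace on the generic fibre is nonempty contains a nonempty
open. -/
theorem exists_open_subset_image_of_isClosed [IrreducibleSpace ↥Y] [LocallyOfFiniteType f]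
    (T : Set X) (hT : IsClosed T) (h : ∃ x ∈ T, f x = genericPoint ↥Y) :
    ∃ V : Y.Opens, (V : Set ↥Y).Nonempty ∧ ∀ y ∈ V, ∃ x ∈ T, f x = y := by
  let I := Scheme.IdealSheafData.vanishingIdeal ⟨T, hT⟩
  have hrange : Set.range I.subschemeι = T := by
    rw [Scheme.IdealSheafData.range_subschemeι]
    exact Scheme.IdealSheafData.coe_support_vanishingIdeal _
  obtain ⟨x, hxT, hfx⟩ := h
  obtain ⟨x', rfl⟩ : x ∈ Set.range I.subschemeι := by rw [hrange]; exact hxT
  obtain ⟨V, hVne, hV⟩ := exists_open_subset_range (I.subschemeι ≫ f) ⟨x', hfx⟩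
  refine ⟨V, hVne, fun y hy => ?_⟩
  obtain ⟨t, ht⟩ := hV hy
  exact ⟨I.subschemeι t, by rw [← hrange]; exact Set.mem_range_self t, ht⟩

/-- **Connected components of the fibres**: generically there are at least as many as on the
generic fibre. -/
theorem exists_open_card_connectedComponents_le [IrreducibleSpace ↥Y] [LocallyOfFiniteType f]
    [QuasiCompact f] (n : ℕ)
    (h : ENat.card (_root_.ConnectedComponents ↥(f.fiber (genericPoint ↥Y))) = n) :
    ∃ V : Y.Opens, (V : Set ↥Y).Nonempty ∧ ∀ y ∈ V,
      (n : ℕ∞) ≤ ENat.card (_root_.ConnectedComponents ↥(f.fiber y)) := by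
  classical
  let η := genericPoint ↥Y
  let p := f.fiberι η
  haveI hfin : Finite (_root_.ConnectedComponents ↥(f.fiber η)) := by
    rw [← ENat.card_lt_top, h]; exact ENat.natCast_lt_top n
  let C : _root_.ConnectedComponents ↥(f.fiber η) → Set ↥(f.fiber η) :=
    fun c => _root_.ConnectedComponents.mk ⁻¹' {c}
  have hCclosed : ∀ c, IsClosed (C c) := fun c =>
    ((isClopen_discrete {c}).preimage _root_.ConnectedComponents.continuous_coe).1
  have hCne : ∀ c, (C c).Nonempty := fun c =>
    (Set.singleton_nonempty c).preimage _root_.ConnectedComponents.surjective_coe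
  let T : _root_.ConnectedComponents ↥(f.fiber η) → Set X := fun c => closure (p '' C c)
  have hTclosed : ∀ c, IsClosed (T c) := fun c => isClosed_closure
  -- trace of `T c` on the generic fibre
  have htrace : ∀ c (z : ↥(f.fiber η)), p z ∈ T c → z ∈ C c := by
    intro c z hz
    have : z ∈ closure (C c) := by
      rw [p.isEmbedding.isInducing.closure_eq_preimage_closure_image]
      exact hz
    rwa [(hCclosed c).closure_eq] at this
  -- (a) the `T c` cover the preimage of an open
  obtain ⟨V₁, hV₁ne, hV₁⟩ := exists_open_preimage_subset_closure_fiber f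
  have hcover : ∀ x : X, f x ∈ V₁ → ∃ c, x ∈ T c := by
    intro x hx
    have h1 := hV₁ x hx
    have h2 : f ⁻¹' {η} = ⋃ c, p '' C c := by
      rw [← Set.image_iUnion, ← f.range_fiberι η, ← Set.image_univ]
      congr 1
      symm
      rw [Set.eq_univ_iff_forall]
      intro z
      exact Set.mem_iUnion.mpr ⟨_root_.ConnectedComponents.mk z, rfl⟩
    rw [h2, closure_iUnion_of_finite] at h1
    exact Set.mem_iUnion.mp h1
  -- (b) pairwise intersections miss the preimage of an open
  let Z : Set X := ⋃ q : {q : _root_.ConnectedComponents ↥(f.fiber η) × _root_.ConnectedComponents ↥(f.fiber η) //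
    q.1 ≠ q.2}, T q.1.1 ∩ T q.1.2
  have hZclosed : IsClosed Z := isClosed_iUnion_of_finite fun q =>
    (hTclosed q.1.1).inter (hTclosed q.1.2)
  have hZη : ∀ x ∈ Z, f x ≠ η := by
    intro x hx hfx
    obtain ⟨q, hq1, hq2⟩ := Set.mem_iUnion.mp hx
    obtain ⟨z, rfl⟩ : x ∈ Set.range p := by rw [f.range_fiberι]; exact hfx
    have h1 := htrace _ z hq1
    have h2 := htrace _ z hq2
    exact q.2 (h1.symm.trans h2)
  obtain ⟨V₂, hV₂ne, hV₂⟩ := exists_open_preimage_disjoint f Z hZclosed hZη
  -- (c) each `T c` surjects onto an open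
  have hsurj : ∀ c, ∃ V : Y.Opens, (V : Set ↥Y).Nonempty ∧ ∀ y ∈ V, ∃ x ∈ T c, f x = y := by
    intro c
    apply exists_open_subset_image_of_isClosed f (T c) (hTclosed c)
    obtain ⟨z, hz⟩ := hCne c
    refine ⟨p z, subset_closure (Set.mem_image_of_mem p hz), ?_⟩
    have := f.range_fiberι η ▸ Set.mem_range_self z
    exact this
  choose V₃ hV₃ne hV₃ using hsurj
  obtain ⟨V₃', hV₃'ne, hV₃'⟩ := exists_open_le_of_finite V₃ hV₃ne
  refine ⟨V₁ ⊓ V₂ ⊓ V₃', ⟨η, ⟨⟨genericPoint_mem_of_nonempty hV₁ne,
    genericPoint_mem_of_nonempty hV₂ne⟩, genericPoint_mem_of_nonempty hV₃'ne⟩⟩, ?_⟩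
  rintro y ⟨⟨hy₁, hy₂⟩, hy₃⟩
  let D : _root_.ConnectedComponents ↥(f.fiber η) → Set ↥(f.fiber y) := fun c => (f.fiberι y) ⁻¹' T c
  have hfz : ∀ z : ↥(f.fiber y), f (f.fiberι y z) = y := fun z => by
    have := f.range_fiberι y ▸ Set.mem_range_self z
    exact this
  have hDclosed : ∀ c, IsClosed (D c) := fun c => (hTclosed c).preimage (f.fiberι y).continuous
  have hDdisj : ∀ c c', c ≠ c' → Disjoint (D c) (D c') := by
    intro c c' hcc
    rw [Set.disjoint_left]
    intro z hz hz'
    apply hV₂ (f.fiberι y z) (Set.mem_iUnion.mpr ⟨⟨(c, c'), hcc⟩, hz, hz'⟩)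
    rw [hfz]; exact hy₂
  have hDcover : ∀ z, ∃ c, z ∈ D c := fun z => hcover (f.fiberι y z) (by rw [hfz]; exact hy₁)
  have hDopen : ∀ c, IsOpen (D c) := by
    intro c
    have : D c = (⋃ c' : {c' // c' ≠ c}, D c'.1)ᶜ := by
      ext z
      simp only [Set.mem_compl_iff, Set.mem_iUnion, not_exists]
      constructor
      · intro hz c' hz'
        exact Set.disjoint_left.mp (hDdisj c c'.1 c'.2.symm) hz hz'
      · intro hz
        obtain ⟨c', hc'⟩ := hDcover z
        by_cases hcc : c' = c
        · rw [← hcc]; exact hc'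
        · exact absurd hc' (hz ⟨c', hcc⟩)
    rw [this, isOpen_compl_iff]
    exact isClosed_iUnion_of_finite fun c' => hDclosed c'.1
  have hDne : ∀ c, (D c).Nonempty := by
    intro c
    obtain ⟨x, hxT, hfx⟩ := hV₃ c y (hV₃' c hy₃)
    obtain ⟨z, rfl⟩ : x ∈ Set.range (f.fiberι y) := by rw [f.range_fiberι]; exact hfx
    exact ⟨z, hxT⟩
  have := card_le_card_connectedComponents D (fun c => ⟨hDclosed c, hDopen c⟩) hDne hDdisj
  exact le_of_eq_of_le h.symm this

end Groth.Agent.H20.GenFibre
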