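import Mathlib
import Groth.Agent.H20.GenFibreImage

/-!
# Geometric non-reducedness of the generic fibre spreads out: algebra
-/

set_option autoImplicit false
set_option linter.style.haveILetI false
set_option linter.unusedSectionVars false
universe u

open TensorProduct

namespace Groth.Agent.H20.GenFibre

section

variable {A : Type u} [CommRing A] [IsDomain A]

/-- An element dying in `K ⊗ M`, for a field `K` containing the domain `A`, is torsion. -/
lemma exists_smul_eq_zero_of_one_tmul_eq_zero' (K : Type*) [Field K] [Algebra A K]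
    [FaithfulSMul A K] {M : Type*} [AddCommGroup M] [Module A M] {m : M}
    (h : (1 : K) ⊗ₜ[A] m = 0) : ∃ r : A, r ≠ 0 ∧ r • m = 0 := by
  letI := FractionRing.liftAlgebra A K
  haveI : IsScalarTower A (FractionRing A) K := FractionRing.isScalarTower_liftAlgebra A K
  apply exists_smul_eq_zero_of_one_tmul_eq_zero (FractionRing A)
  apply Module.FaithfullyFlat.tensorProduct_mk_injective (A := FractionRing A) (B := K)
  rw [map_zero, TensorProduct.mk_apply]
  apply (TensorProduct.AlgebraTensorModule.cancelBaseChange A (FractionRing A) K K M).injective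
  rw [map_zero, TensorProduct.AlgebraTensorModule.cancelBaseChange_tmul, one_smul]
  exact h

variable {B : Type u} [CommRing B] [Algebra A B] [Algebra.FiniteType A B]

/-- Non-reducedness witnessed by an element of `B` spreads out, for any field containing `A`. -/
theorem exists_not_isReduced_of_tmul (K : Type*) [Field K] [Algebra A K] [FaithfulSMul A K]
    (b : B) (hb0 : (1 : K) ⊗ₜ[A] b ≠ 0) (hbnil : IsNilpotent ((1 : K) ⊗ₜ[A] b)) :
    ∃ a : A, a ≠ 0 ∧ ∀ (k : Type u) [Field k] [Algebra A k], algebraMap A k a ≠ 0 →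
      ¬ IsReduced (k ⊗[A] B) := by
  have hinj := FaithfulSMul.algebraMap_injective A K
  have hsm : ∀ s : A, s ≠ 0 → ∀ t : K ⊗[A] B, t ≠ 0 → s • t ≠ 0 := by
    intro s hs t ht h0
    apply ht
    have hsK : algebraMap A K s ≠ 0 := (map_ne_zero_iff _ hinj).mpr hs
    have : (algebraMap A K s) • t = 0 := by rw [algebraMap_smul]; exact h0
    rcases smul_eq_zero.mp this with h | h
    · exact absurd h hsK
    · exact h
  obtain ⟨n, hn⟩ := hbnil
  rw [Algebra.TensorProduct.tmul_pow, one_pow] at hn
  obtain ⟨r, hr, hrb⟩ := exists_smul_eq_zero_of_one_tmul_eq_zero' K hn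
  have hb' : (r • b) ^ n = 0 := by
    cases n with
    | zero =>
      exfalso
      rw [pow_zero] at hrb
      have hrb0 : r • b = 0 := by rw [← one_mul b, ← smul_mul_assoc, hrb, zero_mul]
      have : r • ((1 : K) ⊗ₜ[A] b) = 0 := by
        rw [← TensorProduct.tmul_smul, hrb0, TensorProduct.tmul_zero]
      exact hsm r hr _ hb0 this
    | succ n =>
      rw [smul_pow, pow_succ r n, mul_smul, hrb, smul_zero]
  have hx : ∀ s' : A, s' ≠ 0 → s' • (r • b) ≠ 0 := by
    intro s' hs' h0
    have : (s' * r) • ((1 : K) ⊗ₜ[A] b) = 0 := by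
      rw [← TensorProduct.tmul_smul, mul_smul, h0, TensorProduct.tmul_zero]
    exact hsm _ (mul_ne_zero hs' hr) _ hb0 this
  obtain ⟨a, ha, hak⟩ := exists_one_tmul_ne_zero (r • b) hx
  refine ⟨a, ha, fun k _ _ hk hred => ?_⟩
  have h1 := hak k hk
  apply h1
  apply hred.eq_zero
  refine ⟨n, ?_⟩
  rw [Algebra.TensorProduct.tmul_pow, one_pow, hb', TensorProduct.tmul_zero]

end

/-- Over a nonempty open of `Spec A`, field points lift to field points of `A'[1/a']`, for a
finite type extension of domains `A ⊆ A'` and `a' ≠ 0`. -/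
theorem exists_field_ext {A : Type u} [CommRing A] [IsDomain A] (A' : Type u) [CommRing A']
    [IsDomain A'] [Algebra A A'] [Algebra.FiniteType A A'] [FaithfulSMul A A'] (a' : A')
    (ha' : a' ≠ 0) :
    ∃ a : A, a ≠ 0 ∧ ∀ (k : Type u) [Field k] [Algebra A k], algebraMap A k a ≠ 0 →
      ∃ (L : Type u) (_ : Field L) (_ : Algebra A L) (_ : Algebra k L) (_ : Algebra A' L),
        IsScalarTower A k L ∧ IsScalarTower A A' L ∧ algebraMap A' L a' ≠ 0 := by
  let B'' := Localization.Away a'
  have hle : Submonoid.powers a' ≤ nonZeroDivisors A' :=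
    powers_le_nonZeroDivisors_of_noZeroDivisors ha'
  have hinj' : Function.Injective (algebraMap A' B'') := IsLocalization.injective _ hle
  have hinj : Function.Injective (algebraMap A B'') := by
    rw [IsScalarTower.algebraMap_eq A A' B'']
    exact hinj'.comp (FaithfulSMul.algebraMap_injective A A')
  haveI : IsDomain B'' := IsLocalization.isDomain_localization hle
  haveI : Algebra.FinitePresentation A' B'' := IsLocalization.Away.finitePresentation a'
  haveI : Algebra.FiniteType A' B'' := Algebra.FiniteType.of_finitePresentation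
  haveI : Algebra.FiniteType A B'' := Algebra.FiniteType.trans (S := A') inferInstance inferInstance
  have hnt : Nontrivial (FractionRing A ⊗[A] B'') := by
    refine ⟨⟨1, 0, fun h => ?_⟩⟩
    rw [Algebra.TensorProduct.one_def] at h
    obtain ⟨r, hr, hr1⟩ := exists_smul_eq_zero_of_one_tmul_eq_zero (FractionRing A) h
    apply hr
    apply hinj
    rw [map_zero, Algebra.algebraMap_eq_smul_one]
    exact hr1
  obtain ⟨a, ha, hak⟩ := exists_nontrivial (A := A) (B := B'') (FractionRing A) hnt
  refine ⟨a, ha, fun k _ _ hk => ?_⟩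
  haveI := hak k hk
  obtain ⟨m, hm⟩ := Ideal.exists_maximal (k ⊗[A] B'')
  letI : Field ((k ⊗[A] B'') ⧸ m) := Ideal.Quotient.field m
  let φ : A' →+* (k ⊗[A] B'') ⧸ m :=
    (Ideal.Quotient.mk m).comp ((Algebra.TensorProduct.includeRight :
      B'' →ₐ[A] k ⊗[A] B'').toRingHom.comp (algebraMap A' B''))
  refine ⟨(k ⊗[A] B'') ⧸ m, inferInstance, inferInstance, inferInstance, φ.toAlgebra,
    inferInstance, ?_, ?_⟩
  · letI := φ.toAlgebra
    refine IsScalarTower.of_algebraMap_eq fun x => ?_
    change Ideal.Quotient.mk m (algebraMap A (k ⊗[A] B'') x) =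
      Ideal.Quotient.mk m ((1 : k) ⊗ₜ[A] (algebraMap A' B'' (algebraMap A A' x)))
    congr 1
    rw [← IsScalarTower.algebraMap_apply A A' B'', Algebra.TensorProduct.algebraMap_apply,
      Algebra.algebraMap_eq_smul_one, Algebra.algebraMap_eq_smul_one (A := B''),
      TensorProduct.smul_tmul]
  · letI := φ.toAlgebra
    have hu : IsUnit (algebraMap A' B'' a') := IsLocalization.Away.algebraMap_isUnit a'
    have hu' : IsUnit (φ a') := by
      have := hu.map ((Ideal.Quotient.mk m).comp ((Algebra.TensorProduct.includeRight :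
        B'' →ₐ[A] k ⊗[A] B'').toRingHom))
      exact this
    exact hu'.ne_zero

/-- **Geometric non-reducedness spreads out** (domain case): if `K ⊗[A] B` is not reduced for
some field `K` containing `A`, then over a nonempty open of `Spec A` every field point has a field
extension over which the fibre is not reduced. -/
theorem exists_geom_not_isReduced {A B : Type u} [CommRing A] [IsDomain A] [CommRing B]
    [Algebra A B] [Algebra.FiniteType A B] (K : Type u) [Field K] [Algebra A K]
    [FaithfulSMul A K] (h : ¬ IsReduced (K ⊗[A] B)) :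
    ∃ a : A, a ≠ 0 ∧ ∀ (k : Type u) [Field k] [Algebra A k], algebraMap A k a ≠ 0 →
      ∃ (L : Type u) (_ : Field L) (_ : Algebra A L) (_ : Algebra k L),
        IsScalarTower A k L ∧ ¬ IsReduced (L ⊗[A] B) := by
  classical
  rw [isReduced_iff] at h
  push Not at h
  obtain ⟨t, htnil, ht0⟩ := h
  obtain ⟨S, hS⟩ := TensorProduct.exists_finset t
  let A' : Subalgebra A K := Algebra.adjoin A ((S.image Prod.fst : Finset K) : Set K)
  have hmem : ∀ i ∈ S, i.1 ∈ A' := fun i hi =>
    Algebra.subset_adjoin (Finset.mem_coe.mpr (Finset.mem_image_of_mem Prod.fst hi))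
  haveI : Algebra.FiniteType A ↥A' :=
    (Subalgebra.fg_iff_finiteType _).mp (Subalgebra.fg_adjoin_finset _)
  haveI : FaithfulSMul A ↥A' := by
    rw [faithfulSMul_iff_algebraMap_injective]
    intro x y hxy
    apply FaithfulSMul.algebraMap_injective A K
    have := congrArg (algebraMap ↥A' K) hxy
    rwa [← IsScalarTower.algebraMap_apply, ← IsScalarTower.algebraMap_apply] at this
  haveI : FaithfulSMul ↥A' K := by
    rw [faithfulSMul_iff_algebraMap_injective]
    exact Subtype.val_injective
  let t₀ : ↥A' ⊗[A] B := ∑ i ∈ S.attach, (⟨i.1.1, hmem i.1 i.2⟩ : ↥A') ⊗ₜ[A] i.1.2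
  let e := Algebra.TensorProduct.cancelBaseChange A ↥A' K K B
  have het : e ((1 : K) ⊗ₜ[↥A'] t₀) = t := by
    rw [hS, ← Finset.sum_attach S]
    simp only [t₀, TensorProduct.tmul_sum, map_sum]
    refine Finset.sum_congr rfl fun i _ => ?_
    rw [Algebra.TensorProduct.cancelBaseChange_tmul]
    congr 1
    rw [Algebra.smul_def, mul_one]
    rfl
  have h1 : (1 : K) ⊗ₜ[↥A'] t₀ ≠ 0 := by
    intro h0
    apply ht0
    rw [← het, h0, map_zero]
  have h2 : IsNilpotent ((1 : K) ⊗ₜ[↥A'] t₀) := by
    have : (1 : K) ⊗ₜ[↥A'] t₀ = e.symm t := by rw [← het, AlgEquiv.symm_apply_apply]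
    rw [this]
    exact htnil.map e.symm
  obtain ⟨a', ha', hk'⟩ := exists_not_isReduced_of_tmul (A := ↥A') (B := ↥A' ⊗[A] B) K t₀ h1 h2
  obtain ⟨a, ha, hk⟩ := exists_field_ext (A := A) ↥A' a' ha'
  refine ⟨a, ha, fun k _ _ hak => ?_⟩
  obtain ⟨L, hLf, hLA, hLk, hLA', hst, hst', hLa'⟩ := hk k hak
  refine ⟨L, hLf, hLA, hLk, hst, fun hred => ?_⟩
  apply hk' L hLa'
  let e' := Algebra.TensorProduct.cancelBaseChange A ↥A' L L B
  exact isReduced_of_injective e'.toRingEquiv.toRingHom e'.injective

/-- **Geometric non-reducedness spreads out** (irreducible base). -/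
theorem exists_geom_not_isReduced' {A B : Type u} [CommRing A] [CommRing B]
    [Algebra A B] [Algebra.FiniteType A B] (hnil : (nilradical A).IsPrime) (K : Type u) [Field K]
    [Algebra A K] (hker : ∀ a : A, algebraMap A K a = 0 → IsNilpotent a)
    (h : ¬ IsReduced (K ⊗[A] B)) :
    ∃ a : A, a ∉ nilradical A ∧ ∀ (k : Type u) [Field k] [Algebra A k], algebraMap A k a ≠ 0 →
      ∃ (L : Type u) (_ : Field L) (_ : Algebra A L) (_ : Algebra k L),
        IsScalarTower A k L ∧ ¬ IsReduced (L ⊗[A] B) := by
  haveI : IsDomain (A ⧸ nilradical A) := Ideal.Quotient.isDomain _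
  letI := algebraQuotNil (A := A) K
  haveI := isScalarTower_quotNil (A := A) K
  haveI : FaithfulSMul (A ⧸ nilradical A) K := by
    rw [faithfulSMul_iff_algebraMap_injective, injective_iff_map_eq_zero]
    intro x hx
    obtain ⟨a, rfl⟩ := Ideal.Quotient.mk_surjective x
    have : algebraMap A K a = 0 := hx
    exact Ideal.Quotient.eq_zero_iff_mem.mpr (mem_nilradical.mpr (hker a this))
  have h' : ¬ IsReduced (K ⊗[A ⧸ nilradical A] ((A ⧸ nilradical A) ⊗[A] B)) := by
    intro hred
    apply h
    let e := Algebra.TensorProduct.cancelBaseChange A (A ⧸ nilradical A) K K B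
    exact isReduced_of_injective e.symm.toRingEquiv.toRingHom e.symm.injective
  obtain ⟨a₀, ha₀, hk⟩ := exists_geom_not_isReduced (A := A ⧸ nilradical A)
    (B := (A ⧸ nilradical A) ⊗[A] B) K h'
  obtain ⟨a, rfl⟩ := Ideal.Quotient.mk_surjective a₀
  refine ⟨a, fun ha => ha₀ (Ideal.Quotient.eq_zero_iff_mem.mpr ha), fun k _ _ hak => ?_⟩
  letI := algebraQuotNil (A := A) k
  haveI := isScalarTower_quotNil (A := A) k
  obtain ⟨L, hLf, hLA₀, hLk, hst, hnr⟩ := hk k hak
  letI : Algebra A L := ((algebraMap (A ⧸ nilradical A) L).comp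
    (algebraMap A (A ⧸ nilradical A))).toAlgebra
  haveI hst₀ : IsScalarTower A (A ⧸ nilradical A) L := IsScalarTower.of_algebraMap_eq fun _ => rfl
  have hst' : IsScalarTower A k L := by
    refine IsScalarTower.of_algebraMap_eq fun x => ?_
    change algebraMap (A ⧸ nilradical A) L (algebraMap A (A ⧸ nilradical A) x) = _
    rw [IsScalarTower.algebraMap_apply (A ⧸ nilradical A) k L,
      ← IsScalarTower.algebraMap_apply A (A ⧸ nilradical A) k]
  refine ⟨L, hLf, inferInstance, hLk, hst', fun hred => ?_⟩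
  apply hnr
  let e := Algebra.TensorProduct.cancelBaseChange A (A ⧸ nilradical A) L L B
  exact isReduced_of_injective e.toRingEquiv.toRingHom e.injective

end Groth.Agent.H20.GenFibre
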