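import Mathlib
import Groth.Agent.H20.GenFibreGeomRedAlg
import Groth.Agent.H44.FlatGenFibre

/-!
# Geometric non-reducedness of the generic fibre spreads out
-/

set_option autoImplicit false
set_option linter.style.haveILetI false
set_option linter.unusedSectionVars false
universe u

open TensorProduct CategoryTheory CategoryTheory.Limits AlgebraicGeometry TopologicalSpace

namespace Groth.Agent.H20.GenFibre

/-- Sections of a base change to a field point over the trace of an affine open. -/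
theorem exists_pullback_ringEquiv {X Y Z : Scheme.{u}} (f : X ⟶ Y) (K : Type u) [Field K]
    (t : Spec (.of K) ⟶ Y) {g' : Z ⟶ X} {q : Z ⟶ Spec (.of K)} (H : IsPullback g' q f t)
    {U : X.Opens} {V : Y.Opens} (hU : IsAffineOpen U) (hV : IsAffineOpen V)
    (hUV : U ≤ f ⁻¹ᵁ V) (hT : (⊤ : (Spec (.of K)).Opens) ≤ t ⁻¹ᵁ V)
    [Algebra Γ(Y, V) K]
    (hcompat : algebraMap Γ(Y, V) K =
      (t.appLE V ⊤ hT ≫ (Scheme.ΓSpecIso (.of K)).hom).hom) :
    letI := (f.appLE V U hUV).hom.toAlgebra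
    IsAffineOpen (g' ⁻¹ᵁ U) ∧ Nonempty (K ⊗[Γ(Y, V)] Γ(X, U) ≃+* Γ(Z, g' ⁻¹ᵁ U)) := by
  let _ : Algebra Γ(Y, V) Γ(X, U) := (f.appLE V U hUV).hom.toAlgebra
  have hTaff : IsAffineOpen (⊤ : (Spec (.of K)).Opens) := isAffineOpen_top _
  have hUY : g' ⁻¹ᵁ U = g' ⁻¹ᵁ U ⊓ q ⁻¹ᵁ ⊤ := by simp
  have haff : IsAffineOpen (g' ⁻¹ᵁ U) := by
    have : IsAffine (V : Scheme.{u}) := hV
    have : IsAffine ((⊤ : (Spec (.of K)).Opens) : Scheme.{u}) := hTaff
    have : IsAffine (U : Scheme.{u}) := hU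
    exact IsAffine.of_isIso (Scheme.Hom.isPullback_resLE H hT hUV hUY).isoPullback.hom
  refine ⟨haff, ?_⟩
  have hpo : IsPushout (f.appLE V U hUV) (t.appLE V ⊤ hT)
      (g'.appLE U (g' ⁻¹ᵁ U) le_rfl) (q.appLE ⊤ (g' ⁻¹ᵁ U) (by simp)) := by
    have := isIso_pushoutSection_of_isAffineOpen H hT hUV hUY hV hTaff hU
    exact (isIso_pushoutSection_iff H hT hUV hUY).mp this
  let e₃ := Scheme.ΓSpecIso (.of K)
  have hpo' : IsPushout (f.appLE V U hUV) (t.appLE V ⊤ hT ≫ e₃.hom)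
      (g'.appLE U (g' ⁻¹ᵁ U) le_rfl) (e₃.inv ≫ q.appLE ⊤ (g' ⁻¹ᵁ U) (by simp)) := by
    refine IsPushout.of_iso hpo (Iso.refl _) (Iso.refl _) e₃ (Iso.refl _) ?_ ?_ ?_ ?_
    · simp
    · simp
    · simp
    · simp
  have hmap : CommRingCat.ofHom (algebraMap Γ(Y, V) K) = t.appLE V ⊤ hT ≫ e₃.hom :=
    CommRingCat.hom_ext hcompat
  let _ : Algebra Γ(X, U) Γ(Z, g' ⁻¹ᵁ U) := (g'.appLE U (g' ⁻¹ᵁ U) le_rfl).hom.toAlgebra
  let _ : Algebra K Γ(Z, g' ⁻¹ᵁ U) :=
    (e₃.inv ≫ q.appLE ⊤ (g' ⁻¹ᵁ U) (by simp)).hom.toAlgebra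
  let _ : Algebra Γ(Y, V) Γ(Z, g' ⁻¹ᵁ U) :=
    ((f.appLE V U hUV) ≫ (g'.appLE U (g' ⁻¹ᵁ U) le_rfl)).hom.toAlgebra
  have t1 : IsScalarTower Γ(Y, V) Γ(X, U) Γ(Z, g' ⁻¹ᵁ U) :=
    IsScalarTower.of_algebraMap_eq fun r => rfl
  have t2 : IsScalarTower Γ(Y, V) K Γ(Z, g' ⁻¹ᵁ U) := by
    refine IsScalarTower.of_algebraMap_eq fun r => ?_
    have h1 := congr($(hpo'.w).hom r)
    rw [← hmap] at h1
    exact h1
  have hpo'' : Algebra.IsPushout Γ(Y, V) Γ(X, U) K Γ(Z, g' ⁻¹ᵁ U) := by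
    rw [← CommRingCat.isPushout_iff_isPushout]
    rw [hmap]
    exact hpo'
  let e₁ := Algebra.IsPushout.equiv Γ(Y, V) Γ(X, U) K Γ(Z, g' ⁻¹ᵁ U)
  let e₂ := Algebra.TensorProduct.comm Γ(Y, V) K Γ(X, U)
  exact ⟨e₂.toRingEquiv.trans e₁.toRingEquiv⟩

variable {X Y : Scheme.{u}} (f : X ⟶ Y)

/-- Compatibility of the algebra structure of a field extension of a residue field with the
composite point. -/
lemma algebraMap_eq_appLE_comp (y : Y) {V : Y.Opens} (hy : y ∈ V) (L : Type u) [Field L]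
    [Algebra (Y.residueField y) L]
    (hT : (⊤ : (Spec (.of L)).Opens) ≤
      (Spec.map (CommRingCat.ofHom (algebraMap (Y.residueField y) L)) ≫
        Y.fromSpecResidueField y) ⁻¹ᵁ V) :
    ((Spec.map (CommRingCat.ofHom (algebraMap (Y.residueField y) L)) ≫
        Y.fromSpecResidueField y).appLE V ⊤ hT ≫ (Scheme.ΓSpecIso (.of L)).hom).hom =
      (algebraMap (Y.residueField y) L).comp (Y.evaluation V y hy).hom := by
  have h1 := top_le_preimage_fromSpecResidueField y hy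
  have h2 : (⊤ : (Spec (.of L)).Opens) ≤
      (Spec.map (CommRingCat.ofHom (algebraMap (Y.residueField y) L))) ⁻¹ᵁ ⊤ := le_top
  have key := Scheme.Hom.appLE_comp_appLE
    (Spec.map (CommRingCat.ofHom (algebraMap (Y.residueField y) L)))
    (Y.fromSpecResidueField y) V ⊤ ⊤ h1 h2
  rw [← key, Groth.Agent.H20.fromSpecResidueField_appLE y V hy h1]
  have e2 : (Spec.map (CommRingCat.ofHom (algebraMap (Y.residueField y) L))).appLE ⊤ ⊤ h2 =
      (Spec.map (CommRingCat.ofHom (algebraMap (Y.residueField y) L))).appTop := by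
    rw [Scheme.Hom.appLE]
    have hid : (Spec (.of L)).presheaf.map (homOfLE h2).op = 𝟙 _ :=
      Groth.Agent.H20.presheaf_map_endo_eq_id (X := Spec (.of L)) (U := ⊤) _
    rw [hid]
    exact Category.comp_id _
  rw [e2]
  simp only [Category.assoc]
  rw [Scheme.ΓSpecIso_naturality]
  have hiso : (Scheme.ΓSpecIso (CommRingCat.of ↑(Y.residueField y))) =
      Scheme.ΓSpecIso (Y.residueField y) := rfl
  rw [hiso, Iso.inv_hom_id_assoc]
  rfl

/-- **Geometric non-reducedness of the generic fibre spreads out.** -/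
theorem exists_open_not_geometricallyReduced_fiber [IrreducibleSpace ↥Y] [LocallyOfFiniteType f]
    (h : ¬ GeometricallyReduced (f.fiberToSpecResidueField (genericPoint ↥Y))) :
    ∃ V : Y.Opens, (V : Set ↥Y).Nonempty ∧ ∀ y ∈ V,
      ¬ GeometricallyReduced (f.fiberToSpecResidueField y) := by
  let η := genericPoint ↥Y
  obtain ⟨_, ⟨V₀, hV₀, rfl⟩, hηV, -⟩ :=
    Y.isBasis_affineOpens.exists_subset_of_mem_open (Set.mem_univ η) isOpen_univ
  have hV₀ : IsAffineOpen V₀ := hV₀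
  have hηV : η ∈ V₀ := hηV
  have hnil := nilradical_isPrime_of_isAffineOpen hV₀ hηV
  rw [geometricallyReduced_iff] at h
  unfold geometrically at h
  push Not at h
  obtain ⟨K, hK, s, Z, fst, snd, hpb, hZ⟩ := h
  have H := hpb.paste_horiz (IsPullback.of_hasPullback f (Y.fromSpecResidueField η))
  let t : Spec (.of K) ⟶ Y := s ≫ Y.fromSpecResidueField η
  have ht : ∀ w, t w = η := fun w => by
    change (Y.fromSpecResidueField η) (s w) = η
    exact Scheme.fromSpecResidueField_apply _ _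
  have hT : (⊤ : (Spec (.of K)).Opens) ≤ t ⁻¹ᵁ V₀ := by
    intro w _
    change t w ∈ V₀
    rw [ht]; exact hηV
  let g' : Z ⟶ X := fst ≫ pullback.fst f (Y.fromSpecResidueField η)
  -- a point of `Z` without reduced affine neighbourhoods
  have hex : ∃ z : Z, ∀ W : Z.Opens, z ∈ W → IsAffineOpen W →
      ¬ _root_.IsReduced Γ(Z, W) := by
    by_contra hcon
    push Not at hcon
    apply hZ
    apply Groth.Agent.H44.isReduced_of_forall_exists_affine
    intro z
    obtain ⟨W, hzW, hW, hred⟩ := hcon z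
    exact ⟨W, hzW, hW, hred⟩
  obtain ⟨z, hz⟩ := hex
  have hfz : f (g' z) = η := by
    have h1 : g' ≫ f = snd ≫ t := H.w
    have h2 : f (g' z) = t (snd z) := by
      change (g' ≫ f) z = (snd ≫ t) z
      rw [h1]
    rw [h2, ht]
  obtain ⟨U, hU, hzU, hUV⟩ := exists_isAffineOpen_mem_and_subset (x := g' z)
    (U := f ⁻¹ᵁ V₀) (by change f (g' z) ∈ V₀; rw [hfz]; exact hηV)
  letI : Algebra Γ(Y, V₀) Γ(X, U) := (f.appLE V₀ U hUV).hom.toAlgebra
  haveI hft : Algebra.FiniteType Γ(Y, V₀) Γ(X, U) :=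
    HasRingHomProperty.appLE @LocallyOfFiniteType f inferInstance ⟨V₀, hV₀⟩ ⟨U, hU⟩ hUV
  obtain ⟨a, ha, hak⟩ : ∃ a : Γ(Y, V₀), a ∉ nilradical Γ(Y, V₀) ∧
      ∀ (k : Type u) [Field k] [Algebra Γ(Y, V₀) k], algebraMap Γ(Y, V₀) k a ≠ 0 →
        ∃ (L : Type u) (_ : Field L) (_ : Algebra Γ(Y, V₀) L) (_ : Algebra k L),
          IsScalarTower Γ(Y, V₀) k L ∧ ¬ _root_.IsReduced (L ⊗[Γ(Y, V₀)] Γ(X, U)) := by
    letI : Algebra Γ(Y, V₀) K := (t.appLE V₀ ⊤ hT ≫ (Scheme.ΓSpecIso (.of K)).hom).hom.toAlgebra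
    obtain ⟨haff, ⟨e⟩⟩ := exists_pullback_ringEquiv f K t H hU hV₀ hUV hT rfl
    refine exists_geom_not_isReduced' hnil K ?_ ?_
    · intro a ha
      have ha' : (Scheme.ΓSpecIso (.of K)).hom.hom (t.appLE V₀ ⊤ hT a) = 0 := ha
      have ha0 : t.appLE V₀ ⊤ hT a = 0 := by
        have := congrArg (Scheme.ΓSpecIso (.of K)).inv.hom ha'
        simpa using this
      apply isNilpotent_of_evaluation_eq_zero hV₀ hηV
      rw [Scheme.evaluation_eq_zero_iff_notMem_basicOpen]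
      intro hmem
      have h1 := Scheme.basicOpen_appLE t ⊤ V₀ hT a
      rw [ha0, Scheme.basicOpen_zero] at h1
      have hne : Nonempty (Spec (.of K)) := inferInstance
      obtain ⟨w⟩ := hne
      have : w ∈ (⊤ : (Spec (.of K)).Opens) ⊓ t ⁻¹ᵁ Y.basicOpen a := by
        refine ⟨trivial, ?_⟩
        change t w ∈ Y.basicOpen a
        rw [ht]; exact hmem
      rw [← h1] at this
      exact this
    · intro hred
      apply hz (g' ⁻¹ᵁ U) hzU haff
      exact isReduced_of_injective e.symm.toRingHom e.symm.injective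
  refine ⟨Y.basicOpen a, basicOpen_nonempty_of_not_isNilpotent hV₀ a
    (fun hn => ha (mem_nilradical.mpr hn)), fun y hy hGR => ?_⟩
  have hyV : y ∈ V₀ := Y.basicOpen_le a hy
  have hev : Y.evaluation V₀ y hyV a ≠ 0 :=
    (Y.evaluation_ne_zero_iff_mem_basicOpen y hyV a).mpr hy
  letI : Algebra Γ(Y, V₀) (Y.residueField y) := (Y.evaluation V₀ y hyV).hom.toAlgebra
  obtain ⟨L, hLf, hLA, hLk, hst, hnr⟩ := hak (Y.residueField y) hev
  let s' : Spec (.of L) ⟶ Spec (Y.residueField y) :=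
    Spec.map (CommRingCat.ofHom (algebraMap (Y.residueField y) L))
  have hpb' := IsPullback.of_hasPullback (f.fiberToSpecResidueField y) s'
  haveI : AlgebraicGeometry.IsReduced (pullback (f.fiberToSpecResidueField y) s') :=
    (geometricallyReduced_iff _).mp hGR s' _ _ hpb'
  have H' := hpb'.paste_horiz (IsPullback.of_hasPullback f (Y.fromSpecResidueField y))
  have hT' : (⊤ : (Spec (.of L)).Opens) ≤ (s' ≫ Y.fromSpecResidueField y) ⁻¹ᵁ V₀ := by
    intro w _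
    change (Y.fromSpecResidueField y) (s' w) ∈ V₀
    rw [Scheme.fromSpecResidueField_apply]; exact hyV
  have hcompat : algebraMap Γ(Y, V₀) L =
      ((s' ≫ Y.fromSpecResidueField y).appLE V₀ ⊤ hT' ≫ (Scheme.ΓSpecIso (.of L)).hom).hom :=
    (IsScalarTower.algebraMap_eq Γ(Y, V₀) (Y.residueField y) L).trans
      (algebraMap_eq_appLE_comp y hyV L hT').symm
  obtain ⟨-, ⟨e⟩⟩ := exists_pullback_ringEquiv f L (s' ≫ Y.fromSpecResidueField y) H' hU hV₀
    hUV hT' hcompat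
  apply hnr
  exact isReduced_of_injective e.toRingHom e.injective

end Groth.Agent.H20.GenFibre
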