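import Mathlib
import Groth.Agent.H20.GenFibreConn

/-!
# The number of irreducible components of the fibres is generically at least that of the
generic fibre
-/

set_option autoImplicit false
set_option linter.style.haveILetI false
set_option linter.unusedSectionVars false
universe u

open TensorProduct CategoryTheory CategoryTheory.Limits AlgebraicGeometry TopologicalSpace

namespace Groth.Agent.H20.GenFibre

/-- An irreducible set covered by finitely many closed sets lies in one of them. -/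
lemma exists_subset_of_isIrreducible_of_subset_iUnion {F ι : Type*} [TopologicalSpace F] [Finite ι]
    {s : Set F} (hs : IsIrreducible s) (Z : ι → Set F) (hZ : ∀ i, IsClosed (Z i))
    (h : s ⊆ ⋃ i, Z i) : ∃ i, s ⊆ Z i := by
  classical
  cases nonempty_fintype ι
  obtain ⟨z, hz, hsz⟩ := (isIrreducible_iff_sUnion_isClosed.mp hs) (Finset.univ.image Z)
    (by
      intro z hz
      obtain ⟨i, -, rfl⟩ := Finset.mem_image.mp hz
      exact hZ i)
    (by
      intro x hx
      obtain ⟨i, hi⟩ := Set.mem_iUnion.mp (h hx)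
      exact Set.mem_sUnion.mpr ⟨Z i, by simp, hi⟩)
  obtain ⟨i, -, rfl⟩ := Finset.mem_image.mp hz
  exact ⟨i, hsz⟩

variable {X Y : Scheme.{u}} (f : X ⟶ Y)

/-- **Nowhere density spreads out, relative to a closed subset**: if `Z ∩ T` is nowhere dense in
the trace of the closed set `T` on the generic fibre, the same holds on the fibres over a nonempty
open. -/
theorem exists_open_nowhereDense_in_closed [IrreducibleSpace ↥Y] [LocallyOfFiniteType f]
    [QuasiCompact f] (T Z : Set X) (hT : IsClosed T) (hZ : IsClosed Z)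
    (h : ∀ O : Set X, IsOpen O → O ∩ (T ∩ f ⁻¹' {genericPoint ↥Y}) ⊆ Z →
      O ∩ (T ∩ f ⁻¹' {genericPoint ↥Y}) = ∅) :
    ∃ V : Y.Opens, (V : Set ↥Y).Nonempty ∧ ∀ y ∈ V, ∀ O : Set X, IsOpen O →
      O ∩ (T ∩ f ⁻¹' {y}) ⊆ Z → O ∩ (T ∩ f ⁻¹' {y}) = ∅ := by
  let I := Scheme.IdealSheafData.vanishingIdeal ⟨T, hT⟩
  let ι := I.subschemeι
  have hrange : Set.range ι = T := by
    rw [Scheme.IdealSheafData.range_subschemeι]
    exact Scheme.IdealSheafData.coe_support_vanishingIdeal _
  let g := ι ≫ f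
  have hq : ∀ (y : Y) (w : ↥(g.fiber y)), f (ι (g.fiberι y w)) = y := fun y w => by
    have := g.range_fiberι y ▸ Set.mem_range_self w
    exact this
  have hlift : ∀ (y : Y) (x : X), x ∈ T → f x = y → ∃ w : ↥(g.fiber y), ι (g.fiberι y w) = x := by
    intro y x hxT hfx
    obtain ⟨t, rfl⟩ : x ∈ Set.range ι := by rw [hrange]; exact hxT
    obtain ⟨w, rfl⟩ : t ∈ Set.range (g.fiberι y) := by rw [g.range_fiberι]; exact hfx
    exact ⟨w, rfl⟩
  have hZ' : IsClosed (ι ⁻¹' Z) := hZ.preimage ι.continuous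
  obtain ⟨V, hVne, hV⟩ := exists_open_isNowhereDense_fiber g (ι ⁻¹' Z) hZ' (by
    have hcl : IsClosed ((g.fiberι (genericPoint ↥Y)) ⁻¹' (ι ⁻¹' Z)) :=
      hZ'.preimage (g.fiberι _).continuous
    rw [IsNowhereDense, hcl.closure_eq, Set.eq_empty_iff_forall_notMem]
    intro w hw
    obtain ⟨O'', hO'', hO''eq⟩ := (g.fiberι (genericPoint ↥Y)).isEmbedding.isInducing.isOpen_iff.mp
      (isOpen_interior (s := (g.fiberι (genericPoint ↥Y)) ⁻¹' (ι ⁻¹' Z)))
    obtain ⟨O, hO, rfl⟩ := ι.isEmbedding.isInducing.isOpen_iff.mp hO''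
    have hsub : O ∩ (T ∩ f ⁻¹' {genericPoint ↥Y}) ⊆ Z := by
      rintro x ⟨hxO, hxT, hfx⟩
      obtain ⟨w', rfl⟩ := hlift _ x hxT hfx
      have : w' ∈ interior ((g.fiberι (genericPoint ↥Y)) ⁻¹' (ι ⁻¹' Z)) := by
        rw [← hO''eq]; exact hxO
      have h' : w' ∈ (g.fiberι (genericPoint ↥Y)) ⁻¹' (ι ⁻¹' Z) := interior_subset this
      exact h'
    have hempty := h O hO hsub
    have hwO : ι (g.fiberι (genericPoint ↥Y) w) ∈ O := by
      have : w ∈ (g.fiberι (genericPoint ↥Y)) ⁻¹' (ι ⁻¹' O) := by rw [hO''eq]; exact hw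
      exact this
    have : ι (g.fiberι (genericPoint ↥Y) w) ∈ O ∩ (T ∩ f ⁻¹' {genericPoint ↥Y}) :=
      ⟨hwO, by rw [← hrange]; exact Set.mem_range_self _, hq _ w⟩
    rw [hempty] at this
    exact this)
  refine ⟨V, hVne, fun y hy O hO hsub => ?_⟩
  have hnd := hV y hy
  have hcl : IsClosed ((g.fiberι y) ⁻¹' (ι ⁻¹' Z)) := hZ'.preimage (g.fiberι y).continuous
  rw [IsNowhereDense, hcl.closure_eq] at hnd
  rw [Set.eq_empty_iff_forall_notMem]
  rintro x ⟨hxO, hxT, hfx⟩
  obtain ⟨w, rfl⟩ := hlift y x hxT hfx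
  have hopen : IsOpen ((g.fiberι y) ⁻¹' (ι ⁻¹' O)) :=
    (hO.preimage ι.continuous).preimage (g.fiberι y).continuous
  have hsub' : (g.fiberι y) ⁻¹' (ι ⁻¹' O) ⊆ (g.fiberι y) ⁻¹' (ι ⁻¹' Z) := by
    intro w' hw'
    exact hsub ⟨hw', by rw [← hrange]; exact Set.mem_range_self _, hq y w'⟩
  have : w ∈ interior ((g.fiberι y) ⁻¹' (ι ⁻¹' Z)) := interior_maximal hsub' hopen hxO
  rw [hnd] at this
  exact this

/-- **Irreducible components of the fibres**: generically there are at least as many as on the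
generic fibre. -/
theorem exists_open_encard_irreducibleComponents_le [IrreducibleSpace ↥Y] [LocallyOfFiniteType f]
    [QuasiCompact f] (n : ℕ)
    (h : (irreducibleComponents ↥(f.fiber (genericPoint ↥Y))).encard = n) :
    ∃ V : Y.Opens, (V : Set ↥Y).Nonempty ∧ ∀ y ∈ V,
      (n : ℕ∞) ≤ (irreducibleComponents ↥(f.fiber y)).encard := by
  classical
  let η := genericPoint ↥Y
  let p := f.fiberι η
  let J := ↥(irreducibleComponents ↥(f.fiber η))
  haveI hfin : Finite J := by
    have : (irreducibleComponents ↥(f.fiber η)).Finite := by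
      rw [← Set.encard_lt_top_iff, h]; exact ENat.natCast_lt_top n
    exact this.to_subtype
  let C : J → Set ↥(f.fiber η) := fun c => c.1
  have hCclosed : ∀ c, IsClosed (C c) := fun c => isClosed_of_mem_irreducibleComponents _ c.2
  have hCirr : ∀ c, IsIrreducible (C c) := fun c => c.2.1
  have hCne : ∀ c, (C c).Nonempty := fun c => (hCirr c).1
  have hCmax : ∀ c c' : J, C c ⊆ C c' → c = c' := by
    intro c c' hcc
    apply Subtype.ext
    exact le_antisymm hcc (c.2.2 c'.2.1 hcc)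
  let T : J → Set X := fun c => closure (p '' C c)
  have hTclosed : ∀ c, IsClosed (T c) := fun c => isClosed_closure
  have htrace : ∀ c (z : ↥(f.fiber η)), p z ∈ T c → z ∈ C c := by
    intro c z hz
    have : z ∈ closure (C c) := by
      rw [p.isEmbedding.isInducing.closure_eq_preimage_closure_image]
      exact hz
    rwa [(hCclosed c).closure_eq] at this
  -- (a) the `T c` cover the preimage of an open
  obtain ⟨V₁, hV₁ne, hV₁⟩ := exists_open_preimage_subset_closure_fiber f
  have hcover : ∀ x : X, f x ∈ V₁ → ∃ c, x ∈ T c := by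
    intro x hx
    have h1 := hV₁ x hx
    have h2 : f ⁻¹' {η} = ⋃ c, p '' C c := by
      rw [← Set.image_iUnion, ← f.range_fiberι η, ← Set.image_univ]
      congr 1
      symm
      rw [Set.eq_univ_iff_forall]
      intro z
      exact Set.mem_iUnion.mpr ⟨⟨irreducibleComponent z,
        irreducibleComponent_mem_irreducibleComponents z⟩, mem_irreducibleComponent⟩
    rw [h2, closure_iUnion_of_finite] at h1
    exact Set.mem_iUnion.mp h1
  -- (b) the other components are nowhere dense in `T c`, generically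
  let Zc : J → Set X := fun c => ⋃ c' : {c' : J // c' ≠ c}, T c'.1
  have hZclosed : ∀ c, IsClosed (Zc c) := fun c =>
    isClosed_iUnion_of_finite fun c' => hTclosed c'.1
  have hgen : ∀ c, ∀ O : Set X, IsOpen O → O ∩ (T c ∩ f ⁻¹' {η}) ⊆ Zc c →
      O ∩ (T c ∩ f ⁻¹' {η}) = ∅ := by
    intro c O hO hsub
    have hsub' : C c ∩ p ⁻¹' O ⊆ ⋃ c' : {c' : J // c' ≠ c}, C c'.1 := by
      rintro z ⟨hzC, hzO⟩
      have hfz : f (p z) = η := by
        have := f.range_fiberι η ▸ Set.mem_range_self z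
        exact this
      have := hsub ⟨hzO, subset_closure (Set.mem_image_of_mem p hzC), hfz⟩
      obtain ⟨c', hc'⟩ := Set.mem_iUnion.mp this
      exact Set.mem_iUnion.mpr ⟨c', htrace _ z hc'⟩
    have hemp : C c ∩ p ⁻¹' O = ∅ := by
      by_contra hne
      have hne' : (C c ∩ p ⁻¹' O).Nonempty := Set.nonempty_iff_ne_empty.mpr hne
      have h1 : C c ⊆ closure (C c ∩ p ⁻¹' O) :=
        subset_closure_inter_of_isPreirreducible_of_isOpen (hCirr c).2
          (hO.preimage p.continuous) hne'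
      have h2 : C c ⊆ ⋃ c' : {c' : J // c' ≠ c}, C c'.1 :=
        h1.trans (closure_minimal hsub'
          (isClosed_iUnion_of_finite fun c' => hCclosed c'.1))
      obtain ⟨c', hc'⟩ := exists_subset_of_isIrreducible_of_subset_iUnion (hCirr c)
        (fun c' : {c' : J // c' ≠ c} => C c'.1) (fun c' => hCclosed c'.1) h2
      exact c'.2 (hCmax c c'.1 hc').symm
    rw [Set.eq_empty_iff_forall_notMem]
    rintro x ⟨hxO, hxT, hfx⟩
    obtain ⟨z, rfl⟩ : x ∈ Set.range p := by rw [f.range_fiberι]; exact hfx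
    have : z ∈ C c ∩ p ⁻¹' O := ⟨htrace c z hxT, hxO⟩
    rw [hemp] at this
    exact this
  have hspread : ∀ c, ∃ V : Y.Opens, (V : Set ↥Y).Nonempty ∧ ∀ y ∈ V, ∀ O : Set X, IsOpen O →
      O ∩ (T c ∩ f ⁻¹' {y}) ⊆ Zc c → O ∩ (T c ∩ f ⁻¹' {y}) = ∅ := fun c =>
    exists_open_nowhereDense_in_closed f (T c) (Zc c) (hTclosed c) (hZclosed c) (hgen c)
  choose V₂ hV₂ne hV₂ using hspread
  obtain ⟨V₂', hV₂'ne, hV₂'⟩ := exists_open_le_of_finite V₂ hV₂ne
  -- (c) each `T c` surjects onto an open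
  have hsurj : ∀ c, ∃ V : Y.Opens, (V : Set ↥Y).Nonempty ∧ ∀ y ∈ V, ∃ x ∈ T c, f x = y := by
    intro c
    apply exists_open_subset_image_of_isClosed f (T c) (hTclosed c)
    obtain ⟨z, hz⟩ := hCne c
    refine ⟨p z, subset_closure (Set.mem_image_of_mem p hz), ?_⟩
    have := f.range_fiberι η ▸ Set.mem_range_self z
    exact this
  choose V₃ hV₃ne hV₃ using hsurj
  obtain ⟨V₃', hV₃'ne, hV₃'⟩ := exists_open_le_of_finite V₃ hV₃ne
  refine ⟨V₁ ⊓ V₂' ⊓ V₃', ⟨η, ⟨⟨genericPoint_mem_of_nonempty hV₁ne,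
    genericPoint_mem_of_nonempty hV₂'ne⟩, genericPoint_mem_of_nonempty hV₃'ne⟩⟩, ?_⟩
  rintro y ⟨⟨hy₁, hy₂⟩, hy₃⟩
  have hfz : ∀ z : ↥(f.fiber y), f (f.fiberι y z) = y := fun z => by
    have := f.range_fiberι y ▸ Set.mem_range_self z
    exact this
  -- a point of `T c` over `y` outside the other `T c'`
  have hpt : ∀ c, ∃ z : ↥(f.fiber y), f.fiberι y z ∈ T c ∧ f.fiberι y z ∉ Zc c := by
    intro c
    by_contra hcon
    push Not at hcon
    have hsub : Set.univ ∩ (T c ∩ f ⁻¹' {y}) ⊆ Zc c := by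
      rintro x ⟨-, hxT, hfx⟩
      obtain ⟨z, rfl⟩ : x ∈ Set.range (f.fiberι y) := by rw [f.range_fiberι]; exact hfx
      exact hcon z hxT
    have hemp := hV₂ c y (hV₂' c hy₂) Set.univ isOpen_univ hsub
    obtain ⟨x, hxT, hfx⟩ := hV₃ c y (hV₃' c hy₃)
    have : x ∈ Set.univ ∩ (T c ∩ f ⁻¹' {y}) := ⟨trivial, hxT, hfx⟩
    rw [hemp] at this
    exact this
  choose z hzT hzZ using hpt
  have hinj : Function.Injective (fun c : J =>
      (⟨irreducibleComponent (z c), irreducibleComponent_mem_irreducibleComponents (z c)⟩ :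
        ↥(irreducibleComponents ↥(f.fiber y)))) := by
    intro c c' hcc
    have hE : irreducibleComponent (z c) = irreducibleComponent (z c') :=
      congrArg Subtype.val hcc
    have hcov : irreducibleComponent (z c) ⊆ ⋃ d : J, (f.fiberι y) ⁻¹' T d := by
      intro w _
      obtain ⟨d, hd⟩ := hcover (f.fiberι y w) (by rw [hfz]; exact hy₁)
      exact Set.mem_iUnion.mpr ⟨d, hd⟩
    obtain ⟨d, hd⟩ := exists_subset_of_isIrreducible_of_subset_iUnion
      (isIrreducible_irreducibleComponent (x := z c))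
      (fun d : J => (f.fiberι y) ⁻¹' T d)
      (fun d => (hTclosed d).preimage (f.fiberι y).continuous) hcov
    have h1 : d = c := by
      by_contra hne
      exact hzZ c (Set.mem_iUnion.mpr ⟨⟨d, hne⟩, hd mem_irreducibleComponent⟩)
    have h2 : d = c' := by
      by_contra hne
      exact hzZ c' (Set.mem_iUnion.mpr ⟨⟨d, hne⟩, hd (hE ▸ mem_irreducibleComponent)⟩)
    exact h1.symm.trans h2
  have := ENat.card_le_card_of_injective hinj
  rw [ENat.card_coe_set_eq, ENat.card_coe_set_eq] at this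
  exact le_of_eq_of_le h.symm this

end Groth.Agent.H20.GenFibre
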