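import Mathlib
import Groth.Agent.H20.GenFibreAlg

/-!
# Nonzerodivisors on the generic fibre spread out
-/

set_option autoImplicit false
set_option linter.style.haveILetI false
set_option linter.unusedSectionVars false
universe u

open TensorProduct

namespace Groth.Agent.H20.GenFibre

/-- `g` is a nonzerodivisor. -/
def IsNZD {C : Type*} [CommRing C] (g : C) : Prop := ∀ x : C, g * x = 0 → x = 0

lemma IsNZD.of_ringEquiv {C D : Type*} [CommRing C] [CommRing D] (e : C ≃+* D) {g : C}
    (h : IsNZD g) : IsNZD (e g) := by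
  intro x hx
  have h1 : g * e.symm x = 0 := by
    have := congrArg e.symm hx
    simpa using this
  have := congrArg e (h _ h1)
  simpa using this

/-- **Prime avoidance for zero divisors.** -/
theorem exists_mem_isNZD_map {B C : Type*} [CommRing B] [CommRing C] [IsNoetherianRing C]
    (φ : B →+* C) (I : Ideal B) (h : ∀ x : C, (∀ g ∈ I, φ g * x = 0) → x = 0) :
    ∃ g ∈ I, IsNZD (φ g) := by
  classical
  have hfin : (associatedPrimes C C).Finite := associatedPrimes.finite C C
  have hnot : ¬ ∃ P ∈ hfin.toFinset, I ≤ Ideal.comap φ P := by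
    rintro ⟨P, hP, hle⟩
    rw [Set.Finite.mem_toFinset, AssociatedPrimes.mem_iff, isAssociatedPrime_iff] at hP
    obtain ⟨hPprime, x, rfl⟩ := hP
    have hx : x = 0 := by
      apply h
      intro g hg
      have := hle hg
      rw [Ideal.mem_comap, Submodule.mem_colon_singleton] at this
      simpa using this
    apply hPprime.ne_top
    rw [hx, Ideal.eq_top_iff_one, Submodule.mem_colon_singleton]
    simp
  rw [← Ideal.subset_union_prime (s := hfin.toFinset) (f := fun P => Ideal.comap φ P) ⊥ ⊥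
    (fun P hP _ _ => by
      rw [Set.Finite.mem_toFinset] at hP
      haveI := hP.isPrime
      exact Ideal.comap_isPrime φ P)] at hnot
  rw [Set.not_subset] at hnot
  obtain ⟨g, hgI, hg⟩ := hnot
  refine ⟨g, hgI, fun x hx => ?_⟩
  by_contra hx0
  apply hg
  have hmem : φ g ∈ {r : C | ∃ x : C, x ≠ 0 ∧ r • x = 0} := ⟨x, hx0, hx⟩
  rw [← biUnion_associatedPrimes_eq_zero_divisors C C] at hmem
  simp only [Set.mem_iUnion] at hmem ⊢
  obtain ⟨P, hP, hgP⟩ := hmem
  exact ⟨P, by simpa using hP, hgP⟩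

section Domain

variable {A B : Type u} [CommRing A] [IsDomain A] [CommRing B] [Algebra A B]
  [Algebra.FiniteType A B]

/-- **Nonzerodivisors spread out** (domain case). -/
theorem exists_isNZD (K : Type u) [Field K] [Algebra A K] [IsFractionRing A K] (g : B)
    (hg : IsNZD ((1 : K) ⊗ₜ[A] g)) :
    ∃ a : A, a ≠ 0 ∧ ∀ (k : Type u) [Field k] [Algebra A k], algebraMap A k a ≠ 0 →
      IsNZD ((1 : k) ⊗ₜ[A] g) := by
  obtain ⟨f, hf, hMfree, hBfree, -, -⟩ := Groth.Agent.S0389.result (R := A) (S := B)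
    (M := B ⧸ Ideal.span {g})
  haveI := hMfree
  haveI := hBfree
  have htors : ∀ t : B, g * t = 0 → ∃ r : A, r ≠ 0 ∧ r • t = 0 := by
    intro t ht
    have h2 : ((1 : K) ⊗ₜ[A] g) * ((1 : K) ⊗ₜ[A] t) = 0 := by
      rw [Algebra.TensorProduct.tmul_mul_tmul, one_mul, ht, TensorProduct.tmul_zero]
    exact exists_smul_eq_zero_of_one_tmul_eq_zero K (hg _ h2)
  refine ⟨f, hf, fun k _ _ hk => ?_⟩
  let u : PUnit.{u+1} →ₗ[A] B := 0
  let v : B →ₗ[A] B := LinearMap.mulLeft A g
  let q : B →ₗ[A] B ⧸ Ideal.span {g} := (Ideal.Quotient.mkₐ A (Ideal.span {g})).toLinearMap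
  have hq : Function.Surjective q := Ideal.Quotient.mkₐ_surjective A _
  have hvq : Function.Exact v q := by
    intro x
    change Ideal.Quotient.mk (Ideal.span {g}) x = 0 ↔ _
    rw [Ideal.Quotient.eq_zero_iff_mem, Ideal.mem_span_singleton']
    constructor
    · rintro ⟨y, rfl⟩
      exact ⟨y, mul_comm _ _⟩
    · rintro ⟨y, rfl⟩
      exact ⟨y, mul_comm _ _⟩
  have h1 : ∀ x, ∃ n : ℕ, f ^ n • v (u x) = 0 := fun x => ⟨0, by simp [u]⟩
  have h2 : ∀ t, v t = 0 → ∃ n : ℕ, f ^ n • t ∈ LinearMap.range u := by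
    intro t ht
    obtain ⟨r, hr, hrt⟩ := htors t ht
    obtain ⟨n, hn⟩ := Groth.Agent.H73.GenExact.exists_pow_smul_eq_zero_of_free hf hr hrt
    exact ⟨n, by rw [hn]; exact Submodule.zero_mem _⟩
  haveI : Module.Flat (Localization.Away f) (Localization.Away f ⊗[A] (B ⧸ Ideal.span {g})) :=
    inferInstance
  have hex := Groth.Agent.H73.GenExact.fibre_exact f u v q hq hvq h1 h2 k hk
  have hvd : ∀ d : k ⊗[A] B, (v.lTensor k) d = ((1 : k) ⊗ₜ[A] g) * d := by
    intro d
    induction d using TensorProduct.induction_on with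
    | zero => simp
    | tmul y b => simp [v]
    | add z z' hz hz' => rw [map_add, hz, hz', mul_add]
  intro d hd
  obtain ⟨w, hw⟩ := (hex d).mp (by rw [hvd]; exact hd)
  rw [← hw]
  simp [u]

end Domain

section PrimeNil

variable {A B : Type u} [CommRing A] [CommRing B] [Algebra A B] [Algebra.FiniteType A B]

/-- **Nonzerodivisors spread out** (irreducible base). -/
theorem exists_isNZD' (hnil : (nilradical A).IsPrime) (K : Type u) [Field K]
    [Algebra A K] (hK : IsGenericField A K) (g : B) (hg : IsNZD ((1 : K) ⊗ₜ[A] g)) :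
    ∃ a : A, a ∉ nilradical A ∧ ∀ (k : Type u) [Field k] [Algebra A k], algebraMap A k a ≠ 0 →
      IsNZD ((1 : k) ⊗ₜ[A] g) := by
  haveI : IsDomain (A ⧸ nilradical A) := Ideal.Quotient.isDomain _
  letI := algebraQuotNil (A := A) K
  haveI := isScalarTower_quotNil (A := A) K
  haveI := isFractionRing_quotNil hnil K hK
  have h' : IsNZD ((1 : K) ⊗ₜ[A ⧸ nilradical A]
      ((1 : A ⧸ nilradical A) ⊗ₜ[A] g)) := by
    let e := Algebra.TensorProduct.cancelBaseChange A (A ⧸ nilradical A) K K B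
    have := hg.of_ringEquiv e.symm.toRingEquiv
    simpa [e] using this
  obtain ⟨a₀, ha₀, hk⟩ := exists_isNZD (A := A ⧸ nilradical A)
    (B := (A ⧸ nilradical A) ⊗[A] B) K _ h'
  obtain ⟨a, rfl⟩ := Ideal.Quotient.mk_surjective a₀
  refine ⟨a, fun ha => ha₀ (Ideal.Quotient.eq_zero_iff_mem.mpr ha), fun k _ _ hak => ?_⟩
  letI := algebraQuotNil (A := A) k
  haveI := isScalarTower_quotNil (A := A) k
  have h1 := hk k hak
  let e := Algebra.TensorProduct.cancelBaseChange A (A ⧸ nilradical A) k k B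
  have := h1.of_ringEquiv e.toRingEquiv
  simpa [e] using this

end PrimeNil

end Groth.Agent.H20.GenFibre
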