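import Mathlib
import Groth.Agent.H20.GenFibreNZD
import Groth.Agent.H20.GenFibreNowhereDense

/-!
# Scheme-theoretic density of an open on the generic fibre spreads out
-/

set_option autoImplicit false
set_option linter.style.haveILetI false
set_option linter.unusedSectionVars false
universe u

open TensorProduct CategoryTheory CategoryTheory.Limits AlgebraicGeometry TopologicalSpace

namespace Groth.Agent.H20.GenFibre

section General

variable {F : Scheme.{u}}

/-- A section of an affine open restricts to zero on a basic open iff it is killed by a power. -/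
lemma res_basicOpen_eq_zero_iff {W : F.Opens} (hW : IsAffineOpen W) (c x : Γ(F, W)) :
    F.presheaf.map (homOfLE (F.basicOpen_le c)).op x = 0 ↔ ∃ n : ℕ, c ^ n * x = 0 := by
  haveI := hW.isLocalization_basicOpen c
  have := IsLocalization.map_eq_zero_iff (Submonoid.powers c) Γ(F, F.basicOpen c) x
  constructor
  · intro h
    obtain ⟨⟨_, n, rfl⟩, hn⟩ := this.mp h
    exact ⟨n, hn⟩
  · rintro ⟨n, hn⟩
    exact this.mpr ⟨⟨c ^ n, n, rfl⟩, hn⟩

/-- If `O` is scheme-theoretically dense, a section vanishing locally on `O` vanishes. -/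
lemma eq_zero_of_isSchemeTheoreticallyDominant (O : F.Opens) [QuasiCompact O.ι]
    [IsSchemeTheoreticallyDominant O.ι] {W : F.Opens} (x : Γ(F, W))
    (hx : ∀ w ∈ W ⊓ O, ∃ N : F.Opens, w ∈ N ∧ ∃ hN : N ≤ W,
      F.presheaf.map (homOfLE hN).op x = 0) : x = 0 := by
  apply O.ι.app_injective W
  rw [map_zero]
  have hle : O.ι ''ᵁ O.ι ⁻¹ᵁ W ≤ W := Scheme.Hom.image_preimage_le _ _
  have key : F.presheaf.map (homOfLE hle).op x = 0 := by
    apply TopCat.Presheaf.section_ext F.sheaf _ _ 0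
    intro w hw
    have hwW : w ∈ W := hle hw
    have hwO : w ∈ O := (O.ι_image_le _) hw
    obtain ⟨N, hwN, hNW, hN⟩ := hx w ⟨hwW, hwO⟩
    rw [map_zero]
    change F.presheaf.germ (O.ι ''ᵁ O.ι ⁻¹ᵁ W) w hw (F.presheaf.map (homOfLE hle).op x) = 0
    have h1 : F.presheaf.germ (O.ι ''ᵁ O.ι ⁻¹ᵁ W) w hw (F.presheaf.map (homOfLE hle).op x) =
        F.presheaf.germ W w hwW x := by
      exact TopCat.Presheaf.germ_res_apply F.presheaf (homOfLE hle) w hw x
    have h2 : F.presheaf.germ N w hwN (F.presheaf.map (homOfLE hNW).op x) =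
        F.presheaf.germ W w hwW x := by
      exact TopCat.Presheaf.germ_res_apply F.presheaf (homOfLE hNW) w hwN x
    rw [h1, ← h2, hN, map_zero]
  exact key

/-- Scheme-theoretic density can be checked on an affine cover. -/
lemma isSchemeTheoreticallyDominant_of_cover (O : F.Opens) [QuasiCompact O.ι] {J : Type*}
    (W : J → F.affineOpens) (hW : ⨆ j, (W j).1 = ⊤)
    (h : ∀ j, ∀ x : Γ(F, (W j).1), (∀ N : F.Opens, ∀ hN : N ≤ (W j).1, N ≤ O →
      F.presheaf.map (homOfLE hN).op x = 0) → x = 0) :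
    IsSchemeTheoreticallyDominant O.ι := by
  constructor
  apply Scheme.IdealSheafData.ext_of_iSup_eq_top W hW
  intro j
  rw [Scheme.Hom.ker_apply, Scheme.IdealSheafData.ideal_bot]
  rw [Pi.bot_apply, eq_bot_iff]
  intro x hx
  rw [Ideal.mem_bot]
  apply h j x
  intro N hNW hNO
  have hle : O.ι ''ᵁ O.ι ⁻¹ᵁ (W j).1 ≤ (W j).1 := Scheme.Hom.image_preimage_le _ _
  have hx' : F.presheaf.map (homOfLE hle).op x = 0 := hx
  have hN' : N ≤ O.ι ''ᵁ O.ι ⁻¹ᵁ (W j).1 := by
    rw [Scheme.Hom.image_preimage_eq_opensRange_inf, Scheme.Opens.opensRange_ι]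
    exact le_inf hNO hNW
  have : F.presheaf.map (homOfLE hNW).op x =
      F.presheaf.map (homOfLE hN').op (F.presheaf.map (homOfLE hle).op x) := by
    rw [← ConcreteCategory.comp_apply, ← Functor.map_comp]
    rfl
  rw [this, hx', map_zero]

end General

variable {X Y : Scheme.{u}} (f : X ⟶ Y)

instance isLocallyNoetherian_fiber [LocallyOfFiniteType f] (y : Y) :
    IsLocallyNoetherian (f.fiber y) :=
  inferInstanceAs (IsLocallyNoetherian (pullback f (Y.fromSpecResidueField y)))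

section

variable [IrreducibleSpace ↥Y]

/-- Local form of the spreading out of scheme-theoretic density. -/
theorem exists_basicOpen_schDense [LocallyOfFiniteType f] {V₀ : Y.Opens}
    (hV₀ : IsAffineOpen V₀) (hη : genericPoint ↥Y ∈ V₀) {U' : X.Opens} (hU' : IsAffineOpen U')
    (hUV : U' ≤ f ⁻¹ᵁ V₀) (U : X.Opens)
    (h : IsSchemeTheoreticallyDominant (f.fiberι (genericPoint ↥Y) ⁻¹ᵁ U).ι) :
    ∃ a : Γ(Y, V₀), ¬ IsNilpotent a ∧ ∀ y ∈ Y.basicOpen a,
      ∀ x : Γ(f.fiber y, (f.fiberι y) ⁻¹ᵁ U'),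
        (∀ N : (f.fiber y).Opens, ∀ hN : N ≤ (f.fiberι y) ⁻¹ᵁ U', N ≤ (f.fiberι y) ⁻¹ᵁ U →
          (f.fiber y).presheaf.map (homOfLE hN).op x = 0) → x = 0 := by
  let η := genericPoint ↥Y
  have hnil := nilradical_isPrime_of_isAffineOpen hV₀ hη
  letI : Algebra Γ(Y, V₀) Γ(X, U') := (f.appLE V₀ U' hUV).hom.toAlgebra
  haveI hft : Algebra.FiniteType Γ(Y, V₀) Γ(X, U') :=
    HasRingHomProperty.appLE @LocallyOfFiniteType f inferInstance ⟨V₀, hV₀⟩ ⟨U', hU'⟩ hUV
  have hUc : IsClosed ((U : Set X)ᶜ) := U.isOpen.isClosed_compl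
  -- Step 1: a section `g` with `D(g) ⊆ U` whose image in the generic fibre is a nonzerodivisor
  obtain ⟨g, hgI, a, ha, hak⟩ : ∃ g ∈ missIdeal U' ((U : Set X)ᶜ), ∃ a : Γ(Y, V₀),
      a ∉ nilradical Γ(Y, V₀) ∧
      ∀ (k : Type u) [Field k] [Algebra Γ(Y, V₀) k], algebraMap Γ(Y, V₀) k a ≠ 0 →
        IsNZD ((1 : k) ⊗ₜ[Γ(Y, V₀)] g) := by
    letI : Algebra Γ(Y, V₀) (Y.residueField η) := (Y.evaluation V₀ η hη).hom.toAlgebra
    have hK : IsGenericField Γ(Y, V₀) (Y.residueField η) := isGenericField_residueField hV₀ hη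
    obtain ⟨e, he⟩ := exists_fibre_ringEquiv f η hU' hV₀ hUV hη
    have hWaff := isAffineOpen_fiberι_preimage f η hU' hV₀ hUV hη
    haveI : IsNoetherianRing ((Y.residueField η) ⊗[Γ(Y, V₀)] Γ(X, U')) :=
      Algebra.FiniteType.isNoetherianRing (Y.residueField η) _
    haveI : IsNoetherianRing Γ(f.fiber η, (f.fiberι η) ⁻¹ᵁ U') :=
      isNoetherianRing_of_ringEquiv _ e
    haveI := h
    obtain ⟨g, hgI, hg⟩ := exists_mem_isNZD_map
      ((f.fiberι η).appLE U' ((f.fiberι η) ⁻¹ᵁ U') le_rfl).hom (missIdeal U' ((U : Set X)ᶜ)) (by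
        intro x hx
        apply eq_zero_of_isSchemeTheoreticallyDominant ((f.fiberι η) ⁻¹ᵁ U) x
        rintro w ⟨hwW, hwO⟩
        obtain ⟨g, hgI, hxg⟩ := exists_mem_missIdeal hU' hUc (x := f.fiberι η w) hwW
          (fun hc => hc hwO)
        refine ⟨(f.fiber η).basicOpen ((f.fiberι η).appLE U' ((f.fiberι η) ⁻¹ᵁ U') le_rfl g),
          ?_, (f.fiber η).basicOpen_le _, ?_⟩
        · rw [fibre_basicOpen]; exact hxg
        · rw [res_basicOpen_eq_zero_iff hWaff]
          exact ⟨1, by rw [pow_one]; exact hx g hgI⟩)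
    have hg' : IsNZD ((1 : Y.residueField η) ⊗ₜ[Γ(Y, V₀)] g) := by
      have := hg.of_ringEquiv e.symm
      have h5 : e.symm (((f.fiberι η).appLE U' ((f.fiberι η) ⁻¹ᵁ U') le_rfl).hom g) =
          (1 : Y.residueField η) ⊗ₜ[Γ(Y, V₀)] g := by
        rw [RingEquiv.symm_apply_eq]; exact (he g).symm
      rw [h5] at this
      exact this
    obtain ⟨a, ha, hak⟩ := exists_isNZD' hnil (Y.residueField η) hK g hg'
    exact ⟨g, hgI, a, ha, hak⟩
  -- Step 2: the other fibres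
  refine ⟨a, fun hn => ha (mem_nilradical.mpr hn), fun y hy x hx => ?_⟩
  have hyV : y ∈ V₀ := Y.basicOpen_le a hy
  have hev : Y.evaluation V₀ y hyV a ≠ 0 :=
    (Y.evaluation_ne_zero_iff_mem_basicOpen y hyV a).mpr hy
  letI : Algebra Γ(Y, V₀) (Y.residueField y) := (Y.evaluation V₀ y hyV).hom.toAlgebra
  obtain ⟨e, he⟩ := exists_fibre_ringEquiv f y hU' hV₀ hUV hyV
  have hWaff := isAffineOpen_fiberι_preimage f y hU' hV₀ hUV hyV
  have hreg : IsNZD (((f.fiberι y).appLE U' ((f.fiberι y) ⁻¹ᵁ U') le_rfl).hom g) := by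
    have := (hak (Y.residueField y) hev).of_ringEquiv e
    rw [he g] at this
    exact this
  have hle : (f.fiber y).basicOpen (((f.fiberι y).appLE U' ((f.fiberι y) ⁻¹ᵁ U') le_rfl).hom g) ≤
      (f.fiberι y) ⁻¹ᵁ U := by
    have : (f.fiber y).basicOpen ((f.fiberι y).appLE U' ((f.fiberι y) ⁻¹ᵁ U') le_rfl g) =
        (f.fiberι y) ⁻¹ᵁ (X.basicOpen g) := fibre_basicOpen f y g
    intro w hw
    have hw' : w ∈ (f.fiberι y) ⁻¹ᵁ (X.basicOpen g) := by rw [← this]; exact hw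
    have hw'' : f.fiberι y w ∈ X.basicOpen g := hw'
    by_contra hcon
    exact hgI _ hw'' hcon
  have h0 := hx _ ((f.fiber y).basicOpen_le _) hle
  rw [res_basicOpen_eq_zero_iff hWaff] at h0
  obtain ⟨n, hn⟩ := h0
  induction n with
  | zero => simpa using hn
  | succ n ih =>
    apply ih
    apply hreg
    rw [← mul_assoc, ← pow_succ']
    exact hn

/-- **Scheme-theoretic density of an open on the generic fibre spreads out.** -/
theorem exists_open_isSchemeTheoreticallyDominant_fiber [LocallyOfFiniteType f] [QuasiCompact f]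
    (U : X.Opens) (h : IsSchemeTheoreticallyDominant (f.fiberι (genericPoint ↥Y) ⁻¹ᵁ U).ι) :
    ∃ V : Y.Opens, (V : Set ↥Y).Nonempty ∧ ∀ y ∈ V,
      IsSchemeTheoreticallyDominant (f.fiberι y ⁻¹ᵁ U).ι := by
  let η := genericPoint ↥Y
  obtain ⟨_, ⟨V₀, hV₀, rfl⟩, hηV, -⟩ :=
    Y.isBasis_affineOpens.exists_subset_of_mem_open (Set.mem_univ η) isOpen_univ
  have hV₀ : IsAffineOpen V₀ := hV₀
  have hηV : η ∈ V₀ := hηV
  obtain ⟨s, -, hsle, hcov, V, hVV₀, hVne, hV⟩ := exists_open_forall_cover f hV₀ hηV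
    (fun U' y => ∀ x : Γ(f.fiber y, (f.fiberι y) ⁻¹ᵁ U'),
        (∀ N : (f.fiber y).Opens, ∀ hN : N ≤ (f.fiberι y) ⁻¹ᵁ U', N ≤ (f.fiberι y) ⁻¹ᵁ U →
          (f.fiber y).presheaf.map (homOfLE hN).op x = 0) → x = 0)
    (fun U' hU' hUV => exists_basicOpen_schDense f hV₀ hηV hU' hUV U h)
  refine ⟨V, hVne, fun y hy => ?_⟩
  have hyV₀ : y ∈ V₀ := hVV₀ hy
  apply isSchemeTheoreticallyDominant_of_cover ((f.fiberι y) ⁻¹ᵁ U)
    (fun U' : s => (⟨(f.fiberι y) ⁻¹ᵁ (U'.1 : X.Opens),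
      isAffineOpen_fiberι_preimage f y U'.1.2 hV₀ (hsle U'.1 U'.2) hyV₀⟩ : (f.fiber y).affineOpens))
  · rw [eq_top_iff]
    intro w _
    obtain ⟨U', hU's, hw⟩ := hcov (f.fiberι y w) (fiberι_mem_preimage f y hyV₀ w)
    exact TopologicalSpace.Opens.mem_iSup.mpr ⟨⟨U', hU's⟩, hw⟩
  · intro U' x hx
    exact hV y hy U'.1 U'.2 x hx

end

end Groth.Agent.H20.GenFibre
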