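import Mathlib
import Groth.Agent.H20.GenFibreIrred
import Groth.Agent.H20.GenFibreSchDense

/-!
# Irreducibility of the total space from irreducibility of the general fibre
-/

set_option autoImplicit false
set_option linter.style.haveILetI false
set_option linter.unusedSectionVars false
universe u

open TensorProduct CategoryTheory CategoryTheory.Limits AlgebraicGeometry TopologicalSpace

namespace Groth.Agent.H20.GenFibre

variable {Y Z : Scheme.{u}} (f : Y ⟶ Z)

/-- If the fibres over the closed points of a nonempty open of the irreducible Jacobson base are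
irreducible and every irreducible component of the source dominates the base, the source is
irreducible. -/
theorem irreducibleSpace_of_general_fibre [LocallyOfFiniteType f] [QuasiCompact f]
    [IrreducibleSpace ↥Z] [JacobsonSpace ↥Z]
    (hgen : ∃ V : Z.Opens, (V : Set ↥Z).Nonempty ∧
      ∀ z ∈ V, IsClosed ({z} : Set ↥Z) → IsIrreducible (f ⁻¹' {z}))
    (hdom : ∀ W ∈ irreducibleComponents ↥Y, Dense (f '' W)) :
    IrreducibleSpace ↥Y := by
  classical
  let η := genericPoint ↥Z
  let p := f.fiberι η
  haveI : IsNoetherian (f.fiber η) := {}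
  have hfin : (irreducibleComponents ↥(f.fiber η)).Finite :=
    NoetherianSpace.finite_irreducibleComponents
  obtain ⟨n, hn⟩ : ∃ n : ℕ, (irreducibleComponents ↥(f.fiber η)).encard = n := by
    refine ⟨(irreducibleComponents ↥(f.fiber η)).encard.toNat, ?_⟩
    rw [ENat.natCast_toNat]
    exact (Set.encard_lt_top_iff.mpr hfin).ne
  obtain ⟨V', hV'ne, hV'⟩ := exists_open_encard_irreducibleComponents_le f n hn
  obtain ⟨V, hVne, hV⟩ := hgen
  have hne : ((V ⊓ V' : Z.Opens) : Set ↥Z).Nonempty :=
    ⟨η, genericPoint_mem_of_nonempty hVne, genericPoint_mem_of_nonempty hV'ne⟩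
  obtain ⟨z, hzV, hzcl⟩ := nonempty_inter_closedPoints hne (V ⊓ V').2.isLocallyClosed
  have hirr := hV z hzV.1 hzcl
  haveI : IrreducibleSpace ↥(f.fiber z) := by
    have h1 : IrreducibleSpace ↥(f ⁻¹' {z}) := isIrreducible_iff_irreducibleSpace.mp hirr
    exact (f.fiberHomeo z).irreducibleSpace_iff.mpr h1
  have h1 : (irreducibleComponents ↥(f.fiber z)).encard = 1 := by
    rw [irreducibleComponents_eq_singleton, Set.encard_singleton]
  have hle : (irreducibleComponents ↥(f.fiber η)).encard ≤ 1 := by
    rw [hn]; exact (hV' z hzV.2).trans h1.le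
  rw [Set.encard_le_one_iff] at hle
  -- a point of `Y`
  obtain ⟨y0, -⟩ := hirr.1
  -- the unique component of the generic fibre
  have key : ∀ W ∈ irreducibleComponents ↥Y, ∃ ζ : ↥(f.fiber η),
      W = closure (p '' irreducibleComponent ζ) := by
    intro W hW
    have hWirr : IsIrreducible W := hW.1
    have hWcl : IsClosed W := isClosed_of_mem_irreducibleComponents W hW
    obtain ⟨ξ, hξ⟩ := QuasiSober.sober hWirr hWcl
    have hfξ : f ξ = η := by
      have hd := hdom W hW
      have hsub : f '' W ⊆ closure {f ξ} := by
        rw [← hξ.def]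
        exact (image_closure_subset_closure_image f.continuous).trans (by simp)
      have huniv : closure {f ξ} = Set.univ :=
        Set.eq_univ_of_univ_subset (hd.closure_eq ▸ closure_minimal hsub isClosed_closure)
      have hg : IsGenericPoint (f ξ) (Set.univ : Set ↥Z) := huniv
      exact hg.eq (genericPoint_spec ↥Z)
    obtain ⟨ζ, hζ⟩ : ξ ∈ Set.range p := by rw [f.range_fiberι]; exact hfξ
    refine ⟨ζ, ?_⟩
    have hirrC : IsIrreducible (closure (p '' irreducibleComponent ζ)) :=
      (isIrreducible_irreducibleComponent.image p p.continuous.continuousOn).closure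
    have hsub : W ⊆ closure (p '' irreducibleComponent ζ) := by
      rw [← hξ.def]
      apply closure_minimal _ isClosed_closure
      rw [Set.singleton_subset_iff, ← hζ]
      exact subset_closure (Set.mem_image_of_mem p mem_irreducibleComponent)
    exact le_antisymm hsub (hW.2 hirrC hsub)
  have hall : ∀ W ∈ irreducibleComponents ↥Y, ∀ W' ∈ irreducibleComponents ↥Y, W = W' := by
    intro W hW W' hW'
    obtain ⟨ζ, rfl⟩ := key W hW
    obtain ⟨ζ', rfl⟩ := key W' hW'
    rw [hle (irreducibleComponent ζ) (irreducibleComponent ζ')
      (irreducibleComponent_mem_irreducibleComponents ζ)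
      (irreducibleComponent_mem_irreducibleComponents ζ')]
  have huniv : irreducibleComponent y0 = Set.univ := by
    rw [Set.eq_univ_iff_forall]
    intro y
    rw [hall _ (irreducibleComponent_mem_irreducibleComponents y0) _
      (irreducibleComponent_mem_irreducibleComponents y)]
    exact mem_irreducibleComponent
  haveI : Nonempty ↥Y := ⟨y0⟩
  refine { isPreirreducible_univ := ?_, toNonempty := ⟨y0⟩ }
  rw [← huniv]
  exact isIrreducible_irreducibleComponent.2

end Groth.Agent.H20.GenFibre
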