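import Mathlib
import Groth.Agent.H20.GenericFinite2
import Groth.Agent.H20.EtaleAtStalk

/-!
# Generic finiteness for dominant morphisms of integral schemes
-/

set_option autoImplicit false

universe u

open CategoryTheory AlgebraicGeometry TopologicalSpace

namespace Groth.Agent.H20

/-- For a local homomorphism of local rings which are fields, module-finiteness can be tested
on residue fields. -/
theorem finite_iff_finite_residueField_of_isField {K L : Type*} [CommRing K] [CommRing L]
    [IsLocalRing K] [IsLocalRing L] [Algebra K L] [IsLocalHom (algebraMap K L)]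
    (hL : IsField L) :
    Module.Finite K L ↔
      Module.Finite (IsLocalRing.ResidueField K) (IsLocalRing.ResidueField L) := by
  constructor
  · intro h
    exact IsLocalRing.ResidueField.finite_of_module_finite
  · intro h
    have hm : IsLocalRing.maximalIdeal L = ⊥ := IsLocalRing.isField_iff_maximalIdeal_eq.mp hL
    have hinj : Function.Injective (algebraMap L (IsLocalRing.ResidueField L)) := by
      rw [injective_iff_map_eq_zero]
      intro a ha
      have : a ∈ IsLocalRing.maximalIdeal L := (IsLocalRing.residue_eq_zero_iff a).mp ha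
      rw [hm] at this
      exact this
    let e : L ≃ₗ[K] IsLocalRing.ResidueField L := LinearEquiv.ofBijective
      ((IsScalarTower.toAlgHom K L (IsLocalRing.ResidueField L)).toLinearMap)
      ⟨hinj, IsLocalRing.residue_surjective⟩
    haveI : Module.Finite K (IsLocalRing.ResidueField L) :=
      Module.Finite.trans (IsLocalRing.ResidueField K) _
    exact Module.Finite.equiv e.symm

theorem moduleFinite_congr {K L : Type*} [CommRing K] [Ring L] (A1 A2 : Algebra K L)
    (h : A1 = A2) :
    @Module.Finite K L _ _ A1.toModule ↔ @Module.Finite K L _ _ A2.toModule := by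
  subst h; rfl

variable {X Y : Scheme.{u}}

/-- A dominant morphism of irreducible schemes maps the generic point to the generic point. -/
theorem map_genericPoint_of_isDominant [IrreducibleSpace X] [IrreducibleSpace Y] (f : X ⟶ Y)
    [IsDominant f] : f (genericPoint X) = genericPoint Y := by
  apply ((genericPoint_spec Y).eq _).symm
  rw [isGenericPoint_def, ← Set.univ_subset_iff, ← f.denseRange.closure_range]
  refine closure_minimal ?_ isClosed_closure
  rintro _ ⟨x, rfl⟩
  have hsp : genericPoint X ⤳ x := (genericPoint_spec X).specializes trivial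
  exact specializes_iff_mem_closure.mp (hsp.map f.continuous)

theorem isArtinianRing_of_isField {K : Type*} [CommRing K] (hK : IsField K) :
    IsArtinianRing K := by
  letI := hK.toField
  infer_instance

/-- At the generic point of an integral scheme mapping dominantly to an integral scheme,
quasi-finiteness is finiteness of the residue field extension. -/
theorem quasiFiniteAt_genericPoint_iff [IsIntegral X] [IsIntegral Y] (f : X ⟶ Y)
    [IsDominant f] :
    f.QuasiFiniteAt (genericPoint X) ↔
      (letI := (f.residueFieldMap (genericPoint X)).hom.toAlgebra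
       Module.Finite (Y.residueField (f.base (genericPoint X)))
        (X.residueField (genericPoint X))) := by
  have hfξ : f (genericPoint X) = genericPoint Y := map_genericPoint_of_isDominant f
  have hK : IsField (Y.presheaf.stalk (f (genericPoint X))) := by
    apply isField_stalk_of_closure_mem_irreducibleComponents
    rw [hfξ, (genericPoint_spec Y).def]
    simp [irreducibleComponents_eq_singleton]
  have hL : IsField (X.presheaf.stalk (genericPoint X)) := by
    apply isField_stalk_of_closure_mem_irreducibleComponents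
    rw [(genericPoint_spec X).def]
    simp [irreducibleComponents_eq_singleton]
  letI := (f.stalkMap (genericPoint X)).hom.toAlgebra
  haveI : IsLocalHom (algebraMap (Y.presheaf.stalk (f (genericPoint X)))
      (X.presheaf.stalk (genericPoint X))) :=
    inferInstanceAs <| IsLocalHom (f.stalkMap (genericPoint X)).hom
  haveI := isArtinianRing_of_isField hK
  have h1 : f.QuasiFiniteAt (genericPoint X) ↔
      Module.Finite (Y.presheaf.stalk (f (genericPoint X))) (X.presheaf.stalk (genericPoint X)) :=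
    Algebra.QuasiFinite.iff_of_isArtinianRing
  rw [h1, finite_iff_finite_residueField_of_isField hL]
  exact (moduleFinite_congr _ _ (residueFieldMap_toAlgebra_eq f (genericPoint X))).symm

/-- Quasi-finiteness at the generic point means the generic fibre is a single point. -/
theorem quasiFiniteAt_genericPoint_iff_forall_eq [IsIntegral X] [IsIntegral Y] (f : X ⟶ Y)
    [IsDominant f] [LocallyOfFiniteType f] :
    f.QuasiFiniteAt (genericPoint X) ↔
      ∀ x : X, f.base x = genericPoint Y → x = genericPoint X := by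
  have hfξ : f (genericPoint X) = genericPoint Y := map_genericPoint_of_isDominant f
  constructor
  · intro hQ x hx
    have hcl := hQ.isClopen_singleton_asFiber.1
    have hx' : f x = f (genericPoint X) := hx.trans hfξ.symm
    have hsp : genericPoint X ⤳ x := (genericPoint_spec X).specializes trivial
    have hsp' : (⟨genericPoint X, rfl⟩ : f ⁻¹' {f (genericPoint X)}) ⤳ ⟨x, hx'⟩ :=
      (Topology.IsInducing.subtypeVal.specializes_iff).mp hsp
    have hsp'' := hsp'.map (f.fiberHomeo (f (genericPoint X))).symm.continuous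
    have hmem := hsp''.mem_closed hcl (by rfl)
    have heq : (f.fiberHomeo (f (genericPoint X))).symm ⟨x, hx'⟩ =
        (f.fiberHomeo (f (genericPoint X))).symm ⟨genericPoint X, rfl⟩ := hmem
    exact congrArg Subtype.val ((f.fiberHomeo (f (genericPoint X))).symm.injective heq)
  · intro hC
    rw [Scheme.Hom.quasiFiniteAt_iff_isOpen_singleton_asFiber]
    haveI : Subsingleton (f.fiber (f (genericPoint X))) := by
      refine ⟨fun a b => ?_⟩
      apply (f.fiberHomeo (f (genericPoint X))).injective
      apply Subtype.ext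
      have ha := (f.fiberHomeo (f (genericPoint X)) a).2
      have hb := (f.fiberHomeo (f (genericPoint X)) b).2
      rw [hC _ (ha.trans hfξ), hC _ (hb.trans hfξ)]
    exact isOpen_discrete _

theorem quasiFiniteAt_of_isFinite_resLE (f : X ⟶ Y) {U : X.Opens} {V : Y.Opens}
    (hUV : U ≤ f ⁻¹ᵁ V) [IsFinite (f.resLE V U hUV)] {x : X} (hx : x ∈ U) :
    f.QuasiFiniteAt x := by
  have h := (f.resLE V U hUV).quasiFiniteAt ⟨x, hx⟩
  rwa [← Scheme.Hom.quasiFiniteAt_comp_iff (g := V.ι), Scheme.Hom.resLE_comp_ι,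
    Scheme.Hom.quasiFiniteAt_comp_iff_of_isOpenImmersion] at h

theorem quasiFiniteAt_of_isFinite_morphismRestrict (f : X ⟶ Y) {V : Y.Opens}
    [IsFinite (f ∣_ V)] {x : X} (hx : f x ∈ V) : f.QuasiFiniteAt x := by
  have h := (f ∣_ V).quasiFiniteAt ⟨x, hx⟩
  rwa [← Scheme.Hom.quasiFiniteAt_comp_iff (g := V.ι), morphismRestrict_ι,
    Scheme.Hom.quasiFiniteAt_comp_iff_of_isOpenImmersion] at h

set_option backward.isDefEq.respectTransparency.types false in
/-- criterion for finiteness of `resLE` between affine opens. -/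
theorem isFinite_resLE_of_appLE (f : X ⟶ Y) {V : Y.Opens} (hV : IsAffineOpen V)
    {U : X.Opens} (hU : IsAffineOpen U) (hUV : U ≤ f ⁻¹ᵁ V)
    (h : (f.appLE V U hUV).hom.Finite) : IsFinite (f.resLE V U hUV) := by
  haveI : IsAffine V := hV
  haveI : IsAffine U := hU
  rw [HasAffineProperty.iff_of_isAffine (P := @IsFinite)]
  refine ⟨hU, ?_⟩
  rw [Scheme.Hom.appTop, Scheme.Hom.app_eq_appLE, Scheme.Hom.resLE_appLE]
  have e1 : V.ι ''ᵁ ⊤ = V := V.ι_image_top
  have e2 : U.ι ''ᵁ ((f.resLE V U hUV) ⁻¹ᵁ ⊤) = U := by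
    rw [Scheme.Hom.preimage_top, Scheme.Opens.ι_image_top]
  exact (Scheme.Hom.appLE_congr f hUV e1.symm e2.symm (fun φ => φ.hom.Finite)).mp h

/-- If the generic fibre is a single point, `f` is finite between suitable nonempty affine
opens. -/
theorem exists_isFinite_resLE_of_forall_eq [IsIntegral X] [IsIntegral Y] (f : X ⟶ Y)
    [IsDominant f] [LocallyOfFiniteType f]
    (hC : ∀ x : X, f.base x = genericPoint Y → x = genericPoint X) :
    ∃ (U : X.Opens) (V : Y.Opens) (hUV : U ≤ f ⁻¹ᵁ V), IsAffineOpen U ∧ IsAffineOpen V ∧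
      Nonempty ↥U ∧ IsFinite (f.resLE V U hUV) := by
  have hfξ : f (genericPoint X) = genericPoint Y := map_genericPoint_of_isDominant f
  have hη : closure {genericPoint Y} ∈ irreducibleComponents ↥Y := by
    rw [(genericPoint_spec Y).def]
    simp [irreducibleComponents_eq_singleton]
  obtain ⟨_, ⟨V₀, hV₀, rfl⟩, hηV₀, -⟩ := Y.isBasis_affineOpens.exists_subset_of_mem_open
    (Set.mem_univ (genericPoint Y)) isOpen_univ
  have hξW : genericPoint X ∈ f ⁻¹ᵁ V₀ := by
    show f (genericPoint X) ∈ V₀
    rw [hfξ]; exact hηV₀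
  obtain ⟨_, ⟨U₀, hU₀, rfl⟩, hξU₀, hU₀V₀⟩ := X.isBasis_affineOpens.exists_subset_of_mem_open
    hξW (f ⁻¹ᵁ V₀).2
  have hfin : (f ⁻¹' {genericPoint Y}).Finite :=
    (Set.finite_singleton (genericPoint X)).subset fun x hx => hC x hx
  letI := (f.appLE V₀ U₀ hU₀V₀).hom.toAlgebra
  haveI : Algebra.FiniteType Γ(Y, V₀) Γ(X, U₀) :=
    HasRingHomProperty.appLE (P := @LocallyOfFiniteType) f inferInstance ⟨V₀, hV₀⟩ ⟨_, hU₀⟩ hU₀V₀
  obtain ⟨g, hgq, hgfin⟩ := Groth.Agent.H46.GenFinite.exists_finite_awayMap
    (hV₀.primeIdealOf ⟨genericPoint Y, hηV₀⟩).asIdeal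
    (primeIdealOf_mem_minimalPrimes hV₀ hη hηV₀)
    (finite_primesOver_of_finite_fiber f hV₀ hU₀ hU₀V₀ hηV₀ hfin)
  have hηg : genericPoint Y ∈ Y.basicOpen g :=
    (mem_basicOpen_iff_not_mem_primeIdealOf hV₀ hηV₀ g).mpr hgq
  have hUV : X.basicOpen (f.appLE V₀ U₀ hU₀V₀ g) ≤ f ⁻¹ᵁ (Y.basicOpen g) := by
    rw [Scheme.basicOpen_appLE]; exact inf_le_right
  refine ⟨X.basicOpen (f.appLE V₀ U₀ hU₀V₀ g), Y.basicOpen g, hUV, hU₀.basicOpen _,
    hV₀.basicOpen g, ⟨⟨genericPoint X, ?_⟩⟩, ?_⟩
  · rw [Scheme.basicOpen_appLE]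
    refine ⟨hξU₀, ?_⟩
    show f (genericPoint X) ∈ Y.basicOpen g
    rw [hfξ]; exact hηg
  · refine isFinite_resLE_of_appLE f (hV₀.basicOpen g) (hU₀.basicOpen _) hUV ?_
    haveI := hV₀.isLocalization_basicOpen g
    haveI := hU₀.isLocalization_basicOpen (f.appLE V₀ U₀ hU₀V₀ g)
    rw [IsAffineOpen.appLE_eq_away_map f hV₀ hU₀ hU₀V₀ g]
    exact finite_away_map_of_finite_awayMap _ g _ _ hgfin

/-- quasi-compact case: finiteness over an affine neighbourhood of the generic point. -/
theorem exists_isFinite_morphismRestrict_of_forall_eq_of_quasiCompact [IsIntegral X]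
    [IsIntegral Y] (f : X ⟶ Y) [IsDominant f] [LocallyOfFiniteType f] [QuasiCompact f]
    (hC : ∀ x : X, f.base x = genericPoint Y → x = genericPoint X) :
    ∃ V : Y.Opens, IsAffineOpen V ∧ Nonempty ↥V ∧ IsFinite (f ∣_ V) := by
  have hη : closure {genericPoint Y} ∈ irreducibleComponents ↥Y := by
    rw [(genericPoint_spec Y).def]
    simp [irreducibleComponents_eq_singleton]
  have hfin : (f ⁻¹' {genericPoint Y}).Finite :=
    (Set.finite_singleton (genericPoint X)).subset fun x hx => hC x hx
  obtain ⟨_, ⟨U₀, hU₀, rfl⟩, hξU₀, -⟩ := X.isBasis_affineOpens.exists_subset_of_mem_open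
    (Set.mem_univ (genericPoint X)) isOpen_univ
  have hfD : f ⁻¹' {genericPoint Y} ⊆ (U₀ : Set X) := by
    intro x hx
    rw [hC x hx]; exact hξU₀
  obtain ⟨V, hV, hηV, -, hfinite⟩ := exists_isFinite_morphismRestrict_of_finite_fiber' f hη hfin
    U₀ hU₀.isQuasiSeparated hfD ⊤ trivial
  exact ⟨V, hV, ⟨⟨_, hηV⟩⟩, hfinite⟩

/-- separated case: finiteness over an affine neighbourhood of the generic point. -/
theorem exists_isFinite_morphismRestrict_of_forall_eq_of_isSeparated [IsIntegral X]
    [IsIntegral Y] (f : X ⟶ Y) [IsDominant f] [LocallyOfFiniteType f] [IsSeparated f]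
    (hC : ∀ x : X, f.base x = genericPoint Y → x = genericPoint X) :
    ∃ V : Y.Opens, IsAffineOpen V ∧ Nonempty ↥V ∧ IsFinite (f ∣_ V) := by
  obtain ⟨U, V, hUV, hU, hV, hUne, hfinite⟩ := exists_isFinite_resLE_of_forall_eq f hC
  obtain ⟨u⟩ := hUne
  haveI : Nonempty ↥(f ⁻¹ᵁ V) := ⟨⟨u.1, hUV u.2⟩⟩
  have hUW : U = f ⁻¹ᵁ V := by
    refine le_antisymm hUV ?_
    have hprop : IsProper (X.homOfLE hUV ≫ f ∣_ V) := by
      change IsProper (f.resLE V U hUV)
      infer_instance
    haveI : IsProper (X.homOfLE hUV) := IsProper.of_comp (X.homOfLE hUV) (f ∣_ V)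
    have hclosed : IsClosed (Set.range (X.homOfLE hUV)) :=
      (X.homOfLE hUV).isClosedMap.isClosed_range
    have hopen : IsOpen (Set.range (X.homOfLE hUV)) :=
      (X.homOfLE hUV).isOpenEmbedding.isOpen_range
    haveI : Nonempty ↥(f ⁻¹ᵁ V).toScheme := ⟨⟨u.1, hUV u.2⟩⟩
    haveI : IsIntegral (f ⁻¹ᵁ V).toScheme := isIntegral_of_isOpenImmersion (f ⁻¹ᵁ V).ι
    haveI : IrreducibleSpace (f ⁻¹ᵁ V).toScheme := irreducibleSpace_of_isIntegral _
    haveI : PreconnectedSpace (f ⁻¹ᵁ V).toScheme := inferInstance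
    have huniv : Set.range (X.homOfLE hUV) = Set.univ :=
      IsClopen.eq_univ ⟨hclosed, hopen⟩ ⟨_, ⟨u, rfl⟩⟩
    intro x hx
    have : (⟨x, hx⟩ : ↥(f ⁻¹ᵁ V)) ∈ Set.range (X.homOfLE hUV) := huniv ▸ Set.mem_univ _
    obtain ⟨u', hu'⟩ := this
    have h1 : (X.homOfLE hUV u').1 = u'.1 := by simp
    rw [hu'] at h1
    have h2 : x = u'.1 := h1
    rw [h2]
    exact u'.2
  subst hUW
  refine ⟨V, hV, ⟨⟨f u.1, u.2⟩⟩, ?_⟩
  rw [← Scheme.Hom.resLE_eq_morphismRestrict]
  exact hfinite

end Groth.Agent.H20
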