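import Mathlib

/-!
# Geometric irreducibility of the total space of a flat family with geometrically irreducible
generic fibre over a geometrically irreducible base
-/

set_option autoImplicit false
set_option linter.style.haveILetI false
set_option linter.unusedSectionVars false
universe u

open CategoryTheory CategoryTheory.Limits AlgebraicGeometry TopologicalSpace MorphismProperty

namespace Groth.Agent.H20.GeomIrred

/-- A generalizing continuous map of irreducible (quasi-sober, T0) spaces maps the generic point
to the generic point. -/
lemma map_genericPoint_of_generalizingMap {S T : Type*} [TopologicalSpace S] [TopologicalSpace T]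
    [IrreducibleSpace S] [QuasiSober S] [T0Space S] [IrreducibleSpace T] [QuasiSober T]
    {h : S → T} (hh : GeneralizingMap h) : h (genericPoint S) = genericPoint T := by
  obtain ⟨s, hs, hs'⟩ := hh (genericPoint_specializes (h (genericPoint S)))
  have : s = genericPoint S := (hs.antisymm (genericPoint_specializes s)).eq
  rw [← this, hs']

variable {Z W : Scheme.{u}} (g : Z ⟶ W)

/-- A flat scheme over an irreducible base with irreducible generic fibre is irreducible. -/
theorem irreducibleSpace_of_flat_of_fiber [Flat g] [IrreducibleSpace ↥W]
    [IrreducibleSpace ↥(g.fiber (genericPoint ↥W))] : IrreducibleSpace ↥Z := by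
  let η := genericPoint ↥W
  let ζ₀ := genericPoint ↥(g.fiber η)
  let ζ := g.fiberι η ζ₀
  have key : ∀ z : Z, ζ ⤳ z := by
    intro z
    obtain ⟨z', hz'z, hz'⟩ := (Flat.generalizingMap g) (genericPoint_specializes (g z))
    obtain ⟨t, rfl⟩ : z' ∈ Set.range (g.fiberι η) := by rw [g.range_fiberι]; exact hz'
    have h1 : ζ₀ ⤳ t := genericPoint_specializes t
    exact (h1.map (g.fiberι η).continuous).trans hz'z
  have huniv : closure {ζ} = Set.univ := by
    rw [Set.eq_univ_iff_forall]
    intro z
    exact (key z).mem_closure
  refine { isPreirreducible_univ := ?_, toNonempty := ⟨ζ⟩ }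
  rw [← huniv]
  exact isIrreducible_singleton.closure.2

/-- The fibres of a base change of `g` are irreducible as soon as the corresponding fibre of `g`
is geometrically irreducible. -/
theorem irreducibleSpace_fiber_pullback_snd {W' : Scheme.{u}} (h : W' ⟶ W) (w' : W')
    [GeometricallyIrreducible (g.fiberToSpecResidueField (h w'))] :
    IrreducibleSpace ↥((pullback.snd g h).fiber w') := by
  let j := W'.fromSpecResidueField w'
  let j₀ := W.fromSpecResidueField (h w')
  let ρ := Spec.map (h.residueFieldMap w')
  have hj : j ≫ h = ρ ≫ j₀ := (Scheme.Hom.SpecMap_residueFieldMap_fromSpecResidueField h w').symm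
  -- the three pullbacks
  let e₁ : pullback (pullback.snd g h) j ≅ pullback g (j ≫ h) := pullbackLeftPullbackSndIso g h j
  let e₂ : pullback (pullback.snd g j₀) ρ ≅ pullback g (ρ ≫ j₀) :=
    pullbackLeftPullbackSndIso g j₀ ρ
  let e₃ : pullback g (j ≫ h) ≅ pullback g (ρ ≫ j₀) := pullback.congrHom rfl hj
  haveI : IrreducibleSpace ↥(pullback (g.fiberToSpecResidueField (h w')) ρ) :=
    pullback_of_geometrically (P := (IrreducibleSpace ·))
      (GeometricallyIrreducible.geometrically_irreducibleSpace
        (f := g.fiberToSpecResidueField (h w'))) _ (Spec.map (h.residueFieldMap w'))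
  let e : (pullback.snd g h).fiber w' ≅ pullback (g.fiberToSpecResidueField (h w')) ρ :=
    e₁ ≪≫ e₃ ≪≫ e₂.symm
  exact (e.hom.homeomorph).irreducibleSpace_iff.mpr inferInstance

/-- Morphisms between spectra of fields are flat. -/
lemma flat_of_field {k K : Type u} [Field k] [Field K]
    (y : Spec (.of K) ⟶ Spec (.of k)) : Flat y := by
  obtain ⟨φ, rfl⟩ := Spec.map_surjective y
  rw [HasRingHomProperty.Spec_iff (P := @Flat)]
  algebraize [φ.hom]
  change Module.Flat k K
  infer_instance

/-- **Geometric irreducibility of a flat family**: if `C` is irreducible and geometrically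
irreducible over the field `k`, and `f : X ⟶ C` is flat with geometrically irreducible generic
fibre, then `X` is geometrically irreducible over `k`. -/
theorem geometricallyIrreducible_comp_of_flat {k : Type u} [Field k] {X C : Scheme.{u}}
    (f : X ⟶ C) (c : C ⟶ Spec (.of k)) [IrreducibleSpace ↥C] [GeometricallyIrreducible c] [Flat f]
    [GeometricallyIrreducible (f.fiberToSpecResidueField (genericPoint ↥C))] :
    GeometricallyIrreducible (f ≫ c) := by
  rw [geometricallyIrreducible_iff, geometrically_iff_of_isClosedUnderIsomorphisms]
  intro K _ y
  haveI : Flat y := flat_of_field y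
  let h := pullback.fst c y
  haveI : IrreducibleSpace ↥(pullback c y) :=
    pullback_of_geometrically (P := (IrreducibleSpace ·))
      (GeometricallyIrreducible.geometrically_irreducibleSpace (f := c)) K y
  have hη : h (genericPoint ↥(pullback c y)) = genericPoint ↥C :=
    map_genericPoint_of_generalizingMap (Flat.generalizingMap h)
  haveI : GeometricallyIrreducible
      (f.fiberToSpecResidueField (h (genericPoint ↥(pullback c y)))) := by
    rw [hη]; infer_instance
  haveI := irreducibleSpace_fiber_pullback_snd f h (genericPoint ↥(pullback c y))
  haveI : IrreducibleSpace ↥(pullback f h) := irreducibleSpace_of_flat_of_fiber (pullback.snd f h)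
  exact ((pullbackRightPullbackFstIso c y f).hom.homeomorph).irreducibleSpace_iff.mp inferInstance

end Groth.Agent.H20.GeomIrred
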