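import Mathlib.AlgebraicGeometry.SpreadingOut
import Mathlib.AlgebraicGeometry.Properties
import Mathlib.Topology.Irreducible

set_option autoImplicit false
universe u

namespace Groth.Agent.H20

open AlgebraicGeometry CategoryTheory TopologicalSpace Opposite

/-- A reduced scheme with finitely many irreducible components is germ-injective at every point. -/
theorem isGermInjectiveAt_of_isReduced_of_finite_irreducibleComponents (X : Scheme.{u})
    [AlgebraicGeometry.IsReduced X] (hirr : (irreducibleComponents (X : Type u)).Finite) (x : X) :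
    X.IsGermInjectiveAt x := by
  -- the union of the components not containing `x`
  set T : Set X := ⋃ Z ∈ {Z ∈ irreducibleComponents (X : Type u) | x ∉ Z}, Z with hT
  have hTcl : IsClosed T := by
    apply Set.Finite.isClosed_biUnion (hirr.subset (fun Z hZ => hZ.1))
    intro Z hZ
    exact isClosed_of_mem_irreducibleComponents Z hZ.1
  have hxT : x ∉ T := by
    intro h
    simp only [hT, Set.mem_iUnion] at h
    obtain ⟨Z, hZ, hxZ⟩ := h
    exact hZ.2 hxZ
  obtain ⟨U, hU, hxU, hUT⟩ := exists_isAffineOpen_mem_and_subset (x := x)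
    (U := ⟨Tᶜ, hTcl.isOpen_compl⟩) hxT
  refine ⟨⟨U, hxU, hU, ?_⟩⟩
  rw [injective_iff_map_eq_zero]
  intro s hs
  by_contra hne
  -- `s` vanishes on a neighbourhood `W` of `x`
  have hs' : (X.presheaf.germ U x hxU).hom s = (X.presheaf.germ U x hxU).hom 0 := by
    rw [map_zero]; exact hs
  obtain ⟨W, hxW, iU, iV, hW⟩ := TopCat.Presheaf.germ_eq X.presheaf x hxU hxU s 0 hs'
  rw [map_zero] at hW
  -- `D(s)` is nonempty
  have hbo : X.basicOpen s ≠ ⊥ := fun h => hne ((basicOpen_eq_bot_iff s).mp h)
  obtain ⟨y, hy⟩ : (X.basicOpen s : Set X).Nonempty := by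
    rw [Set.nonempty_iff_ne_empty]
    intro h
    exact hbo (Opens.ext h)
  have hyU : y ∈ U := X.basicOpen_le s hy
  -- `D(s)` does not meet `W`
  have hdisj : ∀ z : X, z ∈ X.basicOpen s → z ∈ W → False := by
    intro z hz hzW
    have hzU : z ∈ U := X.basicOpen_le s hz
    have h1 : IsUnit ((X.presheaf.germ U z hzU).hom s) := (Scheme.mem_basicOpen X s z hzU).mp hz
    have h2 : (X.presheaf.germ U z hzU).hom s = 0 := by
      have := TopCat.Presheaf.germ_res_apply X.presheaf iU z hzW s
      rw [← this, hW, map_zero]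
    rw [h2] at h1
    exact not_isUnit_zero h1
  -- the irreducible component through `y` contains `x`
  set Z := irreducibleComponent y with hZ
  have hZmem : Z ∈ irreducibleComponents (X : Type u) := irreducibleComponent_mem_irreducibleComponents y
  have hyZ : y ∈ Z := mem_irreducibleComponent
  have hxZ : x ∈ Z := by
    by_contra hxZ
    have : y ∈ T := by
      simp only [hT, Set.mem_iUnion]
      exact ⟨Z, ⟨hZmem, hxZ⟩, hyZ⟩
    exact hUT hyU this
  have hirrZ : IsIrreducible Z := isIrreducible_irreducibleComponent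
  obtain ⟨z, -, hz1, hz2⟩ := hirrZ.2 (X.basicOpen s : Set X) (W : Set X) (X.basicOpen s).2 W.2
    ⟨y, hyZ, hy⟩ ⟨x, hxZ, hxW⟩
  exact hdisj z hz1 hz2

end Groth.Agent.H20
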