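import Mathlib
import Groth.Agent.H20.SchImage

/-!
# Extending a morphism from the generic fibre: schematic closure of the graph
-/

set_option autoImplicit false
universe u

open CategoryTheory CategoryTheory.Limits AlgebraicGeometry TopologicalSpace Opposite

namespace Groth.Agent.H20.GraphClosure

open Groth.Agent.H20.SchImage

/-- The inclusion of the generic point of an integral scheme is quasi-compact. -/
lemma quasiCompact_fromSpecStalk_genericPoint (T : Scheme.{u}) [IsIntegral T] :
    QuasiCompact (T.fromSpecStalk (genericPoint T)) := by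
  have : Finite (Spec (T.presheaf.stalk (genericPoint T))) := by
    change Finite (PrimeSpectrum T.functionField)
    infer_instance
  exact ⟨fun U _ _ => (Set.toFinite _).isCompact⟩

/-- The inclusion of the generic point of an integral scheme is scheme-theoretically dominant. -/
lemma isSchemeTheoreticallyDominant_fromSpecStalk_genericPoint (T : Scheme.{u}) [IsIntegral T] :
    IsSchemeTheoreticallyDominant (T.fromSpecStalk (genericPoint T)) := by
  have : IsDominant (T.fromSpecStalk (genericPoint T)) := by
    constructor
    rw [DenseRange, Scheme.range_fromSpecStalk]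
    have hsub : ({genericPoint T} : Set T) ⊆ {y | y ⤳ genericPoint T} := by
      rintro _ rfl
      exact specializes_rfl
    refine Dense.mono hsub ?_
    rw [dense_iff_closure_eq]
    exact (genericPoint_spec T).def
  exact IsSchemeTheoreticallyDominant.of_isDominant _

/-- **Extension criterion via the schematic closure of the graph.** -/
theorem main (T Y Z : Scheme.{u}) [IsIntegral T]
    (pY : Y ⟶ T) (pZ : Z ⟶ T) [Flat pY] [IsSeparated pZ]
    (ψ : pullback pY (T.fromSpecStalk (genericPoint T)) ⟶ Z)
    (gr : pullback pY (T.fromSpecStalk (genericPoint T)) ⟶ pullback pY pZ)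
    (hgr₁ : gr ≫ pullback.fst pY pZ = pullback.fst pY (T.fromSpecStalk (genericPoint T)))
    (hgr₂ : gr ≫ pullback.snd pY pZ = ψ) :
    (∃ φ : Y ⟶ Z, φ ≫ pZ = pY ∧ pullback.fst pY (T.fromSpecStalk (genericPoint T)) ≫ φ = ψ) ↔
      IsIso (gr.imageι ≫ pullback.fst pY pZ) := by
  constructor
  · rintro ⟨φ, hφ, hψ⟩
    have hqc := quasiCompact_fromSpecStalk_genericPoint T
    have hdom := isSchemeTheoreticallyDominant_fromSpecStalk_genericPoint T
    have hj : IsSchemeTheoreticallyDominant
        (pullback.fst pY (T.fromSpecStalk (genericPoint T))) := inferInstance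
    let Γφ : Y ⟶ pullback pY pZ := pullback.lift (𝟙 Y) φ (by rw [Category.id_comp, hφ])
    have hΓ1 : Γφ ≫ pullback.fst pY pZ = 𝟙 Y := pullback.lift_fst _ _ _
    have hΓ2 : Γφ ≫ pullback.snd pY pZ = φ := pullback.lift_snd _ _ _
    have hci : IsClosedImmersion Γφ := by
      have : IsClosedImmersion (Γφ ≫ pullback.fst pY pZ) := by rw [hΓ1]; infer_instance
      exact IsClosedImmersion.of_comp Γφ (pullback.fst pY pZ)
    have hgr : gr = pullback.fst pY (T.fromSpecStalk (genericPoint T)) ≫ Γφ := by
      apply pullback.hom_ext
      · rw [hgr₁, Category.assoc, hΓ1, Category.comp_id]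
      · rw [hgr₂, Category.assoc, hΓ2, hψ]
    have hker : gr.ker = Γφ.ker := by
      rw [hgr, Scheme.Hom.ker_comp, Scheme.Hom.ker_eq_bot, Scheme.IdealSheafData.map_bot]
    have key : ∀ K : (pullback pY pZ).IdealSheafData, K = Γφ.ker →
        IsIso (K.subschemeι ≫ pullback.fst pY pZ) := by
      rintro K rfl
      have e : Γφ.ker.subschemeι = inv Γφ.toImage ≫ Γφ := by
        rw [IsIso.eq_inv_comp]
        exact Γφ.toImage_imageι
      rw [e, Category.assoc, hΓ1, Category.comp_id]
      infer_instance
    exact key _ hker
  · intro hiso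
    refine ⟨inv (gr.imageι ≫ pullback.fst pY pZ) ≫ gr.imageι ≫ pullback.snd pY pZ, ?_, ?_⟩
    · rw [Category.assoc, Category.assoc, ← pullback.condition, IsIso.inv_comp_eq]
      simp only [Category.assoc]
    · have h1 : pullback.fst pY (T.fromSpecStalk (genericPoint T)) =
          gr.toImage ≫ (gr.imageι ≫ pullback.fst pY pZ) := by
        rw [Scheme.Hom.toImage_imageι_assoc, hgr₁]
      rw [h1, Category.assoc, IsIso.hom_inv_id_assoc, Scheme.Hom.toImage_imageι_assoc, hgr₂]

end Groth.Agent.H20.GraphClosure
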