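import Groth.Agent.H97.ProjProper
import Groth.Agent.H48.ProjSpace
import Groth.Agent.S1616
import Groth.Prelude.Def_RelProj

/-!
# H-projective morphisms: composition, and comparison with H-quasi-projective + proper
-/

set_option autoImplicit false
universe u
open CategoryTheory CategoryTheory.Limits AlgebraicGeometry

namespace Groth.Agent.H20.HProj

open Groth.Agent.H48

/-- A closed immersion into `P^n_S` gives an H-projective and proper morphism. -/
theorem isProper_of_isHProjective {X S : Scheme.{u}} (f : X ⟶ S) (hf : RelProj.IsHProjective f) :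
    IsProper f := by
  obtain ⟨n, i, hi, rfl⟩ := hf
  have := Groth.Agent.H97.ProjProper.isProper_toBase n S
  infer_instance

theorem isHProjective_iff {X S : Scheme.{u}} (f : X ⟶ S) :
    RelProj.IsHProjective f ↔ RelProj.IsHQuasiProjective f ∧ IsProper f := by
  constructor
  · intro hf
    refine ⟨?_, isProper_of_isHProjective f hf⟩
    obtain ⟨n, i, hi, rfl⟩ := hf
    exact ⟨n, i, inferInstance, inferInstance, rfl⟩
  · rintro ⟨⟨n, i, hi, hqc, rfl⟩, hp⟩
    have := Groth.Agent.H97.ProjProper.isProper_toBase n S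
    have hip : IsProper i := IsProper.of_comp i (CohB1.ProjSpaceOver.toBase n S)
    refine ⟨n, i, ?_, rfl⟩
    exact IsClosedImmersion.of_isPreimmersion i i.isClosedMap.isClosed_range

/-- Composition of H-projective morphisms. -/
theorem isHProjective_comp {X Y Z : Scheme.{u}} (f : X ⟶ Y) (g : Y ⟶ Z)
    (hf : RelProj.IsHProjective f) (hg : RelProj.IsHProjective g) :
    RelProj.IsHProjective (f ≫ g) := by
  obtain ⟨n, i, hi, rfl⟩ := hf
  obtain ⟨m, j, hj, rfl⟩ := hg
  obtain ⟨φ, hφ, hφc⟩ := Groth.Agent.S1616.result Z n m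
  -- `P^n_Y ⟶ P^n_Z ×_Z P^m_Z`
  let a : CohB1.ProjSpaceOver n Y ⟶ CohB1.ProjSpaceOver n Z :=
    projSpaceOverMap n (j ≫ CohB1.ProjSpaceOver.toBase m Z)
  have hpb := isPullback_projSpaceOverMap n (j ≫ CohB1.ProjSpaceOver.toBase m Z)
  let k : CohB1.ProjSpaceOver n Y ⟶
      pullback (CohB1.ProjSpaceOver.toBase n Z) (CohB1.ProjSpaceOver.toBase m Z) :=
    pullback.lift a (CohB1.ProjSpaceOver.toBase n Y ≫ j) (by rw [hpb.w, Category.assoc])
  have hk1 : k ≫ pullback.fst _ _ = a := pullback.lift_fst _ _ _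
  have hk2 : k ≫ pullback.snd _ _ = CohB1.ProjSpaceOver.toBase n Y ≫ j := pullback.lift_snd _ _ _
  -- `k` is a base change of `j`
  have hkpb : IsPullback k (CohB1.ProjSpaceOver.toBase n Y) (pullback.snd _ _) j := by
    have hbig : IsPullback (k ≫ pullback.fst _ _) (CohB1.ProjSpaceOver.toBase n Y)
        (CohB1.ProjSpaceOver.toBase n Z) (j ≫ CohB1.ProjSpaceOver.toBase m Z) := by
      rw [hk1]; exact hpb
    exact IsPullback.of_right hbig hk2
      (IsPullback.of_hasPullback (CohB1.ProjSpaceOver.toBase n Z)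
        (CohB1.ProjSpaceOver.toBase m Z))
  have hkc : IsClosedImmersion k :=
    MorphismProperty.of_isPullback (P := @IsClosedImmersion) hkpb.flip hj
  refine ⟨n * m + n + m, i ≫ k ≫ φ, inferInstance, ?_⟩
  rw [Category.assoc, Category.assoc, hφc, ← Category.assoc k, hk1]
  rw [hpb.w]
  simp only [Category.assoc]

end Groth.Agent.H20.HProj
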