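import Mathlib.RingTheory.Henselian
import Mathlib.RingTheory.QuasiFinite.Basic
import Mathlib.RingTheory.Ideal.Pure
import Mathlib.RingTheory.AdjoinRoot
import Mathlib.RingTheory.Nakayama
import Mathlib.RingTheory.Flat.Localization
import Mathlib.RingTheory.RingHom.FiniteType
import Mathlib.RingTheory.Idempotents

set_option autoImplicit false
universe u

namespace Groth.Agent.H20

open Polynomial IsLocalRing

/-- A local ring such that every finite type algebra splits as (finite) × (nowhere quasi-finite
over the closed point) is henselian. -/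
theorem henselianLocalRing_of_forall_exists_idempotent (R : Type u) [CommRing R] [IsLocalRing R]
    (h : ∀ (S : Type u) [CommRing S] [Algebra R S] [Algebra.FiniteType R S],
      ∃ e : S, IsIdempotentElem e ∧ Module.Finite R (S ⧸ Ideal.span ({1 - e} : Set S)) ∧
        ∀ (q : Ideal (S ⧸ Ideal.span ({e} : Set S))) [q.IsPrime],
          q.LiesOver (IsLocalRing.maximalIdeal R) → ¬ Algebra.QuasiFiniteAt R q) :
    HenselianLocalRing R := by
  constructor
  intro f hf a₀ h₁ h₂
  -- the divided difference
  set q : R[X] := (f - C (f.eval a₀)) /ₘ (X - C a₀) with hq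
  have hfq : (X - C a₀) * q = f - C (f.eval a₀) :=
    mul_divByMonic_eq_iff_isRoot.mpr (by simp [IsRoot])
  have hqa : q.eval a₀ = f.derivative.eval a₀ := by
    have := congrArg (fun p => (derivative p).eval a₀) hfq
    simpa using this
  have hqu : IsUnit (q.eval a₀) := hqa ▸ h₂
  -- the algebras
  haveI := hf.free_adjoinRoot
  haveI := hf.finite_adjoinRoot
  let S₀ := AdjoinRoot f
  let g : S₀ := AdjoinRoot.mk f q
  let S := Localization.Away g
  haveI : Algebra.FiniteType R S :=
    Algebra.FiniteType.trans (inferInstance : Algebra.FiniteType R S₀)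
      (IsLocalization.finiteType_of_monoid_fg (Submonoid.powers g) S)
  let I : Ideal S := (maximalIdeal R).map (algebraMap R S)
  -- congruences modulo `I`
  have hroot : algebraMap S₀ S (AdjoinRoot.root f - AdjoinRoot.of f a₀) ∈ I := by
    have h1 : (AdjoinRoot.root f - AdjoinRoot.of f a₀) * g = - AdjoinRoot.of f (f.eval a₀) := by
      have := congrArg (AdjoinRoot.mk f) hfq
      simpa [g, AdjoinRoot.mk_X, AdjoinRoot.mk_C, AdjoinRoot.mk_self] using this
    have h2 : algebraMap S₀ S (AdjoinRoot.root f - AdjoinRoot.of f a₀) =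
        - algebraMap R S (f.eval a₀) * IsLocalization.Away.invSelf g := by
      have h3 := congrArg (algebraMap S₀ S) h1
      rw [map_mul, map_neg] at h3
      have h4 : algebraMap S₀ S (AdjoinRoot.of f (f.eval a₀)) = algebraMap R S (f.eval a₀) := by
        rw [IsScalarTower.algebraMap_apply R S₀ S, AdjoinRoot.algebraMap_eq]
      rw [h4] at h3
      calc algebraMap S₀ S (AdjoinRoot.root f - AdjoinRoot.of f a₀)
          = algebraMap S₀ S (AdjoinRoot.root f - AdjoinRoot.of f a₀) *
            (algebraMap S₀ S g * IsLocalization.Away.invSelf g) := by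
              rw [IsLocalization.Away.mul_invSelf, mul_one]
        _ = - algebraMap R S (f.eval a₀) * IsLocalization.Away.invSelf g := by
              rw [← mul_assoc, h3]
    rw [h2]
    exact I.mul_mem_right _ (I.neg_mem (Ideal.mem_map_of_mem _ h₁))
  have hcong : ∀ p : R[X], algebraMap S₀ S (AdjoinRoot.mk f p) - algebraMap R S (p.eval a₀) ∈ I := by
    intro p
    obtain ⟨p', hp'⟩ := Polynomial.X_sub_C_dvd_sub_C_eval (a := a₀) (p := p)
    have h1 : AdjoinRoot.mk f p - AdjoinRoot.of f (p.eval a₀) =
        (AdjoinRoot.root f - AdjoinRoot.of f a₀) * AdjoinRoot.mk f p' := by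
      have := congrArg (AdjoinRoot.mk f) hp'
      simpa [AdjoinRoot.mk_X, AdjoinRoot.mk_C] using this
    have h4 : algebraMap S₀ S (AdjoinRoot.of f (p.eval a₀)) = algebraMap R S (p.eval a₀) := by
      rw [IsScalarTower.algebraMap_apply R S₀ S, AdjoinRoot.algebraMap_eq]
    rw [← h4, ← map_sub, h1, map_mul]
    exact I.mul_mem_right _ hroot
  -- the character to the residue field
  let χ₀ : S₀ →+* ResidueField R := AdjoinRoot.lift (residue R) (residue R a₀) (by
    rw [Polynomial.eval₂_at_apply]
    exact (residue_eq_zero_iff _).mpr h₁)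
  have hχ₀g : IsUnit (χ₀ g) := by
    have : χ₀ g = residue R (q.eval a₀) := by
      show AdjoinRoot.lift _ _ _ (AdjoinRoot.mk f q) = _
      rw [AdjoinRoot.lift_mk, Polynomial.eval₂_at_apply]
    rw [this]
    exact hqu.map _
  let χ : S →+* ResidueField R := IsLocalization.Away.lift g hχ₀g
  have hχ : ∀ r : R, χ (algebraMap R S r) = residue R r := by
    intro r
    rw [IsScalarTower.algebraMap_apply R S₀ S, IsLocalization.Away.lift_eq,
      AdjoinRoot.algebraMap_eq, AdjoinRoot.lift_of]
  have hIχ : I ≤ RingHom.ker χ := by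
    rw [Ideal.map_le_iff_le_comap]
    intro r hr
    rw [Ideal.mem_comap, RingHom.mem_ker, hχ]
    exact (residue_eq_zero_iff _).mpr hr
  have hI1 : (1 : S) ∉ I := fun h1 => by
    have := hIχ h1
    rw [RingHom.mem_ker, map_one] at this
    exact one_ne_zero this
  -- every element of `S` is congruent to an element of `R`
  have hT : ∀ s : S, ∃ r : R, s - algebraMap R S r ∈ I := by
    let T : Subalgebra R S :=
      { carrier := {s | ∃ r : R, s - algebraMap R S r ∈ I}
        mul_mem' := by
          rintro s s' ⟨r, hr⟩ ⟨r', hr'⟩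
          refine ⟨r * r', ?_⟩
          have : s * s' - algebraMap R S (r * r') =
              (s - algebraMap R S r) * s' + algebraMap R S r * (s' - algebraMap R S r') := by
            rw [map_mul]; ring
          rw [this]
          exact I.add_mem (I.mul_mem_right _ hr) (I.mul_mem_left _ hr')
        add_mem' := by
          rintro s s' ⟨r, hr⟩ ⟨r', hr'⟩
          refine ⟨r + r', ?_⟩
          have : s + s' - algebraMap R S (r + r') =
              (s - algebraMap R S r) + (s' - algebraMap R S r') := by
            rw [map_add]; ring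
          rw [this]
          exact I.add_mem hr hr'
        algebraMap_mem' := fun r => ⟨r, by simp⟩ }
    have hT₀ : ∀ z : S₀, algebraMap S₀ S z ∈ T := by
      intro z
      obtain ⟨p, rfl⟩ := AdjoinRoot.mk_surjective z
      exact ⟨p.eval a₀, hcong p⟩
    have hTinv : IsLocalization.Away.invSelf g ∈ T := by
      obtain ⟨v, hv⟩ := hqu.exists_left_inv
      refine ⟨v, ?_⟩
      have : IsLocalization.Away.invSelf g - algebraMap R S v =
          - (IsLocalization.Away.invSelf g * algebraMap R S v *
            (algebraMap S₀ S g - algebraMap R S (q.eval a₀))) := by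
        have e1 : algebraMap S₀ S g * IsLocalization.Away.invSelf g = 1 :=
          IsLocalization.Away.mul_invSelf g
        have e2 : algebraMap R S v * algebraMap R S (q.eval a₀) = 1 := by
          rw [← map_mul, hv, map_one]
        linear_combination (algebraMap R S v) * e1 - (IsLocalization.Away.invSelf g) * e2
      rw [this]
      exact I.neg_mem (I.mul_mem_left _ (hcong q))
    intro s
    obtain ⟨n, a, hna⟩ := IsLocalization.Away.surj g s
    have : s = algebraMap S₀ S a * IsLocalization.Away.invSelf g ^ n := by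
      rw [← hna, mul_assoc, ← mul_pow, IsLocalization.Away.mul_invSelf, one_pow, mul_one]
    rw [this]
    exact T.mul_mem (hT₀ a) (T.pow_mem hTinv n)
  -- apply the hypothesis
  obtain ⟨e, he, hfin, hqf⟩ := h S
  let A := S ⧸ Ideal.span ({1 - e} : Set S)
  let B := S ⧸ Ideal.span ({e} : Set S)
  -- `B` has no prime over the maximal ideal
  haveI : Algebra.QuasiFinite R S₀ := inferInstance
  haveI : Algebra.QuasiFinite R S := inferInstance
  haveI : Algebra.QuasiFinite R B := inferInstance
  have hB : (maximalIdeal R).map (algebraMap R B) = ⊤ := by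
    by_contra hne
    obtain ⟨M, hM, hle⟩ := Ideal.exists_le_maximal _ hne
    haveI := hM.isPrime
    have hcomap : maximalIdeal R = M.comap (algebraMap R B) :=
      Ideal.IsMaximal.eq_of_le (maximalIdeal.isMaximal R) (Ideal.comap_ne_top _ hM.ne_top)
        (Ideal.map_le_iff_le_comap.mp hle)
    exact hqf M ⟨hcomap⟩ inferInstance
  -- hence `1 - e ∈ I`
  have he1 : (1 : S) - e ∈ I := by
    have h1 : I.map (Ideal.Quotient.mk (Ideal.span ({e} : Set S))) = ⊤ := by
      rw [← hB, Ideal.map_map]
      rfl
    have h2 : I ⊔ Ideal.span ({e} : Set S) = ⊤ := by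
      have := Ideal.comap_map_of_surjective (Ideal.Quotient.mk (Ideal.span ({e} : Set S)))
        Ideal.Quotient.mk_surjective I
      rw [h1, Ideal.comap_top, ← RingHom.ker_eq_comap_bot, Ideal.mk_ker] at this
      exact this.symm
    obtain ⟨μ, hμ, t, ht, hsum⟩ := Submodule.mem_sup.mp (h2 ▸ Submodule.mem_top : (1 : S) ∈ I ⊔ _)
    obtain ⟨s, rfl⟩ := Ideal.mem_span_singleton'.mp ht
    have : (1 : S) - e = μ * (1 - e) := by
      have he' : e * e = e := he
      linear_combination (e - 1) * hsum - s * he'
    rw [this]
    exact I.mul_mem_right _ hμ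
  -- `R → A` is surjective (Nakayama)
  haveI : Module.Finite R A := hfin
  have hmapA : I.map (Ideal.Quotient.mk (Ideal.span ({1 - e} : Set S))) =
      (maximalIdeal R).map (algebraMap R A) := by
    rw [Ideal.map_map]
    rfl
  have hsurj : Function.Surjective (algebraMap R A) := by
    let N : Submodule R A := LinearMap.range (Algebra.linearMap R A)
    have hle : (⊤ : Submodule R A) ≤ N ⊔ (maximalIdeal R) • (⊤ : Submodule R A) := by
      intro a _
      obtain ⟨s, rfl⟩ := Ideal.Quotient.mk_surjective a
      obtain ⟨r, hr⟩ := hT s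
      have hs : Ideal.Quotient.mk (Ideal.span ({1 - e} : Set S)) s = algebraMap R A r +
          Ideal.Quotient.mk (Ideal.span ({1 - e} : Set S)) (s - algebraMap R S r) := by
        rw [map_sub]
        have : Ideal.Quotient.mk (Ideal.span ({1 - e} : Set S)) (algebraMap R S r) =
          algebraMap R A r := rfl
        rw [this]
        ring
      rw [hs]
      refine Submodule.add_mem_sup ⟨r, rfl⟩ ?_
      have : Ideal.Quotient.mk (Ideal.span ({1 - e} : Set S)) (s - algebraMap R S r) ∈
          (maximalIdeal R).map (algebraMap R A) := hmapA ▸ Ideal.mem_map_of_mem _ hr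
      rw [Ideal.smul_top_eq_map]
      exact this
    have hN := Submodule.le_of_le_smul_of_le_jacobson_bot (Module.Finite.fg_top)
      (IsLocalRing.maximalIdeal_le_jacobson _) hle
    intro a
    obtain ⟨r, hr⟩ := hN (Submodule.mem_top : a ∈ ⊤)
    exact ⟨r, hr⟩
  -- `A` is flat over `R`
  haveI : Module.Flat R S₀ := inferInstance
  haveI : Module.Flat S₀ S := IsLocalization.flat S (Submonoid.powers g)
  haveI : Module.Flat R S := Module.Flat.trans R S₀ S
  haveI : Module.Flat R A := by
    have e1 := AlgEquiv.prodQuotientOfIsIdempotentElem R he he.one_sub (by simp)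
      (by rw [mul_sub, mul_one, he.eq, sub_self])
    haveI : Module.Flat R (B × A) := Module.Flat.of_linearEquiv e1.toLinearEquiv.symm
    exact Module.Flat.of_retract (LinearMap.inr R B A) (LinearMap.snd R B A) (by ext; simp)
  have hAnontriv : (1 : S) ∉ Ideal.span ({1 - e} : Set S) := fun h1 =>
    hI1 ((Ideal.span_singleton_le_iff_mem I).mpr he1 h1)
  -- `R → A` is injective (purity)
  have hinj : Function.Injective (algebraMap R A) := by
    rw [injective_iff_map_eq_zero]
    intro r hr
    let K : Ideal R := RingHom.ker (algebraMap R A)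
    haveI : K.Pure := by
      have e2 : (R ⧸ K) ≃ₐ[R] A :=
        Ideal.quotientKerAlgEquivOfSurjective (f := Algebra.ofId R A) hsurj
      exact Module.Flat.of_linearEquiv e2.toLinearEquiv
    obtain ⟨y, hy, hry⟩ := Ideal.exists_eq_mul_of_pure (I := K) (x := r) hr
    have hym : y ∈ nonunits R := by
      intro hyu
      have h1K : (1 : R) ∈ K := (Ideal.eq_top_of_isUnit_mem K hy hyu) ▸ Submodule.mem_top
      have h1A : (algebraMap R A) 1 = 0 := h1K
      rw [map_one] at h1A
      exact hAnontriv (Ideal.Quotient.eq_zero_iff_mem.mp h1A)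
    have hu : IsUnit (1 - y) := IsLocalRing.isUnit_one_sub_self_of_mem_nonunits y hym
    have h0 : r * (1 - y) = 0 := by rw [mul_sub, mul_one, ← hry, sub_self]
    exact hu.mul_left_eq_zero.mp h0
  -- the root
  let ρ : R ≃+* A := RingEquiv.ofBijective (algebraMap R A) ⟨hinj, hsurj⟩
  let φ : S₀ →ₐ[R] A := (Ideal.Quotient.mkₐ R (Ideal.span ({1 - e} : Set S))).comp
    (IsScalarTower.toAlgHom R S₀ S)
  let xA : A := φ (AdjoinRoot.root f)
  have hρ : algebraMap R A (ρ.symm xA) = xA := ρ.apply_symm_apply xA
  refine ⟨ρ.symm xA, ?_, ?_⟩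
  · apply hinj
    rw [map_zero, ← Polynomial.aeval_algebraMap_apply_eq_algebraMap_eval, hρ,
      Polynomial.aeval_algHom_apply, AdjoinRoot.aeval_eq, AdjoinRoot.mk_self, map_zero]
  · have hx : xA - algebraMap R A a₀ ∈ (maximalIdeal R).map (algebraMap R A) := by
      have h1 := hcong X
      rw [AdjoinRoot.mk_X, Polynomial.eval_X] at h1
      have h2 := Ideal.mem_map_of_mem (Ideal.Quotient.mk (Ideal.span ({1 - e} : Set S))) h1
      rw [hmapA, map_sub] at h2
      exact h2
    have h3 : algebraMap R A (ρ.symm xA - a₀) = xA - algebraMap R A a₀ := by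
      rw [map_sub, hρ]
    rw [← h3] at hx
    have := Ideal.mem_comap.mpr hx
    rwa [Ideal.comap_map_of_bijective (algebraMap R A) ⟨hinj, hsurj⟩] at this

end Groth.Agent.H20
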