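import Groth.Agent.H96.FiniteTypeExt

/-!
# A quasi-coherent ideal on a qcqs scheme is the directed union of its finite type subideals
(Stacks 01PG for ideal sheaves), and a closed subscheme is the limit of the finitely presented
closed subschemes containing it.
-/

set_option autoImplicit false
universe u
open CategoryTheory CategoryTheory.Limits AlgebraicGeometry TopologicalSpace Opposite

namespace Groth.Agent.H20.IdealDirected

open Scheme.IdealSheafData Groth.Agent.H96.FiniteTypeExt

variable {X : Scheme.{u}}

/-- An ideal sheaf is of finite type if it is finitely generated on every affine open. -/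
def IsFT (I : X.IdealSheafData) : Prop := ∀ V : X.affineOpens, (I.ideal V).FG

lemma isFT_sup {I J : X.IdealSheafData} (hI : IsFT I) (hJ : IsFT J) : IsFT (I ⊔ J) := fun V => by
  rw [ideal_sup]
  exact Submodule.FG.sup (hI V) (hJ V)

lemma isFT_bot : IsFT (⊥ : X.IdealSheafData) := fun V => by
  rw [ideal_bot]
  exact Submodule.fg_bot

/-- Every local section of an ideal sheaf on a qcqs scheme lies in a finite type subideal
sheaf. -/
theorem exists_fg_le_mem [CompactSpace X] [QuasiSeparatedSpace X] (K : X.IdealSheafData)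
    (A : X.affineOpens) (s : Γ(X, A.1)) (hs : s ∈ K.ideal A) :
    ∃ I : X.IdealSheafData, I ≤ K ∧ IsFT I ∧ s ∈ I.ideal A := by
  have hAo : IsAffineOpen A.1 := A.2
  set K' : X.IdealSheafData := K ⊓ cut hAo (Ideal.span {s}) with hK'
  have hA : K'.ideal A = Ideal.span {s} := by
    rw [hK', ideal_inf]
    have h1 : (cut hAo (Ideal.span {s})).ideal A = Ideal.span {s} := cut_ideal_self hAo _
    change K.ideal A ⊓ (cut hAo (Ideal.span {s})).ideal A = _
    rw [h1]
    exact inf_eq_right.mpr ((Ideal.span_singleton_le_iff_mem _).mpr hs)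
  have hfg : ∀ V : X.affineOpens, V.1 ≤ A.1 → (K'.ideal V).FG := by
    intro V hV
    apply fg_ideal_of_forall
    intro x hx
    exact ⟨A, hV hx, by rw [hA]; exact ⟨{s}, by simp⟩⟩
  obtain ⟨I, hI, hIfg, hIeq⟩ := exists_le_fg K' A.1 A.2.isCompact hfg
  refine ⟨I, hI.trans inf_le_left, hIfg, ?_⟩
  rw [hIeq A le_rfl, hA]
  exact Ideal.mem_span_singleton_self s

/-- An ideal sheaf on a qcqs scheme is the supremum of its finite type subideal sheaves. -/
theorem le_of_forall_fg_le [CompactSpace X] [QuasiSeparatedSpace X] (K L : X.IdealSheafData)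
    (h : ∀ I : X.IdealSheafData, I ≤ K → IsFT I → I ≤ L) : K ≤ L := by
  intro A s hs
  obtain ⟨I, hIK, hIfg, hsI⟩ := exists_fg_le_mem K A s hs
  exact h I hIK hIfg A hsI

end Groth.Agent.H20.IdealDirected
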