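import Mathlib.RingTheory.Spectrum.Prime.Topology
import Mathlib.RingTheory.Localization.Away.Basic
import Mathlib.RingTheory.Localization.FractionRing
import Mathlib.RingTheory.Idempotents

set_option autoImplicit false
universe u

namespace Groth.Agent.H20

section Algebra

variable {A : Type*} [CommRing A] (ϖ : A)

/-- If `ϖ` is a nonzerodivisor of `A` and `A/ϖA` is reduced (in the weak form
`a² ∈ ϖA → a ∈ ϖA`), then every idempotent of `A[1/ϖ]` comes from an idempotent of `A`. -/
theorem exists_idempotent_of_localizationAway (hreg : ϖ ∈ nonZeroDivisors A)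
    (hred : ∀ a : A, a * a ∈ Ideal.span {ϖ} → a ∈ Ideal.span {ϖ})
    (L : Type*) [CommRing L] [Algebra A L] [IsLocalization.Away ϖ L] (e' : L)
    (he' : IsIdempotentElem e') :
    ∃ e : A, IsIdempotentElem e ∧ algebraMap A L e = e' := by
  have hinj : Function.Injective (algebraMap A L) :=
    IsLocalization.injective L (Submonoid.powers_le.mpr hreg)
  have hunit : IsUnit (algebraMap A L ϖ) := IsLocalization.Away.algebraMap_isUnit ϖ
  have key : ∀ n : ℕ, ∀ a : A, e' * algebraMap A L ϖ ^ n = algebraMap A L a →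
      ∃ e : A, algebraMap A L e = e' := by
    intro n
    induction n with
    | zero =>
      intro a ha
      exact ⟨a, by rw [← ha, pow_zero, mul_one]⟩
    | succ n ih =>
      intro a ha
      have h1 : a * a = a * ϖ ^ (n + 1) := by
        apply hinj
        rw [map_mul, map_mul, map_pow, ← ha]
        calc e' * algebraMap A L ϖ ^ (n + 1) * (e' * algebraMap A L ϖ ^ (n + 1))
            = (e' * e') * algebraMap A L ϖ ^ (n + 1) * algebraMap A L ϖ ^ (n + 1) := by ring
          _ = e' * algebraMap A L ϖ ^ (n + 1) * algebraMap A L ϖ ^ (n + 1) := by rw [he'.eq]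
      have h2 : a ∈ Ideal.span {ϖ} := by
        apply hred
        rw [h1, pow_succ, ← mul_assoc]
        exact Ideal.mul_mem_left _ _ (Ideal.mem_span_singleton_self ϖ)
      obtain ⟨b, hb⟩ := Ideal.mem_span_singleton'.mp h2
      apply ih b
      apply hunit.mul_left_injective
      change e' * algebraMap A L ϖ ^ n * algebraMap A L ϖ = algebraMap A L b * algebraMap A L ϖ
      rw [mul_assoc, ← pow_succ, ha, ← hb, map_mul]
  obtain ⟨n, a, ha⟩ := IsLocalization.Away.surj ϖ e'
  obtain ⟨e, he⟩ := key n a ha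
  refine ⟨e, ?_, he⟩
  apply hinj
  rw [map_mul, he, he'.eq]

/-- The basic open `D(ϖ)` is dense when `ϖ` is a nonzerodivisor. -/
theorem dense_basicOpen_of_mem_nonZeroDivisors (hreg : ϖ ∈ nonZeroDivisors A) :
    Dense ((PrimeSpectrum.basicOpen ϖ : TopologicalSpace.Opens (PrimeSpectrum A)) :
      Set (PrimeSpectrum A)) := by
  rw [dense_iff_inter_open]
  intro O hO hne
  obtain ⟨x, hx⟩ := hne
  obtain ⟨_, ⟨g, rfl⟩, hxg, hgO⟩ :=
    PrimeSpectrum.isTopologicalBasis_basic_opens.exists_subset_of_mem_open hx hO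
  -- `D(g) ∩ D(ϖ) = D(g ϖ)` is nonempty as `g ϖ` is not nilpotent
  have hgne : ¬ IsNilpotent g := by
    intro h
    have := (PrimeSpectrum.basicOpen_eq_bot_iff g).mpr h
    have hxg' : x ∈ PrimeSpectrum.basicOpen g := hxg
    rw [this] at hxg'
    exact hxg'
  have hgϖ : ¬ IsNilpotent (g * ϖ) := by
    rintro ⟨n, hn⟩
    apply hgne
    refine ⟨n, ?_⟩
    rw [mul_pow] at hn
    exact (mem_nonZeroDivisors_iff_right.mp (pow_mem hreg n)) _ hn
  have hne' : (PrimeSpectrum.basicOpen (g * ϖ) : Set (PrimeSpectrum A)).Nonempty := by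
    rw [Set.nonempty_iff_ne_empty]
    intro h
    apply hgϖ
    rw [← PrimeSpectrum.basicOpen_eq_bot_iff]
    exact TopologicalSpace.Opens.ext h
  obtain ⟨y, hy⟩ := hne'
  rw [PrimeSpectrum.basicOpen_mul] at hy
  exact ⟨y, hgO hy.1, hy.2⟩

/-- If `ϖ` is a nonzerodivisor with `A/ϖA` reduced (weak form), then the closure in `Spec A` of a
relatively clopen subset of `D(ϖ)` is open. -/
theorem isOpen_closure_of_relClopen_basicOpen (hreg : ϖ ∈ nonZeroDivisors A)
    (hred : ∀ a : A, a * a ∈ Ideal.span {ϖ} → a ∈ Ideal.span {ϖ})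
    (Z : Set (PrimeSpectrum A)) (hZsub : Z ⊆ PrimeSpectrum.basicOpen ϖ) (hZ : IsOpen Z)
    (hZc : IsOpen ((PrimeSpectrum.basicOpen ϖ : Set (PrimeSpectrum A)) \ Z)) :
    IsOpen (closure Z) := by
  let L := Localization.Away ϖ
  let c : PrimeSpectrum L → PrimeSpectrum A := PrimeSpectrum.comap (algebraMap A L)
  have hc : Topology.IsOpenEmbedding c := PrimeSpectrum.localization_away_isOpenEmbedding L ϖ
  have hrange : Set.range c = PrimeSpectrum.basicOpen ϖ :=
    PrimeSpectrum.localization_away_comap_range L ϖ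
  -- the preimage of `Z` is clopen
  have hclopen : IsClopen (c ⁻¹' Z) := by
    refine ⟨?_, hZ.preimage hc.continuous⟩
    rw [← isOpen_compl_iff]
    have : (c ⁻¹' Z)ᶜ = c ⁻¹' ((PrimeSpectrum.basicOpen ϖ : Set (PrimeSpectrum A)) \ Z) := by
      ext y
      simp only [Set.mem_compl_iff, Set.mem_preimage, Set.mem_sdiff]
      constructor
      · intro h
        exact ⟨hrange ▸ Set.mem_range_self y, h⟩
      · exact fun h => h.2
    rw [this]
    exact hZc.preimage hc.continuous
  obtain ⟨e', he', hZe'⟩ := PrimeSpectrum.isClopen_iff.mp hclopen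
  obtain ⟨e, he, hee'⟩ := exists_idempotent_of_localizationAway ϖ hreg hred L e' he'
  -- `C = D(e)` is clopen with `C ∩ D(ϖ) = Z`
  have hC : IsClopen (PrimeSpectrum.basicOpen e : Set (PrimeSpectrum A)) :=
    PrimeSpectrum.isClopen_iff.mpr ⟨e, he, rfl⟩
  have hCZ : (PrimeSpectrum.basicOpen e : Set (PrimeSpectrum A)) ∩ PrimeSpectrum.basicOpen ϖ = Z := by
    ext x
    constructor
    · rintro ⟨hxe, hxϖ⟩
      rw [← hrange] at hxϖ
      obtain ⟨y, rfl⟩ := hxϖ
      have : y ∈ c ⁻¹' Z := by
        rw [hZe']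
        change algebraMap A L e ∉ y.asIdeal at hxe
        rw [hee'] at hxe
        exact hxe
      exact this
    · intro hxZ
      have hxϖ := hZsub hxZ
      refine ⟨?_, hxϖ⟩
      have hxϖ' := hxϖ
      rw [← hrange] at hxϖ'
      obtain ⟨y, rfl⟩ := hxϖ'
      have : y ∈ c ⁻¹' Z := hxZ
      rw [hZe'] at this
      change algebraMap A L e ∉ y.asIdeal
      rw [hee']
      exact this
  have hcl : closure Z = PrimeSpectrum.basicOpen e := by
    apply Set.Subset.antisymm
    · exact closure_minimal (hCZ ▸ Set.inter_subset_left) hC.1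
    · by_contra hnot
      rw [Set.not_subset] at hnot
      obtain ⟨x, hxe, hxcl⟩ := hnot
      have hopen : IsOpen ((PrimeSpectrum.basicOpen e : Set (PrimeSpectrum A)) ∩ (closure Z)ᶜ) :=
        hC.2.inter isClosed_closure.isOpen_compl
      obtain ⟨y, hy1, hy2⟩ := (dense_basicOpen_of_mem_nonZeroDivisors ϖ hreg).inter_open_nonempty _
        hopen ⟨x, hxe, hxcl⟩
      have : y ∈ Z := hCZ ▸ ⟨hy1.1, hy2⟩
      exact hy1.2 (subset_closure this)
  rw [hcl]
  exact hC.2

end Algebra

end Groth.Agent.H20
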