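import Mathlib
import Groth.Prelude.Def_W4c6modpairsegaMP
import Groth.Agent.H20.ModPairBox
import Groth.Agent.H8.BlowUpLocal

/-!
# Limits of modulus pairs: the pulled-back modulus on a cofiltered limit is effective Cartier
-/

set_option autoImplicit false
universe u

open CategoryTheory CategoryTheory.Limits AlgebraicGeometry TopologicalSpace Opposite

namespace Groth.Agent.H20.ModPairLimit

open Groth.Agent.H20.EffCartierInterior Groth.Agent.H20.ModPairFlat Groth.Agent.H20.ModPairBox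

section Basic

variable {X : Scheme.{u}}

/-- A generator of an effective Cartier ideal on an affine open is a nonzerodivisor. -/
lemma mem_nonZeroDivisors_of_isEffCartier (L : X.IdealSheafData)
    (hL : BlowUp.IsEffCartierIdeal L) (W : X.affineOpens) (a : Γ(X, W.1))
    (h : L.ideal W = Ideal.span {a}) : a ∈ nonZeroDivisors Γ(X, W.1) := by
  have := isSchemeTheoreticallyDominant_interior_ι L hL
  have := isAffineHom_interior_ι L hL
  exact mem_nonZeroDivisors_of_dominant (ModPair.interior L) W.1 a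
    (interior_inf_eq_basicOpen L W a h)

/-- Effective Cartier ideals pull back along open immersions. -/
lemma isEffCartier_comap_of_isOpenImmersion (L : X.IdealSheafData)
    (hL : BlowUp.IsEffCartierIdeal L) {W : Scheme.{u}} (j : W ⟶ X) [IsOpenImmersion j] :
    BlowUp.IsEffCartierIdeal (L.comap j) := by
  have := isSchemeTheoreticallyDominant_interior_ι L hL
  have := isAffineHom_interior_ι L hL
  have : IsSchemeTheoreticallyDominant (j ⁻¹ᵁ ModPair.interior L).ι :=
    IsSchemeTheoreticallyDominant.of_isPullback (isPullback_morphismRestrict j (ModPair.interior L))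
  exact (Groth.Agent.H20.EffCartierInterior.main L hL j).2

end Basic

section AffineLimit

variable {I' : Type u} [Category.{u} I'] [IsCofiltered I'] (D' : I' ⥤ Scheme.{u})
  (c' : Cone D') (hc' : IsLimit c') [∀ j, IsAffine (D'.obj j)]

include hc' in
/-- A section which is a nonzerodivisor at all finite levels is a nonzerodivisor on the limit. -/
lemma appTop_mem_nonZeroDivisors_of_isLimit (j₀ : I') (a : Γ(D'.obj j₀, ⊤))
    (ha : ∀ (k : I') (f : k ⟶ j₀), (D'.map f).appTop a ∈ nonZeroDivisors Γ(D'.obj k, ⊤)) :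
    (c'.π.app j₀).appTop a ∈ nonZeroDivisors Γ(c'.pt, ⊤) := by
  refine (mem_nonZeroDivisors_iff_right (M₀ := Γ(c'.pt, ⊤))).mpr ?_
  intro s hs
  obtain ⟨j, t, rfl⟩ := exists_appTop_π_eq_of_isAffine_of_isLimit D' c' hc' s
  have e1 : (c'.π.app j).appTop t = (c'.π.app (IsCofiltered.min j j₀)).appTop
      ((D'.map (IsCofiltered.minToLeft j j₀)).appTop t) := by
    rw [← c'.w (IsCofiltered.minToLeft j j₀), Scheme.Hom.comp_appTop, CommRingCat.comp_apply]
  have e2 : (c'.π.app j₀).appTop a = (c'.π.app (IsCofiltered.min j j₀)).appTop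
      ((D'.map (IsCofiltered.minToRight j j₀)).appTop a) := by
    rw [← c'.w (IsCofiltered.minToRight j j₀), Scheme.Hom.comp_appTop, CommRingCat.comp_apply]
  have h0 : (c'.π.app (IsCofiltered.min j j₀)).appTop
      ((D'.map (IsCofiltered.minToLeft j j₀)).appTop t *
        (D'.map (IsCofiltered.minToRight j j₀)).appTop a) = 0 := by
    rw [map_mul, ← e1, ← e2, hs]
  obtain ⟨l, g, hl⟩ := exists_appTop_map_eq_zero_of_isAffine_of_isLimit D' c' hc' _ _ h0
  have h1 : (D'.map (g ≫ IsCofiltered.minToLeft j j₀)).appTop t *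
      (D'.map (g ≫ IsCofiltered.minToRight j j₀)).appTop a = 0 := by
    rw [D'.map_comp, D'.map_comp, Scheme.Hom.comp_appTop, Scheme.Hom.comp_appTop,
      CommRingCat.comp_apply, CommRingCat.comp_apply, ← map_mul]
    exact hl
  have h2 := (mem_nonZeroDivisors_iff_right.mp (ha l (g ≫ IsCofiltered.minToRight j j₀))) _ h1
  rw [← c'.w (g ≫ IsCofiltered.minToLeft j j₀), Scheme.Hom.comp_appTop, CommRingCat.comp_apply,
    h2, map_zero]

end AffineLimit

section Main

lemma appTop_appLE_top {A B Z : Scheme.{u}} (h : A ⟶ B) (q : B ⟶ Z) (q' : A ⟶ Z)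
    (hq : h ≫ q = q') (U : Z.Opens) (eB : (⊤ : B.Opens) ≤ q ⁻¹ᵁ U)
    (eA : (⊤ : A.Opens) ≤ q' ⁻¹ᵁ U) (a : Γ(Z, U)) :
    h.appTop ((q.appLE U ⊤ eB).hom a) = (q'.appLE U ⊤ eA).hom a := by
  subst hq
  have e0 : (⊤ : A.Opens) ≤ h ⁻¹ᵁ ⊤ := fun _ _ => trivial
  have h1 : h.appTop = h.appLE ⊤ ⊤ e0 := by
    rw [Scheme.Hom.appTop, Scheme.Hom.app_eq_appLE]
    rfl
  have h2 : q.appLE U ⊤ eB ≫ h.appLE ⊤ ⊤ e0 = (h ≫ q).appLE U ⊤ eA :=
    Scheme.Hom.appLE_comp_appLE h q U ⊤ ⊤ eB e0
  rw [h1, ← h2]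
  rfl

/-- On an affine scheme, an ideal sheaf whose global ideal is generated by a nonzerodivisor is
effective Cartier. -/
lemma isEffCartier_of_top {A : Scheme.{u}} [IsAffine A] (L : A.IdealSheafData) (a : Γ(A, ⊤))
    (ha : a ∈ nonZeroDivisors Γ(A, ⊤))
    (h : L.ideal ⟨⊤, isAffineOpen_top A⟩ = Ideal.span {a}) : BlowUp.IsEffCartierIdeal L :=
  fun _ => ⟨⟨⊤, isAffineOpen_top A⟩, trivial, a, ha, h⟩

/-- The ideal of a pulled-back ideal sheaf on an affine scheme mapping into an affine open where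
the ideal sheaf is principal. -/
lemma ideal_comap_top {A Z : Scheme.{u}} [IsAffine A] (q : A ⟶ Z) (L : Z.IdealSheafData)
    (U : Z.affineOpens) (a : Γ(Z, U.1)) (h : L.ideal U = Ideal.span {a})
    (e : (⊤ : A.Opens) ≤ q ⁻¹ᵁ U.1) :
    (L.comap q).ideal ⟨⊤, isAffineOpen_top A⟩ = Ideal.span {(q.appLE U.1 ⊤ e).hom a} := by
  rw [Groth.Agent.H19.ComapAff.ideal_comap_appLE q L U ⟨⊤, isAffineOpen_top A⟩ e, h,
    Ideal.map_span, Set.image_singleton]

section Abstract

variable {I' : Type u} [Category.{u} I'] [IsCofiltered I'] (D' : I' ⥤ Scheme.{u})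
  (c' : Cone D') (hc' : IsLimit c') [∀ j, IsAffine (D'.obj j)] [IsAffine c'.pt]

include hc' in
/-- Abstract form: a principal ideal sheaf on `Z` whose pullbacks to all members of an affine
cofiltered system are effective Cartier pulls back to an effective Cartier ideal on the limit. -/
lemma isEffCartier_comap_of_isLimit {Z : Scheme.{u}} (q : D' ⟶ (Functor.const I').obj Z)
    (L : Z.IdealSheafData) (U : Z.affineOpens) (a : Γ(Z, U.1)) (hUa : L.ideal U = Ideal.span {a})
    (hq : ∀ k, (⊤ : (D'.obj k).Opens) ≤ q.app k ⁻¹ᵁ U.1)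
    (hL : ∀ k, BlowUp.IsEffCartierIdeal (L.comap (q.app k))) (j₀ : I') :
    BlowUp.IsEffCartierIdeal (L.comap (c'.π.app j₀ ≫ q.app j₀)) := by
  have hnzd : ∀ k, ((q.app k).appLE U.1 ⊤ (hq k)).hom a ∈ nonZeroDivisors Γ(D'.obj k, ⊤) :=
    fun k => mem_nonZeroDivisors_of_isEffCartier _ (hL k) ⟨⊤, isAffineOpen_top _⟩ _
      (ideal_comap_top _ L U a hUa (hq k))
  have hqc : (⊤ : c'.pt.Opens) ≤ (c'.π.app j₀ ≫ q.app j₀) ⁻¹ᵁ U.1 := by
    intro x _
    exact hq j₀ (Set.mem_univ ((c'.π.app j₀) x))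
  have hnzdc : ((c'.π.app j₀ ≫ q.app j₀).appLE U.1 ⊤ hqc).hom a ∈
      nonZeroDivisors Γ(c'.pt, ⊤) := by
    have := appTop_mem_nonZeroDivisors_of_isLimit D' c' hc' j₀
      (((q.app j₀).appLE U.1 ⊤ (hq j₀)).hom a) ?_
    · rwa [appTop_appLE_top _ _ _ rfl U.1 (hq j₀) hqc a] at this
    · intro k f
      have hf : D'.map f ≫ q.app j₀ = q.app k := by
        exact (q.naturality f).trans (Category.comp_id _)
      rw [appTop_appLE_top _ _ _ hf U.1 (hq j₀) (hq k) a]
      exact hnzd k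
  have : IsAffine (((Functor.const I').obj c'.pt).obj j₀) := inferInstanceAs (IsAffine c'.pt)
  exact isEffCartier_of_top _ _ hnzdc (ideal_comap_top _ L U a hUa hqc)

end Abstract

variable {I : Type u} [SmallCategory I] [IsCofiltered I] (D : I ⥤ Scheme.{u}) (c : Cone D)
  (hc : IsLimit c) [∀ (i j : I) (t : i ⟶ j), IsAffineHom (D.map t)]

include hc in
/-- **The pulled-back modulus on a cofiltered limit of modulus pairs is effective Cartier.** -/
theorem main (J : ∀ i, (D.obj i).IdealSheafData) (hJ : ∀ i, BlowUp.IsEffCartierIdeal (J i))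
    (hmin : ∀ (i j : I) (t : i ⟶ j), ModPair.IsMinimal (J i) (J j) (D.map t)) (i : I) :
    BlowUp.IsEffCartierIdeal ((J i).comap (c.π.app i)) := by
  have instAff : ∀ {i j : I} (f : i ⟶ j), IsAffineHom (D.map f) := fun f => inferInstance
  apply Groth.Agent.H8.isEffCartier_of_local
  intro z
  obtain ⟨U, hzU, a, -, hUa⟩ := hJ i (c.π.app i z)
  refine ⟨(c.π.app i ⁻¹ᵁ U.1 : c.pt.Opens), (c.π.app i ⁻¹ᵁ U.1).ι, inferInstance,
    by rw [Scheme.Opens.range_ι]; exact hzU, ?_⟩
  have hc' : IsLimit (opensCone D c i U.1) := isLimitOpensCone D c hc i U.1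
  have haff : ∀ k : Over i, IsAffine ((opensDiagram D i U.1).obj k) :=
    fun k => U.2.preimage (D.map k.hom)
  have hπaff : IsAffineHom (c.π.app i) := isAffineHom_π_app D c hc i
  have haffc : IsAffine (opensCone D c i U.1).pt := U.2.preimage (c.π.app i)
  -- the structure maps to `D.obj i`
  let q : opensDiagram D i U.1 ⟶ (Functor.const (Over i)).obj (D.obj i) :=
    { app := fun k => (opensDiagramι D i U.1).app k ≫ D.map k.hom
      naturality := fun k l f => by
        rw [NatTrans.naturality_assoc]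
        dsimp
        rw [← D.map_comp, Over.w f, Category.comp_id] }
  have hq : ∀ k : Over i, (⊤ : ((opensDiagram D i U.1).obj k).Opens) ≤ q.app k ⁻¹ᵁ U.1 := by
    intro k x _
    exact x.2
  have hL : ∀ k : Over i, BlowUp.IsEffCartierIdeal ((J i).comap (q.app k)) := by
    intro k
    change BlowUp.IsEffCartierIdeal ((J i).comap ((D.map k.hom ⁻¹ᵁ U.1).ι ≫ D.map k.hom))
    rw [Scheme.IdealSheafData.comap_comp, ← (hmin k.left i k.hom : J k.left = _)]
    exact isEffCartier_comap_of_isOpenImmersion (J k.left) (hJ k.left) _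
  have key := isEffCartier_comap_of_isLimit (opensDiagram D i U.1) (opensCone D c i U.1) hc' q
    (J i) U a hUa hq hL (Over.mk (𝟙 i))
  have hfac : (opensCone D c i U.1).π.app (Over.mk (𝟙 i)) ≫ q.app (Over.mk (𝟙 i)) =
      (c.π.app i ⁻¹ᵁ U.1).ι ≫ c.π.app i := by
    have e1 : (opensCone D c i U.1).π.app (Over.mk (𝟙 i)) ≫
        (D.map (Over.mk (𝟙 i)).hom ⁻¹ᵁ U.1).ι = (c.π.app i ⁻¹ᵁ U.1).ι ≫ c.π.app i :=
      Scheme.Hom.resLE_comp_ι _ _
    have e2 : D.map (Over.mk (𝟙 i)).hom = 𝟙 _ := D.map_id i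
    exact (Category.assoc _ _ _).symm.trans
      ((congrArg (· ≫ D.map (Over.mk (𝟙 i)).hom) e1).trans
        ((congrArg (((c.π.app i ⁻¹ᵁ U.1).ι ≫ c.π.app i) ≫ ·) e2).trans (Category.comp_id _)))
  rw [← Scheme.IdealSheafData.comap_comp, ← hfac]
  exact key

end Main

end Groth.Agent.H20.ModPairLimit
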