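import Mathlib
import Groth.Prelude.Def_W4c6modpairsegaMP
import Groth.Agent.H20.ModPairLimit

/-!
# Descending containments of ideal sheaves along a cofiltered limit with affine transition maps
-/

set_option autoImplicit false
universe u

open CategoryTheory CategoryTheory.Limits AlgebraicGeometry TopologicalSpace Opposite

namespace Groth.Agent.H20.LimIdeal

open Groth.Agent.H20.ModPairLimit

section AffineLimit

variable {I' : Type u} [Category.{u} I'] [IsCofiltered I'] (D' : I' ⥤ Scheme.{u})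
  (c' : Cone D') (hc' : IsLimit c') [∀ j, IsAffine (D'.obj j)]

include hc' in
/-- If the image of `a` lies in the extension of the ideal `K'` on the limit, it already does so
at a finite level. -/
lemma exists_mem_map_of_isLimit {Z : Scheme.{u}} (q : D' ⟶ (Functor.const I').obj Z)
    (U : Z.Opens) (K' : Ideal Γ(Z, U)) (a : Γ(Z, U))
    (hq : ∀ k, (⊤ : (D'.obj k).Opens) ≤ q.app k ⁻¹ᵁ U) (j₀ : I')
    (hqc : (⊤ : c'.pt.Opens) ≤ (c'.π.app j₀ ≫ q.app j₀) ⁻¹ᵁ U)
    (h : ((c'.π.app j₀ ≫ q.app j₀).appLE U ⊤ hqc).hom a ∈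
      K'.map ((c'.π.app j₀ ≫ q.app j₀).appLE U ⊤ hqc).hom) :
    ∃ k, ((q.app k).appLE U ⊤ (hq k)).hom a ∈ K'.map ((q.app k).appLE U ⊤ (hq k)).hom := by
  have hnat : ∀ {k l : I'} (f : k ⟶ l), D'.map f ≫ q.app l = q.app k := fun f =>
    (q.naturality f).trans (Category.comp_id _)
  have F1 : ∀ {k l : I'} (f : k ⟶ l) (x : Γ(Z, U)),
      (D'.map f).appTop (((q.app l).appLE U ⊤ (hq l)).hom x) =
        ((q.app k).appLE U ⊤ (hq k)).hom x := fun f x =>
    appTop_appLE_top _ _ _ (hnat f) U (hq _) (hq _) x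
  have hck : ∀ k, c'.π.app k ≫ q.app k = c'.π.app j₀ ≫ q.app j₀ := by
    intro k
    rw [← c'.w (IsCofiltered.minToLeft k j₀), ← c'.w (IsCofiltered.minToRight k j₀),
      Category.assoc, Category.assoc, hnat, hnat]
  have F2 : ∀ (k : I') (x : Γ(Z, U)),
      (c'.π.app k).appTop (((q.app k).appLE U ⊤ (hq k)).hom x) =
        ((c'.π.app j₀ ≫ q.app j₀).appLE U ⊤ hqc).hom x := fun k x =>
    appTop_appLE_top _ _ _ (hck k) U (hq _) hqc x
  have F3 : ∀ {k l : I'} (f : k ⟶ l) (s' : Γ(D'.obj l, ⊤)),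
      s' ∈ K'.map ((q.app l).appLE U ⊤ (hq l)).hom →
        (D'.map f).appTop s' ∈ K'.map ((q.app k).appLE U ⊤ (hq k)).hom := by
    intro k l f s' hs'
    have h1 := Ideal.mem_map_of_mem (D'.map f).appTop.hom hs'
    rw [Ideal.map_map] at h1
    have h2 : (D'.map f).appTop.hom.comp ((q.app l).appLE U ⊤ (hq l)).hom =
        ((q.app k).appLE U ⊤ (hq k)).hom := RingHom.ext (F1 f)
    rwa [h2] at h1
  have Fw : ∀ {k l : I'} (f : k ⟶ l) (s' : Γ(D'.obj l, ⊤)),
      (c'.π.app k).appTop ((D'.map f).appTop s') = (c'.π.app l).appTop s' := by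
    intro k l f s'
    rw [← c'.w f, Scheme.Hom.comp_appTop, CommRingCat.comp_apply]
  -- the key predicate
  have key : ∀ s ∈ K'.map ((c'.π.app j₀ ≫ q.app j₀).appLE U ⊤ hqc).hom,
      ∃ (k : I') (s' : Γ(D'.obj k, ⊤)), s' ∈ K'.map ((q.app k).appLE U ⊤ (hq k)).hom ∧
        (c'.π.app k).appTop s' = s := by
    intro s hs
    refine Submodule.span_induction (p := fun s _ => ∃ (k : I') (s' : Γ(D'.obj k, ⊤)),
      s' ∈ K'.map ((q.app k).appLE U ⊤ (hq k)).hom ∧ (c'.π.app k).appTop s' = s)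
      ?_ ?_ ?_ ?_ hs
    · rintro _ ⟨g, hg, rfl⟩
      exact ⟨j₀, _, Ideal.mem_map_of_mem _ hg, F2 j₀ g⟩
    · exact ⟨j₀, 0, Ideal.zero_mem _, map_zero _⟩
    · rintro s₁ s₂ - - ⟨k₁, s₁', h₁, rfl⟩ ⟨k₂, s₂', h₂, rfl⟩
      refine ⟨IsCofiltered.min k₁ k₂, (D'.map (IsCofiltered.minToLeft k₁ k₂)).appTop s₁' +
        (D'.map (IsCofiltered.minToRight k₁ k₂)).appTop s₂',
        Ideal.add_mem _ (F3 _ _ h₁) (F3 _ _ h₂), ?_⟩
      rw [map_add, Fw, Fw]
    · rintro r s₁ - ⟨k₁, s₁', h₁, rfl⟩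
      obtain ⟨k₂, r', rfl⟩ := exists_appTop_π_eq_of_isAffine_of_isLimit D' c' hc' r
      refine ⟨IsCofiltered.min k₁ k₂, (D'.map (IsCofiltered.minToRight k₁ k₂)).appTop r' *
        (D'.map (IsCofiltered.minToLeft k₁ k₂)).appTop s₁',
        Ideal.mul_mem_left _ _ (F3 _ _ h₁), ?_⟩
      rw [map_mul, Fw, Fw, smul_eq_mul]
  obtain ⟨k, s', hs', e⟩ := key _ h
  have h0 : (c'.π.app k).appTop (s' - ((q.app k).appLE U ⊤ (hq k)).hom a) = 0 := by
    rw [map_sub, e, F2, sub_self]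
  obtain ⟨l, f, hl⟩ := exists_appTop_map_eq_zero_of_isAffine_of_isLimit D' c' hc' _ _ h0
  refine ⟨l, ?_⟩
  rw [map_sub, sub_eq_zero, F1] at hl
  rw [← hl]
  exact F3 f s' hs'

end AffineLimit

section General

open Scheme.IdealSheafData

/-- Containment of ideals over an affine open can be checked after restricting to that open. -/
lemma ideal_le_of_comap_ι_le {Y : Scheme.{u}} (A B : Y.IdealSheafData) (V : Y.affineOpens)
    (h : haveI : IsAffine ↑V.1 := V.2
      (A.comap V.1.ι).ideal ⟨⊤, isAffineOpen_top _⟩ ≤ (B.comap V.1.ι).ideal ⟨⊤, isAffineOpen_top _⟩) :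
    A.ideal V ≤ B.ideal V := by
  have : IsAffine ↑V.1 := V.2
  rw [Groth.Agent.H19.ComapAff.ideal_comap_ι, Groth.Agent.H19.ComapAff.ideal_comap_ι] at h
  have hb : Function.Bijective V.1.topIso.inv.hom :=
    ConcreteCategory.bijective_of_isIso V.1.topIso.inv
  have h2 := Ideal.comap_mono (f := V.1.topIso.inv.hom) h
  rwa [Ideal.comap_map_of_bijective _ hb, Ideal.comap_map_of_bijective _ hb] at h2

/-- Persistence of a local containment of pulled-back ideals under further pullback. -/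
lemma ideal_le_of_comp {X Y Z : Scheme.{u}} (g : X ⟶ Y) (p : Y ⟶ Z) (p' : X ⟶ Z)
    (hp : g ≫ p = p') (J K : Z.IdealSheafData) (V : Y.affineOpens) (W : X.affineOpens)
    (e : W.1 ≤ g ⁻¹ᵁ V.1) (h : (J.comap p).ideal V ≤ (K.comap p).ideal V) :
    (J.comap p').ideal W ≤ (K.comap p').ideal W := by
  subst hp
  rw [comap_comp, comap_comp, Groth.Agent.H19.ComapAff.ideal_comap_appLE g _ V W e,
    Groth.Agent.H19.ComapAff.ideal_comap_appLE g _ V W e]
  exact Ideal.map_mono h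

end General

section Main

variable {I : Type u} [SmallCategory I] [IsCofiltered I] (D : I ⥤ Scheme.{u}) (c : Cone D)
  (hc : IsLimit c) [∀ (i j : I) (t : i ⟶ j), IsAffineHom (D.map t)]

include hc in
/-- Local claim: a containment `J.comap π ≤ K.comap π` on the limit descends to a finite level
over an affine open on which `J` is principal. -/
lemma exists_local (i : I) (J K : (D.obj i).IdealSheafData) (U : (D.obj i).affineOpens)
    (a : Γ(D.obj i, U.1)) (hUa : J.ideal U = Ideal.span {a})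
    (hle : J.comap (c.π.app i) ≤ K.comap (c.π.app i)) :
    ∃ l : Over i, (J.comap (D.map l.hom)).ideal ⟨D.map l.hom ⁻¹ᵁ U.1, U.2.preimage _⟩ ≤
      (K.comap (D.map l.hom)).ideal ⟨D.map l.hom ⁻¹ᵁ U.1, U.2.preimage _⟩ := by
  have instAff : ∀ {i j : I} (f : i ⟶ j), IsAffineHom (D.map f) := fun f => inferInstance
  have hc' : IsLimit (opensCone D c i U.1) := isLimitOpensCone D c hc i U.1
  have haff : ∀ k : Over i, IsAffine ((opensDiagram D i U.1).obj k) :=
    fun k => U.2.preimage (D.map k.hom)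
  have hπaff : IsAffineHom (c.π.app i) := isAffineHom_π_app D c hc i
  have haffc : IsAffine (opensCone D c i U.1).pt := U.2.preimage (c.π.app i)
  let q : opensDiagram D i U.1 ⟶ (Functor.const (Over i)).obj (D.obj i) :=
    { app := fun k => (opensDiagramι D i U.1).app k ≫ D.map k.hom
      naturality := fun k l f => by
        rw [NatTrans.naturality_assoc]
        dsimp
        rw [← D.map_comp, Over.w f, Category.comp_id] }
  have hq : ∀ k : Over i, (⊤ : ((opensDiagram D i U.1).obj k).Opens) ≤ q.app k ⁻¹ᵁ U.1 := by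
    intro k x _
    exact x.2
  have hfac : (opensCone D c i U.1).π.app (Over.mk (𝟙 i)) ≫ q.app (Over.mk (𝟙 i)) =
      (c.π.app i ⁻¹ᵁ U.1).ι ≫ c.π.app i := by
    have e1 : (opensCone D c i U.1).π.app (Over.mk (𝟙 i)) ≫
        (D.map (Over.mk (𝟙 i)).hom ⁻¹ᵁ U.1).ι = (c.π.app i ⁻¹ᵁ U.1).ι ≫ c.π.app i :=
      Scheme.Hom.resLE_comp_ι _ _
    have e2 : D.map (Over.mk (𝟙 i)).hom = 𝟙 _ := D.map_id i
    exact (Category.assoc _ _ _).symm.trans
      ((congrArg (· ≫ D.map (Over.mk (𝟙 i)).hom) e1).trans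
        ((congrArg (((c.π.app i ⁻¹ᵁ U.1).ι ≫ c.π.app i) ≫ ·) e2).trans (Category.comp_id _)))
  have hqc : (⊤ : (opensCone D c i U.1).pt.Opens) ≤
      ((opensCone D c i U.1).π.app (Over.mk (𝟙 i)) ≫ q.app (Over.mk (𝟙 i))) ⁻¹ᵁ U.1 := by
    intro x _
    exact hq (Over.mk (𝟙 i)) (Set.mem_univ (((opensCone D c i U.1).π.app (Over.mk (𝟙 i))) x))
  have hle' : J.comap ((opensCone D c i U.1).π.app (Over.mk (𝟙 i)) ≫ q.app (Over.mk (𝟙 i))) ≤
      K.comap ((opensCone D c i U.1).π.app (Over.mk (𝟙 i)) ≫ q.app (Over.mk (𝟙 i))) := by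
    have h0 : J.comap ((c.π.app i ⁻¹ᵁ U.1).ι ≫ c.π.app i) ≤
        K.comap ((c.π.app i ⁻¹ᵁ U.1).ι ≫ c.π.app i) := by
      rw [Scheme.IdealSheafData.comap_comp, Scheme.IdealSheafData.comap_comp]
      exact Scheme.IdealSheafData.comap_mono _ hle
    exact (congrArg (fun p => J.comap p ≤ K.comap p) hfac).mpr h0
  have : IsAffine (((Functor.const (Over i)).obj (opensCone D c i U.1).pt).obj (Over.mk (𝟙 i))) :=
    haffc
  have h1 := hle' ⟨⊤, isAffineOpen_top _⟩
  rw [ideal_comap_top _ J U a hUa hqc,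
    Groth.Agent.H19.ComapAff.ideal_comap_appLE _ K U ⟨⊤, isAffineOpen_top _⟩ hqc,
    Ideal.span_singleton_le_iff_mem] at h1
  obtain ⟨l, hl⟩ := exists_mem_map_of_isLimit (opensDiagram D i U.1) (opensCone D c i U.1) hc' q
    U.1 (K.ideal U) a hq (Over.mk (𝟙 i)) hqc h1
  refine ⟨l, ideal_le_of_comap_ι_le _ _ _ ?_⟩
  rw [← Scheme.IdealSheafData.comap_comp, ← Scheme.IdealSheafData.comap_comp]
  change (J.comap (q.app l)).ideal ⟨⊤, isAffineOpen_top _⟩ ≤
    (K.comap (q.app l)).ideal ⟨⊤, isAffineOpen_top _⟩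
  rw [ideal_comap_top _ J U a hUa (hq l),
    Groth.Agent.H19.ComapAff.ideal_comap_appLE _ K U ⟨⊤, isAffineOpen_top _⟩ (hq l),
    Ideal.span_singleton_le_iff_mem]
  exact hl

include hc in
/-- **Descent of containments.**  If `J` is locally principal on the quasi-compact `D.obj i` and
`J.comap π ≤ K.comap π` on the limit, then `J.comap t ≤ K.comap t` for some transition map `t`. -/
theorem exists_comap_le (i : I) [CompactSpace (D.obj i)] (J K : (D.obj i).IdealSheafData)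
    (hJ : ∀ x : D.obj i, ∃ U : (D.obj i).affineOpens, x ∈ U.1 ∧
      ∃ a : Γ(D.obj i, U.1), J.ideal U = Ideal.span {a})
    (hle : J.comap (c.π.app i) ≤ K.comap (c.π.app i)) :
    ∃ (k : I) (t : k ⟶ i), J.comap (D.map t) ≤ K.comap (D.map t) := by
  classical
  choose U hxU a hUa using hJ
  choose l hl using fun x => exists_local D c hc i J K (U x) (a x) (hUa x) hle
  obtain ⟨T, hT⟩ := CompactSpace.elim_nhds_subcover (fun x => ((U x).1 : Set (D.obj i)))
    (fun x => (U x).1.2.mem_nhds (hxU x))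
  obtain ⟨m, hm⟩ := IsCofiltered.inf_objs_exists (T.image l)
  refine ⟨m.left, m.hom, ?_⟩
  refine Scheme.IdealSheafData.le_of_iSup_eq_top
    (fun x : T => ⟨D.map m.hom ⁻¹ᵁ (U x.1).1, (U x.1).2.preimage _⟩) ?_ ?_
  · rw [eq_top_iff]
    intro y _
    have hy : (D.map m.hom) y ∈ ⋃ x ∈ T, ((U x).1 : Set (D.obj i)) := hT.ge (Set.mem_univ _)
    obtain ⟨x, hx, hyx⟩ := Set.mem_iUnion₂.mp hy
    exact Opens.mem_iSup.mpr ⟨⟨x, hx⟩, hyx⟩
  · intro x
    obtain ⟨g⟩ := hm (Finset.mem_image_of_mem l x.2)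
    refine ideal_le_of_comp (D.map g.left) (D.map (l x.1).hom) (D.map m.hom)
      (by rw [← D.map_comp, Over.w]) J K _ _ ?_ (hl x.1)
    change D.map m.hom ⁻¹ᵁ (U x.1).1 ≤ D.map g.left ⁻¹ᵁ (D.map (l x.1).hom ⁻¹ᵁ (U x.1).1)
    rw [← Scheme.Hom.comp_preimage, ← D.map_comp, Over.w]

end Main

end Groth.Agent.H20.LimIdeal
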