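import Mathlib.Algebra.Polynomial.Laurent
import Mathlib.RingTheory.Polynomial.GaussLemma
import Mathlib.RingTheory.Polynomial.UniqueFactorization
import Mathlib.RingTheory.Polynomial.Basic
import Mathlib.RingTheory.Localization.Away.Basic
import Mathlib.RingTheory.Localization.Ideal
import Mathlib.RingTheory.Localization.FractionRing
import Mathlib.Algebra.MvPolynomial.CommRing

set_option autoImplicit false
set_option linter.unnecessarySimpa false
universe u

open Polynomial LaurentPolynomial

namespace Groth.Agent.H20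

section

variable {k : Type u} [Field k] {r : ℕ}

/-- The unit `T` of the Laurent polynomial ring. -/
noncomputable def unitT (A : Type u) [CommRing A] : (A[T;T⁻¹])ˣ :=
  ⟨T 1, T (-1), by rw [← T_add]; simp, by rw [← T_add]; simp⟩

/-- `X_i ↦ X_i T^e` on the coefficient ring. -/
noncomputable def twist0 (e : ℤ) :
    MvPolynomial (Fin r) k →+* (MvPolynomial (Fin r) k)[T;T⁻¹] :=
  MvPolynomial.eval₂Hom (LaurentPolynomial.C.comp MvPolynomial.C)
    (fun i => LaurentPolynomial.C (MvPolynomial.X i) * T e)

/-- `X_i ↦ X_i T^e`, `T ↦ T` on Laurent polynomials. -/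
noncomputable def twist (e : ℤ) :
    (MvPolynomial (Fin r) k)[T;T⁻¹] →+* (MvPolynomial (Fin r) k)[T;T⁻¹] :=
  LaurentPolynomial.eval₂ (twist0 e) (unitT _)

lemma twist_C (e : ℤ) (a : MvPolynomial (Fin r) k) :
    twist e (LaurentPolynomial.C a) = twist0 e a := by
  simp [twist]

lemma twist_T_one (e : ℤ) :
    twist (k := k) (r := r) e (T 1) = T 1 := by
  have := LaurentPolynomial.eval₂_T_n (twist0 (k := k) (r := r) e) (unitT _) 1
  simpa [twist, unitT] using this

lemma twist_T_neg_one (e : ℤ) :
    twist (k := k) (r := r) e (T (-1)) = T (-1) := by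
  have := LaurentPolynomial.eval₂_T_neg_n (twist0 (k := k) (r := r) e) (unitT _) 1
  simpa [twist, unitT] using this

lemma twist0_C (e : ℤ) (a : k) :
    twist0 (r := r) e (MvPolynomial.C a) = LaurentPolynomial.C (MvPolynomial.C a) := by
  simp [twist0]

lemma twist0_X (e : ℤ) (i : Fin r) :
    twist0 (k := k) e (MvPolynomial.X i) = LaurentPolynomial.C (MvPolynomial.X i) * T e := by
  simp [twist0]

lemma twist_neg_comp_twist0_one :
    (twist (k := k) (r := r) (-1)).comp (twist0 1) = LaurentPolynomial.C := by
  apply MvPolynomial.ringHom_ext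
  · intro a
    simp [twist0_C, twist_C]
  · intro i
    simp only [RingHom.comp_apply, twist0_X, map_mul, twist_C, twist_T_one]
    rw [mul_assoc, ← T_add]
    simp

lemma twist_one_comp_twist0_neg :
    (twist (k := k) (r := r) 1).comp (twist0 (-1)) = LaurentPolynomial.C := by
  apply MvPolynomial.ringHom_ext
  · intro a
    simp [twist0_C, twist_C]
  · intro i
    simp only [RingHom.comp_apply, twist0_X, map_mul, twist_C, twist_T_neg_one]
    rw [mul_assoc, ← T_add]
    simp

lemma twist_neg_comp_twist_one :
    (twist (k := k) (r := r) (-1)).comp (twist 1) = RingHom.id _ := by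
  apply IsLocalization.ringHom_ext (Submonoid.powers (X : (MvPolynomial (Fin r) k)[X]))
  apply Polynomial.ringHom_ext
  · intro a
    simp only [RingHom.comp_apply, algebraMap_eq_toLaurent, Polynomial.toLaurent_C, twist_C,
      RingHom.id_apply]
    exact RingHom.congr_fun twist_neg_comp_twist0_one a
  · simp only [RingHom.comp_apply, algebraMap_eq_toLaurent, Polynomial.toLaurent_X, twist_T_one,
      RingHom.id_apply]

lemma twist_one_comp_twist_neg :
    (twist (k := k) (r := r) 1).comp (twist (-1)) = RingHom.id _ := by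
  apply IsLocalization.ringHom_ext (Submonoid.powers (X : (MvPolynomial (Fin r) k)[X]))
  apply Polynomial.ringHom_ext
  · intro a
    simp only [RingHom.comp_apply, algebraMap_eq_toLaurent, Polynomial.toLaurent_C, twist_C,
      RingHom.id_apply]
    exact RingHom.congr_fun twist_one_comp_twist0_neg a
  · simp only [RingHom.comp_apply, algebraMap_eq_toLaurent, Polynomial.toLaurent_X, twist_T_one,
      RingHom.id_apply]

/-- The automorphism `X_i ↦ X_i T` of the Laurent polynomial ring. -/
noncomputable def twistEquiv :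
    (MvPolynomial (Fin r) k)[T;T⁻¹] ≃+* (MvPolynomial (Fin r) k)[T;T⁻¹] :=
  RingEquiv.ofRingHom (twist 1) (twist (-1)) twist_one_comp_twist_neg twist_neg_comp_twist_one

/-- The polynomial `F(X_1 T, …, X_r T)`. -/
noncomputable def lineSubst (F : MvPolynomial (Fin r) k) : (MvPolynomial (Fin r) k)[X] :=
  MvPolynomial.eval₂ (Polynomial.C.comp MvPolynomial.C)
    (fun j => Polynomial.C (MvPolynomial.X j) * Polynomial.X) F

lemma toLaurent_lineSubst (F : MvPolynomial (Fin r) k) :
    toLaurent (lineSubst F) = twistEquiv (LaurentPolynomial.C F) := by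
  change _ = twist 1 (LaurentPolynomial.C F)
  rw [twist_C, lineSubst, twist0, MvPolynomial.coe_eval₂Hom]
  have h1 := MvPolynomial.eval₂_comp_left
    (Polynomial.toLaurent (R := MvPolynomial (Fin r) k))
    (Polynomial.C.comp MvPolynomial.C)
    (fun j => Polynomial.C (MvPolynomial.X j) * (Polynomial.X : (MvPolynomial (Fin r) k)[X])) F
  rw [h1]
  congr 1
  · ext a
    simp
  · ext j
    simp

lemma coeff_zero_lineSubst (F : MvPolynomial (Fin r) k) :
    (lineSubst F).coeff 0 = MvPolynomial.C (MvPolynomial.eval (fun _ => (0 : k)) F) := by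
  rw [Polynomial.coeff_zero_eq_eval_zero, lineSubst]
  have h1 := MvPolynomial.eval₂_comp_left (Polynomial.evalRingHom (0 : MvPolynomial (Fin r) k))
    (Polynomial.C.comp MvPolynomial.C)
    (fun j => Polynomial.C (MvPolynomial.X j) * (Polynomial.X : (MvPolynomial (Fin r) k)[X])) F
  rw [Polynomial.coe_evalRingHom] at h1
  rw [h1]
  have h2 : (MvPolynomial.C : k →+* MvPolynomial (Fin r) k).comp
      (MvPolynomial.eval (fun _ => (0 : k))) =
      MvPolynomial.eval₂Hom ((Polynomial.evalRingHom (0 : MvPolynomial (Fin r) k)).comp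
        (Polynomial.C.comp MvPolynomial.C))
        ((Polynomial.eval 0) ∘ (fun j => Polynomial.C (MvPolynomial.X j) *
          (Polynomial.X : (MvPolynomial (Fin r) k)[X]))) := by
    apply MvPolynomial.ringHom_ext
    · intro a
      simp
    · intro i
      simp
  exact (RingHom.congr_fun h2 F).symm

lemma prime_C_laurent {F : MvPolynomial (Fin r) k} (hF : Prime F) :
    Prime (LaurentPolynomial.C F : (MvPolynomial (Fin r) k)[T;T⁻¹]) := by
  have hCF : Prime (Polynomial.C F) := Polynomial.prime_C_iff.mpr hF
  have hI : (Ideal.span {Polynomial.C F}).IsPrime :=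
    (Ideal.span_singleton_prime hCF.ne_zero).mpr hCF
  have hdisj : Disjoint (Submonoid.powers (X : (MvPolynomial (Fin r) k)[X]) : Set _)
      (Ideal.span {Polynomial.C F} : Set (MvPolynomial (Fin r) k)[X]) := by
    rw [Set.disjoint_left]
    rintro _ ⟨n, rfl⟩ hn
    rw [SetLike.mem_coe, Ideal.mem_span_singleton, Polynomial.C_dvd_iff_dvd_coeff] at hn
    have := hn n
    rw [Polynomial.coeff_X_pow_self] at this
    exact hF.not_isUnit (isUnit_of_dvd_one this)
  have hmap := IsLocalization.isPrime_of_isPrime_disjoint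
    (Submonoid.powers (X : (MvPolynomial (Fin r) k)[X])) ((MvPolynomial (Fin r) k)[T;T⁻¹])
    (Ideal.span {Polynomial.C F}) hI hdisj
  rw [Ideal.map_span, Set.image_singleton, algebraMap_eq_toLaurent, Polynomial.toLaurent_C] at hmap
  have hne : (LaurentPolynomial.C F : (MvPolynomial (Fin r) k)[T;T⁻¹]) ≠ 0 := by
    rw [← Polynomial.toLaurent_C]
    exact Polynomial.toLaurent_ne_zero.mpr hCF.ne_zero
  exact (Ideal.span_singleton_prime hne).mp hmap

theorem irreducible_lineSubst {F : MvPolynomial (Fin r) k} (hF : Irreducible F)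
    (hF0 : MvPolynomial.eval (fun _ => (0 : k)) F ≠ 0) : Irreducible (lineSubst F) := by
  have hprime : Prime (toLaurent (lineSubst F)) := by
    rw [toLaurent_lineSubst]
    exact (MulEquiv.prime_iff (twistEquiv (k := k) (r := r)).toMulEquiv).mpr
      (prime_C_laurent hF.prime)
  have hc0 : (lineSubst F).coeff 0 ≠ 0 := by
    rw [coeff_zero_lineSubst]
    simpa using hF0
  have key : ∀ P Q : (MvPolynomial (Fin r) k)[X], lineSubst F = P * Q →
      IsUnit (toLaurent P) → IsUnit P := by
    intro P Q hPQ hP
    rw [← algebraMap_eq_toLaurent,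
      IsLocalization.Away.algebraMap_isUnit_iff (X : (MvPolynomial (Fin r) k)[X])] at hP
    obtain ⟨n, hn⟩ := hP
    obtain ⟨i, -, hi⟩ := (dvd_prime_pow Polynomial.prime_X n).mp hn
    rcases Nat.eq_zero_or_pos i with rfl | hipos
    · rw [pow_zero] at hi
      exact associated_one_iff_isUnit.mp hi
    · exfalso
      have hX : (X : (MvPolynomial (Fin r) k)[X]) ∣ P :=
        (dvd_pow_self X hipos.ne').trans hi.symm.dvd
      have : (X : (MvPolynomial (Fin r) k)[X]) ∣ lineSubst F := hX.trans ⟨Q, hPQ⟩
      exact hc0 (Polynomial.X_dvd_iff.mp this)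
  refine ⟨?_, ?_⟩
  · intro hu
    exact hprime.not_isUnit (hu.map (Polynomial.toLaurent))
  · intro P Q hPQ
    have h2 : toLaurent (lineSubst F) = toLaurent P * toLaurent Q := by rw [hPQ, map_mul]
    rcases hprime.irreducible.isUnit_or_isUnit h2 with h | h
    · exact Or.inl (key P Q hPQ h)
    · exact Or.inr (key Q P (by rw [hPQ, mul_comm]) h)

end

end Groth.Agent.H20
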