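import Mathlib

/-!
# Pullback squares in a localization with a right calculus of fractions

A commutative square in `C` becomes a pullback square in the localization `C[W⁻¹]` (with `W`
admitting a right calculus of fractions) as soon as cones lift after refinement by `W`, and lifts
are unique.
-/

set_option autoImplicit false

open CategoryTheory CategoryTheory.Limits

namespace Groth.Agent.H20.LocPullback

section General

variable {D : Type*} [Category D]

lemma isPullback_of_existsUnique {P X Y Z : D} (fst : P ⟶ X) (snd : P ⟶ Y) (f : X ⟶ Z)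
    (g : Y ⟶ Z) (w : fst ≫ f = snd ≫ g)
    (h : ∀ (A : D) (a : A ⟶ X) (b : A ⟶ Y), a ≫ f = b ≫ g →
      ∃! l : A ⟶ P, l ≫ fst = a ∧ l ≫ snd = b) : IsPullback fst snd f g := by
  refine ⟨⟨w⟩, ⟨PullbackCone.IsLimit.mk w
    (fun s => (h s.pt s.fst s.snd s.condition).choose)
    (fun s => (h s.pt s.fst s.snd s.condition).choose_spec.1.1)
    (fun s => (h s.pt s.fst s.snd s.condition).choose_spec.1.2)
    (fun s m h1 h2 => (h s.pt s.fst s.snd s.condition).choose_spec.2 m ⟨h1, h2⟩)⟩⟩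

end General

variable {C D : Type*} [Category C] [Category D] (L : C ⥤ D) (W : MorphismProperty C)
  [L.IsLocalization W] [W.HasRightCalculusOfFractions]

/-- Two morphisms in the localization with the same source have a common denominator. -/
lemma exists_common_rightFraction {Z X Y : C} (α : L.obj Z ⟶ L.obj X) (β : L.obj Z ⟶ L.obj Y) :
    ∃ (Z' : C) (s : Z' ⟶ Z) (_ : W s) (a : Z' ⟶ X) (b : Z' ⟶ Y),
      L.map s ≫ α = L.map a ∧ L.map s ≫ β = L.map b := by
  obtain ⟨φ, rfl⟩ := Localization.exists_rightFraction L W α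
  obtain ⟨ψ, rfl⟩ := Localization.exists_rightFraction L W β
  obtain ⟨ρ, hρ⟩ := MorphismProperty.HasRightCalculusOfFractions.exists_rightFraction
    (MorphismProperty.LeftFraction.mk φ.s ψ.s ψ.hs)
  dsimp at hρ
  refine ⟨ρ.X', ρ.s ≫ φ.s, W.comp_mem _ _ ρ.hs φ.hs, ρ.s ≫ φ.f, ρ.f ≫ ψ.f, ?_, ?_⟩
  · rw [L.map_comp, Category.assoc, MorphismProperty.RightFraction.map_s_comp_map, ← L.map_comp]
  · rw [hρ, L.map_comp, Category.assoc, MorphismProperty.RightFraction.map_s_comp_map,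
      ← L.map_comp]

/-- Two elements of `W` with the same target have a common refinement in `W`. -/
lemma exists_common_refinement {Z Z₁ Z₂ : C} (s₁ : Z₁ ⟶ Z) (hs₁ : W s₁) (s₂ : Z₂ ⟶ Z)
    (hs₂ : W s₂) : ∃ (Z' : C) (u₁ : Z' ⟶ Z₁) (u₂ : Z' ⟶ Z₂), u₁ ≫ s₁ = u₂ ≫ s₂ ∧ W (u₁ ≫ s₁) := by
  obtain ⟨ρ, hρ⟩ := MorphismProperty.HasRightCalculusOfFractions.exists_rightFraction
    (MorphismProperty.LeftFraction.mk s₁ s₂ hs₂)
  dsimp at hρ
  exact ⟨ρ.X', ρ.s, ρ.f, hρ, W.comp_mem _ _ ρ.hs hs₁⟩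

/-- **Pullback squares in the localization.** -/
theorem isPullback_map {Y T X P : C} (pT : Y ⟶ T) (pX : Y ⟶ X) (g : T ⟶ P) (f : X ⟶ P)
    (w : pT ≫ g = pX ≫ f)
    (hA : ∀ (Z : C) (a : Z ⟶ T) (b : Z ⟶ X), a ≫ g = b ≫ f →
      ∃ (Z' : C) (t : Z' ⟶ Z) (_ : W t) (c : Z' ⟶ Y), c ≫ pT = t ≫ a ∧ c ≫ pX = t ≫ b)
    (hB : ∀ (Z : C) (c₁ c₂ : Z ⟶ Y), c₁ ≫ pT = c₂ ≫ pT → c₁ ≫ pX = c₂ ≫ pX → c₁ = c₂)
    (hobj : ∀ A : D, ∃ Z : C, A = L.obj Z) :
    IsPullback (L.map pT) (L.map pX) (L.map g) (L.map f) := by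
  apply isPullback_of_existsUnique
  · rw [← L.map_comp, ← L.map_comp, w]
  · intro A α β hαβ
    obtain ⟨Z, rfl⟩ := hobj A
    -- existence
    have hex : ∃ γ : L.obj Z ⟶ L.obj Y, γ ≫ L.map pT = α ∧ γ ≫ L.map pX = β := by
      obtain ⟨Z', s, hs, a, b, hα, hβ⟩ := exists_common_rightFraction L W α β
      have hsiso : IsIso (L.map s) := Localization.inverts L W s hs
      have heq : L.map (a ≫ g) = L.map (b ≫ f) := by
        rw [L.map_comp, L.map_comp, ← hα, ← hβ, Category.assoc, Category.assoc, hαβ]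
      obtain ⟨Z'', s', hs', hs'eq⟩ := (MorphismProperty.map_eq_iff_precomp L W _ _).mp heq
      obtain ⟨Z''', t, ht, c, hcT, hcX⟩ := hA Z'' (s' ≫ a) (s' ≫ b)
        (by simpa only [Category.assoc] using hs'eq)
      have hu : W (t ≫ s' ≫ s) := W.comp_mem _ _ ht (W.comp_mem _ _ hs' hs)
      have huiso : IsIso (L.map (t ≫ s' ≫ s)) := Localization.inverts L W _ hu
      refine ⟨inv (L.map (t ≫ s' ≫ s)) ≫ L.map c, ?_, ?_⟩
      · rw [Category.assoc, ← L.map_comp, hcT, IsIso.inv_comp_eq, L.map_comp, L.map_comp,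
          L.map_comp, L.map_comp, Category.assoc, Category.assoc, hα]
      · rw [Category.assoc, ← L.map_comp, hcX, IsIso.inv_comp_eq, L.map_comp, L.map_comp,
          L.map_comp, L.map_comp, Category.assoc, Category.assoc, hβ]
    obtain ⟨γ, hγT, hγX⟩ := hex
    refine ⟨γ, ⟨hγT, hγX⟩, ?_⟩
    rintro γ' ⟨hγ'T, hγ'X⟩
    -- uniqueness
    obtain ⟨Z', s, hs, c₁, c₂, h₁, h₂⟩ := exists_common_rightFraction L W γ' γ
    have hsiso : IsIso (L.map s) := Localization.inverts L W s hs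
    have heqT : L.map (c₁ ≫ pT) = L.map (c₂ ≫ pT) := by
      rw [L.map_comp, L.map_comp, ← h₁, ← h₂, Category.assoc, Category.assoc, hγ'T, hγT]
    have heqX : L.map (c₁ ≫ pX) = L.map (c₂ ≫ pX) := by
      rw [L.map_comp, L.map_comp, ← h₁, ← h₂, Category.assoc, Category.assoc, hγ'X, hγX]
    obtain ⟨Z₁, s₁, hs₁, e₁⟩ := (MorphismProperty.map_eq_iff_precomp L W _ _).mp heqT
    obtain ⟨Z₂, s₂, hs₂, e₂⟩ := (MorphismProperty.map_eq_iff_precomp L W _ _).mp heqX
    obtain ⟨Z₃, u₁, u₂, hu, hW⟩ := exists_common_refinement W s₁ hs₁ s₂ hs₂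
    have hc : (u₁ ≫ s₁) ≫ c₁ = (u₁ ≫ s₁) ≫ c₂ := by
      apply hB
      · simp only [Category.assoc]
        rw [e₁]
      · rw [hu]
        simp only [Category.assoc]
        rw [e₂]
    have hviso : IsIso (L.map (u₁ ≫ s₁)) := Localization.inverts L W _ hW
    have hc' : L.map c₁ = L.map c₂ := by
      rw [← cancel_epi (L.map (u₁ ≫ s₁)), ← L.map_comp, ← L.map_comp, hc]
    rw [← cancel_epi (L.map s), h₁, h₂, hc']

end Groth.Agent.H20.LocPullback
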