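import Mathlib
import Groth.Prelude.Def_W4c6modpairsegaMP
import Groth.Agent.H20.ModPairBox
import Groth.Agent.H20.SchImage

/-!
# Products of modulus pairs in the minimal case
-/

set_option autoImplicit false
universe u

open CategoryTheory CategoryTheory.Limits AlgebraicGeometry TopologicalSpace Opposite

namespace Groth.Agent.H20.ModPairProd

open Groth.Agent.H20.EffCartierInterior Groth.Agent.H20.ModPairFlat Groth.Agent.H20.ModPairBox
open Groth.Agent.H20.SchImage

variable {S T X : Scheme.{u}}

/-- Ambient morphisms map the interior into the interior. -/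
lemma interior_le_preimage_interior {W : Scheme.{u}} (IW : W.IdealSheafData)
    (IX : X.IdealSheafData) (b : W ⟶ X) (hb : ModPair.IsAmbient IW IX b) :
    ModPair.interior IW ≤ b ⁻¹ᵁ ModPair.interior IX := by
  intro x hx
  have hx' : x ∉ IW.support := hx
  change b x ∉ IX.support
  intro hmem
  apply hx'
  have h2 : x ∈ (IX.comap b).support := by
    rw [Scheme.IdealSheafData.support_comap]
    exact hmem
  exact Scheme.IdealSheafData.support_antitone hb h2

/-- If the second factor is minimal, the product of the interiors is the preimage of the interior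
of the first factor. -/
lemma prodInterior_eq_of_minimal (IS : S.IdealSheafData) (IT : T.IdealSheafData)
    (IX : X.IdealSheafData) (p : X ⟶ S) (hp : ModPair.IsAmbient IX IS p) (f : T ⟶ S)
    (hf : ModPair.IsMinimal IT IS f) :
    ModPair.prodInterior p f IX IT = pullback.fst p f ⁻¹ᵁ ModPair.interior IX := by
  apply inf_eq_left.mpr
  intro x hx
  have hx' : pullback.fst p f x ∈ ModPair.interior IX := hx
  have h1 := interior_le_preimage_interior IX IS p hp hx'
  change pullback.snd p f x ∈ ModPair.interior IT
  rw [hf, interior_comap]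
  change f (pullback.snd p f x) ∈ ModPair.interior IS
  rw [← Scheme.Hom.comp_apply, ← pullback.condition, Scheme.Hom.comp_apply]
  exact h1

/-- If the first factor is minimal, the product of the interiors is the preimage of the interior
of the second factor. -/
lemma prodInterior_eq_of_minimal_left (IS : S.IdealSheafData) (IT : T.IdealSheafData)
    (IX : X.IdealSheafData) (s : X ⟶ S) (hs : ModPair.IsMinimal IX IS s) (g : T ⟶ S)
    (hg : ModPair.IsAmbient IT IS g) :
    ModPair.prodInterior s g IX IT = pullback.snd s g ⁻¹ᵁ ModPair.interior IT := by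
  apply inf_eq_right.mpr
  intro x hx
  have hx' : pullback.snd s g x ∈ ModPair.interior IT := hx
  have h1 := interior_le_preimage_interior IT IS g hg hx'
  change pullback.fst s g x ∈ ModPair.interior IX
  rw [hs, interior_comap]
  change s (pullback.fst s g x) ∈ ModPair.interior IS
  rw [← Scheme.Hom.comp_apply, pullback.condition, Scheme.Hom.comp_apply]
  exact h1

/-- **The product of modulus pairs in the minimal case.** -/
theorem minimal_product (IS : S.IdealSheafData) (IT : T.IdealSheafData)
    (IX : X.IdealSheafData) (hX : BlowUp.IsEffCartierIdeal IX)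
    (p : X ⟶ S) (hp : ModPair.IsAmbient IX IS p) (f : T ⟶ S) (hf : ModPair.IsMinimal IT IS f) :
    BlowUp.IsEffCartierIdeal (IX.comap (ModPair.mprodι p f IX IT ≫ pullback.fst p f)) ∧
      ModPair.IsAmbient (IX.comap (ModPair.mprodι p f IX IT ≫ pullback.fst p f)) IT
        (ModPair.mprodι p f IX IT ≫ pullback.snd p f) ∧
      ∀ (W : Scheme.{u}) (IW : W.IdealSheafData), BlowUp.IsEffCartierIdeal IW →
        ∀ (a : W ⟶ T) (b : W ⟶ X), ModPair.IsAmbient IW IT a → ModPair.IsAmbient IW IX b →
          a ≫ f = b ≫ p →
          ∃! c : W ⟶ ModPair.mprod p f IX IT,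
            c ≫ ModPair.mprodι p f IX IT ≫ pullback.snd p f = a ∧
              c ≫ ModPair.mprodι p f IX IT ≫ pullback.fst p f = b ∧
              ModPair.IsAmbient IW (IX.comap (ModPair.mprodι p f IX IT ≫ pullback.fst p f)) c := by
  have heq := prodInterior_eq_of_minimal IS IT IX p hp f hf
  have hqc : QuasiCompact (ModPair.prodInterior p f IX IT).ι := by
    have := isAffineHom_preimage_interior_ι IX hX (pullback.fst p f)
    rw [heq]; infer_instance
  refine ⟨?_, ?_, ?_⟩
  · have hpre : (ModPair.mprodι p f IX IT ≫ pullback.fst p f) ⁻¹ᵁ ModPair.interior IX =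
        (ModPair.prodInterior p f IX IT).ι.imageι ⁻¹ᵁ ModPair.prodInterior p f IX IT := by
      rw [Scheme.Hom.comp_preimage, ← heq]
    have hdom : IsSchemeTheoreticallyDominant
        ((ModPair.mprodι p f IX IT ≫ pullback.fst p f) ⁻¹ᵁ ModPair.interior IX).ι := by
      rw [hpre]
      exact isSchemeTheoreticallyDominant_preimage_ι _
    exact (Groth.Agent.H20.EffCartierInterior.main IX hX
      (ModPair.mprodι p f IX IT ≫ pullback.fst p f)).2
  · change IX.comap (ModPair.mprodι p f IX IT ≫ pullback.fst p f) ≤
      IT.comap (ModPair.mprodι p f IX IT ≫ pullback.snd p f)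
    have hf' : IT = IS.comap f := hf
    calc IX.comap (ModPair.mprodι p f IX IT ≫ pullback.fst p f)
        ≤ (IS.comap p).comap (ModPair.mprodι p f IX IT ≫ pullback.fst p f) :=
          Scheme.IdealSheafData.comap_mono (ModPair.mprodι p f IX IT ≫ pullback.fst p f) hp
      _ = IS.comap ((ModPair.mprodι p f IX IT ≫ pullback.fst p f) ≫ p) :=
          (Scheme.IdealSheafData.comap_comp _ _ _).symm
      _ = IS.comap ((ModPair.mprodι p f IX IT ≫ pullback.snd p f) ≫ f) := by
          rw [Category.assoc, Category.assoc, pullback.condition]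
      _ = (IS.comap f).comap (ModPair.mprodι p f IX IT ≫ pullback.snd p f) :=
          Scheme.IdealSheafData.comap_comp _ _ _
      _ = IT.comap (ModPair.mprodι p f IX IT ≫ pullback.snd p f) :=
          congrArg (fun I => Scheme.IdealSheafData.comap I
            (ModPair.mprodι p f IX IT ≫ pullback.snd p f)) hf'.symm
  · intro W IW hW a b ha hb hab
    have hdomW := isSchemeTheoreticallyDominant_interior_ι IW hW
    have hW₀ : ModPair.interior IW ≤
        pullback.lift b a hab.symm ⁻¹ᵁ ModPair.prodInterior p f IX IT := by
      intro x hx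
      refine ⟨?_, ?_⟩
      · change pullback.fst p f (pullback.lift b a hab.symm x) ∈ ModPair.interior IX
        rw [← Scheme.Hom.comp_apply, pullback.lift_fst]
        exact interior_le_preimage_interior IW IX b hb hx
      · change pullback.snd p f (pullback.lift b a hab.symm x) ∈ ModPair.interior IT
        rw [← Scheme.Hom.comp_apply, pullback.lift_snd]
        exact interior_le_preimage_interior IW IT a ha hx
    refine ⟨liftImage (ModPair.prodInterior p f IX IT) (pullback.lift b a hab.symm)
      (ModPair.interior IW) hW₀, ⟨?_, ?_, ?_⟩, ?_⟩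
    · rw [liftImage_imageι_assoc, pullback.lift_snd]
    · rw [liftImage_imageι_assoc, pullback.lift_fst]
    · change IW ≤ _
      rw [← Scheme.IdealSheafData.comap_comp, liftImage_imageι_assoc, pullback.lift_fst]
      exact hb
    · rintro c' ⟨h1, h2, -⟩
      rw [← cancel_mono (ModPair.mprodι p f IX IT), liftImage_imageι]
      apply pullback.hom_ext
      · rw [Category.assoc, h2, pullback.lift_fst]
      · rw [Category.assoc, h1, pullback.lift_snd]

end Groth.Agent.H20.ModPairProd
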