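import Mathlib
import Groth.Prelude.Def_W4c6modpairsegaMP
import Groth.Agent.H20.ModPairProd

/-!
# Base change of abstract admissible blow-ups of modulus pairs
-/

set_option autoImplicit false
universe u

open CategoryTheory CategoryTheory.Limits AlgebraicGeometry TopologicalSpace Opposite

namespace Groth.Agent.H20.ModPairAdm

open Groth.Agent.H20.EffCartierInterior Groth.Agent.H20.ModPairFlat Groth.Agent.H20.ModPairBox
open Groth.Agent.H20.SchImage Groth.Agent.H20.ModPairProd

variable {S T X : Scheme.{u}}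

/-- If `s` is an isomorphism over the open `S₀`, then its base change along `g` is an isomorphism
over any open `T₀` mapping into `S₀`. -/
lemma isIso_snd_restrict (s : X ⟶ S) (g : T ⟶ S) (S₀ : S.Opens) (T₀ : T.Opens)
    (hT₀ : T₀ ≤ g ⁻¹ᵁ S₀) [IsIso (s ∣_ S₀)] : IsIso (pullback.snd s g ∣_ T₀) := by
  have hr : Set.range (T₀.ι ≫ g) ⊆ Set.range S₀.ι := by
    rw [Scheme.Opens.range_ι]
    rintro _ ⟨x, rfl⟩
    exact hT₀ x.2
  have e1 : IsOpenImmersion.lift S₀.ι (T₀.ι ≫ g) hr ≫ S₀.ι = T₀.ι ≫ g :=
    IsOpenImmersion.lift_fac _ _ _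
  have sq1 := isPullback_morphismRestrict (pullback.snd s g) T₀
  have sq2 := (IsPullback.of_hasPullback s g).flip
  have sq12 := sq1.paste_vert sq2
  rw [← e1] at sq12
  have sq3 := isPullback_morphismRestrict s S₀
  have sq := IsPullback.of_bot' sq12 sq3
  exact sq.isIso_fst_of_isIso

/-- **Base change of an abstract admissible blow-up.** -/
theorem main (IS : S.IdealSheafData) (IT : T.IdealSheafData) (IX : X.IdealSheafData)
    (hT : BlowUp.IsEffCartierIdeal IT)
    (g : T ⟶ S) (hg : ModPair.IsAmbient IT IS g) (s : X ⟶ S) (hs : ModPair.IsAdmBlowup IX IS s) :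
    BlowUp.IsEffCartierIdeal (IT.comap (ModPair.mprodι s g IX IT ≫ pullback.snd s g)) ∧
      ModPair.IsAdmBlowup (IT.comap (ModPair.mprodι s g IX IT ≫ pullback.snd s g)) IT
        (ModPair.mprodι s g IX IT ≫ pullback.snd s g) ∧
      ModPair.IsAmbient (IT.comap (ModPair.mprodι s g IX IT ≫ pullback.snd s g)) IX
        (ModPair.mprodι s g IX IT ≫ pullback.fst s g) := by
  obtain ⟨hmin, hproper, hiso⟩ := hs
  have heq := prodInterior_eq_of_minimal_left IS IT IX s hmin g hg
  have hqc : QuasiCompact (ModPair.prodInterior s g IX IT).ι := by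
    have := isAffineHom_preimage_interior_ι IT hT (pullback.snd s g)
    rw [heq]; infer_instance
  refine ⟨?_, ⟨rfl, inferInstance, ?_⟩, ?_⟩
  · have hpre : (ModPair.mprodι s g IX IT ≫ pullback.snd s g) ⁻¹ᵁ ModPair.interior IT =
        (ModPair.prodInterior s g IX IT).ι.imageι ⁻¹ᵁ ModPair.prodInterior s g IX IT := by
      rw [Scheme.Hom.comp_preimage, ← heq]
    have hdom : IsSchemeTheoreticallyDominant
        ((ModPair.mprodι s g IX IT ≫ pullback.snd s g) ⁻¹ᵁ ModPair.interior IT).ι := by
      rw [hpre]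
      exact isSchemeTheoreticallyDominant_preimage_ι _
    exact (Groth.Agent.H20.EffCartierInterior.main IT hT
      (ModPair.mprodι s g IX IT ≫ pullback.snd s g)).2
  · rw [morphismRestrict_comp]
    have h1 : IsIso (ModPair.mprodι s g IX IT ∣_ pullback.snd s g ⁻¹ᵁ ModPair.interior IT) :=
      heq ▸ isIso_imageι_restrict (ModPair.prodInterior s g IX IT)
    have h2 : IsIso (pullback.snd s g ∣_ ModPair.interior IT) :=
      isIso_snd_restrict s g (ModPair.interior IS) (ModPair.interior IT)
        (interior_le_preimage_interior IT IS g hg)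
    exact IsIso.comp_isIso' h1 h2
  · change IT.comap (ModPair.mprodι s g IX IT ≫ pullback.snd s g) ≤
      IX.comap (ModPair.mprodι s g IX IT ≫ pullback.fst s g)
    have hmin' : IX = IS.comap s := hmin
    calc IT.comap (ModPair.mprodι s g IX IT ≫ pullback.snd s g)
        ≤ (IS.comap g).comap (ModPair.mprodι s g IX IT ≫ pullback.snd s g) :=
          Scheme.IdealSheafData.comap_mono (ModPair.mprodι s g IX IT ≫ pullback.snd s g) hg
      _ = IS.comap ((ModPair.mprodι s g IX IT ≫ pullback.snd s g) ≫ g) :=
          (Scheme.IdealSheafData.comap_comp _ _ _).symm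
      _ = IS.comap ((ModPair.mprodι s g IX IT ≫ pullback.fst s g) ≫ s) := by
          rw [Category.assoc, Category.assoc, pullback.condition]
      _ = (IS.comap s).comap (ModPair.mprodι s g IX IT ≫ pullback.fst s g) :=
          Scheme.IdealSheafData.comap_comp _ _ _
      _ = IX.comap (ModPair.mprodι s g IX IT ≫ pullback.fst s g) :=
          congrArg (fun I => Scheme.IdealSheafData.comap I
            (ModPair.mprodι s g IX IT ≫ pullback.fst s g)) hmin'.symm

end Groth.Agent.H20.ModPairAdm
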