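import Mathlib
import Groth.Prelude.Def_W4c6modpairsegaMP
import Groth.Agent.H20.ModPairAdm

/-!
# Calculus of right fractions for abstract admissible blow-ups of modulus pairs
-/

set_option autoImplicit false
universe u

open CategoryTheory CategoryTheory.Limits AlgebraicGeometry TopologicalSpace Opposite

namespace Groth.Agent.H20.ModPairFrac

open Groth.Agent.H20.EffCartierInterior Groth.Agent.H20.ModPairFlat Groth.Agent.H20.ModPairBox
open Groth.Agent.H20.SchImage Groth.Agent.H20.ModPairProd Groth.Agent.H20.ModPairAdm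

variable {X Y Z : Scheme.{u}}

/-- Two morphisms over a separated base which agree on a scheme-theoretically dense part are
equal. -/
lemma ext_of_isSchemeTheoreticallyDominant_of_isSeparated {W : Scheme.{u}} {f g : X ⟶ Y}
    (s : Y ⟶ Z) [IsSeparated s] (h : f ≫ s = g ≫ s)
    (ι : W ⟶ X) [IsSchemeTheoreticallyDominant ι] (hU : ι ≫ f = ι ≫ g) : f = g := by
  let X' : Over Z := Over.mk (f ≫ s)
  let Y' : Over Z := Over.mk s
  let U' : Over Z := Over.mk (ι ≫ f ≫ s)
  let f' : X' ⟶ Y' := Over.homMk f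
  let g' : X' ⟶ Y' := Over.homMk g
  let ι' : U' ⟶ X' := Over.homMk ι
  have : IsSeparated Y'.hom := ‹_›
  have hlift : ι' ≫ f' = ι' ≫ g' := by ext1; exact hU
  have hdom : IsSchemeTheoreticallyDominant (equalizer.ι f' g').left := by
    have : IsSchemeTheoreticallyDominant
        ((equalizer.lift ι' hlift).left ≫ (equalizer.ι f' g').left) := by
      rw [← Over.comp_left, equalizer.lift_ι]
      exact ‹IsSchemeTheoreticallyDominant ι›
    exact of_comp (equalizer.lift ι' hlift).left _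
  have : IsIso (equalizer.ι f' g').left :=
    IsClosedImmersion.isIso_iff_ker_eq_bot.mpr (equalizer.ι f' g').left.ker_eq_bot
  rw [← cancel_epi (equalizer.ι f' g').left]
  exact congr($(equalizer.condition f' g').left)

/-- Identities are admissible blow-ups. -/
lemma isAdmBlowup_id (I : X.IdealSheafData) : ModPair.IsAdmBlowup I I (𝟙 X) :=
  ⟨(Scheme.IdealSheafData.comap_id I).symm, inferInstance, inferInstance⟩

/-- Admissible blow-ups compose. -/
lemma isAdmBlowup_comp (I : X.IdealSheafData) (J : Y.IdealSheafData) (K : Z.IdealSheafData)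
    (f : X ⟶ Y) (g : Y ⟶ Z) (hf : ModPair.IsAdmBlowup I J f) (hg : ModPair.IsAdmBlowup J K g) :
    ModPair.IsAdmBlowup I K (f ≫ g) := by
  obtain ⟨hf1, hf2, hf3⟩ := hf
  obtain ⟨hg1, hg2, hg3⟩ := hg
  have hf1' : I = J.comap f := hf1
  have hg1' : J = K.comap g := hg1
  refine ⟨?_, inferInstance, ?_⟩
  · change I = K.comap (f ≫ g)
    rw [Scheme.IdealSheafData.comap_comp, ← hg1', ← hf1']
  · rw [morphismRestrict_comp]
    have h1 : IsIso (f ∣_ g ⁻¹ᵁ ModPair.interior K) := by
      rw [← interior_comap, ← hg1']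
      exact hf3
    exact IsIso.comp_isIso' h1 hg3

/-- Admissible blow-ups are right-cancellable on ambient morphisms. -/
lemma eq_of_comp_admBlowup (I : X.IdealSheafData) (hI : BlowUp.IsEffCartierIdeal I)
    (J : Y.IdealSheafData) (K : Z.IdealSheafData) (f₁ f₂ : X ⟶ Y)
    (h₁ : ModPair.IsAmbient I J f₁) (h₂ : ModPair.IsAmbient I J f₂) (s : Y ⟶ Z)
    (hs : ModPair.IsAdmBlowup J K s) (h : f₁ ≫ s = f₂ ≫ s) : f₁ = f₂ := by
  obtain ⟨hs1, hs2, hs3⟩ := hs
  have hs1' : J = K.comap s := hs1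
  have hdom := isSchemeTheoreticallyDominant_interior_ι I hI
  refine ext_of_isSchemeTheoreticallyDominant_of_isSeparated s h (ModPair.interior I).ι ?_
  have hJ : ModPair.interior J = s ⁻¹ᵁ ModPair.interior K := by
    rw [hs1', interior_comap]
  have hr : ∀ f : X ⟶ Y, ModPair.IsAmbient I J f →
      Set.range ((ModPair.interior I).ι ≫ f) ⊆ Set.range (s ⁻¹ᵁ ModPair.interior K).ι := by
    intro f hf
    rw [Scheme.Opens.range_ι, ← hJ]
    rintro _ ⟨x, rfl⟩
    exact interior_le_preimage_interior I J f hf x.2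
  have e₁ := IsOpenImmersion.lift_fac (s ⁻¹ᵁ ModPair.interior K).ι _ (hr f₁ h₁)
  have e₂ := IsOpenImmersion.lift_fac (s ⁻¹ᵁ ModPair.interior K).ι _ (hr f₂ h₂)
  rw [← e₁, ← e₂]
  congr 1
  rw [← cancel_mono (s ∣_ ModPair.interior K), ← cancel_mono (ModPair.interior K).ι,
    Category.assoc, Category.assoc, morphismRestrict_ι, reassoc_of% e₁, reassoc_of% e₂, h]

/-- **Right calculus of fractions.** -/
theorem main : (ModPair.Pair.admBlowup.{u}).HasRightCalculusOfFractions where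
  id_mem P := isAdmBlowup_id P.mod
  comp_mem f g hf hg := isAdmBlowup_comp _ _ _ f.hom g.hom hf hg
  exists_rightFraction := by
    intro P Q φ
    obtain ⟨h1, h2, h3⟩ := Groth.Agent.H20.ModPairAdm.main φ.Y'.mod P.mod Q.mod P.isEffCartier
      φ.f.hom φ.f.cond φ.s.hom φ.hs
    let P' : ModPair.Pair.{u} :=
      ⟨_, P.mod.comap (ModPair.mprodι φ.s.hom φ.f.hom Q.mod P.mod ≫
        pullback.snd φ.s.hom φ.f.hom), h1⟩
    let s' : P' ⟶ P := ⟨ModPair.mprodι φ.s.hom φ.f.hom Q.mod P.mod ≫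
        pullback.snd φ.s.hom φ.f.hom, le_rfl⟩
    let f' : P' ⟶ Q := ⟨ModPair.mprodι φ.s.hom φ.f.hom Q.mod P.mod ≫
        pullback.fst φ.s.hom φ.f.hom, h3⟩
    refine ⟨⟨s', h2, f'⟩, ?_⟩
    apply ModPair.Pair.Hom.ext
    change (ModPair.mprodι φ.s.hom φ.f.hom Q.mod P.mod ≫ pullback.snd φ.s.hom φ.f.hom) ≫ φ.f.hom =
      (ModPair.mprodι φ.s.hom φ.f.hom Q.mod P.mod ≫ pullback.fst φ.s.hom φ.f.hom) ≫ φ.s.hom
    rw [Category.assoc, Category.assoc, pullback.condition]
  ext := by
    intro P Q R f₁ f₂ s hs h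
    refine ⟨P, 𝟙 P, isAdmBlowup_id P.mod, ?_⟩
    have : f₁ = f₂ := by
      apply ModPair.Pair.Hom.ext
      exact eq_of_comp_admBlowup P.mod P.isEffCartier Q.mod R.mod f₁.hom f₂.hom f₁.cond f₂.cond
        s.hom hs (congrArg ModPair.Pair.Hom.hom h)
    rw [this]

end Groth.Agent.H20.ModPairFrac
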