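import Mathlib
import Groth.Prelude.Def_W4c6modpairsegaMP
import Groth.Agent.H20.ModPairFrac
import Groth.Agent.S1682

/-!
# The modulus of an ambient product of modulus pairs
-/

set_option autoImplicit false
universe u

open CategoryTheory CategoryTheory.Limits AlgebraicGeometry TopologicalSpace Opposite

namespace Groth.Agent.H20.ModPairAmbProd

open Groth.Agent.H20.EffCartierInterior Groth.Agent.H20.ModPairFlat Groth.Agent.H20.ModPairBox
open Groth.Agent.H20.SchImage Groth.Agent.H20.ModPairProd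

section Algebra

variable {R : Type*} [CommRing R]

lemma le_of_mul_span_singleton_le (K L : Ideal R) (e : R) (he : e ∈ nonZeroDivisors R)
    (h : K * Ideal.span {e} ≤ L * Ideal.span {e}) : K ≤ L := by
  intro k hk
  have h1 : k * e ∈ L * Ideal.span {e} :=
    h (Ideal.mem_mul_span_singleton.mpr ⟨k, hk, rfl⟩)
  obtain ⟨l, hl, hle⟩ := Ideal.mem_mul_span_singleton.mp h1
  have : (l - k) * e = 0 := by rw [sub_mul, hle, sub_self]
  have h0 := (mem_nonZeroDivisors_iff_right.mp he) _ this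
  rw [sub_eq_zero] at h0
  rwa [← h0]

lemma eq_of_mul_span_singleton_eq (K L : Ideal R) (e : R) (he : e ∈ nonZeroDivisors R)
    (h : K * Ideal.span {e} = L * Ideal.span {e}) : K = L :=
  le_antisymm (le_of_mul_span_singleton_le K L e he h.le)
    (le_of_mul_span_singleton_le L K e he h.ge)

/-- The local shape of `D_X + D_T − E`. -/
lemma exists_generator (K : Ideal R) (e a b : R) (he : e ∈ nonZeroDivisors R)
    (hsup : Ideal.span {e} = Ideal.span {a} ⊔ Ideal.span {b})
    (hK : K * Ideal.span {e} = Ideal.span {a} * Ideal.span {b}) :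
    ∃ k c : R, K = Ideal.span {k} ∧ k = c * e ∧ k * e = a * b ∧
      K ≤ Ideal.span {a} ∧ K ≤ Ideal.span {b} := by
  have ha : a ∈ Ideal.span {e} := by
    rw [hsup]; exact Ideal.mem_sup_left (Ideal.mem_span_singleton_self a)
  have hb : b ∈ Ideal.span {e} := by
    rw [hsup]; exact Ideal.mem_sup_right (Ideal.mem_span_singleton_self b)
  obtain ⟨a', rfl⟩ := Ideal.mem_span_singleton'.mp ha
  obtain ⟨b', rfl⟩ := Ideal.mem_span_singleton'.mp hb
  have hKe : K = Ideal.span {a' * b' * e} := by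
    apply eq_of_mul_span_singleton_eq K _ e he
    rw [hK, Ideal.span_singleton_mul_span_singleton, Ideal.span_singleton_mul_span_singleton]
    congr 2
    ring
  refine ⟨a' * b' * e, a' * b', hKe, rfl, by ring, ?_, ?_⟩
  · rw [hKe, Ideal.span_singleton_le_span_singleton]
    exact ⟨b', by ring⟩
  · rw [hKe, Ideal.span_singleton_le_span_singleton]
    exact ⟨a', by ring⟩

end Algebra

section Geometry

variable {X T Y : Scheme.{u}}

/-- A common affine neighbourhood on which an effective Cartier ideal and two pulled-back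
effective Cartier ideals are all principal. -/
lemma exists_nice_affine (E : Y.IdealSheafData) (hE : BlowUp.IsEffCartierIdeal E)
    (I : X.IdealSheafData) (hI : BlowUp.IsEffCartierIdeal I) (qX : Y ⟶ X)
    (J : T.IdealSheafData) (hJ : BlowUp.IsEffCartierIdeal J) (qT : Y ⟶ T) (y : Y) :
    ∃ W : Y.affineOpens, y ∈ W.1 ∧ ∃ e a b : Γ(Y, W.1), e ∈ nonZeroDivisors Γ(Y, W.1) ∧
      E.ideal W = Ideal.span {e} ∧ (I.comap qX).ideal W = Ideal.span {a} ∧
      (J.comap qT).ideal W = Ideal.span {b} := by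
  obtain ⟨WE, hyWE, e₀, he₀, hEe₀⟩ := hE y
  obtain ⟨UX, hyUX, a₀, -, hIa₀⟩ := hI (qX y)
  obtain ⟨UT, hyUT, b₀, -, hJb₀⟩ := hJ (qT y)
  obtain ⟨h, hle, hyh⟩ := WE.2.exists_basicOpen_le
    (V := WE.1 ⊓ (qX ⁻¹ᵁ UX.1 ⊓ qT ⁻¹ᵁ UT.1)) ⟨y, hyWE, hyUX, hyUT⟩ hyWE
  let W : Y.affineOpens := Y.affineBasicOpen h
  have hWX : W.1 ≤ qX ⁻¹ᵁ UX.1 := hle.trans (inf_le_right.trans inf_le_left)
  have hWT : W.1 ≤ qT ⁻¹ᵁ UT.1 := hle.trans (inf_le_right.trans inf_le_right)
  refine ⟨W, hyh, (Y.presheaf.map (homOfLE <| Y.basicOpen_le h).op).hom e₀,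
    (qX.appLE UX.1 W.1 hWX).hom a₀, (qT.appLE UT.1 W.1 hWT).hom b₀, ?_, ?_, ?_, ?_⟩
  · letI := (Y.presheaf.map (homOfLE <| Y.basicOpen_le h).op).hom.toAlgebra
    haveI := WE.2.isLocalization_basicOpen h
    exact IsLocalization.map_nonZeroDivisors_le (Submonoid.powers h) Γ(Y, Y.basicOpen h)
      (Submonoid.mem_map_of_mem _ he₀)
  · rw [← E.map_ideal_basicOpen WE h, hEe₀, Ideal.map_span, Set.image_singleton]
    rfl
  · rw [Groth.Agent.H19.ComapAff.ideal_comap_appLE qX I UX W hWX, hIa₀, Ideal.map_span,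
      Set.image_singleton]
  · rw [Groth.Agent.H19.ComapAff.ideal_comap_appLE qT J UT W hWT, hJb₀, Ideal.map_span,
      Set.image_singleton]

end Geometry

section Transport

variable {Y Y₀ : Scheme.{u}}

/-- Transport of scheme-theoretic density through a morphism which is an isomorphism over an
open `A` whose preimage is scheme-theoretically dense. -/
lemma isSchemeTheoreticallyDominant_preimage_of_isIso_restrict (π : Y ⟶ Y₀)
    (A : Y₀.Opens) [IsIso (π ∣_ A)] [IsSchemeTheoreticallyDominant (π ⁻¹ᵁ A).ι]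
    (V₀ : Y₀.Opens) [IsSchemeTheoreticallyDominant V₀.ι] [QuasiCompact V₀.ι] :
    IsSchemeTheoreticallyDominant (π ⁻¹ᵁ V₀).ι := by
  have sq1 := isPullback_morphismRestrict A.ι V₀
  have h1 : IsSchemeTheoreticallyDominant (A.ι ⁻¹ᵁ V₀).ι :=
    IsSchemeTheoreticallyDominant.of_isPullback sq1
  have hq : QuasiCompact (A.ι ⁻¹ᵁ V₀).ι :=
    MorphismProperty.of_isPullback (P := @QuasiCompact) sq1 inferInstance
  have sq2 := isPullback_morphismRestrict (π ∣_ A) (A.ι ⁻¹ᵁ V₀)
  have h2 : IsSchemeTheoreticallyDominant ((π ∣_ A) ⁻¹ᵁ (A.ι ⁻¹ᵁ V₀)).ι :=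
    IsSchemeTheoreticallyDominant.of_isPullback sq2
  have h3 : IsSchemeTheoreticallyDominant
      (((π ∣_ A) ⁻¹ᵁ (A.ι ⁻¹ᵁ V₀)).ι ≫ (π ⁻¹ᵁ A).ι) := inferInstance
  have hr : Set.range (((π ∣_ A) ⁻¹ᵁ (A.ι ⁻¹ᵁ V₀)).ι ≫ (π ⁻¹ᵁ A).ι) ⊆
      Set.range (π ⁻¹ᵁ V₀).ι := by
    rw [Scheme.Opens.range_ι]
    rintro _ ⟨z, rfl⟩
    have hz : ((π ∣_ A) z.1).1 ∈ V₀ := z.2
    rw [morphismRestrict_base_coe] at hz
    exact hz
  have h4 : IsSchemeTheoreticallyDominant
      (IsOpenImmersion.lift (π ⁻¹ᵁ V₀).ι _ hr ≫ (π ⁻¹ᵁ V₀).ι) := by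
    rw [IsOpenImmersion.lift_fac]; exact h3
  exact of_comp (IsOpenImmersion.lift (π ⁻¹ᵁ V₀).ι _ hr) _

end Transport

section Main

variable {S T X Y : Scheme.{u}}

/-- On an affine open where two ideal sheaves are principal, the intersection of their
interiors is a basic open. -/
lemma interior_inf_interior_inf_eq_basicOpen (I₁ I₂ : Y.IdealSheafData) (W : Y.affineOpens)
    (a b : Γ(Y, W.1)) (ha : I₁.ideal W = Ideal.span {a}) (hb : I₂.ideal W = Ideal.span {b}) :
    (ModPair.interior I₁ ⊓ ModPair.interior I₂) ⊓ W.1 = Y.basicOpen (a * b) := by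
  rw [Scheme.basicOpen_mul, ← interior_inf_eq_basicOpen I₁ W a ha,
    ← interior_inf_eq_basicOpen I₂ W b hb]
  ext x
  constructor
  · rintro ⟨⟨h1, h2⟩, h3⟩
    exact ⟨⟨h1, h3⟩, ⟨h2, h3⟩⟩
  · rintro ⟨⟨h1, h3⟩, ⟨h2, -⟩⟩
    exact ⟨⟨h1, h2⟩, h3⟩

/-- The intersection of the interiors of two pulled-back effective Cartier ideals has affine
inclusion. -/
lemma isAffineHom_inf_interior_comap_ι (I : X.IdealSheafData) (hI : BlowUp.IsEffCartierIdeal I)
    (qX : Y ⟶ X) (J : T.IdealSheafData) (hJ : BlowUp.IsEffCartierIdeal J) (qT : Y ⟶ T) :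
    IsAffineHom (ModPair.interior (I.comap qX) ⊓ ModPair.interior (J.comap qT)).ι := by
  apply isAffineHom_ι_of_locally_basicOpen
  intro y
  obtain ⟨W, hyW, -, a, b, -, -, ha, hb⟩ :=
    exists_nice_affine (⊤ : Y.IdealSheafData) (Groth.Agent.S1682.isEffCartier_top Y) I hI qX J hJ
      qT y
  exact ⟨W.1, hyW, W.2, a * b, interior_inf_interior_inf_eq_basicOpen _ _ W a b ha hb⟩

/-- The preimage of the product interior on the blow-up is scheme-theoretically dense. -/
lemma isSchemeTheoreticallyDominant_preimage_prodInterior_ι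
    (J : T.IdealSheafData) (I : X.IdealSheafData)
    (hT : BlowUp.IsEffCartierIdeal J) (hX : BlowUp.IsEffCartierIdeal I)
    (f : X ⟶ S) (g : T ⟶ S)
    (π : Y ⟶ ModPair.mprod f g I J) (hπ : BlowUp.IsBlowUp π (ModPair.prodCentre f g I J)) :
    IsSchemeTheoreticallyDominant
      (π ⁻¹ᵁ (ModPair.mprodι f g I J ⁻¹ᵁ ModPair.prodInterior f g I J)).ι := by
  have haff : IsAffineHom (ModPair.prodInterior f g I J).ι := by
    have h := isAffineHom_inf_interior_comap_ι I hX (pullback.fst f g) J hT (pullback.snd f g)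
    rw [interior_comap, interior_comap] at h
    exact h
  have hd₀ : IsSchemeTheoreticallyDominant
      (ModPair.mprodι f g I J ⁻¹ᵁ ModPair.prodInterior f g I J).ι :=
    isSchemeTheoreticallyDominant_preimage_ι (ModPair.prodInterior f g I J)
  have hq₀ : QuasiCompact (ModPair.mprodι f g I J ⁻¹ᵁ ModPair.prodInterior f g I J).ι :=
    MorphismProperty.of_isPullback (P := @QuasiCompact)
      (isPullback_morphismRestrict (ModPair.mprodι f g I J) (ModPair.prodInterior f g I J))
      inferInstance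
  have hiso : IsIso (π ∣_ (ModPair.prodCentre f g I J).support.compl) :=
    Groth.Agent.S1682.result _ π hπ
  have hdE : IsSchemeTheoreticallyDominant
      (π ⁻¹ᵁ (ModPair.prodCentre f g I J).support.compl).ι := by
    have h := isSchemeTheoreticallyDominant_interior_ι _ hπ.1
    rw [interior_comap] at h
    exact h
  exact isSchemeTheoreticallyDominant_preimage_of_isIso_restrict π
    (ModPair.prodCentre f g I J).support.compl _

/-- **The modulus of an ambient product.** -/
theorem main (J : T.IdealSheafData) (I : X.IdealSheafData)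
    (hT : BlowUp.IsEffCartierIdeal J) (hX : BlowUp.IsEffCartierIdeal I)
    (f : X ⟶ S) (g : T ⟶ S)
    (π : Y ⟶ ModPair.mprod f g I J) (K : Y.IdealSheafData) (hY : ModPair.IsAmbProd f g I J π K) :
    BlowUp.IsEffCartierIdeal K ∧
      ModPair.IsAmbient K I (π ≫ ModPair.mprodι f g I J ≫ pullback.fst f g) ∧
      ModPair.IsAmbient K J (π ≫ ModPair.mprodι f g I J ≫ pullback.snd f g) ∧
      ModPair.interior K = (π ≫ ModPair.mprodι f g I J) ⁻¹ᵁ ModPair.prodInterior f g I J := by
  obtain ⟨hπ, hKE⟩ := hY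
  have hEC : BlowUp.IsEffCartierIdeal ((ModPair.prodCentre f g I J).comap π) := hπ.1
  have hEsup : (ModPair.prodCentre f g I J).comap π =
      I.comap (π ≫ ModPair.mprodι f g I J ≫ pullback.fst f g) ⊔
        J.comap (π ≫ ModPair.mprodι f g I J ≫ pullback.snd f g) := by
    rw [ModPair.prodCentre, Scheme.IdealSheafData.comap_sup,
      ← Scheme.IdealSheafData.comap_comp, ← Scheme.IdealSheafData.comap_comp]
  rw [← Scheme.IdealSheafData.comap_comp, ← Scheme.IdealSheafData.comap_comp] at hKE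
  generalize hqX : π ≫ ModPair.mprodι f g I J ≫ pullback.fst f g = qX at hEsup hKE ⊢
  generalize hqT : π ≫ ModPair.mprodι f g I J ≫ pullback.snd f g = qT at hEsup hKE ⊢
  -- the dense open
  have hVeq : ModPair.interior (I.comap qX) ⊓ ModPair.interior (J.comap qT) =
      (π ≫ ModPair.mprodι f g I J) ⁻¹ᵁ ModPair.prodInterior f g I J := by
    rw [interior_comap, interior_comap, ← hqX, ← hqT]
    rfl
  have hVaff := isAffineHom_inf_interior_comap_ι I hX qX J hT qT
  have hVd : IsSchemeTheoreticallyDominant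
      (ModPair.interior (I.comap qX) ⊓ ModPair.interior (J.comap qT)).ι := by
    have h := isSchemeTheoreticallyDominant_preimage_prodInterior_ι J I hT hX f g π hπ
    have heq : ModPair.interior (I.comap qX) ⊓ ModPair.interior (J.comap qT) =
        π ⁻¹ᵁ (ModPair.mprodι f g I J ⁻¹ᵁ ModPair.prodInterior f g I J) := hVeq
    exact heq ▸ h
  -- local structure
  have hloc : ∀ y : Y, ∃ W : Y.affineOpens, y ∈ W.1 ∧ ∃ k : Γ(Y, W.1),
      k ∈ nonZeroDivisors Γ(Y, W.1) ∧ K.ideal W = Ideal.span {k} ∧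
      K.ideal W ≤ (I.comap qX).ideal W ∧ K.ideal W ≤ (J.comap qT).ideal W := by
    intro y
    obtain ⟨W, hyW, e, a, b, he, hEe, ha, hb⟩ :=
      exists_nice_affine _ hEC I hX qX J hT qT y
    have hsup : Ideal.span {e} = Ideal.span {a} ⊔ Ideal.span {b} := by
      rw [← hEe, ← ha, ← hb, hEsup]
      rfl
    have hKW : K.ideal W * Ideal.span {e} = Ideal.span {a} * Ideal.span {b} := by
      rw [← hEe, ← ha, ← hb]
      exact congrArg (fun L : Y.IdealSheafData => L.ideal W) hKE
    obtain ⟨k, c, hKk, hkc, hke, hKa, hKb⟩ := exists_generator (K.ideal W) e a b he hsup hKW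
    refine ⟨W, hyW, k, ?_, hKk, ha ▸ hKa, hb ▸ hKb⟩
    have hbo : (ModPair.interior (I.comap qX) ⊓ ModPair.interior (J.comap qT)) ⊓ W.1 =
        Y.basicOpen k := by
      rw [interior_inf_interior_inf_eq_basicOpen _ _ W a b ha hb, ← hke]
      apply le_antisymm
      · rw [Scheme.basicOpen_mul]; exact inf_le_left
      · rw [Scheme.basicOpen_mul]
        refine le_inf le_rfl ?_
        rw [hkc, Scheme.basicOpen_mul]; exact inf_le_right
    exact mem_nonZeroDivisors_of_dominant _ W.1 k hbo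
  choose W hyW k hk hKk hKa hKb using hloc
  have hcov : ⨆ y, (W y).1 = ⊤ := top_le_iff.mp (fun y _ ↦ by simpa using ⟨y, hyW y⟩)
  have hKX : K ≤ I.comap qX := Scheme.IdealSheafData.le_of_iSup_eq_top W hcov hKa
  have hKT : K ≤ J.comap qT := Scheme.IdealSheafData.le_of_iSup_eq_top W hcov hKb
  refine ⟨fun y => ⟨W y, hyW y, k y, hk y, hKk y⟩, hKX, hKT, ?_⟩
  rw [← hVeq]
  have hsupp : K.support ⊔ ((ModPair.prodCentre f g I J).comap π).support =
      (I.comap qX).support ⊔ (J.comap qT).support := by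
    rw [← Scheme.IdealSheafData.support_mul, ← Scheme.IdealSheafData.support_mul, hKE]
  have hEK : ((ModPair.prodCentre f g I J).comap π).support ≤ K.support := by
    apply Scheme.IdealSheafData.support_antitone
    rw [hEsup]
    exact hKX.trans le_sup_left
  rw [sup_eq_left.mpr hEK] at hsupp
  ext y
  change y ∉ K.support ↔ (y ∉ (I.comap qX).support ∧ y ∉ (J.comap qT).support)
  rw [hsupp]
  change ¬ (y ∈ (I.comap qX).support ∨ y ∈ (J.comap qT).support) ↔ _
  tauto

end Main

end Groth.Agent.H20.ModPairAmbProd
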