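import Mathlib
import Groth.Prelude.Def_W4c6modpairsegaMP
import Groth.Agent.H20.IdealDiv
import Groth.Agent.H8.BlowUpExist

/-!
# Existence of the ambient product of modulus pairs
-/

set_option autoImplicit false
universe u

open CategoryTheory CategoryTheory.Limits AlgebraicGeometry TopologicalSpace Opposite

namespace Groth.Agent.H20.ModPairAmbProdExist

open Groth.Agent.H20.IdealDiv

variable {S T X : Scheme.{u}}

theorem main (J : T.IdealSheafData) (I : X.IdealSheafData) (f : X ⟶ S) (g : T ⟶ S) :
    ∃ (Y : Scheme.{u}) (π : Y ⟶ ModPair.mprod f g I J) (K : Y.IdealSheafData),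
      ModPair.IsAmbProd f g I J π K := by
  obtain ⟨Y, π, hπ⟩ := Groth.Agent.H8.exists_isBlowUp (ModPair.mprod f g I J)
    (ModPair.prodCentre f g I J)
  have hEC : BlowUp.IsEffCartierIdeal ((ModPair.prodCentre f g I J).comap π) := hπ.1
  have hft := isFiniteTypeIdeal_of_isEffCartier _ hEC
  have hEsup : (ModPair.prodCentre f g I J).comap π =
      (I.comap (ModPair.mprodι f g I J ≫ pullback.fst f g)).comap π ⊔
        (J.comap (ModPair.mprodι f g I J ≫ pullback.snd f g)).comap π := by
    rw [ModPair.prodCentre, Scheme.IdealSheafData.comap_sup]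
  refine ⟨Y, π, colon ((I.comap (ModPair.mprodι f g I J ≫ pullback.fst f g)).comap π)
    ((ModPair.prodCentre f g I J).comap π) hft *
      (J.comap (ModPair.mprodι f g I J ≫ pullback.snd f g)).comap π, hπ, ?_⟩
  rw [mul_right_comm, colon_mul_eq _ _ hft ?_ ?_]
  · intro y
    obtain ⟨U, hyU, e, -, he⟩ := hEC y
    exact ⟨U, hyU, e, he⟩
  · rw [hEsup]
    exact le_sup_left

end Groth.Agent.H20.ModPairAmbProdExist
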