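import Mathlib
import Groth.Prelude.Def_W4c6modpairsegaMP
import Groth.Agent.H20.ModPairAmbProd
import Groth.Agent.H8.BlowUpBasic

/-!
# Functoriality of the ambient product of modulus pairs in the base
-/

set_option autoImplicit false
universe u

open CategoryTheory CategoryTheory.Limits AlgebraicGeometry TopologicalSpace Opposite

namespace Groth.Agent.H20.ModPairBaseFunct

open Groth.Agent.H20.EffCartierInterior Groth.Agent.H20.ModPairFlat Groth.Agent.H20.ModPairBox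
open Groth.Agent.H20.SchImage Groth.Agent.H20.ModPairProd Groth.Agent.H20.ModPairAmbProd

section Cancel

variable {Y : Scheme.{u}}

/-- Cancellation of an effective Cartier ideal sheaf. -/
lemma mul_right_cancel_of_isEffCartier (K K' E : Y.IdealSheafData)
    (hE : BlowUp.IsEffCartierIdeal E) (h : K * E = K' * E) : K = K' := by
  choose U hxU e he hEe using hE
  refine Scheme.IdealSheafData.ext_of_iSup_eq_top U
    (top_le_iff.mp (fun x _ ↦ by simpa using ⟨x, hxU x⟩)) ?_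
  intro x
  apply eq_of_mul_span_singleton_eq _ _ (e x) (he x)
  rw [← hEe x]
  exact congrArg (fun L : Y.IdealSheafData => L.ideal (U x)) h

end Cancel

variable {S₀ S₁ T X Y₁ Y₀ : Scheme.{u}}

theorem main (J : T.IdealSheafData) (I : X.IdealSheafData)
    (hT : BlowUp.IsEffCartierIdeal J) (hX : BlowUp.IsEffCartierIdeal I)
    (f : X ⟶ S₁) (g : T ⟶ S₁) (σ : S₁ ⟶ S₀)
    (π₁ : Y₁ ⟶ ModPair.mprod f g I J) (K₁ : Y₁.IdealSheafData)
    (hY₁ : ModPair.IsAmbProd f g I J π₁ K₁)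
    (π₀ : Y₀ ⟶ ModPair.mprod (f ≫ σ) (g ≫ σ) I J) (K₀ : Y₀.IdealSheafData)
    (hY₀ : ModPair.IsAmbProd (f ≫ σ) (g ≫ σ) I J π₀ K₀) :
    (∃! φ : Y₁ ⟶ Y₀, φ ≫ π₀ ≫ ModPair.mprodι (f ≫ σ) (g ≫ σ) I J =
        π₁ ≫ ModPair.mprodι f g I J ≫ pullback.mapDesc f g σ) ∧
      ∀ φ : Y₁ ⟶ Y₀, φ ≫ π₀ ≫ ModPair.mprodι (f ≫ σ) (g ≫ σ) I J =
          π₁ ≫ ModPair.mprodι f g I J ≫ pullback.mapDesc f g σ →
        ModPair.IsMinimal K₁ K₀ φ := by
  obtain ⟨hπ₁, hK₁⟩ := hY₁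
  obtain ⟨hπ₀, hK₀⟩ := hY₀
  have hfst : pullback.mapDesc f g σ ≫ pullback.fst (f ≫ σ) (g ≫ σ) = pullback.fst f g := by
    unfold pullback.mapDesc pullback.map
    rw [pullback.lift_fst, Category.comp_id]
  have hsnd : pullback.mapDesc f g σ ≫ pullback.snd (f ≫ σ) (g ≫ σ) = pullback.snd f g := by
    unfold pullback.mapDesc pullback.map
    rw [pullback.lift_snd, Category.comp_id]
  -- the dense open of `Y₁`
  have hd := isSchemeTheoreticallyDominant_preimage_prodInterior_ι J I hT hX f g π₁ hπ₁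
  have hW₀ : π₁ ⁻¹ᵁ (ModPair.mprodι f g I J ⁻¹ᵁ ModPair.prodInterior f g I J) ≤
      (π₁ ≫ ModPair.mprodι f g I J ≫ pullback.mapDesc f g σ) ⁻¹ᵁ
        ModPair.prodInterior (f ≫ σ) (g ≫ σ) I J := by
    intro y hy
    obtain ⟨h1, h2⟩ := hy
    constructor
    · change (pullback.fst (f ≫ σ) (g ≫ σ))
        ((π₁ ≫ ModPair.mprodι f g I J ≫ pullback.mapDesc f g σ) y) ∈ ModPair.interior I
      rw [← Scheme.Hom.comp_apply, Category.assoc, Category.assoc, hfst]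
      exact h1
    · change (pullback.snd (f ≫ σ) (g ≫ σ))
        ((π₁ ≫ ModPair.mprodι f g I J ≫ pullback.mapDesc f g σ) y) ∈ ModPair.interior J
      rw [← Scheme.Hom.comp_apply, Category.assoc, Category.assoc, hsnd]
      exact h2
  -- the lift to the scheme-theoretic image
  let ψ : Y₁ ⟶ ModPair.mprod (f ≫ σ) (g ≫ σ) I J :=
    liftImage (ModPair.prodInterior (f ≫ σ) (g ≫ σ) I J)
      (π₁ ≫ ModPair.mprodι f g I J ≫ pullback.mapDesc f g σ) _ hW₀
  have hψ : ψ ≫ ModPair.mprodι (f ≫ σ) (g ≫ σ) I J =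
      π₁ ≫ ModPair.mprodι f g I J ≫ pullback.mapDesc f g σ := liftImage_imageι _ _ _ hW₀
  -- comparison of pulled-back ideals
  have hA : ∀ φ : Y₁ ⟶ Y₀, φ ≫ π₀ ≫ ModPair.mprodι (f ≫ σ) (g ≫ σ) I J =
      π₁ ≫ ModPair.mprodι f g I J ≫ pullback.mapDesc f g σ →
      ((I.comap (ModPair.mprodι (f ≫ σ) (g ≫ σ) I J ≫ pullback.fst (f ≫ σ) (g ≫ σ))).comap
        π₀).comap φ = (I.comap (ModPair.mprodι f g I J ≫ pullback.fst f g)).comap π₁ := by
    intro φ hφ
    rw [← Scheme.IdealSheafData.comap_comp, ← Scheme.IdealSheafData.comap_comp,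
      ← Scheme.IdealSheafData.comap_comp]
    congr 1
    simp only [Category.assoc]
    rw [reassoc_of% hφ, hfst]
  have hB : ∀ φ : Y₁ ⟶ Y₀, φ ≫ π₀ ≫ ModPair.mprodι (f ≫ σ) (g ≫ σ) I J =
      π₁ ≫ ModPair.mprodι f g I J ≫ pullback.mapDesc f g σ →
      ((J.comap (ModPair.mprodι (f ≫ σ) (g ≫ σ) I J ≫ pullback.snd (f ≫ σ) (g ≫ σ))).comap
        π₀).comap φ = (J.comap (ModPair.mprodι f g I J ≫ pullback.snd f g)).comap π₁ := by
    intro φ hφ
    rw [← Scheme.IdealSheafData.comap_comp, ← Scheme.IdealSheafData.comap_comp,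
      ← Scheme.IdealSheafData.comap_comp]
    congr 1
    simp only [Category.assoc]
    rw [reassoc_of% hφ, hsnd]
  have hC : ∀ φ : Y₁ ⟶ Y₀, φ ≫ π₀ ≫ ModPair.mprodι (f ≫ σ) (g ≫ σ) I J =
      π₁ ≫ ModPair.mprodι f g I J ≫ pullback.mapDesc f g σ →
      ((ModPair.prodCentre (f ≫ σ) (g ≫ σ) I J).comap π₀).comap φ =
        (ModPair.prodCentre f g I J).comap π₁ := by
    intro φ hφ
    rw [ModPair.prodCentre, ModPair.prodCentre, Scheme.IdealSheafData.comap_sup,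
      Scheme.IdealSheafData.comap_sup, Scheme.IdealSheafData.comap_sup, hA φ hφ, hB φ hφ]
  have hCψ : (ModPair.prodCentre (f ≫ σ) (g ≫ σ) I J).comap ψ =
      (ModPair.prodCentre f g I J).comap π₁ := by
    rw [ModPair.prodCentre, ModPair.prodCentre, Scheme.IdealSheafData.comap_sup,
      Scheme.IdealSheafData.comap_sup, ← Scheme.IdealSheafData.comap_comp,
      ← Scheme.IdealSheafData.comap_comp, ← Scheme.IdealSheafData.comap_comp,
      ← Scheme.IdealSheafData.comap_comp, reassoc_of% hψ, reassoc_of% hψ, hfst, hsnd]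
  obtain ⟨φ, hφ, hφu⟩ := hπ₀.2 Y₁ ψ (hCψ ▸ hπ₁.1)
  refine ⟨⟨φ, ?_, ?_⟩, ?_⟩
  · change φ ≫ π₀ ≫ ModPair.mprodι (f ≫ σ) (g ≫ σ) I J = _
    rw [← Category.assoc, hφ, hψ]
  · intro φ' hφ'
    apply hφu
    rw [← cancel_mono (ModPair.mprodι (f ≫ σ) (g ≫ σ) I J), Category.assoc, hφ', hψ]
  · intro φ' hφ'
    change K₁ = K₀.comap φ'
    apply mul_right_cancel_of_isEffCartier _ _ _ hπ₁.1
    calc K₁ * (ModPair.prodCentre f g I J).comap π₁
        = (I.comap (ModPair.mprodι f g I J ≫ pullback.fst f g)).comap π₁ *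
          (J.comap (ModPair.mprodι f g I J ≫ pullback.snd f g)).comap π₁ := hK₁
      _ = ((I.comap (ModPair.mprodι (f ≫ σ) (g ≫ σ) I J ≫
            pullback.fst (f ≫ σ) (g ≫ σ))).comap π₀).comap φ' *
          ((J.comap (ModPair.mprodι (f ≫ σ) (g ≫ σ) I J ≫
            pullback.snd (f ≫ σ) (g ≫ σ))).comap π₀).comap φ' := by rw [hA φ' hφ', hB φ' hφ']
      _ = (K₀ * (ModPair.prodCentre (f ≫ σ) (g ≫ σ) I J).comap π₀).comap φ' := by
        rw [← Groth.Agent.H8.comap_mul, hK₀]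
      _ = K₀.comap φ' * (ModPair.prodCentre f g I J).comap π₁ := by
        rw [Groth.Agent.H8.comap_mul, hC φ' hφ']

end Groth.Agent.H20.ModPairBaseFunct
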