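import Mathlib
import Groth.Prelude.Def_W4c6modpairsegaMP
import Groth.Agent.H20.ModPairAmbProd
import Groth.Agent.H20.CartierDiff
import Groth.Agent.H20.ModPairBaseFunct
import Groth.Agent.H20.LocPullback
import Groth.Agent.H8.BlowUpExist
import Groth.Agent.H96.ModPairAmbProj

/-!
# The ambient product is a fibre product in the localized category of modulus pairs
-/

set_option autoImplicit false
universe u

open CategoryTheory CategoryTheory.Limits AlgebraicGeometry TopologicalSpace Opposite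

namespace Groth.Agent.H20.ModPairPullback

open Groth.Agent.H20.EffCartierInterior Groth.Agent.H20.ModPairFlat Groth.Agent.H20.ModPairBox
open Groth.Agent.H20.SchImage Groth.Agent.H20.ModPairProd Groth.Agent.H20.ModPairAmbProd
open Groth.Agent.H20.ModPairBaseFunct

section Restrict

variable {X Z : Scheme.{u}}

/-- Being an isomorphism over an open implies being one over any smaller open. -/
lemma isIso_restrict_of_le (f : Z ⟶ X) {U V : X.Opens} (hVU : V ≤ U) [IsIso (f ∣_ U)] :
    IsIso (f ∣_ V) := by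
  have e : U.ι ''ᵁ (U.ι ⁻¹ᵁ V) = V := by
    rw [Scheme.Hom.image_preimage_eq_opensRange_inf, Scheme.Opens.opensRange_ι]
    exact inf_eq_right.mpr hVU
  have h1 : (MorphismProperty.isomorphisms Scheme.{u}) (f ∣_ U ∣_ (U.ι ⁻¹ᵁ V)) := by
    change IsIso _
    infer_instance
  rw [(MorphismProperty.isomorphisms Scheme.{u}).arrow_mk_iso_iff
    (morphismRestrictRestrict f U (U.ι ⁻¹ᵁ V))] at h1
  have : ∀ O : X.Opens, O = V → IsIso (f ∣_ O) → IsIso (f ∣_ V) := by
    rintro _ rfl h; exact h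
  exact this _ e h1

end Restrict

section Geometry

variable {S T X Y Z : Scheme.{u}}

lemma interior_mono {I₁ I₂ : Z.IdealSheafData} (h : I₁ ≤ I₂) :
    ModPair.interior I₁ ≤ ModPair.interior I₂ := by
  intro z hz hz2
  exact hz (Scheme.IdealSheafData.support_antitone h hz2)

/-- The exceptional ideal of an ambient product as a sum. -/
lemma comap_prodCentre (J : T.IdealSheafData) (I : X.IdealSheafData) (f : X ⟶ S) (g : T ⟶ S)
    {Z : Scheme.{u}} (r : Z ⟶ ModPair.mprod f g I J) :
    (ModPair.prodCentre f g I J).comap r =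
      I.comap (r ≫ ModPair.mprodι f g I J ≫ pullback.fst f g) ⊔
        J.comap (r ≫ ModPair.mprodι f g I J ≫ pullback.snd f g) := by
  rw [ModPair.prodCentre, Scheme.IdealSheafData.comap_sup,
    ← Scheme.IdealSheafData.comap_comp, ← Scheme.IdealSheafData.comap_comp]

/-- Pulling back an effective Cartier ideal along a morphism under which a modulus pair is
ambient gives an effective Cartier ideal. -/
lemma isEffCartier_comap_of_isAmbient (M : Z.IdealSheafData) (hM : BlowUp.IsEffCartierIdeal M)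
    (E : Y.IdealSheafData) (hE : BlowUp.IsEffCartierIdeal E) (c : Z ⟶ Y)
    (h : ModPair.interior M ≤ c ⁻¹ᵁ ModPair.interior E) :
    BlowUp.IsEffCartierIdeal (E.comap c) := by
  have hd := isSchemeTheoreticallyDominant_interior_ι M hM
  have : IsSchemeTheoreticallyDominant (c ⁻¹ᵁ ModPair.interior E).ι := of_le h
  exact (Groth.Agent.H20.EffCartierInterior.main E hE c).2

/-- **Uniqueness of lifts to the ambient product.** -/
theorem lift_unique (J : T.IdealSheafData) (I : X.IdealSheafData)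
    (f : X ⟶ S) (g : T ⟶ S)
    (π : Y ⟶ ModPair.mprod f g I J) (K : Y.IdealSheafData) (hY : ModPair.IsAmbProd f g I J π K)
    (hKX : ModPair.IsAmbient K I (π ≫ ModPair.mprodι f g I J ≫ pullback.fst f g))
    (M : Z.IdealSheafData) (hM : BlowUp.IsEffCartierIdeal M)
    (c₁ c₂ : Z ⟶ Y) (h₁ : ModPair.IsAmbient M K c₁)
    (hfst : c₁ ≫ π ≫ ModPair.mprodι f g I J ≫ pullback.fst f g =
      c₂ ≫ π ≫ ModPair.mprodι f g I J ≫ pullback.fst f g)
    (hsnd : c₁ ≫ π ≫ ModPair.mprodι f g I J ≫ pullback.snd f g =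
      c₂ ≫ π ≫ ModPair.mprodι f g I J ≫ pullback.snd f g) : c₁ = c₂ := by
  obtain ⟨hπ, -⟩ := hY
  have hπeq : c₁ ≫ π = c₂ ≫ π := by
    rw [← cancel_mono (ModPair.mprodι f g I J)]
    apply pullback.hom_ext
    · simpa only [Category.assoc] using hfst
    · simpa only [Category.assoc] using hsnd
  have hKE : K ≤ (ModPair.prodCentre f g I J).comap π := by
    rw [comap_prodCentre]
    exact le_trans hKX le_sup_left
  have hEC : BlowUp.IsEffCartierIdeal ((ModPair.prodCentre f g I J).comap (c₁ ≫ π)) := by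
    rw [Scheme.IdealSheafData.comap_comp]
    refine isEffCartier_comap_of_isAmbient M hM _ hπ.1 c₁ ?_
    refine le_trans (interior_le_preimage_interior M K c₁ h₁) ?_
    intro z hz
    exact interior_mono hKE hz
  obtain ⟨φ, -, hφu⟩ := hπ.2 Z (c₁ ≫ π) hEC
  rw [hφu c₁ rfl, hφu c₂ hπeq.symm]

/-- **Existence of lifts to the ambient product after an admissible blow-up.** -/
theorem exists_lift (J : T.IdealSheafData) (I : X.IdealSheafData)
    (hT : BlowUp.IsEffCartierIdeal J) (hX : BlowUp.IsEffCartierIdeal I)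
    (f : X ⟶ S) (g : T ⟶ S)
    (π : Y ⟶ ModPair.mprod f g I J) (K : Y.IdealSheafData) (hY : ModPair.IsAmbProd f g I J π K)
    (M : Z.IdealSheafData) (hM : BlowUp.IsEffCartierIdeal M)
    (a : Z ⟶ X) (ha : ModPair.IsAmbient M I a) (b : Z ⟶ T) (hb : ModPair.IsAmbient M J b)
    (hab : a ≫ f = b ≫ g) :
    ∃ (Z' : Scheme.{u}) (β : Z' ⟶ Z) (c : Z' ⟶ Y),
      BlowUp.IsEffCartierIdeal (M.comap β) ∧ ModPair.IsAdmBlowup (M.comap β) M β ∧
      ModPair.IsAmbient (M.comap β) K c ∧
      c ≫ π ≫ ModPair.mprodι f g I J ≫ pullback.fst f g = β ≫ a ∧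
      c ≫ π ≫ ModPair.mprodι f g I J ≫ pullback.snd f g = β ≫ b := by
  obtain ⟨hπ, hKE⟩ := hY
  -- Step 1: the map to the scheme-theoretic image
  have hdM := isSchemeTheoreticallyDominant_interior_ι M hM
  have hW₀ : ModPair.interior M ≤
      (pullback.lift a b hab) ⁻¹ᵁ ModPair.prodInterior f g I J := by
    intro z hz
    constructor
    · change (pullback.fst f g) ((pullback.lift a b hab) z) ∈ ModPair.interior I
      rw [← Scheme.Hom.comp_apply, pullback.lift_fst]
      exact interior_le_preimage_interior M I a ha hz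
    · change (pullback.snd f g) ((pullback.lift a b hab) z) ∈ ModPair.interior J
      rw [← Scheme.Hom.comp_apply, pullback.lift_snd]
      exact interior_le_preimage_interior M J b hb hz
  let r₀ : Z ⟶ ModPair.mprod f g I J :=
    liftImage (ModPair.prodInterior f g I J) (pullback.lift a b hab) _ hW₀
  have hr₀ : r₀ ≫ ModPair.mprodι f g I J = pullback.lift a b hab := liftImage_imageι _ _ _ hW₀
  have hr₀fst : r₀ ≫ ModPair.mprodι f g I J ≫ pullback.fst f g = a := by
    rw [reassoc_of% hr₀, pullback.lift_fst]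
  have hr₀snd : r₀ ≫ ModPair.mprodι f g I J ≫ pullback.snd f g = b := by
    rw [reassoc_of% hr₀, pullback.lift_snd]
  -- Step 2: blow up
  have hC' : (ModPair.prodCentre f g I J).comap r₀ = I.comap a ⊔ J.comap b := by
    rw [comap_prodCentre, hr₀fst, hr₀snd]
  obtain ⟨Z', β, hβ⟩ := Groth.Agent.H8.exists_isBlowUp Z ((ModPair.prodCentre f g I J).comap r₀)
  have hβproper : IsProper β :=
    Groth.Agent.H96.BlowUpProper.isProper_of_isBlowUp β _ hβ (fun z => by
      rw [hC']; exact Groth.Agent.H96.ModPairAmbProj.fg_sup_comap a b I J hX hT z)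
  -- Step 3: the admissible blow-up
  have hMC : M ≤ (ModPair.prodCentre f g I J).comap r₀ := by
    rw [hC']; exact le_trans ha le_sup_left
  have hiso₀ : IsIso (β ∣_ ModPair.interior ((ModPair.prodCentre f g I J).comap r₀)) :=
    Groth.Agent.S1682.result _ β hβ
  have hiso : IsIso (β ∣_ ModPair.interior M) := isIso_restrict_of_le β (interior_mono hMC)
  have hdβ : IsSchemeTheoreticallyDominant (β ⁻¹ᵁ ModPair.interior M).ι := by
    have h1 : IsSchemeTheoreticallyDominant
        (β ⁻¹ᵁ ModPair.interior ((ModPair.prodCentre f g I J).comap r₀)).ι := by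
      have h := isSchemeTheoreticallyDominant_interior_ι _ hβ.1
      rw [interior_comap] at h
      exact h
    have := isAffineHom_interior_ι M hM
    exact isSchemeTheoreticallyDominant_preimage_of_isIso_restrict β
      (ModPair.interior ((ModPair.prodCentre f g I J).comap r₀)) (ModPair.interior M)
  have hM' : BlowUp.IsEffCartierIdeal (M.comap β) :=
    (Groth.Agent.H20.EffCartierInterior.main M hM β).2
  -- Step 4: the lift
  have hEC' : BlowUp.IsEffCartierIdeal ((ModPair.prodCentre f g I J).comap (β ≫ r₀)) := by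
    rw [Scheme.IdealSheafData.comap_comp]; exact hβ.1
  obtain ⟨c, hc, -⟩ := hπ.2 Z' (β ≫ r₀) hEC'
  have hc : c ≫ π = β ≫ r₀ := hc
  have hcfst : c ≫ π ≫ ModPair.mprodι f g I J ≫ pullback.fst f g = β ≫ a := by
    rw [reassoc_of% hc, hr₀fst]
  have hcsnd : c ≫ π ≫ ModPair.mprodι f g I J ≫ pullback.snd f g = β ≫ b := by
    rw [reassoc_of% hc, hr₀snd]
  refine ⟨Z', β, c, hM', ⟨rfl, hβproper, hiso⟩, ?_, hcfst, hcsnd⟩
  -- Step 5: the lift is ambient
  have hA'eq : ((I.comap (ModPair.mprodι f g I J ≫ pullback.fst f g)).comap π).comap c =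
      I.comap (β ≫ a) := by
    rw [← Scheme.IdealSheafData.comap_comp, ← Scheme.IdealSheafData.comap_comp, Category.assoc,
      hcfst]
  have hB'eq : ((J.comap (ModPair.mprodι f g I J ≫ pullback.snd f g)).comap π).comap c =
      J.comap (β ≫ b) := by
    rw [← Scheme.IdealSheafData.comap_comp, ← Scheme.IdealSheafData.comap_comp, Category.assoc,
      hcsnd]
  have hE'eq : ((ModPair.prodCentre f g I J).comap π).comap c =
      I.comap (β ≫ a) ⊔ J.comap (β ≫ b) := by
    rw [comap_prodCentre, Scheme.IdealSheafData.comap_sup, ← Scheme.IdealSheafData.comap_comp,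
      ← Scheme.IdealSheafData.comap_comp, hcfst, hcsnd]
  have hKc : K.comap c * (I.comap (β ≫ a) ⊔ J.comap (β ≫ b)) =
      I.comap (β ≫ a) * J.comap (β ≫ b) := by
    rw [← hE'eq, ← Groth.Agent.H8.comap_mul, hKE, Groth.Agent.H8.comap_mul, hA'eq, hB'eq]
  have hMA' : ModPair.IsAmbient (M.comap β) I (β ≫ a) := by
    change M.comap β ≤ I.comap (β ≫ a)
    rw [Scheme.IdealSheafData.comap_comp]
    exact Scheme.IdealSheafData.comap_mono _ ha
  have hMB' : ModPair.IsAmbient (M.comap β) J (β ≫ b) := by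
    change M.comap β ≤ J.comap (β ≫ b)
    rw [Scheme.IdealSheafData.comap_comp]
    exact Scheme.IdealSheafData.comap_mono _ hb
  have hA'C : BlowUp.IsEffCartierIdeal (I.comap (β ≫ a)) :=
    isEffCartier_comap_of_isAmbient (M.comap β) hM' I hX (β ≫ a)
      (interior_le_preimage_interior _ _ _ hMA')
  have hB'C : BlowUp.IsEffCartierIdeal (J.comap (β ≫ b)) :=
    isEffCartier_comap_of_isAmbient (M.comap β) hM' J hT (β ≫ b)
      (interior_le_preimage_interior _ _ _ hMB')
  have hE'C : BlowUp.IsEffCartierIdeal (I.comap (β ≫ a) ⊔ J.comap (β ≫ b)) := by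
    rw [← hE'eq, ← Scheme.IdealSheafData.comap_comp, hc]
    exact hEC'
  obtain ⟨A₁, B₁, -, -, hA₁, hB₁, -, hmin⟩ :=
    Groth.Agent.H20.CartierDiff.main (I.comap (β ≫ a)) (J.comap (β ≫ b)) hA'C hB'C hE'C
  have hKeq : K.comap c = A₁ * B₁ * (I.comap (β ≫ a) ⊔ J.comap (β ≫ b)) := by
    apply mul_right_cancel_of_isEffCartier _ _ _ hE'C
    rw [hKc]
    calc I.comap (β ≫ a) * J.comap (β ≫ b)
        = (A₁ * (I.comap (β ≫ a) ⊔ J.comap (β ≫ b))) *
          (B₁ * (I.comap (β ≫ a) ⊔ J.comap (β ≫ b))) := by rw [← hA₁, ← hB₁]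
      _ = A₁ * B₁ * (I.comap (β ≫ a) ⊔ J.comap (β ≫ b)) *
          (I.comap (β ≫ a) ⊔ J.comap (β ≫ b)) := by ring
  change M.comap β ≤ K.comap c
  rw [hKeq]
  exact hmin (M.comap β) hM' hMA' hMB'

end Geometry

section Main

/-- Every object of the localization is the image of a modulus pair. -/
lemma exists_obj_eq (A : (ModPair.Pair.admBlowup.{u}).Localization) :
    ∃ Z : ModPair.Pair.{u}, A = (ModPair.Pair.admBlowup.{u}).Q.obj Z :=
  ⟨(Localization.Construction.objEquiv (ModPair.Pair.admBlowup.{u})).symm A,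
    ((Localization.Construction.objEquiv (ModPair.Pair.admBlowup.{u})).apply_symm_apply A).symm⟩

/-- **The ambient product is a fibre product in the localized category of modulus pairs.** -/
theorem main (P T X : ModPair.Pair.{u}) (f : X ⟶ P) (g : T ⟶ P)
    {Y : Scheme.{u}} (π : Y ⟶ ModPair.mprod f.hom g.hom X.mod T.mod) (K : Y.IdealSheafData)
    (hY : ModPair.IsAmbProd f.hom g.hom X.mod T.mod π K) (hK : BlowUp.IsEffCartierIdeal K)
    (hX : ModPair.IsAmbient K X.mod
      (π ≫ ModPair.mprodι f.hom g.hom X.mod T.mod ≫ pullback.fst f.hom g.hom))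
    (hT : ModPair.IsAmbient K T.mod
      (π ≫ ModPair.mprodι f.hom g.hom X.mod T.mod ≫ pullback.snd f.hom g.hom)) :
    IsPullback
      ((ModPair.Pair.admBlowup.{u}).Q.map
        (ModPair.Pair.Hom.mk (P := ModPair.Pair.mk Y K hK) (Q := T)
          (π ≫ ModPair.mprodι f.hom g.hom X.mod T.mod ≫ pullback.snd f.hom g.hom) hT))
      ((ModPair.Pair.admBlowup.{u}).Q.map
        (ModPair.Pair.Hom.mk (P := ModPair.Pair.mk Y K hK) (Q := X)
          (π ≫ ModPair.mprodι f.hom g.hom X.mod T.mod ≫ pullback.fst f.hom g.hom) hX))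
      ((ModPair.Pair.admBlowup.{u}).Q.map g) ((ModPair.Pair.admBlowup.{u}).Q.map f) := by
  haveI := Groth.Agent.H20.ModPairFrac.main.{u}
  refine Groth.Agent.H20.LocPullback.isPullback_map (ModPair.Pair.admBlowup.{u}).Q
    (ModPair.Pair.admBlowup.{u}) _ _ g f ?_ ?_ ?_ exists_obj_eq
  · apply ModPair.Pair.Hom.ext
    change (π ≫ ModPair.mprodι f.hom g.hom X.mod T.mod ≫ pullback.snd f.hom g.hom) ≫ g.hom =
      (π ≫ ModPair.mprodι f.hom g.hom X.mod T.mod ≫ pullback.fst f.hom g.hom) ≫ f.hom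
    simp only [Category.assoc, pullback.condition]
  · intro Z a b hab
    have hab' : b.hom ≫ f.hom = a.hom ≫ g.hom := (congrArg ModPair.Pair.Hom.hom hab).symm
    obtain ⟨Z', β, c, hM', hadm, hamb, hcfst, hcsnd⟩ :=
      exists_lift T.mod X.mod T.isEffCartier X.isEffCartier f.hom g.hom π K hY Z.mod Z.isEffCartier
        b.hom b.cond a.hom a.cond hab'
    refine ⟨⟨Z', Z.mod.comap β, hM'⟩, ⟨β, le_rfl⟩, hadm, ⟨c, hamb⟩, ?_, ?_⟩
    · apply ModPair.Pair.Hom.ext
      exact hcsnd
    · apply ModPair.Pair.Hom.ext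
      exact hcfst
  · intro Z c₁ c₂ h₁ h₂
    apply ModPair.Pair.Hom.ext
    exact lift_unique T.mod X.mod f.hom g.hom π K hY hX Z.mod Z.isEffCartier c₁.hom c₂.hom c₁.cond
      (congrArg ModPair.Pair.Hom.hom h₂) (congrArg ModPair.Pair.Hom.hom h₁)

end Main

end Groth.Agent.H20.ModPairPullback
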