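import Mathlib
import Groth.Prelude.Def_W4c6modpairsegaMP
import Groth.Agent.H20.ModPairPullback
import Groth.Agent.H20.ModPairAmbProdExist

/-!
# Finite limits in the localized category of modulus pairs
-/

set_option autoImplicit false
universe u

open CategoryTheory CategoryTheory.Limits AlgebraicGeometry TopologicalSpace Opposite

namespace Groth.Agent.H20.ModPairFinLim

open Groth.Agent.H20.ModPairPullback Groth.Agent.H20.LocPullback

/-- The terminal modulus pair: the terminal scheme with empty modulus. -/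
noncomputable def ptPair : ModPair.Pair.{u} :=
  ⟨⊤_ Scheme.{u}, ⊤, Groth.Agent.S1682.isEffCartier_top _⟩

/-- The unique morphism to the terminal modulus pair. -/
noncomputable def toPt (Z : ModPair.Pair.{u}) : Z ⟶ ptPair.{u} :=
  ⟨terminal.from Z.total, by
    change Z.mod ≤ (⊤ : (⊤_ Scheme.{u}).IdealSheafData).comap _
    rw [Scheme.IdealSheafData.comap_top]
    exact le_top⟩

lemma toPt_unique (Z : ModPair.Pair.{u}) (a b : Z ⟶ ptPair.{u}) : a = b :=
  ModPair.Pair.Hom.ext (terminal.hom_ext _ _)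

lemma hasTerminal : HasTerminal (ModPair.Pair.admBlowup.{u}).Localization := by
  have := Groth.Agent.H20.ModPairFrac.main.{u}
  have hne : ∀ A : (ModPair.Pair.admBlowup.{u}).Localization,
      Nonempty (A ⟶ (ModPair.Pair.admBlowup.{u}).Q.obj ptPair.{u}) := fun A => by
    obtain ⟨Z, rfl⟩ := exists_obj_eq A
    exact ⟨(ModPair.Pair.admBlowup.{u}).Q.map (toPt Z)⟩
  have hss : ∀ A : (ModPair.Pair.admBlowup.{u}).Localization,
      Subsingleton (A ⟶ (ModPair.Pair.admBlowup.{u}).Q.obj ptPair.{u}) := fun A => by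
    obtain ⟨Z, rfl⟩ := exists_obj_eq A
    refine ⟨fun α β => ?_⟩
    obtain ⟨Z', s, hs, a, b, hα, hβ⟩ := exists_common_rightFraction
      (ModPair.Pair.admBlowup.{u}).Q (ModPair.Pair.admBlowup.{u}) α β
    have : IsIso ((ModPair.Pair.admBlowup.{u}).Q.map s) :=
      Localization.inverts _ (ModPair.Pair.admBlowup.{u}) s hs
    rw [← cancel_epi ((ModPair.Pair.admBlowup.{u}).Q.map s), hα, hβ, toPt_unique Z' a b]
  exact hasTerminal_of_unique ((ModPair.Pair.admBlowup.{u}).Q.obj ptPair.{u})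

/-- Cospans of morphisms of modulus pairs have a pullback in the localization. -/
lemma exists_isPullback_map {P T X : ModPair.Pair.{u}} (g : T ⟶ P) (f : X ⟶ P) :
    ∃ (YK : ModPair.Pair.{u}) (pT : YK ⟶ T) (pX : YK ⟶ X),
      IsPullback ((ModPair.Pair.admBlowup.{u}).Q.map pT) ((ModPair.Pair.admBlowup.{u}).Q.map pX)
        ((ModPair.Pair.admBlowup.{u}).Q.map g) ((ModPair.Pair.admBlowup.{u}).Q.map f) := by
  obtain ⟨Y, π, K, hY⟩ := Groth.Agent.H20.ModPairAmbProdExist.main T.mod X.mod f.hom g.hom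
  obtain ⟨hK, hX, hT, -⟩ := Groth.Agent.H20.ModPairAmbProd.main T.mod X.mod T.isEffCartier
    X.isEffCartier f.hom g.hom π K hY
  exact ⟨⟨Y, K, hK⟩, ⟨_, hT⟩, ⟨_, hX⟩, Groth.Agent.H20.ModPairPullback.main P T X f g π K hY hK hX hT⟩

lemma hasPullbacks : HasPullbacks (ModPair.Pair.admBlowup.{u}).Localization := by
  have := Groth.Agent.H20.ModPairFrac.main.{u}
  have key : ∀ {A B C : (ModPair.Pair.admBlowup.{u}).Localization} {α : A ⟶ C} {β : B ⟶ C},
      HasLimit (cospan α β) := by
    intro A B C α β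
    obtain ⟨X, rfl⟩ := exists_obj_eq A
    obtain ⟨T, rfl⟩ := exists_obj_eq B
    obtain ⟨P, rfl⟩ := exists_obj_eq C
    obtain ⟨φ, rfl⟩ := Localization.exists_rightFraction (ModPair.Pair.admBlowup.{u}).Q
      (ModPair.Pair.admBlowup.{u}) α
    obtain ⟨ψ, rfl⟩ := Localization.exists_rightFraction (ModPair.Pair.admBlowup.{u}).Q
      (ModPair.Pair.admBlowup.{u}) β
    obtain ⟨YK, p₁, p₂, hpb⟩ := exists_isPullback_map φ.f ψ.f
    have h1 : IsIso ((ModPair.Pair.admBlowup.{u}).Q.map φ.s) :=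
      Localization.inverts _ (ModPair.Pair.admBlowup.{u}) φ.s φ.hs
    have h2 : IsIso ((ModPair.Pair.admBlowup.{u}).Q.map ψ.s) :=
      Localization.inverts _ (ModPair.Pair.admBlowup.{u}) ψ.s ψ.hs
    have hpb' : IsPullback
        ((ModPair.Pair.admBlowup.{u}).Q.map p₁ ≫ (ModPair.Pair.admBlowup.{u}).Q.map φ.s)
        ((ModPair.Pair.admBlowup.{u}).Q.map p₂ ≫ (ModPair.Pair.admBlowup.{u}).Q.map ψ.s)
        (φ.map (ModPair.Pair.admBlowup.{u}).Q (Localization.inverts _ _))
        (ψ.map (ModPair.Pair.admBlowup.{u}).Q (Localization.inverts _ _)) :=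
      hpb.of_iso (Iso.refl _) (asIso ((ModPair.Pair.admBlowup.{u}).Q.map φ.s))
        (asIso ((ModPair.Pair.admBlowup.{u}).Q.map ψ.s)) (Iso.refl _)
        (by simp) (by simp) (by simp) (by simp)
    exact hpb'.hasPullback
  exact hasPullbacks_of_hasLimit_cospan _

/-- **Finite limits in the localized category of modulus pairs.** -/
theorem main : HasFiniteLimits (ModPair.Pair.admBlowup.{u}).Localization := by
  have := hasTerminal.{u}
  have := hasPullbacks.{u}
  exact hasFiniteLimits_of_hasTerminal_and_pullbacks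

end Groth.Agent.H20.ModPairFinLim
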