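import Mathlib
import Groth.Prelude.Def_W4c6modpairsegaMP
import Groth.Agent.H20.ModPairFrac

/-!
# Splitting a modulus pair along a decomposition of its interior
-/

set_option autoImplicit false
universe u

open CategoryTheory CategoryTheory.Limits AlgebraicGeometry TopologicalSpace Opposite

namespace Groth.Agent.H20.ModPairSplit

open Groth.Agent.H20.EffCartierInterior Groth.Agent.H20.ModPairFlat Groth.Agent.H20.ModPairBox
open Groth.Agent.H20.SchImage Groth.Agent.H20.ModPairProd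

variable {X : Scheme.{u}}

/-- An open which is closed inside an open with quasi-compact inclusion has quasi-compact
inclusion. -/
lemma quasiCompact_ι_of_sup_disjoint (U₀ U₁ U : X.Opens) (hU : U₀ ⊔ U₁ = U) (hd : Disjoint U₀ U₁)
    [QuasiCompact U.ι] : QuasiCompact U₀.ι := by
  rw [quasiCompact_iff_forall_isAffineOpen]
  intro V hV
  have h1 : IsCompact ((U : Set X) ∩ V) := by
    have h := (U.ι.isCompact_preimage hV.isCompact).image U.ι.continuous
    convert h using 1
    ext x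
    constructor
    · rintro ⟨hxU, hxV⟩
      exact ⟨⟨x, hxU⟩, hxV, rfl⟩
    · rintro ⟨y, hy, rfl⟩
      exact ⟨y.2, hy⟩
  have h2 : IsCompact ((U₀ : Set X) ∩ V) := by
    have e : (U₀ : Set X) ∩ V = ((U : Set X) ∩ V) ∩ (U₁ : Set X)ᶜ := by
      ext x
      constructor
      · rintro ⟨h0, hxV⟩
        refine ⟨⟨?_, hxV⟩, fun h1 => ?_⟩
        · rw [← hU]; exact Or.inl h0
        · exact (hd.le_bot ⟨h0, h1⟩ : x ∈ (⊥ : X.Opens))
      · rintro ⟨⟨hxU, hxV⟩, h1⟩
        rw [← hU] at hxU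
        rcases hxU with h | h
        · exact ⟨h, hxV⟩
        · exact absurd h h1
    rw [e]
    exact h1.inter_right U₁.isOpen.isClosed_compl
  rw [U₀.ι.isOpenEmbedding.isInducing.isCompact_iff]
  convert h2 using 1
  ext x
  constructor
  · rintro ⟨y, hy, rfl⟩
    exact ⟨y.2, hy⟩
  · rintro ⟨hx0, hxV⟩
    exact ⟨⟨x, hx0⟩, hxV, rfl⟩

/-- Effective Cartier data transfer along an open immersion. -/
lemma exists_local_generator_of_comap_isOpenImmersion {V Z : Scheme.{u}} (j : V ⟶ Z)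
    [IsOpenImmersion j] (J : Z.IdealSheafData) (h : BlowUp.IsEffCartierIdeal (J.comap j)) (v : V) :
    ∃ U : Z.affineOpens, j v ∈ U.1 ∧
      ∃ a : Γ(Z, U.1), a ∈ nonZeroDivisors Γ(Z, U.1) ∧ J.ideal U = Ideal.span {a} := by
  obtain ⟨U', hvU', a, ha, hJa⟩ := h v
  refine ⟨⟨j ''ᵁ U'.1, U'.2.image_of_isOpenImmersion j⟩, ⟨v, hvU', rfl⟩,
    (j.appIso U'.1).inv.hom a, ?_, ?_⟩
  · have hbij : Function.Bijective (j.appIso U'.1).inv.hom :=
      ConcreteCategory.bijective_of_isIso (j.appIso U'.1).inv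
    rw [mem_nonZeroDivisors_iff_right]
    intro x hx
    obtain ⟨x', rfl⟩ := hbij.2 x
    rw [← map_mul] at hx
    have hx' : x' * a = 0 := hbij.1 (by rw [hx, map_zero])
    rw [(mem_nonZeroDivisors_iff_right.mp ha) x' hx', map_zero]
  · have hbij : Function.Bijective (j.appIso U'.1).inv.hom :=
      ConcreteCategory.bijective_of_isIso (j.appIso U'.1).inv
    rw [Scheme.IdealSheafData.ideal_comap_of_isOpenImmersion] at hJa
    have := congrArg (Ideal.map (j.appIso U'.1).inv.hom) hJa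
    rw [Ideal.map_comap_of_surjective _ hbij.2, Ideal.map_span, Set.image_singleton] at this
    exact this

/-- Being an isomorphism over two opens implies being one over their union. -/
lemma isIso_restrict_sup {Z : Scheme.{u}} (f : Z ⟶ X) (A B : X.Opens) (hA : IsIso (f ∣_ A))
    (hB : IsIso (f ∣_ B)) : IsIso (f ∣_ (A ⊔ B)) := by
  have key : ∀ (C : X.Opens), C ≤ A ⊔ B → IsIso (f ∣_ C) →
      (MorphismProperty.isomorphisms Scheme.{u}) (f ∣_ (A ⊔ B) ∣_ ((A ⊔ B).ι ⁻¹ᵁ C)) := by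
    intro C hC hiso
    rw [(MorphismProperty.isomorphisms Scheme.{u}).arrow_mk_iso_iff
      (morphismRestrictRestrict f (A ⊔ B) ((A ⊔ B).ι ⁻¹ᵁ C))]
    have e : (A ⊔ B).ι ''ᵁ ((A ⊔ B).ι ⁻¹ᵁ C) = C := by
      rw [Scheme.Hom.image_preimage_eq_opensRange_inf, Scheme.Opens.opensRange_ι]
      exact inf_eq_right.mpr hC
    have : ∀ O : X.Opens, O = C → IsIso (f ∣_ O) := by
      rintro _ rfl; exact hiso
    exact this _ e
  change (MorphismProperty.isomorphisms Scheme.{u}) (f ∣_ (A ⊔ B))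
  apply IsZariskiLocalAtTarget.of_forall_exists_morphismRestrict
  rintro ⟨x, hx⟩
  rcases hx with hx | hx
  · exact ⟨(A ⊔ B).ι ⁻¹ᵁ A, hx, key A le_sup_left hA⟩
  · exact ⟨(A ⊔ B).ι ⁻¹ᵁ B, hx, key B le_sup_right hB⟩

end Groth.Agent.H20.ModPairSplit
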