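import Mathlib.AlgebraicGeometry.ZariskisMainTheorem

set_option autoImplicit false
universe u

namespace Groth.Agent.H20

open AlgebraicGeometry CategoryTheory Limits

/-- For a separated, locally quasi-finite morphism locally of finite type to an affine scheme,
every finite set of points of the source lies in an affine open (via Zariski's main theorem and
prime avoidance). -/
theorem exists_isAffineOpen_of_finset_of_locallyQuasiFinite {X Y : Scheme.{u}} (f : X ⟶ Y)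
    [IsAffine Y] [IsSeparated f] [LocallyQuasiFinite f] [LocallyOfFiniteType f] (T : Finset ↑X) :
    ∃ U : X.Opens, IsAffineOpen U ∧ ∀ x ∈ T, x ∈ U := by
  classical
  by_cases hT : T.Nonempty
  swap
  · refine ⟨⊥, isAffineOpen_bot X, fun x hx => ?_⟩
    exact absurd ⟨x, hx⟩ hT
  -- Step 1: a compact open containing `T`
  have hW : ∀ x : X, ∃ W : X.Opens, IsAffineOpen W ∧ x ∈ W := fun x => by
    obtain ⟨W, hW, hxW, -⟩ := exists_isAffineOpen_mem_and_subset (X := X) (x := x)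
      (U := ⊤) trivial
    exact ⟨W, hW, hxW⟩
  choose W hWaff hxW using hW
  let X₀ : X.Opens := ⨆ x ∈ T, W x
  have hTX₀ : ∀ x ∈ T, x ∈ X₀ := fun x hx =>
    TopologicalSpace.Opens.mem_iSup.mpr ⟨x, TopologicalSpace.Opens.mem_iSup.mpr ⟨hx, hxW x⟩⟩
  have hcomp : IsCompact (X₀ : Set X) := by
    have : (X₀ : Set X) = ⋃ x ∈ T, (W x : Set X) := by
      simp [X₀]
    rw [this]
    exact T.isCompact_biUnion fun x _ => (hWaff x).isCompact
  have : CompactSpace ((X₀ : Scheme.{u}) : Type u) := isCompact_iff_compactSpace.mp hcomp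
  let g : (X₀ : Scheme.{u}) ⟶ Y := X₀.ι ≫ f
  have : QuasiCompact g := (quasiCompact_iff_compactSpace g).mpr inferInstance
  have : IsAffine g.normalization := isAffine_of_isAffineHom g.fromNormalization
  let Z := g.normalization
  let j : (X₀ : Scheme.{u}) ⟶ Z := g.toNormalization
  let φ : Z ⟶ Spec Γ(Z, ⊤) := Z.toSpecΓ
  let V : Z.Opens := j.opensRange
  obtain ⟨s, hs⟩ := (PrimeSpectrum.isOpen_iff _).mp (φ ''ᵁ V).2
  -- the primes to avoid
  let p : {x // x ∈ T} → PrimeSpectrum Γ(Z, ⊤) := fun x => φ (j ⟨x.1, hTX₀ x.1 x.2⟩)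
  have hp : ∀ x, ¬ (Ideal.span s ≤ (p x).asIdeal) := by
    intro x hle
    have hmem : p x ∈ (φ ''ᵁ V).carrier :=
      ⟨j ⟨x.1, hTX₀ x.1 x.2⟩, ⟨_, rfl⟩, rfl⟩
    have : p x ∈ PrimeSpectrum.zeroLocus s := by
      rw [PrimeSpectrum.mem_zeroLocus]
      exact Ideal.subset_span.trans hle
    rw [← hs] at this
    exact this hmem
  obtain ⟨x₀, hx₀⟩ := hT
  have havoid : ¬ ((Ideal.span s : Set Γ(Z, ⊤)) ⊆ ⋃ i ∈ (↑T.attach : Set {x // x ∈ T}),
      ((p i).asIdeal : Set Γ(Z, ⊤))) := by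
    rw [Ideal.subset_union_prime (⟨x₀, hx₀⟩ : {x // x ∈ T}) ⟨x₀, hx₀⟩
      (fun i _ _ _ => (p i).isPrime)]
    rintro ⟨i, -, hi⟩
    exact hp i hi
  obtain ⟨b, hbI, hb⟩ := Set.not_subset.mp havoid
  have hb' : ∀ x : {x // x ∈ T}, b ∉ (p x).asIdeal := by
    intro x hx
    exact hb (Set.mem_biUnion (Finset.mem_coe.mpr (Finset.mem_attach _ x)) hx)
  have hbasic : ∀ z : Z, z ∈ Z.basicOpen b ↔ b ∉ (φ z).asIdeal := by
    intro z
    rw [← Scheme.toSpecΓ_preimage_basicOpen]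
    rfl
  have hle : Z.basicOpen b ≤ j.opensRange := by
    intro z hz
    have hz' : b ∉ (φ z).asIdeal := (hbasic z).mp hz
    have : φ z ∈ (φ ''ᵁ V).carrier := by
      by_contra hcon
      have h0 : (φ z : PrimeSpectrum Γ(Z, ⊤)) ∈ PrimeSpectrum.zeroLocus s := by
        rw [← hs]; exact hcon
      have h1 := (PrimeSpectrum.mem_zeroLocus _ _).mp h0
      exact hz' (Ideal.span_le.mpr h1 hbI)
    obtain ⟨z', hz'V, hzz'⟩ := this
    have : z' = z := φ.isOpenEmbedding.injective hzz'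
    exact this ▸ hz'V
  have haff : IsAffineOpen (Z.basicOpen b) := (isAffineOpen_top Z).basicOpen b
  refine ⟨X₀.ι ''ᵁ (j ⁻¹ᵁ (Z.basicOpen b)),
    (haff.preimage_of_isOpenImmersion j hle).image_of_isOpenImmersion X₀.ι, fun x hx => ?_⟩
  refine ⟨⟨x, hTX₀ x hx⟩, ?_, rfl⟩
  show j ⟨x, hTX₀ x hx⟩ ∈ Z.basicOpen b
  rw [hbasic]
  exact hb' ⟨x, hx⟩

end Groth.Agent.H20
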