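import Mathlib

/-!
# Connectedness of base changes of morphisms with `O_Y = f_* O_X`
-/

set_option autoImplicit false
universe u

open CategoryTheory CategoryTheory.Limits AlgebraicGeometry TopologicalSpace Opposite

namespace Groth.Agent.H20.SteinConn

/-- Idempotent attached to a decomposition of an open into two disjoint opens. -/
lemma exists_section_basicOpen_eq {W : Scheme.{u}} (Z UA UB : W.Opens) (hA : UA ≤ Z) (hB : UB ≤ Z)
    (hcov : Z ≤ UA ⊔ UB) (hdisj : UA ⊓ UB = ⊥) :
    ∃ e : Γ(W, Z), W.basicOpen e = UA ∧ W.basicOpen (1 - e) = UB := by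
  let U : Bool → W.Opens := fun b => if b then UA else UB
  let iUV : ∀ b, U b ⟶ Z := fun b => homOfLE (by cases b <;> simp [U, hA, hB])
  let sf : ∀ b, Γ(W, U b) := fun b => if b then 1 else 0
  have hcompat : TopCat.Presheaf.IsCompatible W.presheaf U sf := by
    intro i j
    cases i <;> cases j
    · rfl
    · have : Subsingleton Γ(W, U false ⊓ U true) := by
        have : U false ⊓ U true = ⊥ := by simp [U, inf_comm, hdisj]
        rw [this]; infer_instance
      exact Subsingleton.elim _ _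
    · have : Subsingleton Γ(W, U true ⊓ U false) := by
        have : U true ⊓ U false = ⊥ := by simp [U, hdisj]
        rw [this]; infer_instance
      exact Subsingleton.elim _ _
    · rfl
  obtain ⟨e', he', -⟩ := W.sheaf.existsUnique_gluing' U Z iUV
    (hcov.trans (sup_le (le_iSup U true) (le_iSup U false))) sf hcompat
  obtain ⟨e, he⟩ : ∃ e : Γ(W, Z), ∀ b, W.presheaf.map (iUV b).op e = sf b := ⟨e', he'⟩
  have heA : W.presheaf.map (homOfLE hA).op e = 1 := he true
  have heB : W.presheaf.map (homOfLE hB).op e = 0 := he false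
  refine ⟨e, ?_, ?_⟩
  · apply le_antisymm
    · intro x hx
      have hxZ : x ∈ Z := W.basicOpen_le e hx
      rcases hcov hxZ with hxA | hxB
      · exact hxA
      · exfalso
        have : x ∈ UB ⊓ W.basicOpen e := ⟨hxB, hx⟩
        rw [← Scheme.basicOpen_res W e (homOfLE hB).op, heB, Scheme.basicOpen_zero] at this
        exact this
    · intro x hxA
      have : x ∈ W.basicOpen (W.presheaf.map (homOfLE hA).op e) := by
        rw [heA, Scheme.basicOpen_of_isUnit _ isUnit_one]; exact hxA
      rw [Scheme.basicOpen_res] at this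
      exact this.2
  · apply le_antisymm
    · intro x hx
      have hxZ : x ∈ Z := W.basicOpen_le _ hx
      rcases hcov hxZ with hxA | hxB
      · exfalso
        have : x ∈ UA ⊓ W.basicOpen (1 - e) := ⟨hxA, hx⟩
        rw [← Scheme.basicOpen_res W (1 - e) (homOfLE hA).op, map_sub, heA, map_one, sub_self,
          Scheme.basicOpen_zero] at this
        exact this
      · exact hxB
    · intro x hxB
      have : x ∈ W.basicOpen (W.presheaf.map (homOfLE hB).op (1 - e)) := by
        rw [map_sub, heB, map_one, sub_zero, Scheme.basicOpen_of_isUnit _ isUnit_one]; exact hxB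
      rw [Scheme.basicOpen_res] at this
      exact this.2

/-- Flat base change of bijectivity of `f.app` (on affine opens of the new base mapping into an
affine open of the old base), for a Noetherian source. -/
lemma bijective_app_snd {X Y Y' : Scheme.{u}} (f : X ⟶ Y) [IsNoetherian X]
    (hf : ∀ U : Y.Opens, Function.Bijective (f.app U)) (g : Y' ⟶ Y) [Flat g]
    (US : Y.Opens) (hUS : IsAffineOpen US) (UT : Y'.Opens) (hUT : IsAffineOpen UT)
    (hUST : UT ≤ g ⁻¹ᵁ US) :
    Function.Bijective ((pullback.snd f g).app UT) := by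
  have H : IsPullback (pullback.fst f g) (pullback.snd f g) f g := IsPullback.of_hasPullback f g
  have hUSX : f ⁻¹ᵁ US ≤ f ⁻¹ᵁ US := le_rfl
  have hcomp : IsCompact (X := X) (f ⁻¹ᵁ US : X.Opens) := NoetherianSpace.isCompact _
  have hqs : IsQuasiSeparated (α := X) (f ⁻¹ᵁ US : X.Opens) := by
    intro U V _ _ _ _ _ _
    exact NoetherianSpace.isCompact _
  have hiso := isIso_pushoutSection_of_isQuasiSeparated_of_flat_right H hUST hUSX rfl hUS hUT
    hcomp hqs
  rw [isIso_pushoutSection_iff] at hiso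
  have : IsIso (f.appLE US (f ⁻¹ᵁ US) hUSX) := by
    rw [← Scheme.Hom.app_eq_appLE]
    exact (ConcreteCategory.isIso_iff_bijective _).mpr (hf US)
  have hinr := hiso.isIso_inr_of_isIso
  have heq : pullback.fst f g ⁻¹ᵁ f ⁻¹ᵁ US ⊓ pullback.snd f g ⁻¹ᵁ UT =
      pullback.snd f g ⁻¹ᵁ UT := by
    apply inf_eq_right.mpr
    rw [← Scheme.Hom.comp_preimage, pullback.condition, Scheme.Hom.comp_preimage]
    exact fun x hx => hUST hx
  have key : ∀ (V : (pullback f g).Opens) (_ : V = pullback.snd f g ⁻¹ᵁ UT)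
      (e : V ≤ pullback.snd f g ⁻¹ᵁ UT), IsIso ((pullback.snd f g).appLE UT V e) →
      IsIso ((pullback.snd f g).app UT) := by
    rintro V rfl e h
    rwa [Scheme.Hom.app_eq_appLE]
  have := key _ heq _ hinr
  exact ConcreteCategory.bijective_of_isIso _

/-- A closed morphism with `O_Y → f_* O_X` injective is surjective. -/
lemma surjective_of_injective_app {X Y : Scheme.{u}} (f : X ⟶ Y) (hcl : IsClosedMap f)
    (hf : ∀ U : Y.Opens, Function.Injective (f.app U)) : Function.Surjective f := by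
  by_contra hns
  rw [Function.Surjective] at hns
  push Not at hns
  obtain ⟨y, hy⟩ := hns
  have hclosed : IsClosed (Set.range f) := hcl.isClosed_range
  let V : Y.Opens := ⟨(Set.range f)ᶜ, hclosed.isOpen_compl⟩
  have hyV : y ∈ V := by rintro ⟨x, rfl⟩; exact hy x rfl
  have hbot : f ⁻¹ᵁ V = ⊥ := by
    ext x
    simp [V]
  have hsub : Subsingleton Γ(X, f ⁻¹ᵁ V) := by rw [hbot]; infer_instance
  have h01 : (0 : Γ(Y, V)) = 1 := hf V (Subsingleton.elim _ _)
  have : V = ⊥ := by
    rw [← Scheme.basicOpen_of_isUnit Y (isUnit_one (M := Γ(Y, V))), ← h01, Scheme.basicOpen_zero]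
  rw [this] at hyV
  exact hyV

/-- Images of a clopen set and of its complement are disjoint, for a morphism `f'` that is
"Stein" locally on the base. -/
lemma disjoint_image_clopen {W T : Scheme.{u}} (f' : W ⟶ T)
    (hbij : ∀ y : T, ∃ UT : T.Opens, y ∈ UT ∧ Function.Surjective (f'.app UT))
    (A : Set W) (hA : IsClopen A) : Disjoint (f' '' A) (f' '' Aᶜ) := by
  rw [Set.disjoint_left]
  rintro y' ⟨a, haA, rfl⟩ ⟨b, hbA, hb⟩
  obtain ⟨UT, hyUT, hsurj⟩ := hbij (f' a)
  let OA : W.Opens := ⟨A, hA.isOpen⟩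
  let OB : W.Opens := ⟨Aᶜ, hA.compl.isOpen⟩
  obtain ⟨e, heA, heB⟩ := exists_section_basicOpen_eq (f' ⁻¹ᵁ UT) (f' ⁻¹ᵁ UT ⊓ OA) (f' ⁻¹ᵁ UT ⊓ OB)
    inf_le_left inf_le_left
    (by
      intro x hx
      by_cases hxA : x ∈ A
      · exact Or.inl ⟨hx, hxA⟩
      · exact Or.inr ⟨hx, hxA⟩)
    (by
      rw [eq_bot_iff]
      rintro x ⟨⟨-, h1⟩, ⟨-, h2⟩⟩
      exact h2 h1)
  obtain ⟨e', rfl⟩ := hsurj e
  rw [← Scheme.preimage_basicOpen] at heA
  have heB' : f' ⁻¹ᵁ T.basicOpen (1 - e') = f' ⁻¹ᵁ UT ⊓ OB := by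
    rw [Scheme.preimage_basicOpen, map_sub, map_one]; exact heB
  rcases IsLocalRing.isUnit_or_isUnit_one_sub_self (T.presheaf.germ UT (f' a) hyUT e') with h | h
  · have hbmem : b ∈ f' ⁻¹ᵁ T.basicOpen e' := by
      change f' b ∈ T.basicOpen e'
      rw [hb, Scheme.mem_basicOpen _ _ _ hyUT]
      exact h
    rw [heA] at hbmem
    exact hbA hbmem.2
  · have hamem : a ∈ f' ⁻¹ᵁ T.basicOpen (1 - e') := by
      change f' a ∈ T.basicOpen (1 - e')
      rw [Scheme.mem_basicOpen _ _ _ hyUT, map_sub, map_one]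
      exact h
    rw [heB'] at hamem
    exact hamem.2 haA

/-- Connectedness criterion. -/
lemma connectedSpace_of_locally_stein {W T : Scheme.{u}} (f' : W ⟶ T) [ConnectedSpace T]
    (hsurj : Function.Surjective f') (hcl : IsClosedMap f')
    (hbij : ∀ y : T, ∃ UT : T.Opens, y ∈ UT ∧ Function.Surjective (f'.app UT)) :
    ConnectedSpace W := by
  rw [connectedSpace_iff_clopen]
  refine ⟨?_, ?_⟩
  · obtain ⟨y⟩ := (inferInstance : Nonempty T)
    obtain ⟨x, -⟩ := hsurj y
    exact ⟨x⟩
  · intro A hA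
    have hdisj := disjoint_image_clopen f' hbij A hA
    have hcov : f' '' A ∪ f' '' Aᶜ = Set.univ := by
      rw [← Set.image_union, Set.union_compl_self, Set.image_univ]
      exact Set.range_eq_univ.mpr hsurj
    have hcompl : (f' '' A)ᶜ = f' '' Aᶜ := by
      ext y
      constructor
      · intro hy
        have : y ∈ f' '' A ∪ f' '' Aᶜ := by rw [hcov]; trivial
        rcases this with h | h
        · exact absurd h hy
        · exact h
      · intro hy hy'
        exact Set.disjoint_left.mp hdisj hy' hy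
    have hclopen : IsClopen (f' '' A) := by
      refine ⟨hcl _ hA.isClosed, ?_⟩
      rw [← isClosed_compl_iff, hcompl]
      exact hcl _ hA.compl.isClosed
    rcases isClopen_iff.mp hclopen with h | h
    · left
      exact Set.image_eq_empty.mp h
    · right
      have h2 : f' '' Aᶜ = ∅ := by rw [← hcompl, h, Set.compl_univ]
      have := Set.image_eq_empty.mp h2
      exact Set.compl_empty_iff.mp this

/-- **Connectedness of flat base changes** of a proper morphism `f` with `O_Y ≅ f_* O_X`. -/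
theorem connectedSpace_pullback {X Y Y' : Scheme.{u}} (f : X ⟶ Y) [IsProper f] [IsNoetherian X]
    (hf : ∀ U : Y.Opens, Function.Bijective (f.app U)) (g : Y' ⟶ Y) [Flat g]
    [ConnectedSpace Y'] : ConnectedSpace ↥(pullback f g) := by
  have hfsurj : Function.Surjective f :=
    surjective_of_injective_app f f.isClosedMap (fun U => (hf U).1)
  have : Surjective f := ⟨hfsurj⟩
  refine connectedSpace_of_locally_stein (pullback.snd f g) (pullback.snd f g).surjective
    (pullback.snd f g).isClosedMap ?_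
  intro y'
  obtain ⟨US, hUS, hyUS⟩ : ∃ US : Y.Opens, IsAffineOpen US ∧ g y' ∈ US := by
    obtain ⟨_, ⟨US, hUS, rfl⟩, hy, -⟩ :=
      Y.isBasis_affineOpens.exists_subset_of_mem_open (Set.mem_univ (g y')) isOpen_univ
    exact ⟨US, hUS, hy⟩
  obtain ⟨UT, hUT, hyUT, hle⟩ : ∃ UT : Y'.Opens, IsAffineOpen UT ∧ y' ∈ UT ∧ UT ≤ g ⁻¹ᵁ US := by
    obtain ⟨_, ⟨UT, hUT, rfl⟩, hy, hle⟩ :=
      Y'.isBasis_affineOpens.exists_subset_of_mem_open (show y' ∈ ((g ⁻¹ᵁ US : Y'.Opens) : Set Y')
        from hyUS) (g ⁻¹ᵁ US).isOpen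
    exact ⟨UT, hUT, hy, hle⟩
  exact ⟨UT, hyUT, (bijective_app_snd f hf g US hUS UT hUT hle).2⟩

end Groth.Agent.H20.SteinConn
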