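import Mathlib
import Groth.Agent.H20.SteinConn

/-!
# Rigidity lemma for morphisms with `O_S = ξ_* O_X`
-/

set_option autoImplicit false
universe u

open CategoryTheory CategoryTheory.Limits AlgebraicGeometry TopologicalSpace Opposite

namespace Groth.Agent.H20.Rigidity

variable {X Y S : Scheme.{u}}

lemma map_map_cancel {T : Type*} [TopologicalSpace T] (F : (Opens T)ᵒᵖ ⥤ CommRingCat.{u})
    {R : CommRingCat.{u}} {V V' : Opens T} (A : R ⟶ F.obj (op V)) (a : op V ⟶ op V')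
    (b : op V' ⟶ op V) : (A ≫ F.map a) ≫ F.map b = A := by
  rw [Category.assoc, ← F.map_comp, Subsingleton.elim (a ≫ b) (𝟙 _), F.map_id, Category.comp_id]

/-- A surjective morphism which is injective on sections is an epimorphism of schemes. -/
lemma epi_of_surjective_of_app_injective {X W : Scheme.{u}} (g : X ⟶ W)
    (hs : Function.Surjective g) (hi : ∀ U : W.Opens, Function.Injective (g.app U)) : Epi g := by
  constructor
  intro Y r₁ r₂ h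
  have hpt : ∀ w, r₁ w = r₂ w := by
    intro w
    obtain ⟨x, rfl⟩ := hs w
    rw [← Scheme.Hom.comp_apply, ← Scheme.Hom.comp_apply, h]
  have hbase : r₁.base = r₂.base := by
    ext w
    exact hpt w
  refine Scheme.Hom.ext hbase (fun U => ?_)
  have hmono : Mono (g.app (r₂ ⁻¹ᵁ U)) := ConcreteCategory.mono_of_injective _ (hi _)
  rw [← cancel_mono (g.app (r₂ ⁻¹ᵁ U)), Category.assoc, Scheme.Hom.naturality,
    ← Category.assoc, ← Scheme.Hom.comp_app, ← Scheme.Hom.comp_app, Scheme.Hom.congr_app h U]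
  exact map_map_cancel X.presheaf _ _ _

/-- Restrictions of such morphisms over opens are again epimorphisms. -/
lemma epi_morphismRestrict (ξ : X ⟶ S) (hs : Function.Surjective ξ)
    (hi : ∀ U : S.Opens, Function.Injective (ξ.app U)) (W : S.Opens) : Epi (ξ ∣_ W) := by
  apply epi_of_surjective_of_app_injective
  · rintro ⟨s, hs'⟩
    obtain ⟨x, rfl⟩ := hs s
    refine ⟨⟨x, hs'⟩, Subtype.ext ?_⟩
    exact morphismRestrict_base_coe ξ W _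
  · intro V
    have hm1 : Mono (ξ.app (W.ι ''ᵁ V)) := ConcreteCategory.mono_of_injective _ (hi _)
    have hm : Mono ((ξ ∣_ W).app V) := by
      rw [morphismRestrict_app]
      have hiso : IsIso (X.presheaf.map
          (eqToHom (image_morphismRestrict_preimage ξ W V)).op) := inferInstance
      exact @mono_comp _ _ _ _ _ _ hm1 _ (@IsIso.mono_of_iso _ _ _ _ _ hiso)
    exact ConcreteCategory.injective_of_mono_of_preservesPullback _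

/-- `r : W ⟶ Y` is a local factorisation of `f` through `ξ` over the open `W`. -/
def Good (ξ : X ⟶ S) (f : X ⟶ Y) (W : S.Opens) (r : (W : Scheme.{u}) ⟶ Y) : Prop :=
  (ξ ∣_ W) ≫ r = (ξ ⁻¹ᵁ W).ι ≫ f

lemma homOfLE_morphismRestrict (ξ : X ⟶ S) {W' W : S.Opens} (h : W' ≤ W) :
    X.homOfLE (show ξ ⁻¹ᵁ W' ≤ ξ ⁻¹ᵁ W from fun _ hx => h hx) ≫ (ξ ∣_ W) =
      (ξ ∣_ W') ≫ S.homOfLE h := by
  rw [← cancel_mono W.ι, Category.assoc, Category.assoc, morphismRestrict_ι,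
    Scheme.homOfLE_ι, morphismRestrict_ι, Scheme.homOfLE_ι_assoc]

lemma Good.restrict {ξ : X ⟶ S} {f : X ⟶ Y} {W : S.Opens} {r : (W : Scheme.{u}) ⟶ Y}
    (hr : Good ξ f W r) {W' : S.Opens} (h : W' ≤ W) : Good ξ f W' (S.homOfLE h ≫ r) := by
  unfold Good at hr ⊢
  rw [← Category.assoc, ← homOfLE_morphismRestrict ξ h, Category.assoc, hr,
    Scheme.homOfLE_ι_assoc]

lemma Good.unique {ξ : X ⟶ S} {f : X ⟶ Y} (hs : Function.Surjective ξ)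
    (hi : ∀ U : S.Opens, Function.Injective (ξ.app U)) {W : S.Opens}
    {r r' : (W : Scheme.{u}) ⟶ Y} (hr : Good ξ f W r) (hr' : Good ξ f W r') : r = r' := by
  have := epi_morphismRestrict ξ hs hi W
  rw [← cancel_epi (ξ ∣_ W)]
  exact hr.trans hr'.symm

lemma Good.agree {ξ : X ⟶ S} {f : X ⟶ Y} (hs : Function.Surjective ξ)
    (hi : ∀ U : S.Opens, Function.Injective (ξ.app U)) {W W' : S.Opens}
    {r : (W : Scheme.{u}) ⟶ Y} {r' : (W' : Scheme.{u}) ⟶ Y} (hr : Good ξ f W r)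
    (hr' : Good ξ f W' r') :
    S.homOfLE (inf_le_left : W ⊓ W' ≤ W) ≫ r = S.homOfLE (inf_le_right : W ⊓ W' ≤ W') ≫ r' :=
  Good.unique hs hi (hr.restrict _) (hr'.restrict _)

lemma Good.comp_eq {ξ : X ⟶ S} {f : X ⟶ Y} (v : Y ⟶ S) (hf : f ≫ v = ξ)
    (hs : Function.Surjective ξ)
    (hi : ∀ U : S.Opens, Function.Injective (ξ.app U)) {W : S.Opens}
    {r : (W : Scheme.{u}) ⟶ Y} (hr : Good ξ f W r) : r ≫ v = W.ι := by
  have := epi_morphismRestrict ξ hs hi W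
  rw [← cancel_epi (ξ ∣_ W), morphismRestrict_ι, ← Category.assoc, hr, Category.assoc, hf]

lemma Good.apply {ξ : X ⟶ S} {f : X ⟶ Y} {W : S.Opens}
    {r : (W : Scheme.{u}) ⟶ Y} (hr : Good ξ f W r) (x : X) (hx : ξ x ∈ W) :
    f x = r ⟨ξ x, hx⟩ := by
  have hx' : x ∈ ξ ⁻¹ᵁ W := hx
  let p : ((ξ ⁻¹ᵁ W : X.Opens) : Scheme.{u}) := ⟨x, hx'⟩
  have h1 : ((ξ ∣_ W) ≫ r) p = ((ξ ⁻¹ᵁ W).ι ≫ f) p := by
    unfold Good at hr
    rw [hr]
  rw [Scheme.Hom.comp_apply, Scheme.Hom.comp_apply] at h1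
  have h2 : (ξ ∣_ W) p = ⟨ξ x, hx⟩ := Subtype.ext (morphismRestrict_base_coe ξ W _)
  rw [h2] at h1
  exact h1.symm

/-- Local factorisation around a point whose fibre is contracted by `f`. -/
lemma exists_good (ξ : X ⟶ S) (hcl : IsClosedMap ξ)
    (h0 : ∀ U : S.Opens, Function.Bijective (ξ.app U)) (f : X ⟶ Y) (s : S) (y : Y)
    (hy : ∀ x, ξ x = s → f x = y) :
    ∃ (W : S.Opens) (r : (W : Scheme.{u}) ⟶ Y), s ∈ W ∧ Good ξ f W r := by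
  obtain ⟨V, hV, hyV⟩ : ∃ V : Y.Opens, IsAffineOpen V ∧ y ∈ V := by
    obtain ⟨_, ⟨V, hV, rfl⟩, hy', -⟩ :=
      Y.isBasis_affineOpens.exists_subset_of_mem_open (Set.mem_univ y) isOpen_univ
    exact ⟨V, hV, hy'⟩
  let C : Set X := ((f ⁻¹ᵁ V : X.Opens) : Set X)ᶜ
  have hC : IsClosed C := (f ⁻¹ᵁ V).isOpen.isClosed_compl
  let W : S.Opens := ⟨(ξ '' C)ᶜ, (hcl C hC).isOpen_compl⟩
  have hsW : s ∈ W := by
    rintro ⟨x, hxC, rfl⟩
    exact hxC (show f x ∈ V from (hy x rfl) ▸ hyV)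
  have hle : ξ ⁻¹ᵁ W ≤ f ⁻¹ᵁ V := by
    intro x hx
    by_contra hxV
    exact hx ⟨x, hxV, rfl⟩
  have hiso : IsIso (ξ.app W) := (ConcreteCategory.isIso_iff_bijective _).mpr (h0 W)
  let ψ : Γ(Y, V) ⟶ Γ(S, W) := f.appLE V (ξ ⁻¹ᵁ W) hle ≫ inv (ξ.app W)
  refine ⟨W, W.toSpecΓ ≫ Spec.map ψ ≫ hV.fromSpec, hsW, ?_⟩
  unfold Good
  have e : ψ ≫ ξ.app W = f.appLE V (ξ ⁻¹ᵁ W) hle := by
    simp only [ψ, Category.assoc, IsIso.inv_hom_id, Category.comp_id]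
  rw [← Scheme.Opens.toSpecΓ_naturality_assoc, ← Spec.map_comp_assoc, e,
    Scheme.Opens.toSpecΓ_SpecMap_appLE_assoc, hV.toSpecΓ_fromSpec, Scheme.Hom.resLE_comp_ι]

/-- Gluing morphisms along an open cover indexed by the points. -/
lemma exists_glue {Z : Scheme.{u}} (U : Z → Z.Opens) (hU : ∀ z, z ∈ U z)
    (g : ∀ z, (U z : Scheme.{u}) ⟶ Y)
    (hg : ∀ z z', Z.homOfLE (inf_le_left : U z ⊓ U z' ≤ U z) ≫ g z =
      Z.homOfLE (inf_le_right : U z ⊓ U z' ≤ U z') ≫ g z') :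
    ∃ r : Z ⟶ Y, ∀ z, (U z).ι ≫ r = g z := by
  let 𝒰 : Z.OpenCover := {
    I₀ := Z, X i := (U i), f i := (U i).ι,
    mem₀ := by
      rw [Scheme.presieve₀_mem_precoverage_iff]
      refine ⟨fun x ↦ ⟨x, by simpa using hU x⟩, inferInstance⟩ }
  have hcompat : ∀ z z' : Z, pullback.fst (𝒰.f z) (𝒰.f z') ≫ g z =
      pullback.snd (𝒰.f z) (𝒰.f z') ≫ g z' := by
    intro z z'
    have hp := isPullback_opens_inf (U z) (U z')
    change pullback.fst (U z).ι (U z').ι ≫ g z = pullback.snd (U z).ι (U z').ι ≫ g z'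
    rw [← hp.isoPullback_inv_fst, ← hp.isoPullback_inv_snd, Category.assoc, Category.assoc, hg]
  exact ⟨𝒰.glueMorphisms g hcompat, fun z => 𝒰.ι_glueMorphisms g hcompat z⟩

/-- **Rigidity lemma** (given `O_S ≅ ξ_* O_X`). -/
theorem main (ξ : X ⟶ S) [IsProper ξ]
    (h0 : ∀ U : S.Opens, Function.Bijective (ξ.app U).hom)
    (v : Y ⟶ S) (f : X ⟶ Y) (hf : f ≫ v = ξ) :
    IsOpen {s : ↥S | ∃ y : ↥Y, ∀ x : ↥X, ξ.base x = s → f.base x = y} ∧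
    ∀ (T : Scheme.{u}) (τ : T ⟶ S),
      ((∃ r : T ⟶ Y, r ≫ v = τ ∧ pullback.fst ξ τ ≫ f = pullback.snd ξ τ ≫ r) ↔
        ∀ t : ↥T, τ.base t ∈ {s : ↥S | ∃ y : ↥Y, ∀ x : ↥X, ξ.base x = s → f.base x = y}) := by
  have h0' : ∀ U : S.Opens, Function.Bijective (ξ.app U) := fun U => h0 U
  have hi : ∀ U : S.Opens, Function.Injective (ξ.app U) := fun U => (h0' U).1
  have hs : Function.Surjective ξ :=
    Groth.Agent.H20.SteinConn.surjective_of_injective_app ξ ξ.isClosedMap hi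
  have hA : ∀ s : S, (∃ y : Y, ∀ x : X, ξ x = s → f x = y) →
      ∃ (W : S.Opens) (r : (W : Scheme.{u}) ⟶ Y), s ∈ W ∧ Good ξ f W r :=
    fun s ⟨y, hy⟩ => exists_good ξ ξ.isClosedMap h0' f s y hy
  refine ⟨?_, fun T τ => ⟨?_, ?_⟩⟩
  · rw [isOpen_iff_forall_mem_open]
    intro s hs'
    obtain ⟨W, r, hsW, hr⟩ := hA s hs'
    refine ⟨W, ?_, W.isOpen, hsW⟩
    intro s' hs'W
    refine ⟨r ⟨s', hs'W⟩, fun x hx => ?_⟩
    have hx' : ξ x = s' := hx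
    subst hx'
    exact hr.apply x hs'W
  · rintro ⟨r, hr1, hr2⟩ t
    refine ⟨r t, fun x hx => ?_⟩
    have hx' : ξ x = τ t := hx
    obtain ⟨z, hz1, hz2⟩ := Scheme.Pullback.exists_preimage_pullback x t hx'
    change f x = r t
    rw [← hz1, ← hz2, ← Scheme.Hom.comp_apply, ← Scheme.Hom.comp_apply, hr2]
  · intro hτ
    have hτ' : ∀ t : T, ∃ (W : S.Opens) (r : (W : Scheme.{u}) ⟶ Y), τ t ∈ W ∧ Good ξ f W r :=
      fun t => hA (τ t) (hτ t)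
    choose W r hW hr using hτ'
    have hcompat : ∀ t t' : T,
        T.homOfLE (inf_le_left : τ ⁻¹ᵁ W t ⊓ τ ⁻¹ᵁ W t' ≤ τ ⁻¹ᵁ W t) ≫
          (τ.resLE (W t) (τ ⁻¹ᵁ W t) le_rfl ≫ r t) =
        T.homOfLE (inf_le_right : τ ⁻¹ᵁ W t ⊓ τ ⁻¹ᵁ W t' ≤ τ ⁻¹ᵁ W t') ≫
          (τ.resLE (W t') (τ ⁻¹ᵁ W t') le_rfl ≫ r t') := by
      intro t t'
      have hle : τ ⁻¹ᵁ W t ⊓ τ ⁻¹ᵁ W t' ≤ τ ⁻¹ᵁ (W t ⊓ W t') := fun x hx => hx
      have e1 : T.homOfLE (inf_le_left : τ ⁻¹ᵁ W t ⊓ τ ⁻¹ᵁ W t' ≤ τ ⁻¹ᵁ W t) ≫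
          τ.resLE (W t) (τ ⁻¹ᵁ W t) le_rfl =
          τ.resLE (W t ⊓ W t') (τ ⁻¹ᵁ W t ⊓ τ ⁻¹ᵁ W t') hle ≫ S.homOfLE inf_le_left := by
        rw [Scheme.Hom.map_resLE, Scheme.Hom.resLE_map]
      have e2 : T.homOfLE (inf_le_right : τ ⁻¹ᵁ W t ⊓ τ ⁻¹ᵁ W t' ≤ τ ⁻¹ᵁ W t') ≫
          τ.resLE (W t') (τ ⁻¹ᵁ W t') le_rfl =
          τ.resLE (W t ⊓ W t') (τ ⁻¹ᵁ W t ⊓ τ ⁻¹ᵁ W t') hle ≫ S.homOfLE inf_le_right := by
        rw [Scheme.Hom.map_resLE, Scheme.Hom.resLE_map]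
      rw [← Category.assoc, e1, ← Category.assoc, e2, Category.assoc, Category.assoc,
        Good.agree hs hi (hr t) (hr t')]
    obtain ⟨rT, hrT⟩ := exists_glue (fun t => τ ⁻¹ᵁ W t) hW
      (fun t => τ.resLE (W t) (τ ⁻¹ᵁ W t) le_rfl ≫ r t) hcompat
    refine ⟨rT, ?_, ?_⟩
    · refine Scheme.hom_ext_of_forall _ _ (fun t => ⟨τ ⁻¹ᵁ W t, hW t, ?_⟩)
      rw [← Category.assoc, hrT t, Category.assoc, (hr t).comp_eq v hf hs hi,
        Scheme.Hom.resLE_comp_ι]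
    · refine Scheme.hom_ext_of_forall _ _ (fun z => ?_)
      let t : T := pullback.snd ξ τ z
      let O : (pullback ξ τ).Opens := pullback.snd ξ τ ⁻¹ᵁ (τ ⁻¹ᵁ W t)
      have hzO : z ∈ O := hW t
      have hO1 : O ≤ pullback.fst ξ τ ⁻¹ᵁ (ξ ⁻¹ᵁ W t) := by
        intro z' hz'
        change ξ (pullback.fst ξ τ z') ∈ W t
        rw [← Scheme.Hom.comp_apply, pullback.condition, Scheme.Hom.comp_apply]
        exact hz'
      refine ⟨O, hzO, ?_⟩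
      have key : (pullback.fst ξ τ).resLE (ξ ⁻¹ᵁ W t) O hO1 ≫ (ξ ∣_ W t) =
          (pullback.snd ξ τ).resLE (τ ⁻¹ᵁ W t) O le_rfl ≫
            τ.resLE (W t) (τ ⁻¹ᵁ W t) le_rfl := by
        rw [← cancel_mono (W t).ι, Category.assoc, Category.assoc, morphismRestrict_ι,
          Scheme.Hom.resLE_comp_ι, Scheme.Hom.resLE_comp_ι_assoc,
          Scheme.Hom.resLE_comp_ι_assoc, pullback.condition]
      calc O.ι ≫ pullback.fst ξ τ ≫ f
          = (pullback.fst ξ τ).resLE (ξ ⁻¹ᵁ W t) O hO1 ≫ (ξ ⁻¹ᵁ W t).ι ≫ f := by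
            rw [Scheme.Hom.resLE_comp_ι_assoc]
        _ = (pullback.fst ξ τ).resLE (ξ ⁻¹ᵁ W t) O hO1 ≫ (ξ ∣_ W t) ≫ r t := by
            rw [(hr t : (ξ ∣_ W t) ≫ r t = (ξ ⁻¹ᵁ W t).ι ≫ f)]
        _ = (pullback.snd ξ τ).resLE (τ ⁻¹ᵁ W t) O le_rfl ≫
              τ.resLE (W t) (τ ⁻¹ᵁ W t) le_rfl ≫ r t := by
            rw [← Category.assoc, key, Category.assoc]
        _ = (pullback.snd ξ τ).resLE (τ ⁻¹ᵁ W t) O le_rfl ≫ (τ ⁻¹ᵁ W t).ι ≫ rT := by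
            rw [hrT t]
        _ = O.ι ≫ pullback.snd ξ τ ≫ rT := by
            rw [Scheme.Hom.resLE_comp_ι_assoc]

end Groth.Agent.H20.Rigidity
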