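import Mathlib

/-!
# Flat finite type algebras over a valuation ring with finite generic fibre are quasi-finite
-/

set_option autoImplicit false
universe u

open TensorProduct Polynomial

namespace Groth.Agent.H20.ValFlatQF

section Normalize

variable {R : Type*} [CommRing R] [IsDomain R] [ValuationRing R]

/-- In a valuation ring, a finite nonempty family of elements has a member dividing all. -/
lemma exists_dvd_all (s : Finset ℕ) (c : ℕ → R) (hs : s.Nonempty) :
    ∃ i ∈ s, ∀ j ∈ s, c i ∣ c j := by
  classical
  induction hs using Finset.Nonempty.cons_induction with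
  | singleton a => exact ⟨a, Finset.mem_singleton_self a, fun j hj => by
      rw [Finset.mem_singleton] at hj; rw [hj]⟩
  | cons a s ha hs ih =>
    obtain ⟨i, his, hi⟩ := ih
    rcases ValuationRing.dvd_total (c i) (c a) with h | h
    · refine ⟨i, Finset.mem_cons.mpr (Or.inr his), fun j hj => ?_⟩
      rcases Finset.mem_cons.mp hj with rfl | hj
      · exact h
      · exact hi j hj
    · refine ⟨a, Finset.mem_cons_self a s, fun j hj => ?_⟩
      rcases Finset.mem_cons.mp hj with rfl | hj
      · exact dvd_rfl
      · exact h.trans (hi j hj)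

/-- A nonzero polynomial over a valuation ring is a nonzero constant times a polynomial
having some coefficient equal to one. -/
lemma exists_eq_C_mul (q : R[X]) (hq : q ≠ 0) :
    ∃ (c : R) (q' : R[X]) (i : ℕ), c ≠ 0 ∧ q = C c * q' ∧ q'.coeff i = 1 := by
  have hs : q.support.Nonempty := Polynomial.support_nonempty.mpr hq
  obtain ⟨i, his, hi⟩ := exists_dvd_all q.support q.coeff hs
  have hci : q.coeff i ≠ 0 := Polynomial.mem_support_iff.mp his
  have hdvd : C (q.coeff i) ∣ q := by
    rw [Polynomial.C_dvd_iff_dvd_coeff]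
    intro j
    by_cases hj : j ∈ q.support
    · exact hi j hj
    · rw [Polynomial.notMem_support_iff.mp hj]
      exact dvd_zero _
  obtain ⟨q', hq'⟩ := hdvd
  refine ⟨q.coeff i, q', i, hci, hq', ?_⟩
  have h1 := congrArg (fun p => p.coeff i) hq'
  simp only [Polynomial.coeff_C_mul] at h1
  exact mul_left_cancel₀ hci (by rw [← h1, mul_one])

end Normalize

variable (R A : Type u) [CommRing R] [IsDomain R] [ValuationRing R] [CommRing A] [Algebra R A]
  [Module.Flat R A] [Algebra.FiniteType R A]

/-- Every element of a flat finite type algebra over a valuation ring with finite generic fibre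
satisfies a polynomial over the base with some coefficient equal to one. -/
lemma exists_aeval_eq_zero
    (h : (PrimeSpectrum.comap (algebraMap R A) ⁻¹' {⟨⊥, Ideal.isPrime_bot⟩}).Finite) (a : A) :
    ∃ (q : R[X]) (i : ℕ), aeval a q = 0 ∧ q.coeff i = 1 := by
  let κ₀ := (⊥ : Ideal R).ResidueField
  let F₀ := (⊥ : Ideal R).Fiber A
  have hfin : Finite (PrimeSpectrum F₀) :=
    (PrimeSpectrum.preimageEquivFiber R A ⟨⊥, Ideal.isPrime_bot⟩).finite_iff.mp h
  have hqf : Algebra.QuasiFinite κ₀ F₀ :=
    Algebra.QuasiFinite.iff_finite_comap_preimage_singleton.mpr fun x => Set.toFinite _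
  have hmf : Module.Finite κ₀ F₀ := Algebra.QuasiFinite.iff_of_isArtinianRing.mp hqf
  have hint : IsIntegral κ₀ ((1 : κ₀) ⊗ₜ[R] a : F₀) := Algebra.IsIntegral.isIntegral _
  have halg : IsAlgebraic R ((1 : κ₀) ⊗ₜ[R] a : F₀) :=
    (IsFractionRing.isAlgebraic_iff R κ₀ F₀).mpr hint.isAlgebraic
  obtain ⟨q, hq0, hq⟩ := halg
  have hinj : Function.Injective (Algebra.TensorProduct.includeRight : A →ₐ[R] κ₀ ⊗[R] A) :=
    Algebra.TensorProduct.includeRight_injective (IsFractionRing.injective R κ₀)
  have hqa : aeval a q = 0 := by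
    apply hinj
    rw [map_zero, ← Polynomial.aeval_algHom_apply]
    exact hq
  obtain ⟨c, q', i, hc, hqq', hi⟩ := exists_eq_C_mul q hq0
  refine ⟨q', i, ?_, hi⟩
  have hreg : IsSMulRegular A c :=
    Module.Flat.isSMulRegular_of_isRegular (IsRegular.of_ne_zero hc)
  rw [hqq', map_mul, Polynomial.aeval_C, Algebra.algebraMap_eq_smul_one, smul_mul_assoc,
    one_mul] at hqa
  exact hreg (hqa.trans (smul_zero c).symm)

/-- **Flat finite type algebras over a valuation ring with finite generic fibre are
quasi-finite.** -/
theorem quasiFinite_of_finite_generic_fibre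
    (h : (PrimeSpectrum.comap (algebraMap R A) ⁻¹' {⟨⊥, Ideal.isPrime_bot⟩}).Finite) :
    Algebra.QuasiFinite R A := by
  refine ⟨fun P hP => ?_⟩
  have key : ∀ a : A, IsIntegral P.ResidueField ((1 : P.ResidueField) ⊗ₜ[R] a : P.Fiber A) := by
    intro a
    obtain ⟨q, i, hq, hi⟩ := exists_aeval_eq_zero R A h a
    apply IsAlgebraic.isIntegral
    refine ⟨q.map (algebraMap R P.ResidueField), ?_, ?_⟩
    · intro h0
      have := congrArg (fun p => p.coeff i) h0
      simp [hi] at this
    · rw [Polynomial.aeval_map_algebraMap]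
      have : ((1 : P.ResidueField) ⊗ₜ[R] a : P.Fiber A) =
          (Algebra.TensorProduct.includeRight : A →ₐ[R] P.ResidueField ⊗[R] A) a := rfl
      rw [this, Polynomial.aeval_algHom_apply, hq, map_zero]
  have hint : Algebra.IsIntegral P.ResidueField (P.Fiber A) := by
    refine ⟨fun x => ?_⟩
    induction x using TensorProduct.induction_on with
    | zero => exact isIntegral_zero
    | tmul k a =>
      have : (k ⊗ₜ[R] a : P.Fiber A) = k • ((1 : P.ResidueField) ⊗ₜ[R] a) := by
        rw [TensorProduct.smul_tmul', smul_eq_mul, mul_one]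
      rw [this]
      exact (key a).smul k
    | add x y hx hy => exact hx.add hy
  exact Algebra.IsIntegral.finite

end Groth.Agent.H20.ValFlatQF
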