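import Mathlib
import Groth.Agent.H20.ValFlatQF

/-!
# Quasi-finiteness over semi-valuation rings: the algebra
-/

set_option autoImplicit false
universe u

open TensorProduct Polynomial

namespace Groth.Agent.H20.SemiValAlg

open Groth.Agent.H20.ValFlatQF

section TorsionNilpotent

variable (R C : Type u) [CommRing R] [IsDomain R] [ValuationRing R] [CommRing C] [Algebra R C]
  [Algebra.FiniteType R C]

/-- Every element of a finite type algebra over a valuation ring with finite generic fibre and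
nilpotent torsion satisfies a polynomial with some coefficient one, up to nilpotents. -/
lemma exists_aeval_pow_eq_zero
    (h : (PrimeSpectrum.comap (algebraMap R C) ⁻¹' {⟨⊥, Ideal.isPrime_bot⟩}).Finite)
    (hnil : ∀ (c : C) (r : R), r ≠ 0 → r • c = 0 → IsNilpotent c) (c : C) :
    ∃ (q : R[X]) (i : ℕ) (N : ℕ), aeval c (q ^ N) = 0 ∧ q.coeff i = 1 := by
  let κ₀ := (⊥ : Ideal R).ResidueField
  let F₀ := (⊥ : Ideal R).Fiber C
  have hfin : Finite (PrimeSpectrum F₀) :=
    (PrimeSpectrum.preimageEquivFiber R C ⟨⊥, Ideal.isPrime_bot⟩).finite_iff.mp h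
  have hqf : Algebra.QuasiFinite κ₀ F₀ :=
    Algebra.QuasiFinite.iff_finite_comap_preimage_singleton.mpr fun x => Set.toFinite _
  have hmf : Module.Finite κ₀ F₀ := Algebra.QuasiFinite.iff_of_isArtinianRing.mp hqf
  have hint : IsIntegral κ₀ ((1 : κ₀) ⊗ₜ[R] c : F₀) := Algebra.IsIntegral.isIntegral _
  have halg : IsAlgebraic R ((1 : κ₀) ⊗ₜ[R] c : F₀) :=
    (IsFractionRing.isAlgebraic_iff R κ₀ F₀).mpr hint.isAlgebraic
  obtain ⟨q, hq0, hq⟩ := halg
  have hq1 : (TensorProduct.mk R κ₀ C 1) (aeval c q) = 0 := by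
    have : ((1 : κ₀) ⊗ₜ[R] c : F₀) =
        (Algebra.TensorProduct.includeRight : C →ₐ[R] κ₀ ⊗[R] C) c := rfl
    rw [this, Polynomial.aeval_algHom_apply] at hq
    exact hq
  obtain ⟨s, hs⟩ := (IsLocalizedModule.eq_zero_iff (nonZeroDivisors R)
    (TensorProduct.mk R κ₀ C 1)).mp hq1
  obtain ⟨a, q', i, ha, hqq', hi⟩ := exists_eq_C_mul q hq0
  have hs0 : (s : R) ≠ 0 := nonZeroDivisors.ne_zero s.2
  have h2 : ((s : R) * a) • aeval c q' = 0 := by
    rw [hqq', map_mul, Polynomial.aeval_C, Algebra.algebraMap_eq_smul_one, smul_mul_assoc,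
      one_mul] at hs
    rw [mul_smul]
    exact hs
  obtain ⟨N, hN⟩ := hnil _ _ (mul_ne_zero hs0 ha) h2
  exact ⟨q', i, N, by rw [map_pow, hN], hi⟩

/-- **Finite type algebras over a valuation ring with finite generic fibre and nilpotent torsion
are quasi-finite.** -/
theorem quasiFinite_of_torsion_nilpotent
    (h : (PrimeSpectrum.comap (algebraMap R C) ⁻¹' {⟨⊥, Ideal.isPrime_bot⟩}).Finite)
    (hnil : ∀ (c : C) (r : R), r ≠ 0 → r • c = 0 → IsNilpotent c) :
    Algebra.QuasiFinite R C := by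
  refine ⟨fun P hP => ?_⟩
  have key : ∀ c : C, IsIntegral P.ResidueField ((1 : P.ResidueField) ⊗ₜ[R] c : P.Fiber C) := by
    intro c
    obtain ⟨q, i, N, hq, hi⟩ := exists_aeval_pow_eq_zero R C h hnil c
    apply IsAlgebraic.isIntegral
    refine ⟨(q ^ N).map (algebraMap R P.ResidueField), ?_, ?_⟩
    · rw [Polynomial.map_pow]
      apply pow_ne_zero
      intro h0
      have := congrArg (fun p => p.coeff i) h0
      simp [hi] at this
    · rw [Polynomial.aeval_map_algebraMap]
      have : ((1 : P.ResidueField) ⊗ₜ[R] c : P.Fiber C) =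
          (Algebra.TensorProduct.includeRight : C →ₐ[R] P.ResidueField ⊗[R] C) c := rfl
      rw [this, Polynomial.aeval_algHom_apply, hq, map_zero]
  have hint : Algebra.IsIntegral P.ResidueField (P.Fiber C) := by
    refine ⟨fun x => ?_⟩
    induction x using TensorProduct.induction_on with
    | zero => exact isIntegral_zero
    | tmul k a =>
      have : (k ⊗ₜ[R] a : P.Fiber C) = k • ((1 : P.ResidueField) ⊗ₜ[R] a) := by
        rw [TensorProduct.smul_tmul', smul_eq_mul, mul_one]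
      rw [this]
      exact (key a).smul k
    | add x y hx hy => exact hx.add hy
  exact Algebra.IsIntegral.finite

end TorsionNilpotent

section Divisible

variable {A B : Type*} [CommRing A] [CommRing B] [Algebra A B]

/-- An `f`-divisible ideal is `f ^ n`-divisible. -/
lemma exists_eq_pow_mul (f : A) (𝔪 : Ideal A) (hdiv : ∀ x ∈ 𝔪, ∃ y ∈ 𝔪, x = f * y) (n : ℕ) :
    ∀ x ∈ 𝔪, ∃ y ∈ 𝔪, x = f ^ n * y := by
  induction n with
  | zero => exact fun x hx => ⟨x, hx, by rw [pow_zero, one_mul]⟩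
  | succ n ih =>
    intro x hx
    obtain ⟨y, hy, rfl⟩ := ih x hx
    obtain ⟨z, hz, rfl⟩ := hdiv y hy
    exact ⟨z, hz, by ring⟩

/-- The extension of an `f`-divisible ideal is `f ^ n`-divisible. -/
lemma exists_eq_pow_mul_of_mem_map (f : A) (𝔪 : Ideal A)
    (hdiv : ∀ x ∈ 𝔪, ∃ y ∈ 𝔪, x = f * y) (n : ℕ) :
    ∀ z ∈ 𝔪.map (algebraMap A B), ∃ z' ∈ 𝔪.map (algebraMap A B),
      z = algebraMap A B f ^ n * z' := by
  intro z hz
  refine Submodule.span_induction (p := fun z _ => ∃ z' ∈ 𝔪.map (algebraMap A B),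
    z = algebraMap A B f ^ n * z') ?_ ?_ ?_ ?_ hz
  · rintro _ ⟨x, hx, rfl⟩
    obtain ⟨y, hy, rfl⟩ := exists_eq_pow_mul f 𝔪 hdiv n x hx
    exact ⟨algebraMap A B y, Ideal.mem_map_of_mem _ hy, by rw [map_mul, map_pow]⟩
  · exact ⟨0, Ideal.zero_mem _, by rw [mul_zero]⟩
  · rintro x y - - ⟨x', hx', rfl⟩ ⟨y', hy', rfl⟩
    exact ⟨x' + y', Ideal.add_mem _ hx' hy', by ring⟩
  · rintro r x - ⟨x', hx', rfl⟩
    exact ⟨r * x', Ideal.mul_mem_left _ _ hx', by rw [smul_eq_mul]; ring⟩

/-- **Generalisation into the fibre over an `f`-divisible ideal.**  If `f` is a nonzerodivisor on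
`B` and `𝔪` is an `f`-divisible ideal of `A`, then every prime of `B` containing `f` contains a
prime which contains `𝔪 B` and does not contain `f`. -/
lemma exists_prime_le (f : A) (𝔪 : Ideal A) (hdiv : ∀ x ∈ 𝔪, ∃ y ∈ 𝔪, x = f * y)
    (hf : algebraMap A B f ∈ nonZeroDivisors B) (P : Ideal B) [P.IsPrime]
    (hfP : algebraMap A B f ∈ P) :
    ∃ W : Ideal B, W.IsPrime ∧ 𝔪.map (algebraMap A B) ≤ W ∧ W ≤ P ∧ algebraMap A B f ∉ W := by
  let S : Submonoid B := Submonoid.powers (algebraMap A B f) ⊔ P.primeCompl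
  have hdisj : Disjoint ((𝔪.map (algebraMap A B) : Ideal B) : Set B) (S : Set B) := by
    rw [Set.disjoint_left]
    intro z hz hzS
    obtain ⟨a, ⟨n, rfl⟩, s, hs, rfl⟩ := Submonoid.mem_sup.mp hzS
    obtain ⟨z', -, hz'⟩ := exists_eq_pow_mul_of_mem_map (B := B) f 𝔪 hdiv (n + 1) _ hz
    have h1 : algebraMap A B f ^ n * (s - algebraMap A B f * z') = 0 := by
      rw [mul_sub, hz']
      ring
    have h2 : s - algebraMap A B f * z' = 0 :=
      (mem_nonZeroDivisors_iff.mp (pow_mem hf n)).1 _ h1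
    apply hs
    rw [sub_eq_zero.mp h2]
    exact Ideal.mul_mem_right _ _ hfP
  obtain ⟨W, hW, hle, hWS⟩ := Ideal.exists_le_prime_disjoint _ S hdisj
  refine ⟨W, hW, hle, fun w hw => ?_, fun hfW => ?_⟩
  · by_contra hwP
    exact Set.disjoint_left.mp hWS hw (Submonoid.mem_sup_right (show w ∈ P.primeCompl from hwP))
  · exact Set.disjoint_left.mp hWS hfW
      (Submonoid.mem_sup_left (Submonoid.mem_powers (algebraMap A B f)))

end Divisible

section Main

variable (A B : Type u) [CommRing A] [CommRing B] [Algebra A B] [Algebra.FiniteType A B]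
  (𝔪 : Ideal A) [h𝔪 : 𝔪.IsPrime] [ValuationRing (A ⧸ 𝔪)] (f : A)

open PrimeSpectrum in
/-- **Finiteness of fibres over the closed part of a semi-valuation ring.** -/
theorem finite_fibre_of_le (hdiv : ∀ x ∈ 𝔪, ∃ y ∈ 𝔪, x = f * y)
    (hle : ∀ W : Ideal A, W.IsPrime → f ∉ W → W ≤ 𝔪)
    (hf : algebraMap A B f ∈ nonZeroDivisors B)
    (hgen : (comap (algebraMap A B) ⁻¹' {⟨𝔪, h𝔪⟩}).Finite)
    (x : PrimeSpectrum A) (hx : 𝔪 ≤ x.asIdeal) :
    (comap (algebraMap A B) ⁻¹' {x}).Finite := by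
  let R' := A ⧸ 𝔪
  let C := B ⧸ 𝔪.map (algebraMap A B)
  let mkA : A →+* R' := Ideal.Quotient.mk 𝔪
  let mkB : B →+* C := Ideal.Quotient.mk (𝔪.map (algebraMap A B))
  have hmkA : Function.Surjective mkA := Ideal.Quotient.mk_surjective
  have hmkB : Function.Surjective mkB := Ideal.Quotient.mk_surjective
  have hcomm : (algebraMap R' C).comp mkA = mkB.comp (algebraMap A B) := by
    ext a
    rfl
  have hft : Algebra.FiniteType R' C := by
    have h1 : Algebra.FiniteType A C :=
      Algebra.FiniteType.of_surjective (Ideal.Quotient.mkₐ A (𝔪.map (algebraMap A B)))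
        (Ideal.Quotient.mkₐ_surjective A _)
    exact Algebra.FiniteType.of_restrictScalars_finiteType A R' C
  -- functoriality on spectra
  have hfun : ∀ Pbar : PrimeSpectrum C,
      comap mkA (comap (algebraMap R' C) Pbar) = comap (algebraMap A B) (comap mkB Pbar) := by
    intro Pbar
    rw [← comap_comp_apply, ← comap_comp_apply, hcomm]
  have hinjA := comap_injective_of_surjective mkA hmkA
  have hinjB := comap_injective_of_surjective mkB hmkB
  have hbot : comap mkA ⟨⊥, Ideal.isPrime_bot⟩ = ⟨𝔪, h𝔪⟩ := by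
    apply PrimeSpectrum.ext
    change Ideal.comap mkA ⊥ = 𝔪
    rw [← RingHom.ker_eq_comap_bot]
    exact Ideal.mk_ker
  -- generic fibre of `C`
  have hgenC : (comap (algebraMap R' C) ⁻¹' {⟨⊥, Ideal.isPrime_bot⟩}).Finite := by
    refine (hgen.preimage hinjB.injOn).subset ?_
    intro Pbar hP
    rw [Set.mem_preimage, Set.mem_singleton_iff] at hP
    rw [Set.mem_preimage, Set.mem_preimage, Set.mem_singleton_iff, ← hfun, hP, hbot]
  -- torsion is nilpotent
  have hnil : ∀ (c : C) (r : R'), r ≠ 0 → r • c = 0 → IsNilpotent c := by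
    intro c r hr hrc
    rw [← mem_nilradical, nilradical_eq_sInf, Ideal.mem_sInf]
    intro Pbar hPbar
    have hPbar : Pbar.IsPrime := hPbar
    obtain ⟨b, rfl⟩ := hmkB c
    obtain ⟨a, rfl⟩ := hmkA r
    have ha : a ∉ 𝔪 := fun h => hr (Ideal.Quotient.eq_zero_iff_mem.mpr h)
    have hab : algebraMap A B a * b ∈ 𝔪.map (algebraMap A B) := by
      rw [← Ideal.Quotient.eq_zero_iff_mem]
      rw [Algebra.smul_def] at hrc
      exact hrc
    let P : Ideal B := Pbar.comap mkB
    have hP : P.IsPrime := Ideal.comap_isPrime mkB Pbar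
    have hmP : 𝔪.map (algebraMap A B) ≤ P := by
      intro z hz
      change mkB z ∈ Pbar
      rw [show mkB z = 0 from Ideal.Quotient.eq_zero_iff_mem.mpr hz]
      exact Pbar.zero_mem
    -- a prime `W ≤ P` containing `𝔪 B` and lying over `𝔪`
    obtain ⟨W, hW, hmW, hWP, hWA⟩ : ∃ W : Ideal B, W.IsPrime ∧ 𝔪.map (algebraMap A B) ≤ W ∧
        W ≤ P ∧ W.comap (algebraMap A B) ≤ 𝔪 := by
      by_cases hfP : algebraMap A B f ∈ P
      · obtain ⟨W, hW, hmW, hWP, hfW⟩ := exists_prime_le f 𝔪 hdiv hf P hfP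
        exact ⟨W, hW, hmW, hWP, hle _ (Ideal.comap_isPrime _ W) hfW⟩
      · exact ⟨P, hP, hmP, le_rfl, hle _ (Ideal.comap_isPrime _ P) hfP⟩
    have hbW : b ∈ W := by
      rcases hW.mem_or_mem (hmW hab) with h | h
      · exact absurd (hWA h) ha
      · exact h
    exact hWP hbW
  have hqf : Algebra.QuasiFinite R' C := quasiFinite_of_torsion_nilpotent R' C hgenC hnil
  -- the point of `Spec R'` below `x`
  obtain ⟨xbar, hxbar⟩ : x ∈ Set.range (comap mkA) := by
    rw [range_comap_of_surjective _ _ hmkA, mem_zeroLocus, Ideal.mk_ker]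
    exact hx
  have hfinC := Algebra.QuasiFinite.finite_comap_preimage_singleton (R := R') (S := C) xbar
  refine (hfinC.image (comap mkB)).subset ?_
  intro P hP
  rw [Set.mem_preimage, Set.mem_singleton_iff] at hP
  have hmP : 𝔪.map (algebraMap A B) ≤ P.asIdeal := by
    rw [Ideal.map_le_iff_le_comap]
    have : (comap (algebraMap A B) P).asIdeal = x.asIdeal := by rw [hP]
    rw [comap_asIdeal] at this
    rw [this]
    exact hx
  obtain ⟨Pbar, rfl⟩ : P ∈ Set.range (comap mkB) := by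
    rw [range_comap_of_surjective _ _ hmkB, mem_zeroLocus, Ideal.mk_ker]
    exact hmP
  refine ⟨Pbar, ?_, rfl⟩
  rw [Set.mem_preimage, Set.mem_singleton_iff]
  apply hinjA
  rw [hfun, hP, hxbar]

end Main

end Groth.Agent.H20.SemiValAlg
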