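import Mathlib

/-!
# The semi-valuation ring `R ×_κ O`
-/

set_option autoImplicit false
universe u

namespace Groth.Agent.H20.SemiValRing

variable {O : Type u} [CommRing O] [IsLocalRing O]
  (R : ValuationSubring (IsLocalRing.ResidueField O))

/-- The prime ideal `𝔪_O` of the semi-valuation ring `A = R ×_κ O`. -/
def maxO : Ideal ↥((R.toSubring).comap (IsLocalRing.residue O)) :=
  Ideal.comap (Subring.subtype _) (IsLocalRing.maximalIdeal O)

instance : (maxO R).IsPrime := Ideal.comap_isPrime _ _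

lemma mem_maxO (a : ↥((R.toSubring).comap (IsLocalRing.residue O))) :
    a ∈ maxO R ↔ IsLocalRing.residue O a.1 = 0 := by
  change a.1 ∈ IsLocalRing.maximalIdeal O ↔ _
  rw [IsLocalRing.residue_eq_zero_iff]

/-- Elements of `O` with residue in `R` lie in `A`. -/
lemma mem_of_residue_mem (c : O) (hc : IsLocalRing.residue O c ∈ R) :
    c ∈ (R.toSubring).comap (IsLocalRing.residue O) := hc

/-- `A ⧸ 𝔪_O` is a valuation ring. -/
instance : ValuationRing (↥((R.toSubring).comap (IsLocalRing.residue O)) ⧸ maxO R) := by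
  rw [ValuationRing.iff_dvd_total]
  refine ⟨fun x y => ?_⟩
  obtain ⟨a, rfl⟩ := Ideal.Quotient.mk_surjective x
  obtain ⟨b, rfl⟩ := Ideal.Quotient.mk_surjective y
  by_cases hb : b ∈ maxO R
  · left
    rw [Ideal.Quotient.eq_zero_iff_mem.mpr hb]
    exact dvd_zero (Ideal.Quotient.mk (maxO R) a)
  by_cases ha : a ∈ maxO R
  · right
    rw [Ideal.Quotient.eq_zero_iff_mem.mpr ha]
    exact dvd_zero (Ideal.Quotient.mk (maxO R) b)
  rw [mem_maxO] at ha hb
  -- the quotient of residues
  have key : ∀ (a b : ↥((R.toSubring).comap (IsLocalRing.residue O))),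
      IsLocalRing.residue O b.1 ≠ 0 →
      IsLocalRing.residue O a.1 / IsLocalRing.residue O b.1 ∈ R →
      Ideal.Quotient.mk (maxO R) b ∣ Ideal.Quotient.mk (maxO R) a := by
    intro a b hb hx
    obtain ⟨c, hc⟩ := IsLocalRing.residue_surjective
      (IsLocalRing.residue O a.1 / IsLocalRing.residue O b.1)
    have hcA : c ∈ (R.toSubring).comap (IsLocalRing.residue O) := by
      change IsLocalRing.residue O c ∈ R
      rw [hc]; exact hx
    refine ⟨Ideal.Quotient.mk (maxO R) ⟨c, hcA⟩, ?_⟩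
    rw [← map_mul, Ideal.Quotient.eq, mem_maxO]
    change IsLocalRing.residue O (a.1 - b.1 * c) = 0
    rw [map_sub, map_mul, hc, mul_div_cancel₀ _ hb, sub_self]
  rcases R.mem_or_inv_mem (IsLocalRing.residue O a.1 / IsLocalRing.residue O b.1) with h | h
  · right
    exact key a b hb h
  · left
    rw [inv_div] at h
    exact key b a ha h

variable (f : ↥((R.toSubring).comap (IsLocalRing.residue O))) [IsLocalization.Away f O]

include f in
lemma isUnit_f : IsUnit (f.1 : O) :=
  IsLocalization.Away.algebraMap_isUnit (S := O) f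

/-- `f ∉ 𝔪_O`. -/
lemma f_notMem : f ∉ maxO R := by
  intro h
  have h1 : f.1 ∈ IsLocalRing.maximalIdeal O := h
  exact (IsLocalRing.mem_maximalIdeal _).mp h1 (isUnit_f R f)

/-- `𝔪_O` is `f`-divisible. -/
lemma maxO_divisible : ∀ x ∈ maxO R, ∃ y ∈ maxO R, x = f * y := by
  intro x hx
  obtain ⟨u, hu⟩ := isUnit_f R f
  have hx1 : x.1 ∈ IsLocalRing.maximalIdeal O := hx
  have hy0 : x.1 * (↑u⁻¹ : O) ∈ IsLocalRing.maximalIdeal O := Ideal.mul_mem_right _ _ hx1
  have hyA : x.1 * (↑u⁻¹ : O) ∈ (R.toSubring).comap (IsLocalRing.residue O) := by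
    change IsLocalRing.residue O _ ∈ R
    rw [(IsLocalRing.residue_eq_zero_iff _).mpr hy0]
    exact R.zero_mem
  refine ⟨⟨_, hyA⟩, hy0, ?_⟩
  apply Subtype.ext
  change x.1 = f.1 * (x.1 * ↑u⁻¹)
  rw [← hu]
  rw [mul_comm x.1, ← mul_assoc, Units.mul_inv, one_mul]

/-- Primes of `A` not containing `f` are contained in `𝔪_O`. -/
lemma le_maxO_of_notMem (W : Ideal ↥((R.toSubring).comap (IsLocalRing.residue O)))
    (hW : W.IsPrime) (hfW : f ∉ W) : W ≤ maxO R := by
  intro w hw
  by_contra hwm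
  have hwu : IsUnit (w.1 : O) := by
    by_contra h
    exact hwm ((IsLocalRing.mem_maximalIdeal _).mpr h)
  obtain ⟨v, hv⟩ := hwu
  obtain ⟨⟨a, s⟩, has⟩ := IsLocalization.surj (Submonoid.powers f) (↑v⁻¹ : O)
  obtain ⟨n, hn⟩ := s.2
  have h1 : (f ^ n) = w * a := by
    apply Subtype.ext
    have h2 : (↑v⁻¹ : O) * (f.1 ^ n) = a.1 := by
      have := has
      rw [← hn] at this
      exact this
    change f.1 ^ n = w.1 * a.1
    rw [← h2, ← hv, ← mul_assoc, Units.mul_inv, one_mul]
  have h3 : f ^ n ∈ W := by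
    rw [h1]
    exact Ideal.mul_mem_right _ _ hw
  exact hfW (hW.mem_of_pow_mem n h3)

end Groth.Agent.H20.SemiValRing
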