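import Mathlib
import Groth.Prelude.Def_W4c6modpairsegaMP
import Groth.Agent.H20.SemiValAlg
import Groth.Agent.H20.SemiValRing
import Groth.Agent.H20.ModPairLimit
import Groth.Agent.H19.ComapAff

/-!
# Proper minimal morphisms to a semi-valuation ring that are finite over the interior are finite
-/

set_option autoImplicit false
universe u

open CategoryTheory CategoryTheory.Limits AlgebraicGeometry

namespace Groth.Agent.H20.SemiValFinite

section Principal

variable {A : Type u} [CommRing A] (f : A)

/-- The ideal sheaf of `V(f) ⊆ Spec A`. -/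
noncomputable abbrev idealOf : (Spec (CommRingCat.of A)).IdealSheafData :=
  (Spec.map (CommRingCat.ofHom (Ideal.Quotient.mk (Ideal.span {f})))).ker

lemma idealOf_ideal_top :
    (idealOf f).ideal ⟨⊤, isAffineOpen_top _⟩ =
      Ideal.span {(Scheme.ΓSpecIso (CommRingCat.of A)).inv f} := by
  rw [Scheme.Hom.ker_apply]
  set φ : CommRingCat.of A ⟶ CommRingCat.of (A ⧸ Ideal.span {f}) :=
    CommRingCat.ofHom (Ideal.Quotient.mk (Ideal.span {f})) with hφ
  have hnat := Scheme.ΓSpecIso_naturality φ
  ext z
  have h1 : (Spec.map φ).appTop z = 0 ↔ φ ((Scheme.ΓSpecIso (CommRingCat.of A)).hom z) = 0 := by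
    have h2 := congrArg (fun g => g.hom z) hnat
    simp only [CommRingCat.hom_comp, RingHom.coe_comp, Function.comp_apply] at h2
    rw [← h2]
    constructor
    · intro h; rw [h, map_zero]
    · intro h
      have hinj : Function.Injective
          (Scheme.ΓSpecIso (CommRingCat.of (A ⧸ Ideal.span {f}))).hom :=
        (ConcreteCategory.bijective_of_isIso _).injective
      exact hinj (h.trans (map_zero _).symm)
  change (Spec.map φ).appTop z = 0 ↔ _
  rw [h1]
  change Ideal.Quotient.mk (Ideal.span {f}) _ = 0 ↔ _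
  rw [Ideal.Quotient.eq_zero_iff_mem, Ideal.mem_span_singleton', Ideal.mem_span_singleton']
  constructor
  · rintro ⟨a, ha⟩
    refine ⟨(Scheme.ΓSpecIso (CommRingCat.of A)).inv a, ?_⟩
    rw [← map_mul, ha]
    exact Iso.hom_inv_id_apply (Scheme.ΓSpecIso (CommRingCat.of A)) z
  · rintro ⟨a, ha⟩
    refine ⟨(Scheme.ΓSpecIso (CommRingCat.of A)).hom a, ?_⟩
    rw [← ha, map_mul]
    congr 1
    exact (Iso.inv_hom_id_apply (Scheme.ΓSpecIso (CommRingCat.of A)) f).symm

lemma mem_interior_idealOf (x : ↥(Spec (CommRingCat.of A))) :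
    x ∈ ModPair.interior (idealOf f) ↔ f ∉ x.asIdeal := by
  have h := Groth.Agent.H20.EffCartierInterior.interior_inf_eq_basicOpen (idealOf f)
    ⟨⊤, isAffineOpen_top _⟩ _ (idealOf_ideal_top f)
  rw [inf_top_eq] at h
  rw [h, basicOpen_eq_of_affine]
  rfl

end Principal

section Main

open Groth.Agent.H20.SemiValRing Groth.Agent.H20.SemiValAlg

variable {O : Type u} [CommRing O] [IsLocalRing O]
  (R : ValuationSubring (IsLocalRing.ResidueField O))
  (f : ↥((R.toSubring).comap (IsLocalRing.residue O))) [IsLocalization.Away f O]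

/-- The affine chart case. -/
lemma locallyQuasiFinite_Spec_map {B : CommRingCat.{u}}
    (ψ : CommRingCat.of ↥((R.toSubring).comap (IsLocalRing.residue O)) ⟶ B)
    (hft : LocallyOfFiniteType (Spec.map ψ))
    (heff : BlowUp.IsEffCartierIdeal ((idealOf f).comap (Spec.map ψ)))
    (hfib : ∀ x : PrimeSpectrum ↥((R.toSubring).comap (IsLocalRing.residue O)),
      f ∉ x.asIdeal → ((Spec.map ψ) ⁻¹' {x}).Finite) :
    LocallyQuasiFinite (Spec.map ψ) := by
  have h1 : ((idealOf f).comap (Spec.map ψ)).ideal ⟨⊤, isAffineOpen_top _⟩ =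
      Ideal.span {(Scheme.ΓSpecIso B).inv (ψ f)} := by
    rw [Groth.Agent.H19.ComapAff.ideal_comap_top, idealOf_ideal_top, Ideal.map_span,
      Set.image_singleton]
    congr 2
    exact (congr($(Scheme.ΓSpecIso_inv_naturality ψ) f)).symm
  have h2 := Groth.Agent.H20.ModPairLimit.mem_nonZeroDivisors_of_isEffCartier _ heff
    ⟨⊤, isAffineOpen_top _⟩ _ h1
  rw [HasRingHomProperty.Spec_iff (P := @LocallyQuasiFinite)]
  rw [HasRingHomProperty.Spec_iff (P := @LocallyOfFiniteType)] at hft
  algebraize [ψ.hom]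
  have hnzd : algebraMap ↥((R.toSubring).comap (IsLocalRing.residue O)) B f ∈
      nonZeroDivisors B := by
    refine mem_nonZeroDivisors_iff_right.mpr ?_
    intro z hz
    have h3 : (Scheme.ΓSpecIso B).inv z * (Scheme.ΓSpecIso B).inv (ψ f) = 0 := by
      rw [← map_mul]
      change (Scheme.ΓSpecIso B).inv (z * ψ.hom f) = 0
      rw [show z * ψ.hom f = 0 from hz, map_zero]
    have h4 := mem_nonZeroDivisors_iff_right.mp h2 _ h3
    have hinj : Function.Injective (Scheme.ΓSpecIso B).inv :=
      (ConcreteCategory.bijective_of_isIso _).injective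
    exact hinj (h4.trans (map_zero _).symm)
  refine Algebra.QuasiFinite.iff_finite_comap_preimage_singleton.mpr (fun x => ?_)
  by_cases hx : f ∈ x.asIdeal
  · have hm : maxO R ≤ x.asIdeal := by
      intro z hz
      obtain ⟨y, -, rfl⟩ := maxO_divisible R f z hz
      exact Ideal.mul_mem_right _ _ hx
    exact finite_fibre_of_le _ B (maxO R) f (maxO_divisible R f) (le_maxO_of_notMem R f) hnzd
      (hfib ⟨maxO R, inferInstance⟩ (f_notMem R f)) x hm
  · exact hfib x hx

set_option backward.isDefEq.respectTransparency.types false in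
/-- **Finiteness over a semi-valuation ring.** -/
theorem isFinite {Q : Scheme.{u}} (IQ : Q.IdealSheafData) (hQ : BlowUp.IsEffCartierIdeal IQ)
    (q : Q ⟶ Spec (CommRingCat.of ↥((R.toSubring).comap (IsLocalRing.residue O))))
    (hq : ModPair.IsMinimal IQ (idealOf f) q) [IsProper q]
    (hfin : IsFinite (q ∣_ ModPair.interior (idealOf f))) : IsFinite q := by
  suffices LocallyQuasiFinite q from IsFinite.of_isProper_of_locallyQuasiFinite q
  have hint : ∀ x : PrimeSpectrum ↥((R.toSubring).comap (IsLocalRing.residue O)),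
      f ∉ x.asIdeal → (q ⁻¹' {x}).Finite := by
    intro x hx
    have hxU : x ∈ ModPair.interior (idealOf f) := (mem_interior_idealOf f x).mpr hx
    have h1 := (q ∣_ ModPair.interior (idealOf f)).finite_preimage_singleton ⟨x, hxU⟩
    refine (h1.image (q ⁻¹ᵁ ModPair.interior (idealOf f)).ι).subset ?_
    intro z hz
    have hz' : q z = x := hz
    have hzU : z ∈ q ⁻¹ᵁ ModPair.interior (idealOf f) := by
      change q z ∈ ModPair.interior (idealOf f)
      rw [hz']; exact hxU
    refine ⟨⟨z, hzU⟩, ?_, rfl⟩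
    apply Subtype.ext
    have h2 := congr($(morphismRestrict_ι q (ModPair.interior (idealOf f))) ⟨z, hzU⟩)
    exact h2.trans hz'
  rw [IsZariskiLocalAtSource.iff_of_openCover (P := @LocallyQuasiFinite) Q.affineCover]
  intro i
  have hinj : Function.Injective (Q.affineCover.f i) :=
    (Q.affineCover.f i).isOpenEmbedding.injective
  have hfib : ∀ x : PrimeSpectrum ↥((R.toSubring).comap (IsLocalRing.residue O)),
      f ∉ x.asIdeal → ((Q.affineCover.f i ≫ q) ⁻¹' {x}).Finite := by
    intro x hx
    have : (Q.affineCover.f i ≫ q) ⁻¹' {x} = (Q.affineCover.f i) ⁻¹' (q ⁻¹' {x}) := by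
      ext z
      simp
    rw [this]
    exact (hint x hx).preimage hinj.injOn
  have hft : LocallyOfFiniteType (Q.affineCover.f i ≫ q) := inferInstance
  have heff : BlowUp.IsEffCartierIdeal ((idealOf f).comap (Q.affineCover.f i ≫ q)) := by
    rw [Scheme.IdealSheafData.comap_comp, ← (hq : IQ = _)]
    exact Groth.Agent.H20.ModPairLimit.isEffCartier_comap_of_isOpenImmersion IQ hQ _
  generalize Q.affineCover.f i ≫ q = h at hfib hft heff ⊢
  obtain ⟨ψ, rfl⟩ := Spec.map_surjective h
  exact locallyQuasiFinite_Spec_map R f ψ hft heff hfib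

end Main

end Groth.Agent.H20.SemiValFinite
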