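import Groth.Agent.H20.ComplMap
import Groth.Agent.H20.AdicUnit
import Mathlib.RingTheory.LocalRing.RingHom.Basic
import Mathlib.RingTheory.Localization.AtPrime.Basic

set_option autoImplicit false
universe u

namespace Groth.Agent.H20

section

variable (A : Type u) [CommRing A] (J : Ideal A) (𝔭 : Ideal A) [𝔭.IsPrime]

/-- `A_f → A_g` when `f ∣ g`. -/
noncomputable def awayToAway (f g : A) (hfg : f ∣ g) : Localization.Away f →+* Localization.Away g :=
  IsLocalization.Away.lift f (g := algebraMap A (Localization.Away g))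
    (isUnit_of_dvd_unit (map_dvd (algebraMap A (Localization.Away g)) hfg)
      (IsLocalization.Away.algebraMap_isUnit g))

lemma awayToAway_comp_algebraMap (f g : A) (hfg : f ∣ g) :
    (awayToAway A f g hfg).comp (algebraMap A (Localization.Away f)) =
      algebraMap A (Localization.Away g) :=
  IsLocalization.Away.lift_comp _ _

lemma awayToAtPrime_comp_algebraMap (f : A) (hf : f ∉ 𝔭) :
    (FSch.awayToAtPrime A 𝔭 f hf).comp (algebraMap A (Localization.Away f)) =
      algebraMap A (Localization.AtPrime 𝔭) :=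
  IsLocalization.Away.lift_comp _ _

lemma awayToAtPrime_comp_awayToAway (f g : A) (hfg : f ∣ g) (hf : f ∉ 𝔭) (hg : g ∉ 𝔭) :
    (FSch.awayToAtPrime A 𝔭 g hg).comp (awayToAway A f g hfg) = FSch.awayToAtPrime A 𝔭 f hf := by
  apply IsLocalization.ringHom_ext (Submonoid.powers f)
  rw [RingHom.comp_assoc, awayToAway_comp_algebraMap, awayToAtPrime_comp_algebraMap,
    awayToAtPrime_comp_algebraMap]

lemma map_awayToAway_le (f g : A) (hfg : f ∣ g) :
    (J.map (algebraMap A (Localization.Away f))).map (awayToAway A f g hfg) ≤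
      J.map (algebraMap A (Localization.Away g)) := by
  rw [Ideal.map_map, awayToAway_comp_algebraMap]

/-- The transition map `A_{f} → A_{g}` of completed localizations. -/
noncomputable def cAwayToAway (f g : A) (hfg : f ∣ g) : FSch.cAway A J f →+* FSch.cAway A J g :=
  FSch.complMap _ _ (awayToAway A f g hfg) (map_awayToAway_le A J f g hfg)

lemma cAwayToAtPrime_cAwayToAway (f g : A) (hfg : f ∣ g) (hf : f ∉ 𝔭) (hg : g ∉ 𝔭)
    (t : FSch.cAway A J f) :
    FSch.cAwayToAtPrime A J 𝔭 g hg (cAwayToAway A J f g hfg t) =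
      FSch.cAwayToAtPrime A J 𝔭 f hf t := by
  unfold FSch.cAwayToAtPrime cAwayToAway
  exact complMap_comp_eq _ _ _ _ _ _ (awayToAtPrime_comp_awayToAway A 𝔭 f g hfg hf hg) _ _ _ t

lemma range_le_range (f g : A) (hfg : f ∣ g) (hf : f ∉ 𝔭) (hg : g ∉ 𝔭) :
    (FSch.cAwayToAtPrime A J 𝔭 f hf).range ≤ (FSch.cAwayToAtPrime A J 𝔭 g hg).range := by
  rintro _ ⟨t, rfl⟩
  exact ⟨cAwayToAway A J f g hfg t, cAwayToAtPrime_cAwayToAway A J 𝔭 f g hfg hf hg t⟩

lemma range_le_stalkSubring (f : A) (hf : f ∉ 𝔭) :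
    (FSch.cAwayToAtPrime A J 𝔭 f hf).range ≤ FSch.stalkSubring A J 𝔭 :=
  le_iSup (fun f : {f : A // f ∉ 𝔭} => (FSch.cAwayToAtPrime A J 𝔭 f.1 f.2).range) ⟨f, hf⟩

lemma mem_stalkSubring_iff (x : FSch.cAtPrime A J 𝔭) :
    x ∈ FSch.stalkSubring A J 𝔭 ↔
      ∃ (f : A) (hf : f ∉ 𝔭) (t : FSch.cAway A J f), FSch.cAwayToAtPrime A J 𝔭 f hf t = x := by
  have hne : Nonempty {f : A // f ∉ 𝔭} := ⟨⟨1, Ideal.IsPrime.one_notMem inferInstance⟩⟩
  have hdir : Directed (· ≤ ·)
      (fun f : {f : A // f ∉ 𝔭} => (FSch.cAwayToAtPrime A J 𝔭 f.1 f.2).range) := by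
    intro f g
    have hfg : f.1 * g.1 ∉ 𝔭 := fun h =>
      (Ideal.IsPrime.mem_or_mem inferInstance h).elim f.2 g.2
    exact ⟨⟨f.1 * g.1, hfg⟩, range_le_range A J 𝔭 f.1 _ (Dvd.intro _ rfl) f.2 hfg,
      range_le_range A J 𝔭 g.1 _ (Dvd.intro_left _ rfl) g.2 hfg⟩
  unfold FSch.stalkSubring
  rw [Subring.mem_iSup_of_directed hdir]
  constructor
  · rintro ⟨f, t, ht⟩
    exact ⟨f.1, f.2, t, ht⟩
  · rintro ⟨f, hf, t, ht⟩
    exact ⟨⟨f, hf⟩, t, ht⟩

end

section Residue

variable (A : Type u) [CommRing A] (J : Ideal A) (𝔭 : Ideal A) [𝔭.IsPrime]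

lemma map_le_maximalIdeal (hJ : J ≤ 𝔭) :
    J.map (algebraMap A (Localization.AtPrime 𝔭)) ≤
      IsLocalRing.maximalIdeal (Localization.AtPrime 𝔭) := by
  rw [← IsLocalization.AtPrime.map_eq_maximalIdeal 𝔭 (Localization.AtPrime 𝔭)]
  exact Ideal.map_mono hJ

/-- The residue map `A{S⁻¹} → κ(𝔭)`. -/
noncomputable def cResidue (hJ : J ≤ 𝔭) :
    FSch.cAtPrime A J 𝔭 →+* IsLocalRing.ResidueField (Localization.AtPrime 𝔭) :=
  (Ideal.Quotient.lift ((J.map (algebraMap A (Localization.AtPrime 𝔭))) ^ 1)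
    (IsLocalRing.residue (Localization.AtPrime 𝔭)) (by
      intro a ha
      rw [pow_one] at ha
      exact (IsLocalRing.residue_eq_zero_iff a).mpr (map_le_maximalIdeal A J 𝔭 hJ ha))).comp
    (AdicCompletion.evalₐ (J.map (algebraMap A (Localization.AtPrime 𝔭))) 1).toRingHom

lemma cResidue_cAwayToAtPrime (hJ : J ≤ 𝔭) (f : A) (hf : f ∉ 𝔭) (t : FSch.cAway A J f)
    (b : Localization.Away f)
    (hb : AdicCompletion.evalₐ (J.map (algebraMap A (Localization.Away f))) 1 t =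
      Ideal.Quotient.mk _ b) :
    cResidue A J 𝔭 hJ (FSch.cAwayToAtPrime A J 𝔭 f hf t) =
      IsLocalRing.residue _ (FSch.awayToAtPrime A 𝔭 f hf b) := by
  unfold cResidue FSch.cAwayToAtPrime
  simp only [RingHom.comp_apply, AlgHom.toRingHom_eq_coe, RingHom.coe_coe]
  rw [evalₐ_complMap, hb, Ideal.quotientMap_mk, Ideal.Quotient.lift_mk]

/-- Key step: an element of the stalk ring with non-zero residue has an inverse in the stalk ring. -/
lemma exists_inv_of_cResidue_ne_zero (hJ : J ≤ 𝔭) (s : FSch.cAtPrime A J 𝔭)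
    (hs : s ∈ FSch.stalkSubring A J 𝔭) (hρ : cResidue A J 𝔭 hJ s ≠ 0) :
    ∃ s' ∈ FSch.stalkSubring A J 𝔭, s * s' = 1 := by
  obtain ⟨f, hf, t, rfl⟩ := (mem_stalkSubring_iff A J 𝔭 s).mp hs
  obtain ⟨b, hb⟩ := Ideal.Quotient.mk_surjective
    (AdicCompletion.evalₐ (J.map (algebraMap A (Localization.Away f))) 1 t)
  rw [cResidue_cAwayToAtPrime A J 𝔭 hJ f hf t b hb.symm, ne_eq,
    IsLocalRing.residue_eq_zero_iff, IsLocalRing.notMem_maximalIdeal] at hρ
  -- write `b = a / f^k`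
  obtain ⟨⟨a, ⟨_, k, rfl⟩⟩, hab⟩ := IsLocalization.surj (Submonoid.powers f) b
  simp only at hab
  -- `a ∉ 𝔭`
  have ha : a ∉ 𝔭 := by
    have h1 := congrArg (FSch.awayToAtPrime A 𝔭 f hf) hab
    rw [map_mul] at h1
    have h2 : FSch.awayToAtPrime A 𝔭 f hf (algebraMap A _ (f ^ k)) =
        algebraMap A (Localization.AtPrime 𝔭) (f ^ k) :=
      RingHom.congr_fun (awayToAtPrime_comp_algebraMap A 𝔭 f hf) (f ^ k)
    have h3 : FSch.awayToAtPrime A 𝔭 f hf (algebraMap A _ a) =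
        algebraMap A (Localization.AtPrime 𝔭) a :=
      RingHom.congr_fun (awayToAtPrime_comp_algebraMap A 𝔭 f hf) a
    rw [h2, h3] at h1
    have hfk : f ^ k ∉ 𝔭 := fun h => hf (Ideal.IsPrime.mem_of_pow_mem inferInstance k h)
    have hu : IsUnit (algebraMap A (Localization.AtPrime 𝔭) a) := by
      rw [← h1]
      exact hρ.mul ((IsLocalization.AtPrime.isUnit_to_map_iff _ 𝔭 _).mpr hfk)
    exact (IsLocalization.AtPrime.isUnit_to_map_iff _ 𝔭 _).mp hu
  have hg : f * a ∉ 𝔭 := fun h => (Ideal.IsPrime.mem_or_mem inferInstance h).elim hf ha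
  have hfg : f ∣ f * a := Dvd.intro _ rfl
  -- the image of `t` in `A_{fa}` is a unit
  set t' := cAwayToAway A J f (f * a) hfg t with ht'
  have hunit : IsUnit t' := by
    apply isUnit_of_isUnit_evalₐ_one
    rw [ht', cAwayToAway, evalₐ_complMap, ← hb, Ideal.quotientMap_mk]
    apply IsUnit.map
    have h1 := congrArg (awayToAway A f (f * a) hfg) hab
    rw [map_mul] at h1
    have h2 : awayToAway A f (f * a) hfg (algebraMap A _ (f ^ k)) =
        algebraMap A (Localization.Away (f * a)) (f ^ k) :=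
      RingHom.congr_fun (awayToAway_comp_algebraMap A f (f * a) hfg) (f ^ k)
    have h3 : awayToAway A f (f * a) hfg (algebraMap A _ a) =
        algebraMap A (Localization.Away (f * a)) a :=
      RingHom.congr_fun (awayToAway_comp_algebraMap A f (f * a) hfg) a
    rw [h2, h3] at h1
    have hua : IsUnit (algebraMap A (Localization.Away (f * a)) a) :=
      isUnit_of_dvd_unit (map_dvd _ (Dvd.intro_left _ rfl))
        (IsLocalization.Away.algebraMap_isUnit (f * a))
    have huf : IsUnit (algebraMap A (Localization.Away (f * a)) (f ^ k)) := by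
      rw [map_pow]
      exact (isUnit_of_dvd_unit (map_dvd _ hfg)
        (IsLocalization.Away.algebraMap_isUnit (f * a))).pow k
    rw [← h1] at hua
    exact (IsUnit.mul_iff.mp hua).1
  obtain ⟨u, hu⟩ := hunit
  refine ⟨FSch.cAwayToAtPrime A J 𝔭 (f * a) hg ↑u⁻¹,
    range_le_stalkSubring A J 𝔭 (f * a) hg ⟨_, rfl⟩, ?_⟩
  rw [← cAwayToAtPrime_cAwayToAway A J 𝔭 f (f * a) hfg hf hg t, ← ht', ← hu, ← map_mul,
    Units.mul_inv, map_one]

end Residue

end Groth.Agent.H20
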