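import Groth.Agent.H20.StalkSubring
import Groth.Agent.H20.ComplFlat
import Groth.Agent.S3869
import Mathlib.RingTheory.Flat.EquationalCriterion
import Mathlib.RingTheory.Flat.FaithfullyFlat.Basic
import Mathlib.RingTheory.Flat.FaithfullyFlat.Algebra

set_option autoImplicit false
universe u

namespace Groth.Agent.H20

section

variable (A : Type u) [CommRing A] [IsNoetherianRing A] (J : Ideal A) (𝔭 : Ideal A) [𝔭.IsPrime]

/-- `A_{f} → A{S⁻¹}` is flat. -/
theorem flat_cAwayToAtPrime (f : A) (hf : f ∉ 𝔭) : (FSch.cAwayToAtPrime A J 𝔭 f hf).Flat := by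
  unfold FSch.cAwayToAtPrime
  have hS : Submonoid.powers f ≤ 𝔭.primeCompl := by
    rw [Submonoid.powers_le]
    exact hf
  exact flat_complMap_localization_of_le A J (Submonoid.powers f) 𝔭.primeCompl hS
    (FSch.awayToAtPrime A 𝔭 f hf) (awayToAtPrime_comp_algebraMap A 𝔭 f hf) _

end

section General

/-- A ring `M` is flat over a subring `R'` as soon as every finite family of elements of `R'`
lifts along a flat ring map `B → M` with image contained in `R'`. -/
theorem flat_subring_of_forall_exists_flat {M : Type u} [CommRing M] (R' : Subring M)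
    (H : ∀ (l : ℕ) (r : Fin l → R'), ∃ (B : Type u) (_ : CommRing B) (φ : B →+* M),
      φ.Flat ∧ φ.range ≤ R' ∧ ∃ b : Fin l → B, ∀ i, φ (b i) = (r i : M)) :
    Module.Flat R' M := by
  rw [Module.Flat.iff_forall_isTrivialRelation]
  intro l f x hfx
  obtain ⟨B, _, φ, hφ, hrange, b, hb⟩ := H l f
  letI := φ.toAlgebra
  have hflat : Module.Flat B M := hφ
  have hsum : ∑ i, b i • x i = 0 := by
    rw [← hfx]
    refine Finset.sum_congr rfl (fun i _ => ?_)
    rw [Algebra.smul_def, Subring.smul_def, smul_eq_mul]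
    congr 1
    exact hb i
  obtain ⟨k, a, y, hxy, hba⟩ := Module.Flat.isTrivialRelation_of_sum_smul_eq_zero hsum
  refine ⟨k, fun i j => ⟨φ (a i j), hrange ⟨a i j, rfl⟩⟩, y, ?_, ?_⟩
  · intro i
    rw [hxy i]
    refine Finset.sum_congr rfl (fun j _ => ?_)
    rw [Algebra.smul_def, Subring.smul_def, smul_eq_mul]
    rfl
  · intro j
    apply Subtype.ext
    rw [Subring.coe_zero, AddSubmonoidClass.coe_finsetSum]
    have h1 := congrArg φ (hba j)
    rw [map_zero, map_sum] at h1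
    rw [← h1]
    refine Finset.sum_congr rfl (fun i _ => ?_)
    rw [map_mul, Subring.coe_mul, hb i]

end General

section Stalk

variable (A : Type u) [CommRing A] (J : Ideal A) (𝔭 : Ideal A) [𝔭.IsPrime]

/-- Finitely many elements of the stalk ring come from a common `A_{g}`. -/
lemma exists_common_of_stalkSubring (l : ℕ) (r : Fin l → FSch.stalkSubring A J 𝔭) :
    ∃ (g : A) (hg : g ∉ 𝔭) (b : Fin l → FSch.cAway A J g),
      ∀ i, FSch.cAwayToAtPrime A J 𝔭 g hg (b i) = (r i : FSch.cAtPrime A J 𝔭) := by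
  have h := fun i => (mem_stalkSubring_iff A J 𝔭 (r i : FSch.cAtPrime A J 𝔭)).mp (r i).2
  choose f hf t ht using h
  have hg : ∏ i, f i ∉ 𝔭 := by
    intro h
    obtain ⟨i, _, hi⟩ := Ideal.IsPrime.prod_mem_iff.mp h
    exact hf i hi
  have hdvd : ∀ i, f i ∣ ∏ i, f i := fun i => Finset.dvd_prod_of_mem f (Finset.mem_univ i)
  refine ⟨∏ i, f i, hg, fun i => cAwayToAway A J (f i) _ (hdvd i) (t i), fun i => ?_⟩
  rw [cAwayToAtPrime_cAwayToAway A J 𝔭 (f i) _ (hdvd i) (hf i) hg, ht i]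

variable [IsNoetherianRing A]

/-- `A{S⁻¹}` is flat over the stalk ring `A_{S}`. -/
theorem flat_cAtPrime_stalkSubring :
    Module.Flat (FSch.stalkSubring A J 𝔭) (FSch.cAtPrime A J 𝔭) := by
  apply flat_subring_of_forall_exists_flat
  intro l r
  obtain ⟨g, hg, b, hb⟩ := exists_common_of_stalkSubring A J 𝔭 l r
  exact ⟨FSch.cAway A J g, inferInstance, FSch.cAwayToAtPrime A J 𝔭 g hg,
    flat_cAwayToAtPrime A J 𝔭 g hg, range_le_stalkSubring A J 𝔭 g hg, b, hb⟩

end Stalk

section Local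

variable (A : Type u) [CommRing A] (J : Ideal A) (𝔭 : Ideal A) [𝔭.IsPrime]

/-- The residue map `A{S⁻¹} → κ(𝔭)` is a local homomorphism. -/
lemma isLocalHom_cResidue (hJ : J ≤ 𝔭) : IsLocalHom (cResidue A J 𝔭 hJ) := by
  constructor
  intro x hx
  apply isUnit_of_isUnit_evalₐ_one
  obtain ⟨b, hb⟩ := Ideal.Quotient.mk_surjective
    (AdicCompletion.evalₐ (J.map (algebraMap A (Localization.AtPrime 𝔭))) 1 x)
  have h1 : cResidue A J 𝔭 hJ x = IsLocalRing.residue _ b := by
    unfold cResidue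
    simp only [RingHom.comp_apply, AlgHom.toRingHom_eq_coe, RingHom.coe_coe]
    rw [← hb, Ideal.Quotient.lift_mk]
  rw [h1] at hx
  have hbu : IsUnit b := by
    rw [← IsLocalRing.notMem_maximalIdeal, ← IsLocalRing.residue_eq_zero_iff]
    exact hx.ne_zero
  rw [← hb]
  exact hbu.map _

/-- `A{S⁻¹}` is a local ring when `J ⊆ 𝔭`. -/
theorem isLocalRing_cAtPrime (hJ : J ≤ 𝔭) : IsLocalRing (FSch.cAtPrime A J 𝔭) :=
  haveI := isLocalHom_cResidue A J 𝔭 hJ
  RingHom.domain_isLocalRing (cResidue A J 𝔭 hJ)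

variable [IsNoetherianRing A]

/-- `A{S⁻¹}` is faithfully flat over the stalk ring `A_{S}`. -/
theorem faithfullyFlat_cAtPrime_stalkSubring (hJ : J ≤ 𝔭) :
    Module.FaithfullyFlat (FSch.stalkSubring A J 𝔭) (FSch.cAtPrime A J 𝔭) := by
  obtain ⟨h1, h2⟩ := Groth.Agent.S3869.result A J 𝔭 hJ
  haveI := isLocalRing_cAtPrime A J 𝔭 hJ
  haveI := flat_cAtPrime_stalkSubring A J 𝔭
  haveI : IsLocalHom (algebraMap (FSch.stalkSubring A J 𝔭) (FSch.cAtPrime A J 𝔭)) :=
    ⟨fun s hs => h2.map_nonunit s hs⟩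
  exact Module.FaithfullyFlat.of_flat_of_isLocalHom

end Local

end Groth.Agent.H20
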