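import Groth.Agent.H20.StalkFlat
import Groth.Agent.H20.ComplNoeth2

set_option autoImplicit false
universe u

namespace Groth.Agent.H20

/-- Noetherianity descends along faithfully flat ring maps. -/
theorem isNoetherianRing_of_faithfullyFlat (A B : Type*) [CommRing A] [CommRing B] [Algebra A B]
    [Module.FaithfullyFlat A B] [IsNoetherianRing B] : IsNoetherianRing A := by
  have hB : WellFoundedGT (Ideal B) := (isNoetherian_iff' (R := B) (M := B)).mp inferInstance
  have hm : Monotone (Ideal.map (algebraMap A B)) := fun _ _ h => Ideal.map_mono h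
  have hsm : StrictMono (Ideal.map (algebraMap A B)) :=
    hm.strictMono_of_injective Ideal.map_injective_of_faithfullyFlat
  rw [isNoetherianRing_iff, isNoetherian_iff']
  exact hsm.wellFoundedGT

section

variable (A : Type u) [CommRing A] [IsNoetherianRing A] (J : Ideal A) (𝔭 : Ideal A) [𝔭.IsPrime]

/-- `A{S⁻¹}` is Noetherian. -/
theorem isNoetherianRing_cAtPrime : IsNoetherianRing (FSch.cAtPrime A J 𝔭) := by
  haveI : IsNoetherianRing (Localization.AtPrime 𝔭) :=
    IsLocalization.isNoetherianRing 𝔭.primeCompl _ inferInstance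
  exact isNoetherianRing_adicCompletion _

/-- The stalk ring `A_{S}` is Noetherian. -/
theorem isNoetherianRing_stalkSubring (hJ : J ≤ 𝔭) :
    IsNoetherianRing (FSch.stalkSubring A J 𝔭) := by
  haveI := isNoetherianRing_cAtPrime A J 𝔭
  haveI := faithfullyFlat_cAtPrime_stalkSubring A J 𝔭 hJ
  exact isNoetherianRing_of_faithfullyFlat (FSch.stalkSubring A J 𝔭) (FSch.cAtPrime A J 𝔭)

end

end Groth.Agent.H20
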