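import Mathlib.AlgebraicGeometry.Pullbacks
import Mathlib.RingTheory.Ideal.Quotient.Operations
import Mathlib.RingTheory.Ideal.Maps

set_option autoImplicit false
universe u

open CategoryTheory CategoryTheory.Limits AlgebraicGeometry

namespace Groth.Agent.H20

section

variable {R S R' S' : Type u} [CommRing R] [CommRing S] [CommRing R'] [CommRing S']
  (f : R →+* S) (p : R →+* R') (q : S →+* S') (g : R' →+* S')

/-- A commutative square of rings with surjective vertical maps `p`, `q` such that
`ker q` is generated by the image of `ker p` is a pushout. -/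
lemma isPushout_of_surjective (hp : Function.Surjective p) (hq : Function.Surjective q)
    (hc : q.comp f = g.comp p) (hk : RingHom.ker q ≤ (RingHom.ker p).map f) :
    IsPushout (CommRingCat.ofHom f) (CommRingCat.ofHom p) (CommRingCat.ofHom q)
      (CommRingCat.ofHom g) := by
  have w : CommRingCat.ofHom f ≫ CommRingCat.ofHom q =
      CommRingCat.ofHom p ≫ CommRingCat.ofHom g := by
    rw [← CommRingCat.ofHom_comp, ← CommRingCat.ofHom_comp, hc]
  refine IsPushout.of_isColimit' ⟨w⟩ ?_
  have key : ∀ s : PushoutCocone (CommRingCat.ofHom f) (CommRingCat.ofHom p),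
      RingHom.ker q ≤ RingHom.ker s.inl.hom := by
    intro s
    refine hk.trans ?_
    rw [Ideal.map_le_iff_le_comap]
    intro x hx
    rw [Ideal.mem_comap, RingHom.mem_ker]
    have h2 := congrArg (fun k => k.hom x) s.condition
    simp only [CommRingCat.hom_comp, CommRingCat.hom_ofHom, RingHom.coe_comp,
      Function.comp_apply] at h2
    rw [h2, (RingHom.mem_ker).mp hx, map_zero]
  refine PushoutCocone.IsColimit.mk _
    (fun s => CommRingCat.ofHom (RingHom.liftOfSurjective q hq ⟨s.inl.hom, key s⟩)) ?_ ?_ ?_
  · intro s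
    ext x
    simp [RingHom.liftOfRightInverse_comp_apply]
  · intro s
    ext y
    obtain ⟨x, rfl⟩ := hp y
    have h2 := congrArg (fun k => k.hom x) s.condition
    simp only [CommRingCat.hom_comp, CommRingCat.hom_ofHom, RingHom.coe_comp,
      Function.comp_apply] at h2
    have h3 : g (p x) = q (f x) := (RingHom.congr_fun hc x).symm
    simp only [CommRingCat.hom_comp, CommRingCat.hom_ofHom, RingHom.coe_comp,
      Function.comp_apply]
    rw [h3, ← h2]
    simp [RingHom.liftOfRightInverse_comp_apply]
  · intro s m h1 _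
    ext y
    obtain ⟨x, rfl⟩ := hq y
    have h2 := congrArg (fun k => k.hom x) h1
    simp only [CommRingCat.hom_comp, CommRingCat.hom_ofHom, RingHom.coe_comp,
      Function.comp_apply] at h2
    simp only [CommRingCat.hom_ofHom]
    rw [h2]
    simp [RingHom.liftOfRightInverse_comp_apply]

/-- Conversely, if `Spec` of such a square is a pullback of schemes, then `ker q` is generated by
the image of `ker p`. -/
lemma ker_le_map_of_isPullback_Spec (hp : Function.Surjective p) (hq : Function.Surjective q)
    (hc : q.comp f = g.comp p)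
    (h : IsPullback (Spec.map (CommRingCat.ofHom q)) (Spec.map (CommRingCat.ofHom g))
      (Spec.map (CommRingCat.ofHom f)) (Spec.map (CommRingCat.ofHom p))) :
    RingHom.ker q ≤ (RingHom.ker p).map f := by
  set 𝔠 : Ideal S := (RingHom.ker p).map f with h𝔠
  have hle : RingHom.ker p ≤ RingHom.ker ((Ideal.Quotient.mk 𝔠).comp f) := by
    intro x hx
    rw [RingHom.mem_ker, RingHom.comp_apply, Ideal.Quotient.eq_zero_iff_mem]
    exact Ideal.mem_map_of_mem f hx
  let g' : R' →+* S ⧸ 𝔠 := RingHom.liftOfSurjective p hp ⟨(Ideal.Quotient.mk 𝔠).comp f, hle⟩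
  have hc' : (Ideal.Quotient.mk 𝔠).comp f = g'.comp p := by
    ext x
    simp [g', RingHom.liftOfRightInverse_comp_apply]
  have hpush := isPushout_of_surjective f p (Ideal.Quotient.mk 𝔠) g' hp
    Ideal.Quotient.mk_surjective hc' (by rw [Ideal.mk_ker])
  have h' := isPullback_SpecMap_of_isPushout _ _ _ _ hpush
  let e := h.isoIsPullback _ _ h'
  have he : e.inv ≫ Spec.map (CommRingCat.ofHom q) =
      Spec.map (CommRingCat.ofHom (Ideal.Quotient.mk 𝔠)) := IsPullback.isoIsPullback_inv_fst _ _ h h'
  obtain ⟨ψ, hψ⟩ := Spec.map_surjective e.inv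
  rw [← hψ, ← Spec.map_comp] at he
  have he' := Spec.map_injective he
  intro x hx
  have h2 := congrArg (fun k => k.hom x) he'
  simp only [CommRingCat.hom_comp, CommRingCat.hom_ofHom, RingHom.coe_comp,
    Function.comp_apply] at h2
  rw [(RingHom.mem_ker).mp hx, map_zero] at h2
  exact Ideal.Quotient.eq_zero_iff_mem.mp h2.symm

end

end Groth.Agent.H20
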