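import Groth.Prelude.Def_FSch3

set_option autoImplicit false
universe u v

open CategoryTheory CategoryTheory.Limits AlgebraicGeometry

namespace Groth.Agent.H20

/-- Fibre product of subobjects: if `W = X ×_S Y`, `P' = W ×_X X'`, and `P' ⟶ Y` factors through the
monomorphism `Y' ⟶ Y`, compatibly over a monomorphism `S' ⟶ S`, then `P' = X' ×_{S'} Y'`. -/
lemma isPullback_of_mono_squares {C : Type u} [Category.{v} C]
    {W X Y S X' Y' S' P' : C} {p : W ⟶ X} {q : W ⟶ Y} {g : X ⟶ S} {h : Y ⟶ S}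
    (H : IsPullback p q g h) {iX : X' ⟶ X} {iY : Y' ⟶ Y} {iS : S' ⟶ S} {iP : P' ⟶ W}
    [Mono iY] [Mono iS] {p' : P' ⟶ X'} {q' : P' ⟶ Y'} {g' : X' ⟶ S'} {h' : Y' ⟶ S'}
    (HP : IsPullback iP p' p iX) (hq : q' ≫ iY = iP ≫ q) (hg : g' ≫ iS = iX ≫ g)
    (hh : h' ≫ iS = iY ≫ h) : IsPullback p' q' g' h' := by
  have w : p' ≫ g' = q' ≫ h' := by
    rw [← cancel_mono iS, Category.assoc, Category.assoc, hg, hh, ← HP.w_assoc, H.w,
      reassoc_of% hq]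
  have cond : ∀ {T : C} (a : T ⟶ X') (b : T ⟶ Y'), a ≫ g' = b ≫ h' →
      (a ≫ iX) ≫ g = (b ≫ iY) ≫ h := by
    intro T a b hab
    rw [Category.assoc, Category.assoc, ← hg, ← hh, reassoc_of% hab]
  refine ⟨⟨w⟩, ⟨PullbackCone.IsLimit.mk _
    (fun s => HP.lift (H.lift (s.fst ≫ iX) (s.snd ≫ iY) (cond _ _ s.condition)) s.fst
      (H.lift_fst _ _ _)) ?_ ?_ ?_⟩⟩
  · intro s
    exact HP.lift_snd _ _ _
  · intro s
    rw [← cancel_mono iY, Category.assoc, hq, HP.lift_fst_assoc, H.lift_snd]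
  · intro s m h1 h2
    apply HP.hom_ext
    · rw [HP.lift_fst]
      apply H.hom_ext
      · rw [H.lift_fst, Category.assoc, HP.w, reassoc_of% h1]
      · rw [H.lift_snd, Category.assoc, ← hq, reassoc_of% h2]
    · rw [HP.lift_snd, h1]

/-- Variant of `isPullback_of_mono_squares` with explicit monomorphism hypotheses. -/
lemma isPullback_of_mono_squares' {C : Type u} [Category.{v} C]
    {W X Y S X' Y' S' P' : C} {p : W ⟶ X} {q : W ⟶ Y} {g : X ⟶ S} {h : Y ⟶ S}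
    (H : IsPullback p q g h) {iX : X' ⟶ X} {iY : Y' ⟶ Y} {iS : S' ⟶ S} {iP : P' ⟶ W}
    (mY : Mono iY) (mS : Mono iS) {p' : P' ⟶ X'} {q' : P' ⟶ Y'} {g' : X' ⟶ S'} {h' : Y' ⟶ S'}
    (HP : IsPullback iP p' p iX) (hq : q' ≫ iY = iP ≫ q) (hg : g' ≫ iS = iX ≫ g)
    (hh : h' ≫ iS = iY ≫ h) : IsPullback p' q' g' h' :=
  isPullback_of_mono_squares H HP hq hg hh

/-- A square of systems that is levelwise cartesian is cartesian. -/
lemma sys_isPullback_of_levelwise {𝔓 𝔛 𝔜 𝔖 : FSch.Sys.{u}} (fst : 𝔓 ⟶ 𝔛) (snd : 𝔓 ⟶ 𝔜)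
    (f : 𝔛 ⟶ 𝔖) (g : 𝔜 ⟶ 𝔖)
    (H : ∀ n, IsPullback ((fst : FSch.Hom 𝔓 𝔛).app n) ((snd : FSch.Hom 𝔓 𝔜).app n)
      ((f : FSch.Hom 𝔛 𝔖).app n) ((g : FSch.Hom 𝔜 𝔖).app n)) : IsPullback fst snd f g := by
  have w : fst ≫ f = snd ≫ g := FSch.Hom.ext (funext fun n => (H n).w)
  have cond : ∀ (s : PullbackCone f g) (n : ℕ),
      (s.fst : FSch.Hom _ _).app n ≫ (f : FSch.Hom 𝔛 𝔖).app n =
        (s.snd : FSch.Hom _ _).app n ≫ (g : FSch.Hom 𝔜 𝔖).app n := by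
    intro s n
    have := congrArg (fun k : FSch.Hom _ _ => k.app n) s.condition
    exact this
  refine ⟨⟨w⟩, ⟨PullbackCone.IsLimit.mk _
    (fun s => (⟨fun n => (H n).lift _ _ (cond s n), fun n => ?_⟩ : FSch.Hom _ _)) ?_ ?_ ?_⟩⟩
  · apply (H (n + 1)).hom_ext
    · rw [Category.assoc, Category.assoc, (H (n + 1)).lift_fst,
        ← (fst : FSch.Hom 𝔓 𝔛).comm n, (H n).lift_fst_assoc]
      exact (s.fst : FSch.Hom _ _).comm n
    · rw [Category.assoc, Category.assoc, (H (n + 1)).lift_snd,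
        ← (snd : FSch.Hom 𝔓 𝔜).comm n, (H n).lift_snd_assoc]
      exact (s.snd : FSch.Hom _ _).comm n
  · intro s
    exact FSch.Hom.ext (funext fun n => (H n).lift_fst _ _ _)
  · intro s
    exact FSch.Hom.ext (funext fun n => (H n).lift_snd _ _ _)
  · intro s m h1 h2
    refine FSch.Hom.ext (funext fun n => ?_)
    apply (H n).hom_ext
    · rw [(H n).lift_fst]
      exact congrArg (fun k : FSch.Hom _ _ => k.app n) h1
    · rw [(H n).lift_snd]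
      exact congrArg (fun k : FSch.Hom _ _ => k.app n) h2

end Groth.Agent.H20
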