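import Mathlib.AlgebraicGeometry.AffineScheme
import Mathlib.AlgebraicGeometry.OpenImmersion

set_option autoImplicit false
universe u

namespace Groth.Agent.H20

open AlgebraicGeometry CategoryTheory TopologicalSpace Opposite

/-- Let `U`, `V` be affine and `i : W → U`, `j : W → V` open immersions.  Every point of `W` has
an open neighbourhood whose images in `U` and `V` are both basic opens. -/
theorem exists_opens_image_eq_basicOpen {U V W : Scheme.{u}} [IsAffine U] [IsAffine V]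
    (i : W ⟶ U) (j : W ⟶ V) [IsOpenImmersion i] [IsOpenImmersion j] (w : W) :
    ∃ (W' : W.Opens) (f : Γ(U, ⊤)) (g : Γ(V, ⊤)), w ∈ W' ∧ i ''ᵁ W' = U.basicOpen f ∧
      j ''ᵁ W' = V.basicOpen g := by
  -- step 1: a basic open of `U` inside the range of `i`
  obtain ⟨f₁, hf₁le, hf₁w⟩ := (isAffineOpen_top U).exists_basicOpen_le
    (V := i.opensRange) ⟨i w, ⟨w, rfl⟩⟩ trivial
  set W₁ : W.Opens := i ⁻¹ᵁ (U.basicOpen f₁) with hW₁
  have hwW₁ : w ∈ W₁ := hf₁w
  -- step 2: a basic open of `V` inside `j(W₁)`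
  obtain ⟨g, hgle, hgw⟩ := (isAffineOpen_top V).exists_basicOpen_le
    (V := j ''ᵁ W₁) ⟨j w, ⟨w, hwW₁, rfl⟩⟩ trivial
  set W' : W.Opens := j ⁻¹ᵁ (V.basicOpen g) with hW'
  have hwW' : w ∈ W' := hgw
  have hW'le : W' ≤ W₁ := by
    calc W' ≤ j ⁻¹ᵁ (j ''ᵁ W₁) := j.preimage_mono hgle
      _ = W₁ := j.preimage_image_eq W₁
  have hjW' : j ''ᵁ W' = V.basicOpen g := by
    rw [hW', j.image_preimage_eq_opensRange_inf, inf_eq_right]
    exact hgle.trans (fun x hx => by obtain ⟨y, -, rfl⟩ := hx; exact ⟨y, rfl⟩)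
  -- step 3: `i(W')` is a basic open of `U`
  have hW'bo : W' = W.basicOpen (j.appTop.hom g) := Scheme.preimage_basicOpen_top j g
  have hiW' : i ''ᵁ W' = U.basicOpen ((i.appIso ⊤).inv.hom (j.appTop.hom g)) := by
    rw [hW'bo]
    exact Scheme.image_basicOpen i (j.appTop.hom g)
  have hiW'le : i ''ᵁ W' ≤ U.basicOpen f₁ := by
    calc i ''ᵁ W' ≤ i ''ᵁ W₁ := i.image_mono hW'le
      _ = i.opensRange ⊓ U.basicOpen f₁ := i.image_preimage_eq_opensRange_inf _
      _ ≤ U.basicOpen f₁ := inf_le_right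
  have hle : U.basicOpen f₁ ≤ i ''ᵁ ⊤ := by
    refine hf₁le.trans ?_
    rintro x ⟨y, rfl⟩
    exact ⟨y, trivial, rfl⟩
  set r' : Γ(U, U.basicOpen f₁) :=
    (U.presheaf.map (homOfLE hle).op).hom ((i.appIso ⊤).inv.hom (j.appTop.hom g)) with hr'
  have hr'bo : U.basicOpen r' = i ''ᵁ W' := by
    rw [hr', Scheme.basicOpen_res, ← hiW', inf_eq_right]
    exact hiW'le
  obtain ⟨f', hf'⟩ := (isAffineOpen_top U).basicOpen_basicOpen_is_basicOpen f₁ r'
  exact ⟨W', f', g, hwW', by rw [hf', hr'bo], hjW'⟩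

end Groth.Agent.H20
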