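import Mathlib
import Groth.Agent.H20.ValFlatQF

/-!
# Flat proper generically finite schemes over a valuation ring are finite
-/

set_option autoImplicit false
universe u

open CategoryTheory CategoryTheory.Limits AlgebraicGeometry

namespace Groth.Agent.H20.ValFlatFinite

variable {R : Type u} [CommRing R] [IsDomain R] [ValuationRing R]

omit [ValuationRing R] in
/-- The fibre over the generic point of `Spec R` of a morphism whose base change to the fraction
field is finite, is a finite set. -/
lemma finite_preimage_generic {Y : Scheme.{u}} (f : Y ⟶ Spec (CommRingCat.of R))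
    (hgen : IsFinite (pullback.snd f
      (Spec.map (CommRingCat.ofHom (algebraMap R (FractionRing R)))))) :
    (f ⁻¹' {(⟨⊥, Ideal.isPrime_bot⟩ : PrimeSpectrum R)}).Finite := by
  set g := Spec.map (CommRingCat.ofHom (algebraMap R (FractionRing R))) with hg
  have hpt : ∀ x : ↥(Spec (CommRingCat.of (FractionRing R))), g x = ⟨⊥, Ideal.isPrime_bot⟩ := by
    intro x
    apply PrimeSpectrum.ext
    change Ideal.comap (algebraMap R (FractionRing R)) x.asIdeal = ⊥
    have hx : x.asIdeal = ⊥ := by
      have := x.isPrime
      exact (Ideal.eq_bot_or_top x.asIdeal).resolve_right this.ne_top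
    rw [hx]
    exact Ideal.comap_bot_of_injective _ (IsFractionRing.injective R (FractionRing R))
  have hsub : Subsingleton ↥(Spec (CommRingCat.of (FractionRing R))) := by
    refine ⟨fun x y => PrimeSpectrum.ext ?_⟩
    have hx : x.asIdeal = ⊥ :=
      (Ideal.eq_bot_or_top x.asIdeal).resolve_right x.isPrime.ne_top
    have hy : y.asIdeal = ⊥ :=
      (Ideal.eq_bot_or_top y.asIdeal).resolve_right y.isPrime.ne_top
    rw [hx, hy]
  have h1 : Finite ↥(pullback f g) := by
    let x0 : ↥(Spec (CommRingCat.of (FractionRing R))) := ⟨⊥, Ideal.isPrime_bot⟩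
    have hfin := (pullback.snd f g).finite_preimage_singleton x0
    have huniv : (pullback.snd f g) ⁻¹' {x0} = Set.univ := by
      ext z
      simp only [Set.mem_preimage, Set.mem_singleton_iff, Set.mem_univ, iff_true]
      exact Subsingleton.elim _ _
    rw [huniv] at hfin
    exact Set.finite_univ_iff.mp hfin
  have h2 : Set.range (pullback.fst f g) = f ⁻¹' Set.range g := Scheme.Pullback.range_fst f g
  have h3 : Set.range g = {(⟨⊥, Ideal.isPrime_bot⟩ : PrimeSpectrum R)} := by
    ext y
    constructor
    · rintro ⟨x, rfl⟩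
      exact hpt x
    · intro hy
      exact ⟨⟨⊥, Ideal.isPrime_bot⟩, (hpt _).trans hy.symm⟩
  rw [← h3, ← h2]
  exact Set.finite_range _

/-- Affine case. -/
lemma locallyQuasiFinite_Spec_map {A : CommRingCat.{u}} (φ : CommRingCat.of R ⟶ A)
    (hflat : Flat (Spec.map φ)) (hft : LocallyOfFiniteType (Spec.map φ))
    (hfib : ((Spec.map φ) ⁻¹' {(⟨⊥, Ideal.isPrime_bot⟩ : PrimeSpectrum R)}).Finite) :
    LocallyQuasiFinite (Spec.map φ) := by
  rw [HasRingHomProperty.Spec_iff (P := @LocallyQuasiFinite)]
  rw [HasRingHomProperty.Spec_iff (P := @Flat)] at hflat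
  rw [HasRingHomProperty.Spec_iff (P := @LocallyOfFiniteType)] at hft
  algebraize [φ.hom]
  exact Groth.Agent.H20.ValFlatQF.quasiFinite_of_finite_generic_fibre R A hfib

set_option backward.isDefEq.respectTransparency.types false in
/-- **A flat, proper, generically finite scheme over a valuation ring is finite.** -/
theorem isFinite {Y : Scheme.{u}} (f : Y ⟶ Spec (CommRingCat.of R)) [Flat f] [IsProper f]
    (hgen : IsFinite (pullback.snd f
      (Spec.map (CommRingCat.ofHom (algebraMap R (FractionRing R)))))) :
    IsFinite f := by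
  suffices LocallyQuasiFinite f from IsFinite.of_isProper_of_locallyQuasiFinite f
  have hη := finite_preimage_generic f hgen
  rw [IsZariskiLocalAtSource.iff_of_openCover (P := @LocallyQuasiFinite) Y.affineCover]
  intro i
  have hinj : Function.Injective (Y.affineCover.f i) :=
    (Y.affineCover.f i).isOpenEmbedding.injective
  have hfib : ((Y.affineCover.f i ≫ f) ⁻¹' {(⟨⊥, Ideal.isPrime_bot⟩ : PrimeSpectrum R)}).Finite := by
    have : (Y.affineCover.f i ≫ f) ⁻¹' {(⟨⊥, Ideal.isPrime_bot⟩ : PrimeSpectrum R)} =
        (Y.affineCover.f i) ⁻¹' (f ⁻¹' {(⟨⊥, Ideal.isPrime_bot⟩ : PrimeSpectrum R)}) := by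
      ext z
      simp
    rw [this]
    exact hη.preimage hinj.injOn
  have hflat : Flat (Y.affineCover.f i ≫ f) := inferInstance
  have hft : LocallyOfFiniteType (Y.affineCover.f i ≫ f) := inferInstance
  generalize Y.affineCover.f i ≫ f = h at hfib hflat hft ⊢
  obtain ⟨φ, rfl⟩ := Spec.map_surjective h
  exact locallyQuasiFinite_Spec_map φ hflat hft hfib

end Groth.Agent.H20.ValFlatFinite
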